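import Cfsg.Agent.Lib.RuUnique.Basic

/-!
An automorphism of the Rudvalis graph fixing a point lies in the stabiliser of that point: it preserves the
octagon on the first suborbit, whose distances from seventeen points separate everything.
-/

set_option autoImplicit false
set_option linter.all false
set_option maxRecDepth 100000

noncomputable section

namespace Cfsg.Agent.Lib.RuUnique

open Cfsg.Agent.CosetCert

noncomputable instance adjDec : DecidableRel Adj := Classical.decRel _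

/-- The common neighbours among the first suborbit. -/
def common (x y : Pt) : ℕ := (N0.filter fun d => Adj x d ∧ Adj y d).card

/-- Adjacency in the octagon. -/
def Oct (x y : Pt) : Prop := x ∈ N0 ∧ y ∈ N0 ∧ common x y = 217

theorem common_map {x : Equiv.Perm Pt} (hA : ∀ i j, Adj (x i) (x j) ↔ Adj i j) (hN : ∀ d, x d ∈ N0 ↔ d ∈ N0)
    (a b : Pt) : common (x a) (x b) = common a b := by
  rw [common, common, ← Finset.card_image_of_injective (N0.filter fun d => Adj a d ∧ Adj b d) x.injective]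
  congr 1
  ext d
  obtain ⟨e, rfl⟩ := x.surjective d
  simp only [Finset.mem_filter, Finset.mem_image, x.injective.eq_iff, exists_eq_right, hN, hA]

theorem N0_iff {g : Equiv.Perm Pt} (hg : g ∈ H0) (d : Pt) : g d ∈ N0 ↔ d ∈ N0 := by
  refine ⟨fun h => ?_, N0_closed hg⟩
  have := N0_closed (inv_mem hg) h
  simpa using this

theorem oct_H0 {g : Equiv.Perm Pt} (hg : g ∈ H0) (a b : Pt) : Oct (g a) (g b) ↔ Oct a b := by
  rw [Oct, Oct, N0_iff hg, N0_iff hg, common_map (fun i j => adj_map_iff (H0_le hg)) (N0_iff hg)]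

theorem common_row {k : ℕ} (hk : k < 6) : common n0 (pt (spPt k)) = comN k := by
  rw [common, comN, cntUpto_fin]
  congr 1
  ext d
  rw [Finset.mem_filter, Finset.mem_filter, adj_n0, (row_spec hk).2.2.2, N0, mem_setM, bit_land, bit_land,
    Bool.and_eq_true, Bool.and_eq_true]
  simp [Finset.mem_univ, and_comm, and_assoc, and_left_comm]

theorem oct_n0 (y : Pt) : Oct n0 y ↔ bit (maskOf (nbAt kp0) 10) y = true := by
  have hc := com_ok
  simp only [Bool.and_eq_true, allUpto_spec] at hc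
  obtain ⟨⟨h217, hne⟩, hmask⟩ := hc
  rw [Nat.eq_of_beq_eq_true hmask]
  have hP := orbP_ok
  simp only [orbitsOK, Bool.and_eq_true, allUpto_spec] at hP
  obtain ⟨⟨hr, -⟩, hcov⟩ := hP
  have h0 : rPt (orbAt Data.orbPL 0).1 0 = kp0 := by
    have h := lambda_ok
    simp only [Bool.and_eq_true] at h
    exact Nat.eq_of_beq_eq_true h.1.2
  have hclass : ∀ k < 5, bit (orbMask (orbAt Data.orbPL k)) y = true →
      y ∈ N0 ∧ common n0 y = comN (if k = 0 then 0 else k + 1) := by
    intro k hk hb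
    have hyN : y ∈ N0 := by
      rw [N0, mem_setM, ← Nat.eq_of_beq_eq_true hcov, unionM_spec]
      refine ⟨k, hk, ?_, hb⟩
      interval_cases k <;> decide
    refine ⟨hyN, ?_⟩
    obtain ⟨g, hg, e⟩ := reach_mem (hr k hk) (mem_setM.2 hb)
    obtain ⟨hgH, hgf⟩ := mem_Fix.1 (lev_spec.2.1.2.2 hg)
    rw [← e]
    conv_lhs => rw [← show g n0 = n0 from hgf kp0 (List.mem_singleton_self _)]
    rw [common_map (fun i j => adj_map_iff (H0_le hgH)) (N0_iff hgH)]
    split_ifs with hk0
    · subst hk0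
      rw [h0, ← sp_spec.1]
      exact common_row (by norm_num)
    · obtain ⟨k', rfl⟩ : ∃ k', k = k' + 1 := ⟨k - 1, by omega⟩
      rw [← sp_spec.2.2.1 k' (by omega)]
      exact common_row (by omega)
  constructor
  · rintro ⟨-, hy, h⟩
    rw [N0, mem_setM, ← Nat.eq_of_beq_eq_true hcov, unionM_spec] at hy
    obtain ⟨k, hk, -, hb⟩ := hy
    by_cases hk1 : k = 1
    · exact hk1 ▸ hb
    · exfalso
      have he := (hclass k hk hb).2
      rw [h] at he
      have hn := hne (if k = 0 then 0 else k + 1) (by split_ifs <;> omega)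
      simp only [Bool.or_eq_true, Bool.not_eq_true'] at hn
      rcases hn with (hn | hn) | hn
      · have := Nat.eq_of_beq_eq_true hn; split_ifs at this; omega
      · have := Nat.eq_of_beq_eq_true hn; split_ifs at this; omega
      · rw [← he] at hn; simp at hn
  · intro hb
    obtain ⟨h1, h2⟩ := hclass 1 (by norm_num) hb
    exact ⟨n0_mem, h1, h2.trans (Nat.eq_of_beq_eq_true h217)⟩

theorem nb_transport : ∀ i < 1755, ∃ g ∈ H0, g n0 = pt (rPt Data.orbN i) ∧
    ∀ j < 10, nbAt kp0 j < 4060 ∧ (g (pt (nbAt kp0 j)) : ℕ) = nbAt (rPt Data.orbN i) j := by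
  have hlt : ∀ j < 10, nbAt kp0 j < 4060 := by
    intro j hj
    have hb : bit (maskOf (nbAt kp0) 10) (nbAt kp0 j) = true := bit_maskOf.2 ⟨j, hj, rfl⟩
    have hc := com_ok
    simp only [Bool.and_eq_true] at hc
    rw [Nat.eq_of_beq_eq_true hc.2, orbMask] at hb
    obtain ⟨i, hi, e⟩ := bit_maskOf.1 hb
    have hP := orbP_ok
    simp only [orbitsOK, Bool.and_eq_true, allUpto_spec] at hP
    exact e ▸ ((reachOK_spec (hP.1.1 1 (by norm_num))).1 i hi).1
  intro i
  induction i using Nat.strong_induction_on with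
  | _ i ih =>
    intro hi
    by_cases e : i = 0
    · subst e
      refine ⟨1, one_mem _, by rw [orbN_spec.2.2]; rfl, fun j hj => ⟨hlt j hj, ?_⟩⟩
      rw [orbN_spec.2.2, Equiv.Perm.one_apply, pt_val (hlt j hj)]
    · have hs := allUpto_spec.1 nbStep_ok i hi
      simp only [nbStepOK, Bool.or_eq_true, allUpto_spec] at hs
      replace hs := hs.resolve_left fun h => e (Nat.eq_of_beq_eq_true h)
      have hr := orbN_spec.1
      simp only [reachOK, Bool.and_eq_true, allUpto_spec, List.all_eq_true] at hr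
      have h := hr.1.2 i hi
      simp only [stepROK, Bool.and_eq_true, Bool.or_eq_true, Nat.blt, Nat.ble_eq] at h
      obtain ⟨hlt', h⟩ := h
      obtain ⟨⟨hp, hg⟩, he⟩ := h.resolve_left fun h => e (Nat.eq_of_beq_eq_true h)
      obtain ⟨g, hgH, hg0, hgj⟩ := ih _ hp (by omega)
      have hw := getWord_mem (show rGen Data.orbN i < hGens.length from hg)
      have hl := hr.1.1 _ hw
      refine ⟨el (getWord hGens (rGen Data.orbN i)) * g,
        mul_mem (genGrp_hGens ▸ el_mem_genGrp hw) hgH, ?_, fun j hj => ⟨hlt j hj, ?_⟩⟩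
      · have hplt := ((reachOK_spec orbN_spec.1).1 _ (show rPar Data.orbN i < 1755 by omega)).1
        rw [Equiv.Perm.mul_apply, hg0, el_pt hl hplt, Nat.eq_of_beq_eq_true he]
      · rw [Equiv.Perm.mul_apply, el_apply hl, (hgj j hj).2, Nat.eq_of_beq_eq_true (hs j hj)]

theorem oct_iff {x : Pt} (hx : x ∈ N0) (y : Pt) : Oct x y ↔ bit (nbM x) y = true := by
  rw [N0, maskN, mem_reach] at hx
  obtain ⟨i, hi, e⟩ := hx
  obtain ⟨g, hg, hg0, hgj⟩ := nb_transport i hi
  have ex : x = g n0 := by rw [hg0, e, pt_fin]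
  obtain ⟨y', rfl⟩ := g.surjective y
  rw [ex, oct_H0 hg, oct_n0, ← ex, nbM, ← e, bit_maskOf, bit_maskOf]
  refine exists_congr fun j => and_congr_right fun hj => ?_
  rw [← (hgj j hj).2]
  constructor
  · intro h
    rw [h, pt_fin]
  · intro h
    have := congrArg Fin.val (g.injective (Fin.ext h))
    rwa [pt_val (hgj j hj).1] at this

/-- The automorphisms fixing the first point. -/
def Au : Subgroup (Equiv.Perm Pt) where
  carrier := {x | x o0 = o0 ∧ ∀ i j, Adj (x i) (x j) ↔ Adj i j}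
  one_mem' := ⟨rfl, fun _ _ => Iff.rfl⟩
  mul_mem' {x y} hx hy := ⟨by rw [Equiv.Perm.mul_apply, hy.1, hx.1],
    fun i j => by rw [Equiv.Perm.mul_apply, Equiv.Perm.mul_apply, hx.2, hy.2]⟩
  inv_mem' {x} hx := ⟨by rw [Equiv.Perm.inv_eq_iff_eq, hx.1],
    fun i j => by rw [← hx.2]; simp⟩

theorem H0_le_Au : H0 ≤ Au := fun g hg => ⟨H0_o0 hg, fun _ _ => adj_map_iff (H0_le hg)⟩

theorem Au_N0 {x : Equiv.Perm Pt} (hx : x ∈ Au) (d : Pt) : x d ∈ N0 ↔ d ∈ N0 := by
  have h := hx.2 o0 d
  rwa [hx.1, adj_o0, adj_o0] at h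

theorem Au_oct {x : Equiv.Perm Pt} (hx : x ∈ Au) (a b : Pt) : Oct (x a) (x b) ↔ Oct a b := by
  rw [Oct, Oct, Au_N0 hx, Au_N0 hx, common_map hx.2 (Au_N0 hx)]

theorem nextM_spec (m y : ℕ) : bit (nextM m) y = true ↔ ∃ c < 4060, bit m c = true ∧ bit (nbM c) y = true := by
  have key : ∀ n, bit (Nat.rec (motive := fun _ => ℕ) 0
      (fun c ih => cond (bit m c) (Nat.lor (nbM c) ih) ih) n) y = true ↔
      ∃ c < n, bit m c = true ∧ bit (nbM c) y = true := by
    intro n
    induction n with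
    | zero => simp [bit_eq]
    | succ n ih =>
      show bit (cond (bit m n) (Nat.lor (nbM n) _) _) y = true ↔ _
      cases hb : bit m n
      · rw [cond_false, ih]
        constructor
        · rintro ⟨c, hc, h⟩; exact ⟨c, by omega, h⟩
        · rintro ⟨c, hc, h⟩
          rcases Nat.lt_succ_iff_lt_or_eq.1 hc with hc | rfl
          exacts [⟨c, hc, h⟩, by simp [hb] at h]
      · rw [cond_true, bit_lor, Bool.or_eq_true, ih]
        constructor
        · rintro (h | ⟨c, hc, h⟩)
          exacts [⟨n, by omega, hb, h⟩, ⟨c, by omega, h⟩]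
        · rintro ⟨c, hc, h⟩
          rcases Nat.lt_succ_iff_lt_or_eq.1 hc with hc | rfl
          exacts [Or.inr ⟨c, hc, h⟩, Or.inl h.2]
  exact key 4060

theorem ballM_succ (i k : ℕ) : ballM i (k + 1) = Nat.lor (sphM i (k + 1)) (ballM i k) := rfl

theorem auPt_mem {i : ℕ} (hi : i < 17) : auPt i < 4060 ∧ pt (auPt i) ∈ N0 := by
  have h := auPts_ok
  simp only [Bool.and_eq_true, allUpto_spec] at h
  have hb : bit maskN (auPt i) = true := h.1.1.1.1 i hi
  rw [maskN] at hb
  obtain ⟨j, hj, e⟩ := bit_maskOf.1 hb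
  have hlt : auPt i < 4060 := e ▸ ((reachOK_spec orbN_spec.1).1 j hj).1
  exact ⟨hlt, by rw [N0, mem_setM, pt_val hlt]; exact h.1.1.1.1 i hi⟩

theorem sph_invariant {x : Equiv.Perm Pt} (hx : x ∈ Au) {i : ℕ} (hi : i < 17) (hfix : x (pt (auPt i)) = pt (auPt i)) :
    ∀ k ≤ 4, (∀ c : Pt, bit (sphM i k) (x c) = bit (sphM i k) c) ∧
      (∀ c : Pt, bit (ballM i k) (x c) = bit (ballM i k) c) ∧ ∀ c : Pt, bit (sphM i k) c = true → c ∈ N0 := by
  have h := allUpto_spec.1 sph_ok i hi
  simp only [sphOK, Bool.and_eq_true, allUpto_spec] at h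
  obtain ⟨h0, hnext⟩ := h
  obtain ⟨hlt, hN⟩ := auPt_mem hi
  intro k
  induction k with
  | zero =>
    intro _
    have h1 : ∀ c : Pt, bit (sphM i 0) c = true ↔ c = pt (auPt i) := fun c => by
      rw [Nat.eq_of_beq_eq_true h0, bit_one_shift]
      exact ⟨fun e => Fin.ext (e.trans (pt_val hlt).symm), fun e => e ▸ pt_val hlt⟩
    have h2 : ∀ c : Pt, bit (sphM i 0) (x c) = bit (sphM i 0) c := fun c => by
      rw [Bool.eq_iff_iff, h1, h1]
      exact ⟨fun e => x.injective (e.trans hfix.symm), fun e => e ▸ hfix⟩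
    exact ⟨h2, h2, fun c hc => (h1 c).1 hc ▸ hN⟩
  | succ k ih =>
    intro hk
    obtain ⟨is, ib, iN⟩ := ih (by omega)
    have hn := hnext k (by omega)
    simp only [sphNextOK] at hn
    have hb : ∀ c : ℕ, bit (sphM i (k + 1)) c = (bit (nextM (sphM i k)) c && !bit (ballM i k) c) := fun c => by
      rw [show sphM i (k + 1) = sphM i (Nat.succ k) from rfl, Nat.eq_of_beq_eq_true hn, bit_eq,
        show Nat.xor (Nat.lor (nextM (sphM i k)) (ballM i k)) (ballM i k) =
          (nextM (sphM i k) ||| ballM i k) ^^^ ballM i k from rfl, Nat.testBit_xor, Nat.testBit_or, ← bit_eq, ← bit_eq]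
      cases bit (nextM (sphM i k)) c <;> cases bit (ballM i k) c <;> rfl
    have hnextiff : ∀ c : Pt, bit (nextM (sphM i k)) c = true ↔ ∃ d : Pt, bit (sphM i k) d = true ∧ Oct d c := fun c => by
      rw [nextM_spec]
      constructor
      · rintro ⟨d, hd, h1, h2⟩
        refine ⟨⟨d, hd⟩, h1, (oct_iff (iN ⟨d, hd⟩ h1) c).2 h2⟩
      · rintro ⟨d, h1, h2⟩
        exact ⟨d, d.isLt, h1, (oct_iff (iN d h1) c).1 h2⟩
    have hs : ∀ c : Pt, bit (sphM i (k + 1)) (x c) = bit (sphM i (k + 1)) c := fun c => by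
      rw [hb, hb, ib]
      congr 1
      rw [Bool.eq_iff_iff, hnextiff, hnextiff]
      constructor
      · rintro ⟨d, h1, h2⟩
        obtain ⟨d', rfl⟩ := x.surjective d
        exact ⟨d', by rwa [is] at h1, (Au_oct hx d' c).1 h2⟩
      · rintro ⟨d, h1, h2⟩
        exact ⟨x d, by rwa [is], (Au_oct hx d c).2 h2⟩
    refine ⟨hs, fun c => by rw [ballM_succ, bit_lor, bit_lor, hs, ib], fun c hc => ?_⟩
    rw [hb, Bool.and_eq_true] at hc
    obtain ⟨d, -, h2⟩ := (hnextiff c).1 hc.1
    exact h2.2.1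

theorem pat_invariant {x : Equiv.Perm Pt} (hx : x ∈ Au) : ∀ {m : ℕ}, m ≤ 17 →
    (∀ i < m, x (pt (auPt i)) = pt (auPt i)) → ∀ c : Pt, patOf m (x c) = patOf m c
  | 0, _, _, c => rfl
  | m + 1, hm, hfix, c => by
    show Nat.add (patOf m (x c)) (Nat.shiftLeft (pat5 m (x c)) _) = Nat.add (patOf m c) (Nat.shiftLeft (pat5 m c) _)
    have hs := sph_invariant hx (show m < 17 by omega) (hfix m (by omega))
    have h5 : pat5 m (x c) = pat5 m c := by
      have : ∀ n ≤ 5, (Nat.rec (motive := fun _ => ℕ) 0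
          (fun k ih => cond (bit (sphM m k) (x c)) (Nat.lor (Nat.shiftLeft 1 k) ih) ih) n) =
        Nat.rec (motive := fun _ => ℕ) 0
          (fun k ih => cond (bit (sphM m k) c) (Nat.lor (Nat.shiftLeft 1 k) ih) ih) n := by
        intro n hn
        induction n with
        | zero => rfl
        | succ n ih =>
          show cond _ _ _ = cond _ _ _
          rw [(hs n (by omega)).1 c, ih (by omega)]
      exact this 5 le_rfl
    rw [pat_invariant hx (by omega) (fun i hi => hfix i (by omega)) c, h5]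

theorem class_spec {m mask : ℕ} (h : classOK m mask = true) (hm : m < 17) {x : Equiv.Perm Pt} (hx : x ∈ Au)
    (hfix : ∀ i < m, x (pt (auPt i)) = pt (auPt i)) : bit mask (x (pt (auPt m))) = true := by
  have h1 := allUpto_spec.1 h _ (x (pt (auPt m))).isLt
  have hN : bit maskN (x (pt (auPt m))) = true := mem_setM.1 ((Au_N0 hx _).2 (auPt_mem hm).2)
  have hp := pat_invariant hx (by omega) hfix (pt (auPt m))
  rw [pt_val (auPt_mem hm).1] at hp
  simpa [hN, hp] using h1

theorem eq_one_of_fix {x : Equiv.Perm Pt} (hx : x ∈ Au) (hfix4 : ∀ i < 4, x (pt (auPt i)) = pt (auPt i)) :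
    ∀ c ∈ N0, x c = c := by
  have hfix : ∀ m ≤ 17, ∀ i < m, x (pt (auPt i)) = pt (auPt i) := by
    intro m hm
    induction m with
    | zero => exact fun i hi => absurd hi (by omega)
    | succ m ih =>
      intro i hi
      rcases Nat.lt_succ_iff_lt_or_eq.1 hi with hi | rfl
      · exact ih (by omega) i hi
      · by_cases h4 : i < 4
        · exact hfix4 i h4
        have h := allUpto_spec.1 class_single_ok i (by omega)
        rw [Bool.or_eq_true] at h
        have := class_spec (h.resolve_left fun h => h4 (by have := Nat.le_of_ble_eq_true h; omega))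
          (by omega) hx (ih (by omega))
        rw [bit_one_shift] at this
        exact Fin.ext (this.trans (pt_val (auPt_mem (by omega)).1).symm)
  intro c hc
  have hs := sort_ok
  simp only [Bool.and_eq_true, allUpto_spec, sortOK, Nat.blt, Nat.ble_eq] at hs
  obtain ⟨hlt, hmask⟩ := hs
  have hfind : ∀ d ∈ N0, ∃ i < 1755, sortAt i = d := fun d hd => by
    rw [N0, mem_setM, ← Nat.eq_of_beq_eq_true hmask] at hd
    exact bit_maskOf.1 hd
  obtain ⟨i, hi, ei⟩ := hfind c hc
  obtain ⟨l, hl, el'⟩ := hfind (x c) ((Au_N0 hx c).2 hc)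
  let p : ℕ → ℕ := fun i => patOf 17 (sortAt i)
  have hmono : ∀ k a, a + k + 1 < 1755 → p a < p (a + k + 1) := by
    intro k
    induction k with
    | zero => exact fun a ha => hlt a (by omega)
    | succ k ih =>
      intro a ha
      exact lt_trans (ih a (by omega)) (hlt (a + k + 1) (by omega))
  have hp : p l = p i := by
    show patOf 17 (sortAt l) = patOf 17 (sortAt i)
    rw [el', ei, pat_invariant hx le_rfl (hfix 17 le_rfl)]
  rcases Nat.lt_trichotomy i l with h | h | h
  · have := hmono (l - i - 1) i (by omega)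
    rw [show i + (l - i - 1) + 1 = l by omega] at this
    omega
  · exact Fin.ext (by rw [← el', ← ei, h])
  · have := hmono (i - l - 1) l (by omega)
    rw [show l + (i - l - 1) + 1 = i by omega] at this
    omega

theorem eq_one_on_all {x : Equiv.Perm Pt} (hx : x ∈ Au) (hN : ∀ c ∈ N0, x c = c) : x = 1 := by
  refine Equiv.ext fun c => ?_
  rcases three_kinds c with rfl | ⟨-, hc, -⟩ | ⟨h0, hcN, hc⟩
  · exact hx.1
  · exact hN c hc
  · have hxc : x c ∈ F0 := by
      rcases three_kinds (x c) with h | ⟨-, h, -⟩ | ⟨-, -, h⟩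
      · exact absurd (x.injective (h.trans hx.1.symm)) h0
      · exact absurd ((Au_N0 hx c).1 h) hcN
      · exact h
    obtain ⟨a, ha, rfl⟩ := F0_reach hc
    have hz : a⁻¹ (x (a j0)) ∈ F0 := F0_closed (inv_mem ha) hxc
    rw [F0, maskF, mem_reach] at hz
    obtain ⟨i, hi, ei⟩ := hz
    have hw := allUpto_spec.1 wit_ok i hi
    simp only [witOK, Bool.and_eq_true, Bool.or_eq_true, Bool.not_eq_true', Nat.blt, Nat.ble_eq] at hw
    obtain ⟨⟨hl4, hrun⟩, hcase⟩ := hw
    by_cases hi0 : i = 0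
    · subst hi0
      have : a⁻¹ (x (a j0)) = j0 := by rw [← pt_fin (a⁻¹ (x (a j0))), ← ei]; rfl
      rw [Equiv.Perm.one_apply]
      rwa [Equiv.Perm.inv_eq_iff_eq] at this
    exfalso
    obtain ⟨⟨hwlt, hT⟩, hnT⟩ := hcase.resolve_left fun h => hi0 (Nat.eq_of_beq_eq_true h)
    set d := pt (witAt i) with hd
    have hl := lett_mono (show 4 ≤ 12 by norm_num) hl4
    have hH : el (fPath i) ∈ H0 := el_H0 (hWord_iff.2 fun b hb => Or.inl (by have := lettOK_iff.1 hl4 b hb; omega))
    have hmaskT : maskT = Nat.land (rowM 1) maskN := by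
      have h := trace_ok
      simp only [Bool.and_eq_true] at h
      exact (Nat.eq_of_beq_eq_true h.2).symm
    have hmemT : ∀ e : Pt, bit maskT e = true ↔ Adj j0 e ∧ e ∈ N0 := fun e => by
      rw [hmaskT, bit_land, Bool.and_eq_true, adj_j0, N0, mem_setM]
    obtain ⟨hA, hdN⟩ := (hmemT d).1 (by rw [hd, pt_val hwlt]; exact hT)
    have hzp : a⁻¹ (x (a j0)) = el (fPath i) j0 := by
      rw [j0, el_pt hl j0_lt, Nat.eq_of_beq_eq_true hrun, ei, pt_fin]
      rfl
    have hadj : Adj (el (fPath i) j0) d := by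
      rw [← hzp, ← adj_map_iff (H0_le ha), Equiv.Perm.coe_inv, Equiv.apply_symm_apply,
        ← hN (a d) (N0_closed ha hdN), hx.2, adj_map_iff (H0_le ha)]
      exact hA
    rw [← (el (fPath i)).apply_symm_apply d, adj_map_iff (H0_le hH), ← Equiv.Perm.coe_inv, ← el_invW hl,
      hd, el_pt (lett_invW hl) hwlt] at hadj
    have hin : pt (runW (invW (fPath i)) (witAt i)) ∈ N0 := by
      rw [← el_pt (lett_invW hl) hwlt, el_invW hl, ← hd]
      exact N0_closed (inv_mem hH) hdN
    have := (hmemT _).2 ⟨hadj, hin⟩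
    rw [pt_val (runW_lt (lett_invW hl) hwlt), hnT] at this
    simp at this

/-- An automorphism fixing the first point is in its stabiliser. -/
theorem Au_eq {x : Equiv.Perm Pt} (hx : x ∈ Au) : x ∈ H0 := by
  have hau := auPts_ok
  simp only [Bool.and_eq_true] at hau
  obtain ⟨⟨⟨⟨-, a0⟩, a1⟩, a2⟩, a3⟩ := hau
  have e0 := Nat.eq_of_beq_eq_true a0
  have e1 := Nat.eq_of_beq_eq_true a1
  have e2 := Nat.eq_of_beq_eq_true a2
  have e3 := Nat.eq_of_beq_eq_true a3
  obtain ⟨⟨r0, q0, g0⟩, ⟨r1, q1, g1⟩, ⟨r2, q2, g2⟩, ⟨r3, q3, g3⟩⟩ := lev_spec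
  have hcls := class_lev_ok
  simp only [Bool.and_eq_true] at hcls
  obtain ⟨⟨⟨c1, c2⟩, c3⟩, c0⟩ := hcls
  have step : ∀ (m : ℕ), m < 4 → ∀ (L : List ℕ) (gens : List (List ℕ)) (t : Tree) (n : ℕ),
      reachOK gens t n = true → rPt t 0 = auPt m → genGrp gens ≤ Fix L → (∀ i < m, auPt i ∈ L) →
      (∀ y ∈ Au, (∀ i < m, y (pt (auPt i)) = pt (auPt i)) → bit (maskOf (rPt t) n) (y (pt (auPt m))) = true) →
      (∃ h ∈ H0, ∀ i < m, (h⁻¹ * x) (pt (auPt i)) = pt (auPt i)) →
      ∃ h ∈ H0, ∀ i < m + 1, (h⁻¹ * x) (pt (auPt i)) = pt (auPt i) := by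
    rintro m hm L gens t n hr ht hg hL hcl ⟨h, hh, hfix⟩
    have hy := mul_mem (inv_mem (H0_le_Au hh)) hx
    obtain ⟨g, hgm, e⟩ := reach_mem hr (mem_setM.2 (hcl _ hy hfix))
    rw [ht] at e
    obtain ⟨hgH, hgf⟩ := mem_Fix.1 (hg hgm)
    refine ⟨h * g, mul_mem hh hgH, fun i hi => ?_⟩
    rw [mul_inv_rev, mul_assoc, Equiv.Perm.mul_apply, Equiv.Perm.inv_eq_iff_eq]
    rcases Nat.lt_succ_iff_lt_or_eq.1 hi with hi | rfl
    · rw [hfix i hi, hgf _ (hL i hi)]
    · exact e.symm
  have s0 : ∃ h ∈ H0, ∀ i < 0, (h⁻¹ * x) (pt (auPt i)) = pt (auPt i) :=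
    ⟨1, one_mem _, fun i hi => absurd hi (by omega)⟩
  have s1 := step 0 (by norm_num) [] _ _ _ r0 (q0.trans e0.symm) g0 (fun i hi => absurd hi (by omega))
    (fun y hy _ => by
      rw [Nat.eq_of_beq_eq_true c0]
      exact mem_setM.1 ((Au_N0 hy _).2 (auPt_mem (by norm_num)).2)) s0
  have s2 := step 1 (by norm_num) [kp0] _ _ _ r1 (q1.trans e1.symm) g1
    (fun i hi => by
      obtain rfl : i = 0 := by omega
      simp [e0])
    (fun y hy hf => class_spec c1 (by norm_num) hy hf) s1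
  have s3 := step 2 (by norm_num) [kp0, kp1] _ _ _ r2 (q2.trans e2.symm) g2
    (fun i hi => by obtain rfl | rfl : i = 0 ∨ i = 1 := by omega
                    all_goals simp [e0, e1])
    (fun y hy hf => class_spec c2 (by norm_num) hy hf) s2
  obtain ⟨h, hh, hfix⟩ := step 3 (by norm_num) [kp0, kp1, kp2] _ _ _ r3 (q3.trans e3.symm) g3
    (fun i hi => by obtain rfl | rfl | rfl : i = 0 ∨ i = 1 ∨ i = 2 := by omega
                    all_goals simp [e0, e1, e2])
    (fun y hy hf => class_spec c3 (by norm_num) hy hf) s3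
  have hy := mul_mem (inv_mem (H0_le_Au hh)) hx
  have := eq_one_on_all hy (eq_one_of_fix hy hfix)
  rw [inv_mul_eq_one] at this
  exact this ▸ hh

end Cfsg.Agent.Lib.RuUnique
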