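import Cfsg.Agent.Lib.RuUnique.Defs

/-!
Kernel checks for the Rudvalis group on 4060 points: rows and the octagon.
-/

set_option maxRecDepth 100000
set_option linter.all false
set_option Elab.async false

noncomputable section

namespace Cfsg.Agent.Lib.RuUnique

open Cfsg.Agent.CosetCert

theorem row_ok : (allUpto rowOKk 6) = true := by decide +kernel

theorem sp_ok : (Nat.beq (spPt 0) kp0 && Nat.beq (spPt 1) (rPt Data.orbF 0) &&
    allUpto (fun k => Nat.beq (spPt (Nat.add k 2)) (rPt (orbAt Data.orbPL (Nat.succ k)).1 0)) 4 &&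
    bit (rowM 0) 0) = true := by decide +kernel

theorem com_ok : (Nat.beq (comN 2) 217 && allUpto (fun k => Nat.beq k 2 || Nat.beq k 1 || !Nat.beq (comN k) 217) 6 &&
    Nat.beq (maskOf (nbAt kp0) 10) (orbMask (orbAt Data.orbPL 1))) = true := by decide +kernel

theorem lambda_ok : (allUpto (fun s => bit s 0 || Nat.beq (unionLen Data.orbPL s 5) 1754 ||
    (!Nat.beq (unionLen Data.orbPL s 5) 730 && !Nat.beq (Nat.land (Nat.sub 1754 (unionLen Data.orbPL s 5)) 255) 0) ||
    Nat.beq (unionM Data.orbPL s 5) (Nat.land (rowM 0) maskN)) 32 &&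
    Nat.beq (rPt (orbAt Data.orbPL 0).1 0) kp0 && Nat.beq (orbAt Data.orbPL 0).2 1) = true := by
  decide +kernel

theorem trace_ok : (allUpto (fun s => !Nat.beq (unionLen Data.orbJNL s 2) 780 ||
    Nat.beq (unionM Data.orbJNL s 2) (Nat.land (rowM 1) maskN)) 4 &&
    Nat.beq (Nat.land (rowM 1) maskN) maskT) = true := by decide +kernel

theorem far_ok : (allUpto (fun s => !Nat.beq (unionLen Data.orbJFL s 6) 975 ||
    Nat.beq (unionM Data.orbJFL s 6) (Nat.land (rowM 1) maskF)) 64) = true := by decide +kernel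

theorem nbStep_ok : (allUpto nbStepOK 1755) = true := by decide +kernel

theorem sph_ok : (allUpto sphOK 17) = true := by decide +kernel

theorem auPts_ok : (allUpto (fun i => bit maskN (auPt i)) 17 &&
    Nat.beq (auPt 0) kp0 && Nat.beq (auPt 1) kp1 && Nat.beq (auPt 2) kp2 && Nat.beq (auPt 3) kp3) = true := by
  decide +kernel

theorem class_lev_ok : (classOK 1 (maskOf (rPt Data.lev1) 1024) && classOK 2 (maskOf (rPt Data.lev2) 5) &&
    classOK 3 (maskOf (rPt Data.lev3) 4) && Nat.beq (maskOf (rPt Data.lev0) 1755) maskN) = true := by decide +kernel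

theorem class_single_ok : (allUpto (fun m => Nat.ble m 3 || classOK m (Nat.shiftLeft 1 (auPt m))) 17) = true := by
  decide +kernel

theorem sort_ok : (allUpto sortOK 1754 && Nat.beq (maskOf sortAt 1755) maskN) = true := by decide +kernel

theorem wit_ok : (allUpto witOK 2304) = true := by decide +kernel

end Cfsg.Agent.Lib.RuUnique
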