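import Cfsg.Agent.Lib.RuUnique.Iso
import Cfsg.Agent.Lib.RuUnique.ChkGraph

/-!
The point stabiliser on 4060 points: its two suborbits, the points telling its elements apart, and the orbital
graph of valency 1755.
-/

set_option autoImplicit false
set_option linter.all false
set_option maxRecDepth 100000

noncomputable section

namespace Cfsg.Agent.Lib.RuUnique

open Cfsg.Agent.CosetCert

/-- The first neighbour, the first far point and the two sets. -/
def n0 : Pt := pt kp0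
def j0 : Pt := pt (rPt Data.orbF 0)
def N0 : Finset Pt := setM maskN
def F0 : Finset Pt := setM maskF

theorem genGrp_hGens : genGrp hGens = H0 := by
  refine le_antisymm (genGrp_le fun w hw => el_H0 ?_) ((Subgroup.closure_le _).2 ?_)
  · have h : ∀ w ∈ hGens, hWord w = true := by decide
    exact h w hw
  · rintro _ ⟨a, ha, rfl⟩
    have ha' : a < 4 := ha
    rw [← el_one]
    exact el_mem_genGrp (by interval_cases a <;> simp [hGens])

theorem orbN_spec : reachOK hGens Data.orbN 1755 = true ∧ closedOK hGens Data.orbN 1755 = true ∧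
    rPt Data.orbN 0 = kp0 := by
  have h := orbN_ok
  simp only [Bool.and_eq_true] at h
  exact ⟨h.1.1, h.1.2, Nat.eq_of_beq_eq_true h.2⟩

theorem orbF_spec : reachOK hGens Data.orbF 2304 = true ∧ closedOK hGens Data.orbF 2304 = true := by
  simpa [Bool.and_eq_true] using orbF_ok

theorem kp0_lt : kp0 < 4060 := orbN_spec.2.2 ▸ ((reachOK_spec orbN_spec.1).1 0 (by norm_num)).1

theorem j0_lt : rPt Data.orbF 0 < 4060 := ((reachOK_spec orbF_spec.1).1 0 (by norm_num)).1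

theorem N0_closed {g : Equiv.Perm Pt} (hg : g ∈ H0) {c : Pt} (hc : c ∈ N0) : g c ∈ N0 :=
  closed_mem orbN_spec.1 orbN_spec.2.1 (genGrp_hGens ▸ hg) c hc

theorem F0_closed {g : Equiv.Perm Pt} (hg : g ∈ H0) {c : Pt} (hc : c ∈ F0) : g c ∈ F0 :=
  closed_mem orbF_spec.1 orbF_spec.2 (genGrp_hGens ▸ hg) c hc

theorem N0_reach {c : Pt} (hc : c ∈ N0) : ∃ h ∈ H0, h n0 = c := by
  obtain ⟨g, hg, e⟩ := reach_mem orbN_spec.1 hc
  rw [orbN_spec.2.2] at e
  exact ⟨g, genGrp_hGens ▸ hg, e⟩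

theorem F0_reach {c : Pt} (hc : c ∈ F0) : ∃ h ∈ H0, h j0 = c := by
  obtain ⟨g, hg, e⟩ := reach_mem orbF_spec.1 hc
  exact ⟨g, genGrp_hGens ▸ hg, e⟩

theorem card_N0 : N0.card = 1755 := (reachOK_spec orbN_spec.1).2

theorem card_F0 : F0.card = 2304 := (reachOK_spec orbF_spec.1).2

theorem n0_mem : n0 ∈ N0 := by
  have := first_mem orbN_spec.1 (by norm_num)
  rwa [orbN_spec.2.2] at this

theorem j0_mem : j0 ∈ F0 := first_mem orbF_spec.1 (by norm_num)

theorem o0_not : o0 ∉ N0 ∧ o0 ∉ F0 :=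
  ⟨fun e => by rw [N0, mem_setM, o0, pt_val (by norm_num : 0 < 4060), split_spec.2.1] at e; simp at e,
    fun e => by rw [F0, mem_setM, o0, pt_val (by norm_num : 0 < 4060), split_spec.2.2.1] at e; simp at e⟩

theorem three_kinds (c : Pt) : c = o0 ∨ (c ≠ o0 ∧ c ∈ N0 ∧ c ∉ F0) ∨ (c ≠ o0 ∧ c ∉ N0 ∧ c ∈ F0) := by
  by_cases e : c = o0
  · exact Or.inl e
  have h := (split_spec.1 c).resolve_left e
  rw [N0, F0, mem_setM, mem_setM]
  cases hA : bit maskN c <;> cases hB : bit maskF c <;> simp [hA, hB, e] at h ⊢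

theorem not_both {c : Pt} (h1 : c ∈ N0) (h2 : c ∈ F0) : False := by
  rcases three_kinds c with rfl | ⟨-, -, h⟩ | ⟨-, h, -⟩
  exacts [o0_not.1 h1, h h2, h h1]

theorem orbit_H0_N0 : MulAction.orbit H0 n0 = (N0 : Set Pt) := by
  ext c
  constructor
  · rintro ⟨g, rfl⟩; exact N0_closed g.2 n0_mem
  · intro hc
    obtain ⟨b, hb, e⟩ := N0_reach (Finset.mem_coe.1 hc)
    exact ⟨⟨b, hb⟩, e⟩

theorem orbit_H0_F0 : MulAction.orbit H0 j0 = (F0 : Set Pt) := by
  ext c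
  constructor
  · rintro ⟨g, rfl⟩; exact F0_closed g.2 j0_mem
  · intro hc
    obtain ⟨b, hb, e⟩ := F0_reach (Finset.mem_coe.1 hc)
    exact ⟨⟨b, hb⟩, e⟩

/-- The stabiliser of two points. -/
def St (c : Pt) : Subgroup (Equiv.Perm Pt) := H0 ⊓ MulAction.stabilizer (Equiv.Perm Pt) c

theorem mem_St {c : Pt} {g : Equiv.Perm Pt} : g ∈ St c ↔ g ∈ H0 ∧ g c = c := Iff.rfl

theorem card_St_n0 : Nat.card (St n0) = 20480 := by
  have h := orbit_mul_card H0 n0
  rw [orbit_H0_N0, Set.ncard_coe_finset, card_N0, card_H0] at h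
  show Nat.card ↥(H0 ⊓ _) = _
  omega

theorem card_St_F0 {c : Pt} (hc : c ∈ F0) : Nat.card (St c) = 15600 := by
  obtain ⟨b, hb, rfl⟩ := F0_reach hc
  have h := orbit_mul_card H0 (b j0)
  have : MulAction.orbit H0 (b j0) = (F0 : Set Pt) := by
    rw [← orbit_H0_F0]
    exact MulAction.orbit_eq_iff.2 ⟨⟨b, hb⟩, rfl⟩
  rw [this, Set.ncard_coe_finset, card_F0, card_H0] at h
  show Nat.card ↥(H0 ⊓ _) = _
  omega

/-! ### Points telling elements apart -/

/-- The elements fixing some points. -/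
def Fix (L : List ℕ) : Subgroup (Equiv.Perm Pt) :=
  H0 ⊓ ⨅ b ∈ L, MulAction.stabilizer (Equiv.Perm Pt) (pt b)

theorem mem_Fix {L : List ℕ} {g : Equiv.Perm Pt} : g ∈ Fix L ↔ g ∈ H0 ∧ ∀ b ∈ L, g (pt b) = pt b := by
  simp [Fix, Subgroup.mem_inf, Subgroup.mem_iInf, MulAction.mem_stabilizer_iff, Equiv.Perm.smul_def]

theorem Fix_snoc (L : List ℕ) (b : ℕ) :
    Fix (L ++ [b]) = Fix L ⊓ MulAction.stabilizer (Equiv.Perm Pt) (pt b) := by
  ext g
  simp only [mem_Fix, Subgroup.mem_inf, MulAction.mem_stabilizer_iff, Equiv.Perm.smul_def, List.mem_append,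
    List.mem_singleton, or_imp, forall_and, forall_eq, and_assoc]

theorem Fix_nil : Fix [] = H0 := by ext g; simp [mem_Fix]

theorem genGrp_le_Fix {gens : List (List ℕ)} {L : List ℕ}
    (h : ∀ w ∈ gens, hWord w = true ∧ ∀ b ∈ L, b < 4060 ∧ runW w b = b) : genGrp gens ≤ Fix L :=
  genGrp_le fun w hw => mem_Fix.2 ⟨el_H0 (h w hw).1, fun b hb => by
    rw [el_pt (letters12 (h w hw).1) ((h w hw).2 b hb).1, ((h w hw).2 b hb).2]⟩

/-- A level of a chain. -/
theorem level_step {L : List ℕ} {gens : List (List ℕ)} {t : Tree} {n b : ℕ} (hr : reachOK gens t n = true)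
    (hb : rPt t 0 = b) (hg : genGrp gens ≤ Fix L) :
    (MulAction.orbit (Fix L) (pt b)).ncard * Nat.card (Fix (L ++ [b])) = Nat.card (Fix L) ∧
      n ≤ (MulAction.orbit (Fix L) (pt b)).ncard := by
  rw [Fix_snoc, ← hb]
  exact ⟨orbit_mul_card _ _, reach_le_orbit hr hg⟩

/-- The chain of the stabiliser. -/
def levPts : List ℕ := [kp0, kp1, kp2, kp3]

theorem lev_spec :
    (reachOK Data.levG0 Data.lev0 1755 = true ∧ rPt Data.lev0 0 = kp0 ∧ genGrp Data.levG0 ≤ Fix []) ∧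
    (reachOK Data.levG1 Data.lev1 1024 = true ∧ rPt Data.lev1 0 = kp1 ∧ genGrp Data.levG1 ≤ Fix [kp0]) ∧
    (reachOK Data.levG2 Data.lev2 5 = true ∧ rPt Data.lev2 0 = kp2 ∧ genGrp Data.levG2 ≤ Fix [kp0, kp1]) ∧
    (reachOK Data.levG3 Data.lev3 4 = true ∧ rPt Data.lev3 0 = kp3 ∧ genGrp Data.levG3 ≤ Fix [kp0, kp1, kp2]) := by
  have h := lev_ok
  simp only [Bool.and_eq_true, List.all_eq_true, List.mem_cons, List.not_mem_nil, or_false, forall_eq_or_imp,
    forall_eq] at h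
  obtain ⟨⟨⟨⟨⟨⟨⟨⟨⟨⟨⟨r0, r1⟩, r2⟩, r3⟩, e0⟩, e1⟩, e2⟩, e3⟩, hw0, hw1, hw2, hw3⟩, f1⟩, f2⟩, f3⟩ := h
  have k1 : kp1 < 4060 := (Nat.eq_of_beq_eq_true e1) ▸ ((reachOK_spec r1).1 0 (by norm_num)).1
  have k2 : kp2 < 4060 := (Nat.eq_of_beq_eq_true e2) ▸ ((reachOK_spec r2).1 0 (by norm_num)).1
  refine ⟨⟨r0, Nat.eq_of_beq_eq_true e0, genGrp_le_Fix fun w hw => ⟨hw0 w hw, by simp⟩⟩,
    ⟨r1, Nat.eq_of_beq_eq_true e1, genGrp_le_Fix fun w hw => ⟨hw1 w hw, ?_⟩⟩,
    ⟨r2, Nat.eq_of_beq_eq_true e2, genGrp_le_Fix fun w hw => ⟨hw2 w hw, ?_⟩⟩,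
    ⟨r3, Nat.eq_of_beq_eq_true e3, genGrp_le_Fix fun w hw => ⟨hw3 w hw, ?_⟩⟩⟩
  · intro b hb
    rw [List.mem_singleton] at hb
    subst hb
    exact ⟨kp0_lt, Nat.eq_of_beq_eq_true (f1 w hw)⟩
  · intro b hb
    simp only [List.mem_cons, List.not_mem_nil, or_false] at hb
    rcases hb with rfl | rfl
    exacts [⟨kp0_lt, Nat.eq_of_beq_eq_true (f2 w hw).1⟩, ⟨k1, Nat.eq_of_beq_eq_true (f2 w hw).2⟩]
  · intro b hb
    simp only [List.mem_cons, List.not_mem_nil, or_false] at hb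
    rcases hb with rfl | rfl | rfl
    exacts [⟨kp0_lt, Nat.eq_of_beq_eq_true (f3 w hw).1.1⟩, ⟨k1, Nat.eq_of_beq_eq_true (f3 w hw).1.2⟩,
      ⟨k2, Nat.eq_of_beq_eq_true (f3 w hw).2⟩]

theorem kp_lt : kp0 < 4060 ∧ kp1 < 4060 ∧ kp2 < 4060 ∧ kp3 < 4060 := by decide +kernel

theorem Fix_levPts : Fix levPts = ⊥ := by
  obtain ⟨⟨r0, e0, g0⟩, ⟨r1, e1, g1⟩, ⟨r2, e2, g2⟩, ⟨r3, e3, g3⟩⟩ := lev_spec
  obtain ⟨q0, p0⟩ := level_step r0 e0 g0
  obtain ⟨q1, p1⟩ := level_step r1 e1 g1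
  obtain ⟨q2, p2⟩ := level_step r2 e2 g2
  obtain ⟨q3, p3⟩ := level_step r3 e3 g3
  rw [Fix_nil, card_H0] at q0
  rw [Fix_nil] at p0
  simp only [List.nil_append, List.cons_append] at q0 q1 q2 q3
  refine Subgroup.eq_bot_of_card_le _ ?_
  have s3 := (Nat.mul_le_mul_right (Nat.card (Fix levPts)) p3).trans q3.le
  have s2 := (Nat.mul_le_mul_right (Nat.card (Fix [kp0, kp1, kp2])) p2).trans q2.le
  have s1 := (Nat.mul_le_mul_right (Nat.card (Fix [kp0, kp1])) p1).trans q1.le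
  have s0 := (Nat.mul_le_mul_right (Nat.card (Fix [kp0])) p0).trans q0.le
  simp only [levPts] at s3
  show Nat.card (Fix [kp0, kp1, kp2, kp3]) ≤ 1
  omega

theorem H0_ext {g h : Equiv.Perm Pt} (hg : g ∈ H0) (hh : h ∈ H0)
    (e0 : g (pt kp0) = h (pt kp0)) (e1 : g (pt kp1) = h (pt kp1)) (e2 : g (pt kp2) = h (pt kp2))
    (e3 : g (pt kp3) = h (pt kp3)) : g = h := by
  have key : ∀ b ∈ levPts, g (pt b) = h (pt b) := by
    intro b hb
    simp only [levPts, List.mem_cons, List.not_mem_nil, or_false] at hb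
    rcases hb with rfl | rfl | rfl | rfl <;> assumption
  have : h⁻¹ * g ∈ Fix levPts := by
    refine mem_Fix.2 ⟨mul_mem (inv_mem hh) hg, fun b hb => ?_⟩
    rw [Equiv.Perm.mul_apply, key b hb, Equiv.Perm.coe_inv, Equiv.symm_apply_apply]
  rw [Fix_levPts, Subgroup.mem_bot, inv_mul_eq_one] at this
  exact this.symm

theorem key_eq_iff {u w : List ℕ} (hu : hWord u = true) (hw : hWord w = true) :
    keyOf u = keyOf w ↔ el u = el w := by
  have hu' := letters12 hu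
  have hw' := letters12 hw
  obtain ⟨k0, k1, k2, k3⟩ := kp_lt
  constructor
  · intro h
    have h' : runW u kp0 + 4096 * (runW u kp1 + 4096 * (runW u kp2 + 4096 * runW u kp3)) =
        runW w kp0 + 4096 * (runW w kp1 + 4096 * (runW w kp2 + 4096 * runW w kp3)) := h
    have a0 := runW_lt hu' k0
    have a1 := runW_lt hu' k1
    have a2 := runW_lt hu' k2
    have b0 := runW_lt hw' k0
    have b1 := runW_lt hw' k1
    have b2 := runW_lt hw' k2
    refine H0_ext (el_H0 hu) (el_H0 hw) ?_ ?_ ?_ ?_ <;> rw [el_pt hu' (by assumption), el_pt hw' (by assumption)] <;>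
      congr 1 <;> omega
  · intro h
    have e : ∀ b < 4060, runW u b = runW w b := fun b hb => by
      have h1 := el_apply hu' (pt b)
      have h2 := el_apply hw' (pt b)
      rw [pt_val hb] at h1 h2
      rw [← h1, ← h2, h]
    simp only [keyOf, e _ k0, e _ k1, e _ k2, e _ k3]

theorem el_eq_of_key {u w : List ℕ} (hu : hWord u = true) (hw : hWord w = true) (h : keyOf u = keyOf w) :
    el u = el w := (key_eq_iff hu hw).1 h

theorem el_ne_of_key {u w : List ℕ} (hu : hWord u = true) (hw : hWord w = true)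
    (h : (!Nat.beq (keyOf u) (keyOf w)) = true) : el u ≠ el w := fun e => by
  rw [(key_eq_iff hu hw).2 e] at h
  simp at h

/-! ### The graph -/

/-- Adjacency. -/
def Adj (i j : Pt) : Prop := ∃ g ∈ GA, g o0 = i ∧ g n0 = j

theorem Adj.map {i j : Pt} (h : Adj i j) {g : Equiv.Perm Pt} (hg : g ∈ GA) : Adj (g i) (g j) := by
  obtain ⟨k, hk, rfl, rfl⟩ := h
  exact ⟨g * k, mul_mem hg hk, rfl, rfl⟩

theorem adj_map_iff {i j : Pt} {g : Equiv.Perm Pt} (hg : g ∈ GA) : Adj (g i) (g j) ↔ Adj i j :=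
  ⟨fun h => by simpa using h.map (inv_mem hg), fun h => h.map hg⟩

theorem adj_o0 {j : Pt} : Adj o0 j ↔ j ∈ N0 := by
  constructor
  · rintro ⟨g, hg, h0, rfl⟩
    exact N0_closed (stab_o0 hg h0) n0_mem
  · intro hj
    obtain ⟨h, hh, rfl⟩ := N0_reach hj
    exact ⟨h, H0_le hh, H0_o0 hh, rfl⟩

theorem row_spec {k : ℕ} (hk : k < 6) : spPt k < 4060 ∧ el (spWord k) ∈ GA ∧ el (spWord k) o0 = pt (spPt k) ∧
    ∀ c : Pt, Adj (pt (spPt k)) c ↔ bit (rowM k) c = true := by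
  have h := allUpto_spec.1 row_ok k hk
  simp only [rowOKk, Bool.and_eq_true, Nat.blt, Nat.ble_eq] at h
  obtain ⟨⟨⟨hl, h0⟩, hlt⟩, hm⟩ := h
  have he : el (spWord k) o0 = pt (spPt k) := by
    rw [o0, el_pt hl (by norm_num), Nat.eq_of_beq_eq_true h0]
  refine ⟨hlt, el_GA hl, he, fun c => ?_⟩
  rw [Nat.eq_of_beq_eq_true hm, bit_selMask, ← he]
  conv_lhs => rw [← (el (spWord k)).apply_symm_apply c]
  rw [adj_map_iff (el_GA hl), adj_o0, N0, mem_setM, ← Equiv.Perm.coe_inv, ← el_invW hl, el_apply (lett_invW hl)]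
  exact ⟨fun h => ⟨c.isLt, h⟩, And.right⟩

theorem sp_spec : spPt 0 = kp0 ∧ spPt 1 = rPt Data.orbF 0 ∧
    (∀ k < 4, spPt (k + 2) = rPt (orbAt Data.orbPL (k + 1)).1 0) ∧ bit (rowM 0) 0 = true := by
  have h := sp_ok
  simp only [Bool.and_eq_true, allUpto_spec] at h
  exact ⟨Nat.eq_of_beq_eq_true h.1.1.1, Nat.eq_of_beq_eq_true h.1.1.2,
    fun k hk => Nat.eq_of_beq_eq_true (h.1.2 k hk), h.2⟩

theorem adj_n0 (c : Pt) : Adj n0 c ↔ bit (rowM 0) c = true := by
  have h := (row_spec (k := 0) (by norm_num)).2.2.2 c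
  rwa [sp_spec.1] at h

theorem adj_j0 (c : Pt) : Adj j0 c ↔ bit (rowM 1) c = true := by
  have h := (row_spec (k := 1) (by norm_num)).2.2.2 c
  rwa [sp_spec.2.1] at h

theorem adj_symm {i j : Pt} (h : Adj i j) : Adj j i := by
  have key : Adj n0 o0 := (adj_n0 o0).2 (by rw [o0, pt_val (by norm_num : 0 < 4060)]; exact sp_spec.2.2.2)
  obtain ⟨g, hg, rfl, rfl⟩ := h
  exact key.map hg

/-! ### Unions of orbits -/

theorem unionM_spec (l : List (Tree × ℕ)) (s : ℕ) : ∀ {n c : ℕ},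
    bit (unionM l s n) c = true ↔ ∃ k < n, bit s k = true ∧ bit (orbMask (orbAt l k)) c = true
  | 0, c => by simp [unionM, bit_eq]
  | n + 1, c => by
    have ih := unionM_spec l s (n := n) (c := c)
    show bit (Bool.rec (motive := fun _ => ℕ) (unionM l s n) (Nat.lor (orbMask (orbAt l n)) (unionM l s n)) (bit s n)) c = true ↔ _
    cases hs : bit s n
    · show bit (unionM l s n) c = true ↔ _
      rw [ih]
      constructor
      · rintro ⟨k, hk, h⟩; exact ⟨k, by omega, h⟩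
      · rintro ⟨k, hk, h1, h2⟩
        rcases Nat.lt_succ_iff_lt_or_eq.1 hk with hk | rfl
        exacts [⟨k, hk, h1, h2⟩, by simp [hs] at h1]
    · show bit (Nat.lor (orbMask (orbAt l n)) (unionM l s n)) c = true ↔ _
      rw [bit_lor, Bool.or_eq_true, ih]
      constructor
      · rintro (h | ⟨k, hk, h⟩)
        exacts [⟨n, by omega, hs, h⟩, ⟨k, by omega, h⟩]
      · rintro ⟨k, hk, h1, h2⟩
        rcases Nat.lt_succ_iff_lt_or_eq.1 hk with hk | rfl
        exacts [Or.inr ⟨k, hk, h1, h2⟩, Or.inl h2]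

/-- A bit set with given bits. -/
def selBits (f : ℕ → Bool) (n : ℕ) : ℕ := selMask f n

theorem selBits_lt (f : ℕ → Bool) (n : ℕ) : selBits f n < 2 ^ n := by
  induction n with
  | zero => simp [selBits, selMask]
  | succ n ih =>
    show cond (f n) ((1 <<< n) ||| selMask f n) (selMask f n) < _
    have h2 := Nat.pow_lt_pow_right (show 1 < 2 by norm_num) (show n < n + 1 by omega)
    cases f n
    · exact ih.trans h2
    · exact Nat.or_lt_two_pow (by rwa [Nat.one_shiftLeft]) (ih.trans h2)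

/-- A set invariant under the generators is a union of orbits. -/
theorem union_of_invariant {gens : List (List ℕ)} {l : List (Tree × ℕ)} {n m : ℕ} (h : orbitsOK gens l n m = true)
    {S : Finset Pt} (hS : S ⊆ setM m) (hinv : ∀ g ∈ genGrp gens, ∀ c ∈ S, g c ∈ S) :
    ∃ s < 2 ^ n, S = setM (unionM l s n) ∧ S.card = unionLen l s n ∧
      (∀ k < n, bit s k = true ↔ pt (rPt (orbAt l k).1 0) ∈ S) := by
  classical
  simp only [orbitsOK, Bool.and_eq_true, allUpto_spec] at h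
  obtain ⟨⟨hr, hlen⟩, hcov⟩ := h
  set f : ℕ → Bool := fun k => decide (pt (rPt (orbAt l k).1 0) ∈ S) with hf
  have hs : ∀ k, bit (selBits f n) k = true ↔ k < n ∧ f k = true := fun k => bit_selMask
  have hiff : ∀ k < n, ∀ c : Pt, bit (orbMask (orbAt l k)) c = true →
      (c ∈ S ↔ pt (rPt (orbAt l k).1 0) ∈ S) := by
    intro k hk c hc
    obtain ⟨g, hg, e⟩ := reach_mem (hr k hk) (mem_setM.2 hc)
    refine ⟨fun h => ?_, fun h => e ▸ hinv g hg _ h⟩
    have := hinv g⁻¹ (inv_mem hg) c h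
    rwa [← e, Equiv.Perm.coe_inv, Equiv.symm_apply_apply] at this
  have heq : S = setM (unionM l (selBits f n) n) := by
    refine Finset.ext fun c => ?_
    rw [mem_setM, unionM_spec]
    constructor
    · intro hc
      have hm := mem_setM.1 (hS hc)
      rw [← Nat.eq_of_beq_eq_true hcov] at hm
      obtain ⟨k, hk, -, hk2⟩ := (unionM_spec l _).1 hm
      exact ⟨k, hk, (hs k).2 ⟨hk, by simp [hf, (hiff k hk c hk2).1 hc]⟩, hk2⟩
    · rintro ⟨k, hk, hk1, hk2⟩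
      exact (hiff k hk c hk2).2 (by simpa [hf] using ((hs k).1 hk1).2)
  refine ⟨selBits f n, selBits_lt f n, heq, ?_, fun k hk => ?_⟩
  · rw [heq, card_setM]
    exact Nat.eq_of_beq_eq_true (hlen _ (selBits_lt f n))
  · rw [hs]; simp [hf, hk]

end Cfsg.Agent.Lib.RuUnique
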