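import Cfsg.Agent.Lib.RuUnique.Defs

/-!
Kernel checks for the Rudvalis group on 4060 points: normalisers and cases.
-/

set_option maxRecDepth 100000
set_option linter.all false
set_option Elab.async false

noncomputable section

namespace Cfsg.Agent.Lib.RuUnique

open Cfsg.Agent.CosetCert

theorem case_ok : (allUpto (fun i => caseOK (getWord Data.uCand2 i) (Data.uCases.getD i (3, 0, 0, []))) 96 &&
    Nat.beq Data.uCand2.length 96) = true := by decide +kernel

end Cfsg.Agent.Lib.RuUnique
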