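import Cfsg.Agent.Lib.RuUnique.Defs

/-!
Kernel checks for the Rudvalis group on 4060 points: normalisers and cases.
-/

set_option maxRecDepth 100000
set_option linter.all false
set_option Elab.async false

noncomputable section

namespace Cfsg.Agent.Lib.RuUnique

open Cfsg.Agent.CosetCert

theorem fixX_ok : (allUpto (fun c => !Nat.beq (tgt 8 c) c || Nat.beq c 0 || (List.range 3).any fun i =>
    Nat.beq (runW (eWordAt i) (rPt Data.orbF 0)) c) 4060 && Nat.beq (tgt 8 (rPt Data.orbF 0)) (rPt Data.orbF 0) &&
    Nat.beq (tgt 10 (rPt Data.orbF 0)) (rPt Data.orbF 0) && hWord Data.eW &&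
    (List.range 13).any (fun m => Nat.beq (keyOf (Data.eW ++ [8] ++ invW Data.eW)) (keyOf (powW [8] m))) &&
    (List.range 13).any (fun m => Nat.beq (keyOf ([10, 8, 11])) (keyOf (powW [8] m)))) = true := by decide +kernel

theorem x_order : (Nat.beq (keyOf (powW [8] 13)) (keyOf []) && !Nat.beq (keyOf [8]) (keyOf [])) = true := by decide +kernel

theorem jPath1_ok : (allUpto jPath1OK 20) = true := by decide +kernel

theorem orderOut_ok : (orderOutOK 1 && orderOutOK 2) = true := by decide +kernel

theorem normN_ok : (allN (fun w => !(List.range 4).any (fun b => Nat.beq (keyOf (w ++ [10] ++ invW w)) (keyOf (powW [10] b))) ||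
    (List.range 4).any fun b => Nat.beq (keyOf w) (keyOf (powW [10] b)))) = true := by decide +kernel

theorem nWords_distinct : (allN (fun w => Nat.beq (cntUpto (fun i => Nat.beq
    (keyOf (nWordAt (i / 4) (i % 4))) (keyOf w)) 52) 1)) = true := by decide +kernel

end Cfsg.Agent.Lib.RuUnique
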