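import Cfsg.Agent.Lib.RuUnique.Defs

/-!
Kernel checks for the Rudvalis group on 4060 points: orbits.
-/

set_option maxRecDepth 100000
set_option linter.all false
set_option Elab.async false

noncomputable section

namespace Cfsg.Agent.Lib.RuUnique

open Cfsg.Agent.CosetCert

theorem orbAll_ok : (reachOK tGens Data.orbAll 4060) = true := by decide +kernel

theorem orbN_ok : (reachOK hGens Data.orbN 1755 && closedOK hGens Data.orbN 1755 && Nat.beq (rPt Data.orbN 0) kp0) = true := by
  decide +kernel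

theorem orbF_ok : (reachOK hGens Data.orbF 2304 && closedOK hGens Data.orbF 2304) = true := by decide +kernel

theorem split_ok : (allUpto (fun c => Nat.beq c 0 || bne (bit maskN c) (bit maskF c)) 4060 &&
    !bit maskN 0 && !bit maskF 0 && allUpto (fun a => Nat.beq (tgt a 0) 0) 4 && !Nat.beq (tgt 6 0) 0) = true := by decide +kernel

theorem lev_ok : (reachOK Data.levG0 Data.lev0 1755 && reachOK Data.levG1 Data.lev1 1024 &&
    reachOK Data.levG2 Data.lev2 5 && reachOK Data.levG3 Data.lev3 4 &&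
    Nat.beq (rPt Data.lev0 0) kp0 && Nat.beq (rPt Data.lev1 0) kp1 && Nat.beq (rPt Data.lev2 0) kp2 &&
    Nat.beq (rPt Data.lev3 0) kp3 &&
    [Data.levG0, Data.levG1, Data.levG2, Data.levG3].all (fun l => l.all hWord) &&
    Data.levG1.all (fun w => Nat.beq (runW w kp0) kp0) &&
    Data.levG2.all (fun w => Nat.beq (runW w kp0) kp0 && Nat.beq (runW w kp1) kp1) &&
    Data.levG3.all (fun w => Nat.beq (runW w kp0) kp0 && Nat.beq (runW w kp1) kp1 && Nat.beq (runW w kp2) kp2)) = true := by
  decide +kernel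

theorem ulev_ok : (reachOK Data.ulevG0 Data.ulev0 1755 && reachOK Data.ulevG1 Data.ulev1 1280 &&
    reachOK Data.ulevG2 Data.ulev2 4 &&
    Nat.beq (rPt Data.ulev0 0) (upt 0) && Nat.beq (rPt Data.ulev1 0) (upt 1) && Nat.beq (rPt Data.ulev2 0) (upt 2) &&
    [Data.ulevG0, Data.ulevG1, Data.ulevG2].all (fun l => l.all hWord) &&
    Data.ulevG1.all (fun w => Nat.beq (runW w (upt 0)) (upt 0)) &&
    Data.ulevG2.all (fun w => Nat.beq (runW w (upt 0)) (upt 0) && Nat.beq (runW w (upt 1)) (upt 1)) &&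
    allUpto (fun k => Nat.beq (runW [10] (upt k)) (upt k) && Nat.blt (upt k) 4060) 3 &&
    !Nat.beq (keyOf [10]) (keyOf []) && !Nat.beq (keyOf [10, 10]) (keyOf []) && !Nat.beq (keyOf [10, 10, 10]) (keyOf []) &&
    Nat.beq (keyOf [10, 10, 10, 10]) (keyOf [])) = true := by
  decide +kernel

theorem jlev_ok : (reachOK Data.jlevG0 Data.jlev0 780 && reachOK Data.jlevG1 Data.jlev1 20 &&
    closedOK Data.jlevG0 Data.jlev0 780 && closedOK Data.jlevG1 Data.jlev1 20 &&
    Nat.beq (rPt Data.jlev0 0) jp && Nat.beq (rPt Data.jlev1 0) jq && Nat.beq (runW [8] jp) jq &&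
    jGens.all (fun w => hWord w && Nat.beq (runW w (rPt Data.orbF 0)) (rPt Data.orbF 0)) &&
    Data.jlevG1.all (fun w => Nat.beq (runW w jp) jp)) = true := by decide +kernel

theorem orbP_ok : (orbitsOK Data.levG1 Data.orbPL 5 maskN) = true := by decide +kernel

theorem orbJN_ok : (orbitsOK Data.jlevG0 Data.orbJNL 2 maskN) = true := by decide +kernel

theorem orbJF_ok : (orbitsOK Data.jlevG0 Data.orbJFL 6 maskF) = true := by decide +kernel

theorem orbU_ok : (orbitsOK Data.uGens Data.orbUL 8 maskN) = true := by decide +kernel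

theorem u_ok : (allUpto uRelOK 12 && Nat.beq Data.uGens.length 12) = true := by decide +kernel

theorem u_no_five : (allUpto (fun s => !bit s 0 || !Nat.beq (unionLen Data.orbUL s 8) 5) 256 &&
    Nat.beq (rPt (orbAt Data.orbUL 0).1 0) kp0) = true := by decide +kernel

end Cfsg.Agent.Lib.RuUnique
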