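import Cfsg.Agent.Lib.RuUnique.Defs

/-!
Kernel checks for the Rudvalis group on 4060 points: lines and letters.
-/

set_option maxRecDepth 100000
set_option linter.all false
set_option Elab.async false

noncomputable section

namespace Cfsg.Agent.Lib.RuUnique

open Cfsg.Agent.CosetCert

/-- Four turns of the vector of a line exhaust it. -/
def lineOK (turn : ℕ → ℕ) (v : ℕ) : Bool :=
  Nat.blt (lineOf v) 4060 && Nat.beq (lineOf (turn v)) (lineOf v) &&
    (Nat.beq (repOf (lineOf v)) v || Nat.beq (turn (repOf (lineOf v))) v ||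
      Nat.beq (turn (turn (repOf (lineOf v)))) v || Nat.beq (turn (turn (turn (repOf (lineOf v))))) v)

theorem inverse_ok : (allUpto (fun a => Nat.blt (invL a) 12 && allUpto (fun c =>
    Nat.blt (tgt a c) 4060 && Nat.beq (tgt (invL a) (tgt a c)) c) 4060) 12) = true := by decide +kernel

theorem xu_ok : (hWord Data.xW && hWord Data.uW &&
    allUpto (fun c => Nat.beq (runW Data.xW c) (tgt 8 c) && Nat.beq (runW Data.uW c) (tgt 10 c)) 4060) = true := by
  decide +kernel

end Cfsg.Agent.Lib.RuUnique
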