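import Cfsg.Agent.Lib.RuUnique.VecDefs

/-!
Kernel checks for the vectors attached to the first suborbit.
-/

set_option maxRecDepth 100000
set_option linter.all false
set_option Elab.async false

noncomputable section

namespace Cfsg.Agent.Lib.RuUnique

theorem col_ok0 : allUpto (colOK 0) 52 = true := by decide +kernel
theorem col_ok1 : allUpto (colOK 1) 52 = true := by decide +kernel
theorem col_ok2 : allUpto (colOK 2) 52 = true := by decide +kernel
theorem col_ok3 : allUpto (colOK 3) 52 = true := by decide +kernel

theorem vecStep_ok : allUpto vecStepOK 4060 = true := by decide +kernel

theorem span_ok : allUpto spanOK 52 = true := by decide +kernel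

end Cfsg.Agent.Lib.RuUnique
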