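import Cfsg.Agent.Lib.RuUnique.ChkPerms
import Cfsg.Agent.Lib.RuAut.Vec

/-!
Kernel checks for the Rudvalis group on 4060 points: the short vectors.
-/

set_option maxRecDepth 100000
set_option linter.all false
set_option Elab.async false

noncomputable section

namespace Cfsg.Agent.Lib.RuUnique

open Cfsg.Agent.RuAut

theorem line_ok : (allUpto (lineOK (tab 0)) 16240) = true := by decide +kernel

theorem rep_ok : (allUpto (fun c => Nat.blt (repOf c) 16240 && Nat.beq (lineOf (repOf c)) c) 4060) = true := by
  decide +kernel

theorem sig_ok : (Data.sigW.all (lettOK 12) && Nat.blt Data.tLetter 12 &&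
    allUpto (fun a => allUpto (fun c =>
      Nat.beq (lineOf (app (Cfsg.Agent.CosetCert.getWord Data.sigW a) (repOf c))) (tgt a c)) 4060) 4 &&
    allUpto (fun c => Nat.beq (lineOf (tab Data.tLetter (repOf c))) (tgt 6 c)) 4060) = true := by decide +kernel

end Cfsg.Agent.Lib.RuUnique
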