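import Cfsg.Agent.Lib.CosetCert.Check

/-!
Certificate data for the Rudvalis group on 4060 points: orbits.
-/

set_option autoImplicit false
set_option linter.all false
set_option maxRecDepth 100000

noncomputable section

namespace Cfsg.Agent.Lib.RuUnique.Data

open Cfsg.Agent.CosetCert

/-- A part of `orbAll`. -/
def orbAll_0 : Tree := (.node 128 (.node 64 (.node 32 (.node 16 (.node 8 (.node 4 (.node 2 (.node 1 (.leaf (nat_lit 0x0)) (.leaf (nat_lit 0x6000001))) (.node 1 (.leaf (nat_lit 0x1980)) (.leaf (nat_lit 0x1001070)))) (.node 2 (.node 1 (.leaf (nat_lit 0x2001459)) (.leaf (nat_lit 0x3001eb6))) (.node 1 (.leaf (nat_lit 0x4001c9b)) (.leaf (nat_lit 0x50016e1))))) (.node 4 (.node 2 (.node 1 (.leaf (nat_lit 0x1002452)) (.leaf (nat_lit 0x200250b))) (.node 1 (.leaf (nat_lit 0x3002750)) (.leaf (nat_lit 0x4002559)))) (.node 2 (.node 1 (.leaf (nat_lit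 0x5002f29)) (.leaf (nat_lit 0x60025be))) (.node 1 (.leaf (nat_lit 0x34da)) (.leaf (nat_lit 0x2003124)))))) (.node 8 (.node 4 (.node 2 (.node 1 (.leaf (nat_lit 0x3003589)) (.leaf (nat_lit 0x40039c7))) (.node 1 (.leaf (nat_lit 0x50038d4)) (.leaf (nat_lit 0x6003801)))) (.node 2 (.node 1 (.leaf (nat_lit 0x46cb)) (.leaf (nat_lit 0x2004f16))) (.node 1 (.leaf (nat_lit 0x300441b)) (.leaf (nat_lit 0x500493d))))) (.node 4 (.node 2 (.node 1 (.leaf (nat_lit 0x600457c)) (.leaf (nat_lit 0x1005623))) (.node 1 (.leaf (nat_lit 0x2005de0)) (.leaf (nat_lit 0x3005f41)))) (.node 2 (.node 1 (.leaf (nat_lit 0x4005547)) (.leaf (nat_lit 0x6005e36))) (.node 1 (.leaf (nat_lit 0x61c6)) (.leaf (nat_lit 0x3006f76))))))) (.node 16 (.node 8 (.node 4 (.node 2 (.node 1 (.leaf (nat_lit 0x6006b94)) (.leaf (nat_lit 0x1007b7e))) (.node 1 (.leaf (nat_lit 0x20073c3)) (.leaf (nat_lit 0x60079d3))))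 (.node 2 (.node 1 (.leaf (nat_lit 0x8715)) (.leaf (nat_lit 0x2008f10))) (.node 1 (.leaf (nat_lit 0x30089f5)) (.leaf (nat_lit 0x4008f47))))) (.node 4 (.node 2 (.node 1 (.leaf (nat_lit 0x5008508)) (.leaf (nat_lit 0x6008c32))) (.node 1 (.leaf (nat_lit 0x9f4a)) (.leaf (nat_lit 0x200929d)))) (.node 2 (.node 1 (.leaf (nat_lit 0x300911a)) (.leaf (nat_lit 0x5009f11))) (.node 1 (.leaf (nat_lit 0x6009367)) (.leaf (nat_lit 0x100aa22)))))) (.node 8 (.node 4 (.node 2 (.node 1 (.leaf (nat_lit 0x200a0af)) (.leaf (nat_lit 0x300a763))) (.node 1 (.leaf (nat_lit 0x400abf7)) (.leaf (nat_lit 0x600af2e)))) (.node 2 (.node 1 (.leaf (nat_lit 0xb191)) (.leaf (nat_lit 0x300b4c1))) (.node 1 (.leaf (nat_lit 0x600bbfd)) (.leaf (nat_lit 0x100c3fc))))) (.node 4 (.node 2 (.node 1 (.leaf (nat_lit 0x200c3b0)) (.leaf (nat_lit 0x600ce28))) (.node 1 (.leaf (nat_lit 0xdbde)) (.leaf (nat_lit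 0x100dc09)))) (.node 2 (.node 1 (.leaf (nat_lit 0x200d6bb)) (.leaf (nat_lit 0x300d5cb))) (.node 1 (.leaf (nat_lit 0x400d7bd)) (.leaf (nat_lit 0x500d62e)))))))) (.node 32 (.node 16 (.node 8 (.node 4 (.node 2 (.node 1 (.leaf (nat_lit 0x200ea1f)) (.leaf (nat_lit 0x300e833))) (.node 1 (.leaf (nat_lit 0x400ed78)) (.leaf (nat_lit 0x500ec0c)))) (.node 2 (.node 1 (.leaf (nat_lit 0x600e31b)) (.leaf (nat_lit 0xfdcc))) (.node 1 (.leaf (nat_lit 0x200fac5)) (.leaf (nat_lit 0x300f309))))) (.node 4 (.node 2 (.node 1 (.leaf (nat_lit 0x600f15c)) (.leaf (nat_lit 0x1010097))) (.node 1 (.leaf (nat_lit 0x201066f)) (.leaf (nat_lit 0x3010f96)))) (.node 2 (.node 1 (.leaf (nat_lit 0x60102ce)) (.leaf (nat_lit 0x60116d6))) (.node 1 (.leaf (nat_lit 0x10120ae)) (.leaf (nat_lit 0x6012454)))))) (.node 8 (.node 4 (.node 2 (.node 1 (.leaf (nat_lit 0x13252)) (.leaf (nat_lit 0x1013bc3)))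 (.node 1 (.leaf (nat_lit 0x2013c30)) (.leaf (nat_lit 0x3013538)))) (.node 2 (.node 1 (.leaf (nat_lit 0x40130ac)) (.leaf (nat_lit 0x5013757))) (.node 1 (.leaf (nat_lit 0x1014b74)) (.leaf (nat_lit 0x201462f))))) (.node 4 (.node 2 (.node 1 (.leaf (nat_lit 0x3014e7b)) (.leaf (nat_lit 0x4014deb))) (.node 1 (.leaf (nat_lit 0x5014731)) (.leaf (nat_lit 0x1560d)))) (.node 2 (.node 1 (.leaf (nat_lit 0x3015ce4)) (.leaf (nat_lit 0x5015b34))) (.node 1 (.leaf (nat_lit 0x601514b)) (.leaf (nat_lit 0x10166d1))))))) (.node 16 (.node 8 (.node 4 (.node 2 (.node 1 (.leaf (nat_lit 0x3016e11)) (.leaf (nat_lit 0x4016d1a))) (.node 1 (.leaf (nat_lit 0x6016a8b)) (.leaf (nat_lit 0x101797d)))) (.node 2 (.node 1 (.leaf (nat_lit 0x2017184)) (.leaf (nat_lit 0x6017bf5))) (.node 1 (.leaf (nat_lit 0x18137)) (.leaf (nat_lit 0x1018886))))) (.node 4 (.node 2 (.node 1 (.leaf (nat_lit 0x2018f70))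 (.leaf (nat_lit 0x3018d2f))) (.node 1 (.leaf (nat_lit 0x4018b92)) (.leaf (nat_lit 0x5018fb3)))) (.node 2 (.node 1 (.leaf (nat_lit 0x19723)) (.leaf (nat_lit 0x20195c5))) (.node 1 (.leaf (nat_lit 0x30191d0)) (.leaf (nat_lit 0x401975e)))))) (.node 8 (.node 4 (.node 2 (.node 1 (.leaf (nat_lit 0x5019870)) (.leaf (nat_lit 0x601995e))) (.node 1 (.leaf (nat_lit 0x1a3c8)) (.leaf (nat_lit 0x601a40a)))) (.node 2 (.node 1 (.leaf (nat_lit 0x101be31)) (.leaf (nat_lit 0x201b13d))) (.node 1 (.leaf (nat_lit 0x601b66e)) (.leaf (nat_lit 0x1ccab))))) (.node 4 (.node 2 (.node 1 (.leaf (nat_lit 0x601c65a)) (.leaf (nat_lit 0x1dc6b))) (.node 1 (.leaf (nat_lit 0x101d565)) (.leaf (nat_lit 0x201d393)))) (.node 2 (.node 1 (.leaf (nat_lit 0x301db41)) (.leaf (nat_lit 0x401d029))) (.node 1 (.leaf (nat_lit 0x501d51b)) (.leaf (nat_lit 0x201ef7a))))))))) (.node 64 (.node 32 (.node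 16 (.node 8 (.node 4 (.node 2 (.node 1 (.leaf (nat_lit 0x301e8db)) (.leaf (nat_lit 0x601ecbc))) (.node 1 (.leaf (nat_lit 0x101f6fc)) (.leaf (nat_lit 0x601fb88)))) (.node 2 (.node 1 (.leaf (nat_lit 0x20a9d)) (.leaf (nat_lit 0x1020dd7))) (.node 1 (.leaf (nat_lit 0x202039b)) (.leaf (nat_lit 0x3020270))))) (.node 4 (.node 2 (.node 1 (.leaf (nat_lit 0x40205d0)) (.leaf (nat_lit 0x50203f8))) (.node 1 (.leaf (nat_lit 0x21b8d)) (.leaf (nat_lit 0x2021953)))) (.node 2 (.node 1 (.leaf (nat_lit 0x302181c)) (.leaf (nat_lit 0x5021b77))) (.node 1 (.leaf (nat_lit 0x6021a20)) (.leaf (nat_lit 0x22135)))))) (.node 8 (.node 4 (.node 2 (.node 1 (.leaf (nat_lit 0x6022eeb)) (.leaf (nat_lit 0x23288))) (.node 1 (.leaf (nat_lit 0x1023d5c)) (.leaf (nat_lit 0x2023621)))) (.node 2 (.node 1 (.leaf (nat_lit 0x3023991)) (.leaf (nat_lit 0x4023e73))) (.node 1 (.leaf (nat_lit 0x5023471))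 (.leaf (nat_lit 0x2024783))))) (.node 4 (.node 2 (.node 1 (.leaf (nat_lit 0x30248da)) (.leaf (nat_lit 0x502435a))) (.node 1 (.leaf (nat_lit 0x6024307)) (.leaf (nat_lit 0x25e56)))) (.node 2 (.node 1 (.leaf (nat_lit 0x202528e)) (.leaf (nat_lit 0x30259a5))) (.node 1 (.leaf (nat_lit 0x5025415)) (.leaf (nat_lit 0x60252dc))))))) (.node 16 (.node 8 (.node 4 (.node 2 (.node 1 (.leaf (nat_lit 0x1026125)) (.leaf (nat_lit 0x2026a23))) (.node 1 (.leaf (nat_lit 0x30262ea)) (.leaf (nat_lit 0x4026bb1)))) (.node 2 (.node 1 (.leaf (nat_lit 0x602635e)) (.leaf (nat_lit 0x27dad))) (.node 1 (.leaf (nat_lit 0x3027e88)) (.leaf (nat_lit 0x602792d))))) (.node 4 (.node 2 (.node 1 (.leaf (nat_lit 0x1028c06)) (.leaf (nat_lit 0x2028e1c))) (.node 1 (.leaf (nat_lit 0x297aa)) (.leaf (nat_lit 0x1029ba0)))) (.node 2 (.node 1 (.leaf (nat_lit 0x20296cc)) (.leaf (nat_lit 0x3029368)))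 (.node 1 (.leaf (nat_lit 0x40293e5)) (.leaf (nat_lit 0x5029d11)))))) (.node 8 (.node 4 (.node 2 (.node 1 (.leaf (nat_lit 0x102ac3f)) (.leaf (nat_lit 0x202aa08))) (.node 1 (.leaf (nat_lit 0x302a039)) (.leaf (nat_lit 0x502af43)))) (.node 2 (.node 1 (.leaf (nat_lit 0x602a92b)) (.leaf (nat_lit 0x2bf89))) (.node 1 (.leaf (nat_lit 0x302bb8a)) (.leaf (nat_lit 0x502b132))))) (.node 4 (.node 2 (.node 1 (.leaf (nat_lit 0x602b70e)) (.leaf (nat_lit 0x102c7af))) (.node 1 (.leaf (nat_lit 0x302c7ab)) (.leaf (nat_lit 0x402c660)))) (.node 2 (.node 1 (.leaf (nat_lit 0x602c43b)) (.leaf (nat_lit 0x102de7f))) (.node 1 (.leaf (nat_lit 0x202d514)) (.leaf (nat_lit 0x602d167)))))))) (.node 32 (.node 16 (.node 8 (.node 4 (.node 2 (.node 1 (.leaf (nat_lit 0x2e467)) (.leaf (nat_lit 0x102e3b3))) (.node 1 (.leaf (nat_lit 0x202e830)) (.leaf (nat_lit 0x302e028)))) (.node 2 (.node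 1 (.leaf (nat_lit 0x402e20e)) (.leaf (nat_lit 0x502e152))) (.node 1 (.leaf (nat_lit 0x2f1a1)) (.leaf (nat_lit 0x202f728))))) (.node 4 (.node 2 (.node 1 (.leaf (nat_lit 0x302f6e8)) (.leaf (nat_lit 0x402f9d0))) (.node 1 (.leaf (nat_lit 0x602fb81)) (.leaf (nat_lit 0x30f26)))) (.node 2 (.node 1 (.leaf (nat_lit 0x60305ad)) (.leaf (nat_lit 0x103100d))) (.node 1 (.leaf (nat_lit 0x20310d0)) (.leaf (nat_lit 0x603109e)))))) (.node 8 (.node 4 (.node 2 (.node 1 (.leaf (nat_lit 0x3215b)) (.leaf (nat_lit 0x6032943))) (.node 1 (.leaf (nat_lit 0x3389d)) (.leaf (nat_lit 0x10335a0)))) (.node 2 (.node 1 (.leaf (nat_lit 0x20334e9)) (.leaf (nat_lit 0x3033054))) (.node 1 (.leaf (nat_lit 0x4033d8c)) (.leaf (nat_lit 0x5033eae))))) (.node 4 (.node 2 (.node 1 (.leaf (nat_lit 0x10343ec)) (.leaf (nat_lit 0x20348de))) (.node 1 (.leaf (nat_lit 0x3034158)) (.leaf (nat_lit 0x403422f))))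 (.node 2 (.node 1 (.leaf (nat_lit 0x6034633)) (.leaf (nat_lit 0x1035ea0))) (.node 1 (.leaf (nat_lit 0x6035362)) (.leaf (nat_lit 0x36b2a))))))) (.node 16 (.node 8 (.node 4 (.node 2 (.node 1 (.leaf (nat_lit 0x1036c18)) (.leaf (nat_lit 0x2036b25))) (.node 1 (.leaf (nat_lit 0x30366d2)) (.leaf (nat_lit 0x4036f0c)))) (.node 2 (.node 1 (.leaf (nat_lit 0x5036b04)) (.leaf (nat_lit 0x2037714))) (.node 1 (.leaf (nat_lit 0x30375d3)) (.leaf (nat_lit 0x5037461))))) (.node 4 (.node 2 (.node 1 (.leaf (nat_lit 0x6037ee7)) (.leaf (nat_lit 0x3835b))) (.node 1 (.leaf (nat_lit 0x39b33)) (.leaf (nat_lit 0x1039657)))) (.node 2 (.node 1 (.leaf (nat_lit 0x2039025)) (.leaf (nat_lit 0x3039d17))) (.node 1 (.leaf (nat_lit 0x4039aac)) (.leaf (nat_lit 0x5039a78)))))) (.node 8 (.node 4 (.node 2 (.node 1 (.leaf (nat_lit 0x103ac42)) (.leaf (nat_lit 0x203a286))) (.node 1 (.leaf (nat_lit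 0x403a7c5)) (.leaf (nat_lit 0x503ac9a)))) (.node 2 (.node 1 (.leaf (nat_lit 0x603a753)) (.leaf (nat_lit 0x3b785))) (.node 1 (.leaf (nat_lit 0x203b729)) (.leaf (nat_lit 0x403b129))))) (.node 4 (.node 2 (.node 1 (.leaf (nat_lit 0x503bb3a)) (.leaf (nat_lit 0x603bb1c))) (.node 1 (.leaf (nat_lit 0x3cac0)) (.leaf (nat_lit 0x203caa1)))) (.node 2 (.node 1 (.leaf (nat_lit 0x303cf39)) (.leaf (nat_lit 0x503cc7c))) (.node 1 (.leaf (nat_lit 0x603ca99)) (.leaf (nat_lit 0x103d712))))))))))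

/-- A part of `orbAll`. -/
def orbAll_1 : Tree := (.node 128 (.node 64 (.node 32 (.node 16 (.node 8 (.node 4 (.node 2 (.node 1 (.leaf (nat_lit 0x203d0f6)) (.leaf (nat_lit 0x303db28))) (.node 1 (.leaf (nat_lit 0x603d1cb)) (.leaf (nat_lit 0x3e7cb)))) (.node 2 (.node 1 (.leaf (nat_lit 0x303e495)) (.leaf (nat_lit 0x603ecc4))) (.node 1 (.leaf (nat_lit 0x103f472)) (.leaf (nat_lit 0x203f480))))) (.node 4 (.node 2 (.node 1 (.leaf (nat_lit 0x603f94d)) (.leaf (nat_lit 0x40a6d))) (.node 1 (.leaf (nat_lit 0x2040e55)) (.leaf (nat_lit 0x304065c)))) (.node 2 (.node 1 (.leaf (nat_lit 0x5040ef4)) (.leaf (nat_lit 0x6040b7b))) (.node 1 (.leaf (nat_lit 0x1041c5e)) (.leaf (nat_lit 0x2041e7d)))))) (.node 8 (.node 4 (.node 2 (.node 1 (.leaf (nat_lit 0x304100b)) (.leaf (nat_lit 0x404142e))) (.node 1 (.leaf (nat_lit 0x6041ecb)) (.leaf (nat_lit 0x42813)))) (.node 2 (.node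 1 (.leaf (nat_lit 0x3042153)) (.leaf (nat_lit 0x1043522))) (.node 1 (.leaf (nat_lit 0x2043f9b)) (.leaf (nat_lit 0x6043104))))) (.node 4 (.node 2 (.node 1 (.leaf (nat_lit 0x44e22)) (.leaf (nat_lit 0x104456e))) (.node 1 (.leaf (nat_lit 0x20443d2)) (.leaf (nat_lit 0x3044f97)))) (.node 2 (.node 1 (.leaf (nat_lit 0x40443ce)) (.leaf (nat_lit 0x50444d7))) (.node 1 (.leaf (nat_lit 0x1045b31)) (.leaf (nat_lit 0x2045604))))))) (.node 16 (.node 8 (.node 4 (.node 2 (.node 1 (.leaf (nat_lit 0x3045a4b)) (.leaf (nat_lit 0x4045519))) (.node 1 (.leaf (nat_lit 0x5045e30)) (.leaf (nat_lit 0x6045e64)))) (.node 2 (.node 1 (.leaf (nat_lit 0x5046ba7)) (.leaf (nat_lit 0x6046a82))) (.node 1 (.leaf (nat_lit 0x1047a4c)) (.leaf (nat_lit 0x6047219))))) (.node 4 (.node 2 (.node 1 (.leaf (nat_lit 0x48c39)) (.leaf (nat_lit 0x104888c))) (.node 1 (.leaf (nat_lit 0x204864f)) (.leaf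 (nat_lit 0x30480c8)))) (.node 2 (.node 1 (.leaf (nat_lit 0x40485ee)) (.leaf (nat_lit 0x504853a))) (.node 1 (.leaf (nat_lit 0x49c23)) (.leaf (nat_lit 0x204900a)))))) (.node 8 (.node 4 (.node 2 (.node 1 (.leaf (nat_lit 0x304991b)) (.leaf (nat_lit 0x4049e25))) (.node 1 (.leaf (nat_lit 0x5049a2a)) (.leaf (nat_lit 0x6049f56)))) (.node 2 (.node 1 (.leaf (nat_lit 0x604a4b8)) (.leaf (nat_lit 0x604bc82))) (.node 1 (.leaf (nat_lit 0x4c9fb)) (.leaf (nat_lit 0x104c4f4))))) (.node 4 (.node 2 (.node 1 (.leaf (nat_lit 0x204c865)) (.leaf (nat_lit 0x304c997))) (.node 1 (.leaf (nat_lit 0x404c79f)) (.leaf (nat_lit 0x504c1ed)))) (.node 2 (.node 1 (.leaf (nat_lit 0x4df55)) (.leaf (nat_lit 0x104d969))) (.node 1 (.leaf (nat_lit 0x204de07)) (.leaf (nat_lit 0x304d50c)))))))) (.node 32 (.node 16 (.node 8 (.node 4 (.node 2 (.node 1 (.leaf (nat_lit 0x404d4e4)) (.leaf (nat_lit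 0x504d4a3))) (.node 1 (.leaf (nat_lit 0x4ead7)) (.leaf (nat_lit 0x304ee16)))) (.node 2 (.node 1 (.leaf (nat_lit 0x504e652)) (.leaf (nat_lit 0x604e7fb))) (.node 1 (.leaf (nat_lit 0x4fbe2)) (.leaf (nat_lit 0x104fc31))))) (.node 4 (.node 2 (.node 1 (.leaf (nat_lit 0x204f1fd)) (.leaf (nat_lit 0x404fe4c))) (.node 1 (.leaf (nat_lit 0x105024c)) (.leaf (nat_lit 0x2050b22)))) (.node 2 (.node 1 (.leaf (nat_lit 0x3050fb8)) (.leaf (nat_lit 0x5050106))) (.node 1 (.leaf (nat_lit 0x6050928)) (.leaf (nat_lit 0x518cf)))))) (.node 8 (.node 4 (.node 2 (.node 1 (.leaf (nat_lit 0x20516e5)) (.leaf (nat_lit 0x305193c))) (.node 1 (.leaf (nat_lit 0x4051df0)) (.leaf (nat_lit 0x505120c)))) (.node 2 (.node 1 (.leaf (nat_lit 0x6051d1c)) (.leaf (nat_lit 0x52fbd))) (.node 1 (.leaf (nat_lit 0x20521c5)) (.leaf (nat_lit 0x305214f))))) (.node 4 (.node 2 (.node 1 (.leaf (nat_lit 0x50524fa))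 (.leaf (nat_lit 0x6052d80))) (.node 1 (.leaf (nat_lit 0x105344d)) (.leaf (nat_lit 0x2053680)))) (.node 2 (.node 1 (.leaf (nat_lit 0x3053be7)) (.leaf (nat_lit 0x4053562))) (.node 1 (.leaf (nat_lit 0x6053890)) (.leaf (nat_lit 0x54916))))))) (.node 16 (.node 8 (.node 4 (.node 2 (.node 1 (.leaf (nat_lit 0x30541fc)) (.leaf (nat_lit 0x6054205))) (.node 1 (.leaf (nat_lit 0x1055923)) (.leaf (nat_lit 0x20557f6)))) (.node 2 (.node 1 (.leaf (nat_lit 0x60552c4)) (.leaf (nat_lit 0x2056993))) (.node 1 (.leaf (nat_lit 0x30568d8)) (.leaf (nat_lit 0x405650f))))) (.node 4 (.node 2 (.node 1 (.leaf (nat_lit 0x50563d1)) (.leaf (nat_lit 0x605623e))) (.node 1 (.leaf (nat_lit 0x57c29)) (.leaf (nat_lit 0x205711f)))) (.node 2 (.node 1 (.leaf (nat_lit 0x30578be)) (.leaf (nat_lit 0x5057668))) (.node 1 (.leaf (nat_lit 0x6057071)) (.leaf (nat_lit 0x1058305)))))) (.node 8 (.node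 4 (.node 2 (.node 1 (.leaf (nat_lit 0x20581c4)) (.leaf (nat_lit 0x3058c1a))) (.node 1 (.leaf (nat_lit 0x405817d)) (.leaf (nat_lit 0x6058cec)))) (.node 2 (.node 1 (.leaf (nat_lit 0x5954d)) (.leaf (nat_lit 0x3059ab5))) (.node 1 (.leaf (nat_lit 0x6059f50)) (.leaf (nat_lit 0x105a9ce))))) (.node 4 (.node 2 (.node 1 (.leaf (nat_lit 0x205aeb2)) (.leaf (nat_lit 0x605aa34))) (.node 1 (.leaf (nat_lit 0x105baae)) (.leaf (nat_lit 0x205b36e)))) (.node 2 (.node 1 (.leaf (nat_lit 0x305b026)) (.leaf (nat_lit 0x405b214))) (.node 1 (.leaf (nat_lit 0x505b408)) (.leaf (nat_lit 0x605b53d))))))))) (.node 64 (.node 32 (.node 16 (.node 8 (.node 4 (.node 2 (.node 1 (.leaf (nat_lit 0x405ca54)) (.leaf (nat_lit 0x605c198))) (.node 1 (.leaf (nat_lit 0x105d7d8)) (.leaf (nat_lit 0x605d345)))) (.node 2 (.node 1 (.leaf (nat_lit 0x5e7e9)) (.leaf (nat_lit 0x105e5dc))) (.node 1 (.leaf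 (nat_lit 0x205ea9f)) (.leaf (nat_lit 0x305e6e2))))) (.node 4 (.node 2 (.node 1 (.leaf (nat_lit 0x405ec2d)) (.leaf (nat_lit 0x505ebcb))) (.node 1 (.leaf (nat_lit 0x5fbb4)) (.leaf (nat_lit 0x305fca6)))) (.node 2 (.node 1 (.leaf (nat_lit 0x405f56f)) (.leaf (nat_lit 0x505f017))) (.node 1 (.leaf (nat_lit 0x605fa2f)) (.leaf (nat_lit 0x1060f9f)))))) (.node 8 (.node 4 (.node 2 (.node 1 (.leaf (nat_lit 0x60602a7)) (.leaf (nat_lit 0x6061626))) (.node 1 (.leaf (nat_lit 0x62140)) (.leaf (nat_lit 0x106255b)))) (.node 2 (.node 1 (.leaf (nat_lit 0x2062885)) (.leaf (nat_lit 0x30622b5))) (.node 1 (.leaf (nat_lit 0x40627a2)) (.leaf (nat_lit 0x5062fd6))))) (.node 4 (.node 2 (.node 1 (.leaf (nat_lit 0x63a7c)) (.leaf (nat_lit 0x2063ca7))) (.node 1 (.leaf (nat_lit 0x3063d87)) (.leaf (nat_lit 0x506304b)))) (.node 2 (.node 1 (.leaf (nat_lit 0x6063643)) (.leaf (nat_lit 0x64cc3)))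 (.node 1 (.leaf (nat_lit 0x6064bb3)) (.leaf (nat_lit 0x65537))))))) (.node 16 (.node 8 (.node 4 (.node 2 (.node 1 (.leaf (nat_lit 0x106593b)) (.leaf (nat_lit 0x2065b4d))) (.node 1 (.leaf (nat_lit 0x3065010)) (.leaf (nat_lit 0x40658ee)))) (.node 2 (.node 1 (.leaf (nat_lit 0x50655a8)) (.leaf (nat_lit 0x106602f))) (.node 1 (.leaf (nat_lit 0x20667f1)) (.leaf (nat_lit 0x5066418))))) (.node 4 (.node 2 (.node 1 (.leaf (nat_lit 0x606629b)) (.leaf (nat_lit 0x674a4))) (.node 1 (.leaf (nat_lit 0x2067507)) (.leaf (nat_lit 0x3067f02)))) (.node 2 (.node 1 (.leaf (nat_lit 0x4067772)) (.leaf (nat_lit 0x5067ee5))) (.node 1 (.leaf (nat_lit 0x68894)) (.leaf (nat_lit 0x206827d)))))) (.node 8 (.node 4 (.node 2 (.node 1 (.leaf (nat_lit 0x3068103)) (.leaf (nat_lit 0x5068e09))) (.node 1 (.leaf (nat_lit 0x6068bbf)) (.leaf (nat_lit 0x2069d6d)))) (.node 2 (.node 1 (.leaf (nat_lit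 0x3069fd7)) (.leaf (nat_lit 0x4069f24))) (.node 1 (.leaf (nat_lit 0x606914c)) (.leaf (nat_lit 0x6a2e0))))) (.node 4 (.node 2 (.node 1 (.leaf (nat_lit 0x306ad48)) (.leaf (nat_lit 0x606ac95))) (.node 1 (.leaf (nat_lit 0x106bdc9)) (.leaf (nat_lit 0x206b884)))) (.node 2 (.node 1 (.leaf (nat_lit 0x606b269)) (.leaf (nat_lit 0x206c155))) (.node 1 (.leaf (nat_lit 0x306cd37)) (.leaf (nat_lit 0x406c71e)))))))) (.node 32 (.node 16 (.node 8 (.node 4 (.node 2 (.node 1 (.leaf (nat_lit 0x506c646)) (.leaf (nat_lit 0x606c172))) (.node 1 (.leaf (nat_lit 0x6dc56)) (.leaf (nat_lit 0x306d013)))) (.node 2 (.node 1 (.leaf (nat_lit 0x506d530)) (.leaf (nat_lit 0x606d97f))) (.node 1 (.leaf (nat_lit 0x106efa7)) (.leaf (nat_lit 0x206e82b))))) (.node 4 (.node 2 (.node 1 (.leaf (nat_lit 0x306ecc6)) (.leaf (nat_lit 0x406efcc))) (.node 1 (.leaf (nat_lit 0x606e2d1)) (.leaf (nat_lit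 0x6f176)))) (.node 2 (.node 1 (.leaf (nat_lit 0x306f3cd)) (.leaf (nat_lit 0x606f756))) (.node 1 (.leaf (nat_lit 0x10708f3)) (.leaf (nat_lit 0x20706d3)))))) (.node 8 (.node 4 (.node 2 (.node 1 (.leaf (nat_lit 0x60702b4)) (.leaf (nat_lit 0x71a84))) (.node 1 (.leaf (nat_lit 0x107196d)) (.leaf (nat_lit 0x2071bea)))) (.node 2 (.node 1 (.leaf (nat_lit 0x3071b9d)) (.leaf (nat_lit 0x407160b))) (.node 1 (.leaf (nat_lit 0x5071a44)) (.leaf (nat_lit 0x1072cb3))))) (.node 4 (.node 2 (.node 1 (.leaf (nat_lit 0x4072708)) (.leaf (nat_lit 0x6072ee2))) (.node 1 (.leaf (nat_lit 0x73f6d)) (.leaf (nat_lit 0x1073e37)))) (.node 2 (.node 1 (.leaf (nat_lit 0x2073f20)) (.leaf (nat_lit 0x3073145))) (.node 1 (.leaf (nat_lit 0x4073b56)) (.leaf (nat_lit 0x5073b2d))))))) (.node 16 (.node 8 (.node 4 (.node 2 (.node 1 (.leaf (nat_lit 0x743da)) (.leaf (nat_lit 0x2074cef))) (.node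 1 (.leaf (nat_lit 0x3074d3f)) (.leaf (nat_lit 0x5074006)))) (.node 2 (.node 1 (.leaf (nat_lit 0x6074f48)) (.leaf (nat_lit 0x60751ac))) (.node 1 (.leaf (nat_lit 0x76c97)) (.leaf (nat_lit 0x10766d8))))) (.node 4 (.node 2 (.node 1 (.leaf (nat_lit 0x20765b7)) (.leaf (nat_lit 0x307682f))) (.node 1 (.leaf (nat_lit 0x4076583)) (.leaf (nat_lit 0x5076a7f)))) (.node 2 (.node 1 (.leaf (nat_lit 0x1077426)) (.leaf (nat_lit 0x6077f80))) (.node 1 (.leaf (nat_lit 0x7878c)) (.leaf (nat_lit 0x107853f)))))) (.node 8 (.node 4 (.node 2 (.node 1 (.leaf (nat_lit 0x207815e)) (.leaf (nat_lit 0x3078fc1))) (.node 1 (.leaf (nat_lit 0x4078f14)) (.leaf (nat_lit 0x5078653)))) (.node 2 (.node 1 (.leaf (nat_lit 0x1079820)) (.leaf (nat_lit 0x2079d4c))) (.node 1 (.leaf (nat_lit 0x307928b)) (.leaf (nat_lit 0x40795eb))))) (.node 4 (.node 2 (.node 1 (.leaf (nat_lit 0x5079dbc)) (.leaf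 (nat_lit 0x6079f8b))) (.node 1 (.leaf (nat_lit 0x7aa61)) (.leaf (nat_lit 0x207a260)))) (.node 2 (.node 1 (.leaf (nat_lit 0x307a50d)) (.leaf (nat_lit 0x407aa68))) (.node 1 (.leaf (nat_lit 0x507a4c3)) (.leaf (nat_lit 0x607a8ed))))))))))

/-- A part of `orbAll`. -/
def orbAll_2 : Tree := (.node 128 (.node 64 (.node 32 (.node 16 (.node 8 (.node 4 (.node 2 (.node 1 (.leaf (nat_lit 0x7be14)) (.leaf (nat_lit 0x207b04d))) (.node 1 (.leaf (nat_lit 0x307be0c)) (.leaf (nat_lit 0x507ba92)))) (.node 2 (.node 1 (.leaf (nat_lit 0x607bb3b)) (.leaf (nat_lit 0x107cdb0))) (.node 1 (.leaf (nat_lit 0x207c7c1)) (.leaf (nat_lit 0x307c115))))) (.node 4 (.node 2 (.node 1 (.leaf (nat_lit 0x407c8e2)) (.leaf (nat_lit 0x607cf6a))) (.node 1 (.leaf (nat_lit 0x7de39)) (.leaf (nat_lit 0x307d258)))) (.node 2 (.node 1 (.leaf (nat_lit 0x607dfbb)) (.leaf (nat_lit 0x107eae3))) (.node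 1 (.leaf (nat_lit 0x207e453)) (.leaf (nat_lit 0x607edf4)))))) (.node 8 (.node 4 (.node 2 (.node 1 (.leaf (nat_lit 0x7f29a)) (.leaf (nat_lit 0x507fa46))) (.node 1 (.leaf (nat_lit 0x607fad1)) (.leaf (nat_lit 0x108062a)))) (.node 2 (.node 1 (.leaf (nat_lit 0x4080ebd)) (.leaf (nat_lit 0x6080387))) (.node 1 (.leaf (nat_lit 0x81bb2)) (.leaf (nat_lit 0x108165f))))) (.node 4 (.node 2 (.node 1 (.leaf (nat_lit 0x20817a9)) (.leaf (nat_lit 0x30815b0))) (.node 1 (.leaf (nat_lit 0x4081707)) (.leaf (nat_lit 0x5081087)))) (.node 2 (.node 1 (.leaf (nat_lit 0x3082767)) (.leaf (nat_lit 0x6082411))) (.node 1 (.leaf (nat_lit 0x83930)) (.leaf (nat_lit 0x1083c38))))))) (.node 16 (.node 8 (.node 4 (.node 2 (.node 1 (.leaf (nat_lit 0x2083725)) (.leaf (nat_lit 0x30839d4))) (.node 1 (.leaf (nat_lit 0x408371a)) (.leaf (nat_lit 0x5083373)))) (.node 2 (.node 1 (.leaf (nat_lit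 0x1084b66)) (.leaf (nat_lit 0x20848ce))) (.node 1 (.leaf (nat_lit 0x308473e)) (.leaf (nat_lit 0x4084192))))) (.node 4 (.node 2 (.node 1 (.leaf (nat_lit 0x5084bce)) (.leaf (nat_lit 0x6084ed4))) (.node 1 (.leaf (nat_lit 0x85279)) (.leaf (nat_lit 0x20858c4)))) (.node 2 (.node 1 (.leaf (nat_lit 0x3085e4e)) (.leaf (nat_lit 0x4085798))) (.node 1 (.leaf (nat_lit 0x6085347)) (.leaf (nat_lit 0x86c8b)))))) (.node 8 (.node 4 (.node 2 (.node 1 (.leaf (nat_lit 0x2086e4a)) (.leaf (nat_lit 0x3086052))) (.node 1 (.leaf (nat_lit 0x50864c7)) (.leaf (nat_lit 0x6086672)))) (.node 2 (.node 1 (.leaf (nat_lit 0x1087a7d)) (.leaf (nat_lit 0x2087a67))) (.node 1 (.leaf (nat_lit 0x3087b3f)) (.leaf (nat_lit 0x40873b7))))) (.node 4 (.node 2 (.node 1 (.leaf (nat_lit 0x6087858)) (.leaf (nat_lit 0x888b5))) (.node 1 (.leaf (nat_lit 0x30880df)) (.leaf (nat_lit 0x60882b9)))) (.node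 2 (.node 1 (.leaf (nat_lit 0x1089216)) (.leaf (nat_lit 0x2089189))) (.node 1 (.leaf (nat_lit 0x6089062)) (.leaf (nat_lit 0x308a2c3)))))))) (.node 32 (.node 16 (.node 8 (.node 4 (.node 2 (.node 1 (.leaf (nat_lit 0x408a717)) (.leaf (nat_lit 0x508a2d7))) (.node 1 (.leaf (nat_lit 0x608abd3)) (.leaf (nat_lit 0x8b073)))) (.node 2 (.node 1 (.leaf (nat_lit 0x308b47e)) (.leaf (nat_lit 0x508ba77))) (.node 1 (.leaf (nat_lit 0x608bfa6)) (.leaf (nat_lit 0x108c518))))) (.node 4 (.node 2 (.node 1 (.leaf (nat_lit 0x308c38a)) (.leaf (nat_lit 0x408cdd2))) (.node 1 (.leaf (nat_lit 0x608c2c5)) (.leaf (nat_lit 0x108d3b4)))) (.node 2 (.node 1 (.leaf (nat_lit 0x208d89b)) (.leaf (nat_lit 0x608d8d9))) (.node 1 (.leaf (nat_lit 0x8ec73)) (.leaf (nat_lit 0x108ec37)))))) (.node 8 (.node 4 (.node 2 (.node 1 (.leaf (nat_lit 0x208e07e)) (.leaf (nat_lit 0x308e142))) (.node 1 (.leaf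 (nat_lit 0x408e253)) (.leaf (nat_lit 0x508e9de)))) (.node 2 (.node 1 (.leaf (nat_lit 0x108fa31)) (.leaf (nat_lit 0x208f70a))) (.node 1 (.leaf (nat_lit 0x408f949)) (.leaf (nat_lit 0x608fe0b))))) (.node 4 (.node 2 (.node 1 (.leaf (nat_lit 0x9031a)) (.leaf (nat_lit 0x1090e91))) (.node 1 (.leaf (nat_lit 0x30900ba)) (.leaf (nat_lit 0x409082a)))) (.node 2 (.node 1 (.leaf (nat_lit 0x5090210)) (.leaf (nat_lit 0x2091cac))) (.node 1 (.leaf (nat_lit 0x3091f66)) (.leaf (nat_lit 0x609183e))))))) (.node 16 (.node 8 (.node 4 (.node 2 (.node 1 (.leaf (nat_lit 0x209249e)) (.leaf (nat_lit 0x30925bc))) (.node 1 (.leaf (nat_lit 0x4092b23)) (.leaf (nat_lit 0x5092e03)))) (.node 2 (.node 1 (.leaf (nat_lit 0x609202c)) (.leaf (nat_lit 0x93a62))) (.node 1 (.leaf (nat_lit 0x2093749)) (.leaf (nat_lit 0x30931dd))))) (.node 4 (.node 2 (.node 1 (.leaf (nat_lit 0x50937fe)) (.leaf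 (nat_lit 0x6093d31))) (.node 1 (.leaf (nat_lit 0x1094f90)) (.leaf (nat_lit 0x2094c68)))) (.node 2 (.node 1 (.leaf (nat_lit 0x3094416)) (.leaf (nat_lit 0x4094f1e))) (.node 1 (.leaf (nat_lit 0x609467a)) (.leaf (nat_lit 0x95f25)))))) (.node 8 (.node 4 (.node 2 (.node 1 (.leaf (nat_lit 0x30953ae)) (.leaf (nat_lit 0x6095c5f))) (.node 1 (.leaf (nat_lit 0x10965c6)) (.leaf (nat_lit 0x2096e5f)))) (.node 2 (.node 1 (.leaf (nat_lit 0x60968b8)) (.leaf (nat_lit 0x97cb7))) (.node 1 (.leaf (nat_lit 0x6097748)) (.leaf (nat_lit 0x3098325))))) (.node 4 (.node 2 (.node 1 (.leaf (nat_lit 0x609838c)) (.leaf (nat_lit 0x9a2be))) (.node 1 (.leaf (nat_lit 0x409a985)) (.leaf (nat_lit 0x109b624)))) (.node 2 (.node 1 (.leaf (nat_lit 0x209ba10)) (.leaf (nat_lit 0x309b4cf))) (.node 1 (.leaf (nat_lit 0x409bb05)) (.leaf (nat_lit 0x609bd0c))))))))) (.node 64 (.node 32 (.node 16 (.node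 8 (.node 4 (.node 2 (.node 1 (.leaf (nat_lit 0x309c34d)) (.leaf (nat_lit 0x509c8f2))) (.node 1 (.leaf (nat_lit 0x609cfda)) (.leaf (nat_lit 0x109d9f4)))) (.node 2 (.node 1 (.leaf (nat_lit 0x309d6da)) (.leaf (nat_lit 0x409dfce))) (.node 1 (.leaf (nat_lit 0x609d72c)) (.leaf (nat_lit 0x209ed39))))) (.node 4 (.node 2 (.node 1 (.leaf (nat_lit 0x609ea8f)) (.leaf (nat_lit 0x9f82d))) (.node 1 (.leaf (nat_lit 0x309f370)) (.leaf (nat_lit 0x409f5af)))) (.node 2 (.node 1 (.leaf (nat_lit 0x509fb12)) (.leaf (nat_lit 0x20a06ca))) (.node 1 (.leaf (nat_lit 0x40a0722)) (.leaf (nat_lit 0x50a0195)))))) (.node 8 (.node 4 (.node 2 (.node 1 (.leaf (nat_lit 0x60a0541)) (.leaf (nat_lit 0xa195d))) (.node 1 (.leaf (nat_lit 0x60a1b80)) (.leaf (nat_lit 0x10a2015)))) (.node 2 (.node 1 (.leaf (nat_lit 0x20a26c5)) (.leaf (nat_lit 0x60a271f))) (.node 1 (.leaf (nat_lit 0xa42ec)) (.leaf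 (nat_lit 0x10a4a4e))))) (.node 4 (.node 2 (.node 1 (.leaf (nat_lit 0x20a4d63)) (.leaf (nat_lit 0x30a4529))) (.node 1 (.leaf (nat_lit 0x40a4817)) (.leaf (nat_lit 0x10a54ba)))) (.node 2 (.node 1 (.leaf (nat_lit 0x30a5899)) (.leaf (nat_lit 0x40a5c9c))) (.node 1 (.leaf (nat_lit 0x60a59d5)) (.leaf (nat_lit 0x60a6e87))))))) (.node 16 (.node 8 (.node 4 (.node 2 (.node 1 (.leaf (nat_lit 0xa7de9)) (.leaf (nat_lit 0x30a7b40))) (.node 1 (.leaf (nat_lit 0x40a70b4)) (.leaf (nat_lit 0x50a74ca)))) (.node 2 (.node 1 (.leaf (nat_lit 0xa8e82)) (.leaf (nat_lit 0x60a8b1f))) (.node 1 (.leaf (nat_lit 0xa9f95)) (.leaf (nat_lit 0x60a9e9e))))) (.node 4 (.node 2 (.node 1 (.leaf (nat_lit 0x10aac22)) (.leaf (nat_lit 0x30aa0de))) (.node 1 (.leaf (nat_lit 0x40aa100)) (.leaf (nat_lit 0x50aa558)))) (.node 2 (.node 1 (.leaf (nat_lit 0x60aaccc)) (.leaf (nat_lit 0xab952))) (.node 1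 (.leaf (nat_lit 0x20abfa0)) (.leaf (nat_lit 0x30ab46d)))))) (.node 8 (.node 4 (.node 2 (.node 1 (.leaf (nat_lit 0x40abe32)) (.leaf (nat_lit 0x60ab908))) (.node 1 (.leaf (nat_lit 0xac942)) (.leaf (nat_lit 0x20acd7d)))) (.node 2 (.node 1 (.leaf (nat_lit 0x30acbc9)) (.leaf (nat_lit 0x60ac509))) (.node 1 (.leaf (nat_lit 0x10ad9ae)) (.leaf (nat_lit 0x20adb2b))))) (.node 4 (.node 2 (.node 1 (.leaf (nat_lit 0x30ada02)) (.leaf (nat_lit 0x40ad6e9))) (.node 1 (.leaf (nat_lit 0x60adfbf)) (.leaf (nat_lit 0x60ae282)))) (.node 2 (.node 1 (.leaf (nat_lit 0x10afad4)) (.leaf (nat_lit 0x20af9aa))) (.node 1 (.leaf (nat_lit 0x60afa57)) (.leaf (nat_lit 0x20b006e)))))))) (.node 32 (.node 16 (.node 8 (.node 4 (.node 2 (.node 1 (.leaf (nat_lit 0x30b06bf)) (.leaf (nat_lit 0x40b0838))) (.node 1 (.leaf (nat_lit 0x50b00ea)) (.leaf (nat_lit 0x60b0973)))) (.node 2 (.node 1 (.leaf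 (nat_lit 0xb1970)) (.leaf (nat_lit 0x60b17f8))) (.node 1 (.leaf (nat_lit 0x30b2fc6)) (.leaf (nat_lit 0x60b2fca))))) (.node 4 (.node 2 (.node 1 (.leaf (nat_lit 0xb408a)) (.leaf (nat_lit 0x10b4477))) (.node 1 (.leaf (nat_lit 0x20b4277)) (.leaf (nat_lit 0x30b409f)))) (.node 2 (.node 1 (.leaf (nat_lit 0x40b44bc)) (.leaf (nat_lit 0x50b4670))) (.node 1 (.leaf (nat_lit 0x10b5e2c)) (.leaf (nat_lit 0x20b5815)))))) (.node 8 (.node 4 (.node 2 (.node 1 (.leaf (nat_lit 0x30b5f09)) (.leaf (nat_lit 0x40b5d0e))) (.node 1 (.leaf (nat_lit 0x50b55ff)) (.leaf (nat_lit 0x60b5c69)))) (.node 2 (.node 1 (.leaf (nat_lit 0x10b6a42)) (.leaf (nat_lit 0x40b6ef8))) (.node 1 (.leaf (nat_lit 0x60b68e1)) (.leaf (nat_lit 0x10b7c1c))))) (.node 4 (.node 2 (.node 1 (.leaf (nat_lit 0xb8a40)) (.leaf (nat_lit 0x20b8793))) (.node 1 (.leaf (nat_lit 0x30b87d7)) (.leaf (nat_lit 0x50b8b19))))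 (.node 2 (.node 1 (.leaf (nat_lit 0xb9521)) (.leaf (nat_lit 0x30b955f))) (.node 1 (.leaf (nat_lit 0x40b93eb)) (.leaf (nat_lit 0x50b97a1))))))) (.node 16 (.node 8 (.node 4 (.node 2 (.node 1 (.leaf (nat_lit 0x60b9cf1)) (.leaf (nat_lit 0x10baba6))) (.node 1 (.leaf (nat_lit 0x60ba3d7)) (.leaf (nat_lit 0xbb072)))) (.node 2 (.node 1 (.leaf (nat_lit 0x60bb0a4)) (.leaf (nat_lit 0xbc06c))) (.node 1 (.leaf (nat_lit 0x10bc614)) (.leaf (nat_lit 0x20bccee))))) (.node 4 (.node 2 (.node 1 (.leaf (nat_lit 0x30bc8a1)) (.leaf (nat_lit 0x40bc7d4))) (.node 1 (.leaf (nat_lit 0x50bc83f)) (.leaf (nat_lit 0x20bdeb4)))) (.node 2 (.node 1 (.leaf (nat_lit 0x30bdf15)) (.leaf (nat_lit 0xbecda))) (.node 1 (.leaf (nat_lit 0x60be88f)) (.leaf (nat_lit 0x10bf2b8)))))) (.node 8 (.node 4 (.node 2 (.node 1 (.leaf (nat_lit 0x20bf8f4)) (.leaf (nat_lit 0x40bf1ca))) (.node 1 (.leaf (nat_lit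 0x50bfaf0)) (.leaf (nat_lit 0x10c0c8a)))) (.node 2 (.node 1 (.leaf (nat_lit 0x20c07d5)) (.leaf (nat_lit 0x30c06fd))) (.node 1 (.leaf (nat_lit 0x40c0ce7)) (.leaf (nat_lit 0x50c036c))))) (.node 4 (.node 2 (.node 1 (.leaf (nat_lit 0x60c0878)) (.leaf (nat_lit 0xc1bfb))) (.node 1 (.leaf (nat_lit 0x20c19a9)) (.leaf (nat_lit 0x30c130f)))) (.node 2 (.node 1 (.leaf (nat_lit 0x40c10aa)) (.leaf (nat_lit 0x50c1092))) (.node 1 (.leaf (nat_lit 0x60c15a7)) (.leaf (nat_lit 0xc2276))))))))))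

/-- A part of `orbAll`. -/
def orbAll_3 : Tree := (.node 128 (.node 64 (.node 32 (.node 16 (.node 8 (.node 4 (.node 2 (.node 1 (.leaf (nat_lit 0x20c2910)) (.leaf (nat_lit 0x30c26fe))) (.node 1 (.leaf (nat_lit 0x50c2f2c)) (.leaf (nat_lit 0x60c2320)))) (.node 2 (.node 1 (.leaf (nat_lit 0x10c3e00)) (.leaf (nat_lit 0x20c39e7))) (.node 1 (.leaf (nat_lit 0x40c375c)) (.leaf (nat_lit 0x60c3f0d))))) (.node 4 (.node 2 (.node 1 (.leaf (nat_lit 0xc4c4a)) (.leaf (nat_lit 0x30c4ce0))) (.node 1 (.leaf (nat_lit 0x60c4fb1)) (.leaf (nat_lit 0x10c5eea)))) (.node 2 (.node 1 (.leaf (nat_lit 0x20c5188)) (.leaf (nat_lit 0x60c543d))) (.node 1 (.leaf (nat_lit 0x20c6d86)) (.leaf (nat_lit 0x30c6ebc)))))) (.node 8 (.node 4 (.node 2 (.node 1 (.leaf (nat_lit 0x40c67c7)) (.leaf (nat_lit 0x50c6f3c))) (.node 1 (.leaf (nat_lit 0x60c67b6)) (.leaf (nat_lit 0x60c848f)))) (.node 2 (.node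 1 (.leaf (nat_lit 0xc9fc3)) (.leaf (nat_lit 0xca187))) (.node 1 (.leaf (nat_lit 0x10ca629)) (.leaf (nat_lit 0x20ca498))))) (.node 4 (.node 2 (.node 1 (.leaf (nat_lit 0x30cae8d)) (.leaf (nat_lit 0x40ca7d3))) (.node 1 (.leaf (nat_lit 0x50caafa)) (.leaf (nat_lit 0x20cb5c3)))) (.node 2 (.node 1 (.leaf (nat_lit 0x60cbe2b)) (.leaf (nat_lit 0xcc3c2))) (.node 1 (.leaf (nat_lit 0x10cc891)) (.leaf (nat_lit 0x30cc87b))))))) (.node 16 (.node 8 (.node 4 (.node 2 (.node 1 (.leaf (nat_lit 0x40cc7a5)) (.leaf (nat_lit 0x50cc1b4))) (.node 1 (.leaf (nat_lit 0x30cd61f)) (.leaf (nat_lit 0x50cd14e)))) (.node 2 (.node 1 (.leaf (nat_lit 0x60cd00c)) (.leaf (nat_lit 0xcecf7))) (.node 1 (.leaf (nat_lit 0x60ce0e8)) (.leaf (nat_lit 0xcf871))))) (.node 4 (.node 2 (.node 1 (.leaf (nat_lit 0x10cf0a5)) (.leaf (nat_lit 0x20cf058))) (.node 1 (.leaf (nat_lit 0x30cf154)) (.leaf (nat_lit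 0x40cf05b)))) (.node 2 (.node 1 (.leaf (nat_lit 0x50cf8fc)) (.leaf (nat_lit 0x10d0a27))) (.node 1 (.leaf (nat_lit 0x20d0efa)) (.leaf (nat_lit 0x40d00ee)))))) (.node 8 (.node 4 (.node 2 (.node 1 (.leaf (nat_lit 0xd1627)) (.leaf (nat_lit 0x10d1860))) (.node 1 (.leaf (nat_lit 0x20d18bf)) (.leaf (nat_lit 0x30d12a3)))) (.node 2 (.node 1 (.leaf (nat_lit 0x50d1d01)) (.leaf (nat_lit 0x20d22d4))) (.node 1 (.leaf (nat_lit 0x30d2f07)) (.leaf (nat_lit 0x40d2389))))) (.node 4 (.node 2 (.node 1 (.leaf (nat_lit 0x50d20e5)) (.leaf (nat_lit 0x60d2506))) (.node 1 (.leaf (nat_lit 0x30d3d5e)) (.leaf (nat_lit 0x50d37c0)))) (.node 2 (.node 1 (.leaf (nat_lit 0x60d3a6c)) (.leaf (nat_lit 0xd4a55))) (.node 1 (.leaf (nat_lit 0x30d4f8d)) (.leaf (nat_lit 0x50d4532)))))))) (.node 32 (.node 16 (.node 8 (.node 4 (.node 2 (.node 1 (.leaf (nat_lit 0x60d4376)) (.leaf (nat_lit 0x10d5133)))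 (.node 1 (.leaf (nat_lit 0x20d5289)) (.leaf (nat_lit 0x30d561c)))) (.node 2 (.node 1 (.leaf (nat_lit 0x40d50d5)) (.leaf (nat_lit 0x60d5d20))) (.node 1 (.leaf (nat_lit 0xd62a8)) (.leaf (nat_lit 0x30d6d7f))))) (.node 4 (.node 2 (.node 1 (.leaf (nat_lit 0x60d6297)) (.leaf (nat_lit 0x10d7a8e))) (.node 1 (.leaf (nat_lit 0x20d7293)) (.leaf (nat_lit 0x60d7aa7)))) (.node 2 (.node 1 (.leaf (nat_lit 0x20d8a0a)) (.leaf (nat_lit 0x30d8737))) (.node 1 (.leaf (nat_lit 0x50d8647)) (.leaf (nat_lit 0x60d85b3)))))) (.node 8 (.node 4 (.node 2 (.node 1 (.leaf (nat_lit 0xd909c)) (.leaf (nat_lit 0x20d9cde))) (.node 1 (.leaf (nat_lit 0x50d9d15)) (.leaf (nat_lit 0x60d93d9)))) (.node 2 (.node 1 (.leaf (nat_lit 0x10daf3b)) (.leaf (nat_lit 0x20da802))) (.node 1 (.leaf (nat_lit 0x40daae8)) (.leaf (nat_lit 0x60dae0d))))) (.node 4 (.node 2 (.node 1 (.leaf (nat_lit 0x30db68e))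 (.leaf (nat_lit 0x60db0e9))) (.node 1 (.leaf (nat_lit 0x10dc08d)) (.leaf (nat_lit 0x40dc1fb)))) (.node 2 (.node 1 (.leaf (nat_lit 0x50dca19)) (.leaf (nat_lit 0xdd230))) (.node 1 (.leaf (nat_lit 0x30ddfa5)) (.leaf (nat_lit 0x50dd3fb))))))) (.node 16 (.node 8 (.node 4 (.node 2 (.node 1 (.leaf (nat_lit 0x60dd2e3)) (.leaf (nat_lit 0x10de16e))) (.node 1 (.leaf (nat_lit 0x20de685)) (.leaf (nat_lit 0x30de6eb)))) (.node 2 (.node 1 (.leaf (nat_lit 0x40dec59)) (.leaf (nat_lit 0x30dfcc8))) (.node 1 (.leaf (nat_lit 0x50dfaa4)) (.leaf (nat_lit 0x60df5dd))))) (.node 4 (.node 2 (.node 1 (.leaf (nat_lit 0x20e0958)) (.leaf (nat_lit 0x60e0b2f))) (.node 1 (.leaf (nat_lit 0xe1352)) (.leaf (nat_lit 0x20e133c)))) (.node 2 (.node 1 (.leaf (nat_lit 0x30e1746)) (.leaf (nat_lit 0x50e1bda))) (.node 1 (.leaf (nat_lit 0x10e2901)) (.leaf (nat_lit 0x20e22cc)))))) (.node 8 (.node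 4 (.node 2 (.node 1 (.leaf (nat_lit 0x40e202a)) (.leaf (nat_lit 0x60e29cd))) (.node 1 (.leaf (nat_lit 0xe3e19)) (.leaf (nat_lit 0x30e387e)))) (.node 2 (.node 1 (.leaf (nat_lit 0x60e3021)) (.leaf (nat_lit 0x10e435f))) (.node 1 (.leaf (nat_lit 0x20e4ccf)) (.leaf (nat_lit 0x60e4aab))))) (.node 4 (.node 2 (.node 1 (.leaf (nat_lit 0x30e5d21)) (.leaf (nat_lit 0x60e5304))) (.node 1 (.leaf (nat_lit 0x10e6bf6)) (.leaf (nat_lit 0x30e655e)))) (.node 2 (.node 1 (.leaf (nat_lit 0x40e62e1)) (.leaf (nat_lit 0x60e6375))) (.node 1 (.leaf (nat_lit 0x10e779a)) (.leaf (nat_lit 0x60e75d7))))))))) (.node 64 (.node 32 (.node 16 (.node 8 (.node 4 (.node 2 (.node 1 (.leaf (nat_lit 0xe8242)) (.leaf (nat_lit 0x10e8e5d))) (.node 1 (.leaf (nat_lit 0x20e89a8)) (.leaf (nat_lit 0x30e827f)))) (.node 2 (.node 1 (.leaf (nat_lit 0x40e8db6)) (.leaf (nat_lit 0x50e8eba))) (.node 1 (.leaf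 (nat_lit 0x10e9018)) (.leaf (nat_lit 0x20e9e2e))))) (.node 4 (.node 2 (.node 1 (.leaf (nat_lit 0x40e941d)) (.leaf (nat_lit 0x60e94fe))) (.node 1 (.leaf (nat_lit 0x10ea37b)) (.leaf (nat_lit 0x20eadf1)))) (.node 2 (.node 1 (.leaf (nat_lit 0x30eac96)) (.leaf (nat_lit 0x40ea73f))) (.node 1 (.leaf (nat_lit 0x50eac91)) (.leaf (nat_lit 0x60ea5e9)))))) (.node 8 (.node 4 (.node 2 (.node 1 (.leaf (nat_lit 0xeb4b0)) (.leaf (nat_lit 0x30eb450))) (.node 1 (.leaf (nat_lit 0x40ebf85)) (.leaf (nat_lit 0x50eb1da)))) (.node 2 (.node 1 (.leaf (nat_lit 0x60eb941)) (.leaf (nat_lit 0xecef3))) (.node 1 (.leaf (nat_lit 0x20ecb0d)) (.leaf (nat_lit 0x30ece5c))))) (.node 4 (.node 2 (.node 1 (.leaf (nat_lit 0x50ec168)) (.leaf (nat_lit 0x60ec046))) (.node 1 (.leaf (nat_lit 0x10ed044)) (.leaf (nat_lit 0x20ed26c)))) (.node 2 (.node 1 (.leaf (nat_lit 0x30ed4c4)) (.leaf (nat_lit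 0x40eddfc))) (.node 1 (.leaf (nat_lit 0x60ed692)) (.leaf (nat_lit 0x30ee94a))))))) (.node 16 (.node 8 (.node 4 (.node 2 (.node 1 (.leaf (nat_lit 0x60eeec8)) (.leaf (nat_lit 0x20efe5b))) (.node 1 (.leaf (nat_lit 0x60efecf)) (.leaf (nat_lit 0xf0fa9)))) (.node 2 (.node 1 (.leaf (nat_lit 0x20f068d)) (.leaf (nat_lit 0x30f0e80))) (.node 1 (.leaf (nat_lit 0x40f0bbd)) (.leaf (nat_lit 0x60f098c))))) (.node 4 (.node 2 (.node 1 (.leaf (nat_lit 0xf1af3)) (.leaf (nat_lit 0x60f1784))) (.node 1 (.leaf (nat_lit 0xf2b10)) (.leaf (nat_lit 0x60f2d27)))) (.node 2 (.node 1 (.leaf (nat_lit 0x10f37b3)) (.leaf (nat_lit 0x60f3b95))) (.node 1 (.leaf (nat_lit 0xf40cf)) (.leaf (nat_lit 0x10f491f)))))) (.node 8 (.node 4 (.node 2 (.node 1 (.leaf (nat_lit 0x20f4bae)) (.leaf (nat_lit 0x30f4466))) (.node 1 (.leaf (nat_lit 0x40f4442)) (.leaf (nat_lit 0x20f59ab)))) (.node 2 (.node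 1 (.leaf (nat_lit 0x40f5344)) (.leaf (nat_lit 0x50f5cbe))) (.node 1 (.leaf (nat_lit 0x60f5f31)) (.leaf (nat_lit 0xf6ea5))))) (.node 4 (.node 2 (.node 1 (.leaf (nat_lit 0x20f6873)) (.leaf (nat_lit 0x30f608b))) (.node 1 (.leaf (nat_lit 0x50f6bb0)) (.leaf (nat_lit 0x60f62bf)))) (.node 2 (.node 1 (.leaf (nat_lit 0x30f7ac4)) (.leaf (nat_lit 0x10f8fcf))) (.node 1 (.leaf (nat_lit 0x20f8348)) (.leaf (nat_lit 0x60f8392)))))))) (.node 32 (.node 16 (.node 8 (.node 4 (.node 2 (.node 1 (.leaf (nat_lit 0xf916f)) (.leaf (nat_lit 0x20f9c51))) (.node 1 (.leaf (nat_lit 0x40f9654)) (.leaf (nat_lit 0x50f9bf4)))) (.node 2 (.node 1 (.leaf (nat_lit 0x30fafd0)) (.leaf (nat_lit 0x40faec4))) (.node 1 (.leaf (nat_lit 0x50fa4b3)) (.leaf (nat_lit 0x60fa0b0))))) (.node 4 (.node 2 (.node 1 (.leaf (nat_lit 0xfba0d)) (.leaf (nat_lit 0x30fb26a))) (.node 1 (.leaf (nat_lit 0x50fbced))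 (.leaf (nat_lit 0x60fb631)))) (.node 2 (.node 1 (.leaf (nat_lit 0x10fc6b4)) (.leaf (nat_lit 0x10fd751))) (.node 1 (.leaf (nat_lit 0x20fde6b)) (.leaf (nat_lit 0x60fde77)))))) (.node 8 (.node 4 (.node 2 (.node 1 (.leaf (nat_lit 0xfea7e)) (.leaf (nat_lit 0x10fe49d))) (.node 1 (.leaf (nat_lit 0x20fe346)) (.leaf (nat_lit 0x30fe3f0)))) (.node 2 (.node 1 (.leaf (nat_lit 0x40fe9dc)) (.leaf (nat_lit 0x50fe673))) (.node 1 (.leaf (nat_lit 0x30ff5fd)) (.leaf (nat_lit 0x50ff12c))))) (.node 4 (.node 2 (.node 1 (.leaf (nat_lit 0x60ff2c7)) (.leaf (nat_lit 0x610009b))) (.node 1 (.leaf (nat_lit 0x110157b)) (.leaf (nat_lit 0x102122)))) (.node 2 (.node 1 (.leaf (nat_lit 0x110299f)) (.leaf (nat_lit 0x2102abc))) (.node 1 (.leaf (nat_lit 0x310213c)) (.leaf (nat_lit 0x41025c2))))))) (.node 16 (.node 8 (.node 4 (.node 2 (.node 1 (.leaf (nat_lit 0x5102cb6)) (.leaf (nat_lit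 0x1103e7c))) (.node 1 (.leaf (nat_lit 0x2103c65)) (.leaf (nat_lit 0x3103f1d)))) (.node 2 (.node 1 (.leaf (nat_lit 0x41030ff)) (.leaf (nat_lit 0x610322b))) (.node 1 (.leaf (nat_lit 0x1104867)) (.leaf (nat_lit 0x61048c8))))) (.node 4 (.node 2 (.node 1 (.leaf (nat_lit 0x1053e1)) (.leaf (nat_lit 0x2105f8c))) (.node 1 (.leaf (nat_lit 0x4105517)) (.leaf (nat_lit 0x5105cba)))) (.node 2 (.node 1 (.leaf (nat_lit 0x106e3c)) (.leaf (nat_lit 0x3106c3a))) (.node 1 (.leaf (nat_lit 0x6106c24)) (.leaf (nat_lit 0x1075c8)))))) (.node 8 (.node 4 (.node 2 (.node 1 (.leaf (nat_lit 0x10857a)) (.leaf (nat_lit 0x2108e78))) (.node 1 (.leaf (nat_lit 0x3108055)) (.leaf (nat_lit 0x41084e7)))) (.node 2 (.node 1 (.leaf (nat_lit 0x2109da6)) (.leaf (nat_lit 0x31093ea))) (.node 1 (.leaf (nat_lit 0x4109613)) (.leaf (nat_lit 0x51098d1))))) (.node 4 (.node 2 (.node 1 (.leaf (nat_lit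 0x6109b64)) (.leaf (nat_lit 0x10a693))) (.node 1 (.leaf (nat_lit 0x310a312)) (.leaf (nat_lit 0x510abd8)))) (.node 2 (.node 1 (.leaf (nat_lit 0x610acb2)) (.leaf (nat_lit 0x110b01c))) (.node 1 (.leaf (nat_lit 0x310bf7c)) (.leaf (nat_lit 0x410beb7))))))))))

/-- A part of `orbAll`. -/
def orbAll_4 : Tree := (.node 128 (.node 64 (.node 32 (.node 16 (.node 8 (.node 4 (.node 2 (.node 1 (.leaf (nat_lit 0x610bb62)) (.leaf (nat_lit 0x110c523))) (.node 1 (.leaf (nat_lit 0x210c0c6)) (.leaf (nat_lit 0x610c109)))) (.node 2 (.node 1 (.leaf (nat_lit 0x110d0eb)) (.leaf (nat_lit 0x210de34))) (.node 1 (.leaf (nat_lit 0x310d0a0)) (.leaf (nat_lit 0x410d13a))))) (.node 4 (.node 2 (.node 1 (.leaf (nat_lit 0x510d048)) (.leaf (nat_lit 0x10e9b7))) (.node 1 (.leaf (nat_lit 0x210e00f)) (.leaf (nat_lit 0x310e3a2)))) (.node 2 (.node 1 (.leaf (nat_lit 0x410e566)) (.leaf (nat_lit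 0x510e223))) (.node 1 (.leaf (nat_lit 0x610ee72)) (.leaf (nat_lit 0x10f590)))))) (.node 8 (.node 4 (.node 2 (.node 1 (.leaf (nat_lit 0x610fe85)) (.leaf (nat_lit 0x11103f9))) (.node 1 (.leaf (nat_lit 0x211004a)) (.leaf (nat_lit 0x61111b0)))) (.node 2 (.node 1 (.leaf (nat_lit 0x112780)) (.leaf (nat_lit 0x1112ba9))) (.node 1 (.leaf (nat_lit 0x2112064)) (.leaf (nat_lit 0x3112ae6))))) (.node 4 (.node 2 (.node 1 (.leaf (nat_lit 0x4112c41)) (.leaf (nat_lit 0x51120c9))) (.node 1 (.leaf (nat_lit 0x21133c9)) (.leaf (nat_lit 0x6113804)))) (.node 2 (.node 1 (.leaf (nat_lit 0x61149b2)) (.leaf (nat_lit 0x11559c))) (.node 1 (.leaf (nat_lit 0x31151ec)) (.leaf (nat_lit 0x5115764))))))) (.node 16 (.node 8 (.node 4 (.node 2 (.node 1 (.leaf (nat_lit 0x61153f5)) (.leaf (nat_lit 0x116776))) (.node 1 (.leaf (nat_lit 0x1176e7)) (.leaf (nat_lit 0x1117856)))) (.node 2 (.node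 1 (.leaf (nat_lit 0x21174dc)) (.leaf (nat_lit 0x3117427))) (.node 1 (.leaf (nat_lit 0x41179bd)) (.leaf (nat_lit 0x51175bd))))) (.node 4 (.node 2 (.node 1 (.leaf (nat_lit 0x211892f)) (.leaf (nat_lit 0x3118758))) (.node 1 (.leaf (nat_lit 0x4118cfd)) (.leaf (nat_lit 0x5118361)))) (.node 2 (.node 1 (.leaf (nat_lit 0x6118f04)) (.leaf (nat_lit 0x2119f17))) (.node 1 (.leaf (nat_lit 0x311911b)) (.leaf (nat_lit 0x41194b4)))))) (.node 8 (.node 4 (.node 2 (.node 1 (.leaf (nat_lit 0x5119e6a)) (.leaf (nat_lit 0x61195e3))) (.node 1 (.leaf (nat_lit 0x11ade4)) (.leaf (nat_lit 0x211aa0f)))) (.node 2 (.node 1 (.leaf (nat_lit 0x311a945)) (.leaf (nat_lit 0x511a39c))) (.node 1 (.leaf (nat_lit 0x611ade1)) (.leaf (nat_lit 0x111b43a))))) (.node 4 (.node 2 (.node 1 (.leaf (nat_lit 0x211b2e6)) (.leaf (nat_lit 0x311bb63))) (.node 1 (.leaf (nat_lit 0x411b872)) (.leaf (nat_lit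 0x611bc83)))) (.node 2 (.node 1 (.leaf (nat_lit 0x11c1f8)) (.leaf (nat_lit 0x311ca3f))) (.node 1 (.leaf (nat_lit 0x611c7d0)) (.leaf (nat_lit 0x111dd12)))))))) (.node 32 (.node 16 (.node 8 (.node 4 (.node 2 (.node 1 (.leaf (nat_lit 0x211d6c9)) (.leaf (nat_lit 0x611df03))) (.node 1 (.leaf (nat_lit 0x211e162)) (.leaf (nat_lit 0x511eb9a)))) (.node 2 (.node 1 (.leaf (nat_lit 0x611ea0b)) (.leaf (nat_lit 0x11f71b))) (.node 1 (.leaf (nat_lit 0x211f9a4)) (.leaf (nat_lit 0x311fcc2))))) (.node 4 (.node 2 (.node 1 (.leaf (nat_lit 0x511f944)) (.leaf (nat_lit 0x11204ae))) (.node 1 (.leaf (nat_lit 0x2120e49)) (.leaf (nat_lit 0x3120b54)))) (.node 2 (.node 1 (.leaf (nat_lit 0x4120819)) (.leaf (nat_lit 0x6120f6f))) (.node 1 (.leaf (nat_lit 0x121b11)) (.leaf (nat_lit 0x3121a47)))))) (.node 8 (.node 4 (.node 2 (.node 1 (.leaf (nat_lit 0x1122b29)) (.leaf (nat_lit 0x2122a88)))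 (.node 1 (.leaf (nat_lit 0x6122f44)) (.leaf (nat_lit 0x123e8c)))) (.node 2 (.node 1 (.leaf (nat_lit 0x1123c49)) (.leaf (nat_lit 0x2123fd8))) (.node 1 (.leaf (nat_lit 0x3123228)) (.leaf (nat_lit 0x412322e))))) (.node 4 (.node 2 (.node 1 (.leaf (nat_lit 0x5123994)) (.leaf (nat_lit 0x1124cb9))) (.node 1 (.leaf (nat_lit 0x12554b)) (.leaf (nat_lit 0x1125861)))) (.node 2 (.node 1 (.leaf (nat_lit 0x212598e)) (.leaf (nat_lit 0x412597c))) (.node 1 (.leaf (nat_lit 0x12678a)) (.leaf (nat_lit 0x3126b45))))))) (.node 16 (.node 8 (.node 4 (.node 2 (.node 1 (.leaf (nat_lit 0x127f5a)) (.leaf (nat_lit 0x1127d3a))) (.node 1 (.leaf (nat_lit 0x212747f)) (.leaf (nat_lit 0x41276bc)))) (.node 2 (.node 1 (.leaf (nat_lit 0x5127a94)) (.leaf (nat_lit 0x212879d))) (.node 1 (.leaf (nat_lit 0x3128f83)) (.leaf (nat_lit 0x4128577))))) (.node 4 (.node 2 (.node 1 (.leaf (nat_lit 0x5128fc9))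 (.leaf (nat_lit 0x61283bc))) (.node 1 (.leaf (nat_lit 0x3129bcc)) (.leaf (nat_lit 0x41295d2)))) (.node 2 (.node 1 (.leaf (nat_lit 0x5129b5f)) (.leaf (nat_lit 0x12a0a2))) (.node 1 (.leaf (nat_lit 0x212a0e7)) (.leaf (nat_lit 0x312a175)))))) (.node 8 (.node 4 (.node 2 (.node 1 (.leaf (nat_lit 0x512a5b8)) (.leaf (nat_lit 0x612a19b))) (.node 1 (.leaf (nat_lit 0x112b8c6)) (.leaf (nat_lit 0x212b036)))) (.node 2 (.node 1 (.leaf (nat_lit 0x312b59e)) (.leaf (nat_lit 0x412b34e))) (.node 1 (.leaf (nat_lit 0x612b203)) (.leaf (nat_lit 0x12c6ab))))) (.node 4 (.node 2 (.node 1 (.leaf (nat_lit 0x312c3e9)) (.leaf (nat_lit 0x612c5f3))) (.node 1 (.leaf (nat_lit 0x112d811)) (.leaf (nat_lit 0x212ddb4)))) (.node 2 (.node 1 (.leaf (nat_lit 0x612d8ab)) (.leaf (nat_lit 0x212ee8a))) (.node 1 (.leaf (nat_lit 0x412e922)) (.leaf (nat_lit 0x512e58e))))))))) (.node 64 (.node 32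 (.node 16 (.node 8 (.node 4 (.node 2 (.node 1 (.leaf (nat_lit 0x12f6c3)) (.leaf (nat_lit 0x512f047))) (.node 1 (.leaf (nat_lit 0x2130053)) (.leaf (nat_lit 0x31304c9)))) (.node 2 (.node 1 (.leaf (nat_lit 0x41305e8)) (.leaf (nat_lit 0x6130ba5))) (.node 1 (.leaf (nat_lit 0x131003)) (.leaf (nat_lit 0x6131ed2))))) (.node 4 (.node 2 (.node 1 (.leaf (nat_lit 0x2132876)) (.leaf (nat_lit 0x6132bdb))) (.node 1 (.leaf (nat_lit 0x133b70)) (.leaf (nat_lit 0x11332d0)))) (.node 2 (.node 1 (.leaf (nat_lit 0x2133eef)) (.leaf (nat_lit 0x31339c1))) (.node 1 (.leaf (nat_lit 0x4133818)) (.leaf (nat_lit 0x513372e)))))) (.node 8 (.node 4 (.node 2 (.node 1 (.leaf (nat_lit 0x1134234)) (.leaf (nat_lit 0x2134421))) (.node 1 (.leaf (nat_lit 0x4134afe)) (.leaf (nat_lit 0x51341d7)))) (.node 2 (.node 1 (.leaf (nat_lit 0x1135a81)) (.leaf (nat_lit 0x2135e3a))) (.node 1 (.leaf (nat_lit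 0x4135413)) (.leaf (nat_lit 0x5135231))))) (.node 4 (.node 2 (.node 1 (.leaf (nat_lit 0x21368b1)) (.leaf (nat_lit 0x3136111))) (.node 1 (.leaf (nat_lit 0x61369fc)) (.leaf (nat_lit 0x13778e)))) (.node 2 (.node 1 (.leaf (nat_lit 0x2137698)) (.leaf (nat_lit 0x3137ab0))) (.node 1 (.leaf (nat_lit 0x4137918)) (.leaf (nat_lit 0x5137efd))))))) (.node 16 (.node 8 (.node 4 (.node 2 (.node 1 (.leaf (nat_lit 0x213881d)) (.leaf (nat_lit 0x51381e5))) (.node 1 (.leaf (nat_lit 0x6138be5)) (.leaf (nat_lit 0x2139dfa)))) (.node 2 (.node 1 (.leaf (nat_lit 0x313957d)) (.leaf (nat_lit 0x4139b03))) (.node 1 (.leaf (nat_lit 0x61391c3)) (.leaf (nat_lit 0x13ac93))))) (.node 4 (.node 2 (.node 1 (.leaf (nat_lit 0x313a580)) (.leaf (nat_lit 0x613abef))) (.node 1 (.leaf (nat_lit 0x113b9db)) (.leaf (nat_lit 0x213b383)))) (.node 2 (.node 1 (.leaf (nat_lit 0x613b180)) (.leaf (nat_lit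 0x113c578))) (.node 1 (.leaf (nat_lit 0x413c0ed)) (.leaf (nat_lit 0x613c06f)))))) (.node 8 (.node 4 (.node 2 (.node 1 (.leaf (nat_lit 0x13d931)) (.leaf (nat_lit 0x313de35))) (.node 1 (.leaf (nat_lit 0x413d951)) (.leaf (nat_lit 0x513d034)))) (.node 2 (.node 1 (.leaf (nat_lit 0x13e464)) (.leaf (nat_lit 0x213edf6))) (.node 1 (.leaf (nat_lit 0x513e630)) (.leaf (nat_lit 0x613e151))))) (.node 4 (.node 2 (.node 1 (.leaf (nat_lit 0x113f738)) (.leaf (nat_lit 0x213f701))) (.node 1 (.leaf (nat_lit 0x313fa17)) (.leaf (nat_lit 0x413fec6)))) (.node 2 (.node 1 (.leaf (nat_lit 0x613f883)) (.leaf (nat_lit 0x14091c))) (.node 1 (.leaf (nat_lit 0x31404ec)) (.leaf (nat_lit 0x614037e)))))))) (.node 32 (.node 16 (.node 8 (.node 4 (.node 2 (.node 1 (.leaf (nat_lit 0x21414ee)) (.leaf (nat_lit 0x61414a9))) (.node 1 (.leaf (nat_lit 0x21423d8)) (.leaf (nat_lit 0x3142afd))))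 (.node 2 (.node 1 (.leaf (nat_lit 0x4142736)) (.leaf (nat_lit 0x5142543))) (.node 1 (.leaf (nat_lit 0x6142b4a)) (.leaf (nat_lit 0x3143328))))) (.node 4 (.node 2 (.node 1 (.leaf (nat_lit 0x4143a38)) (.leaf (nat_lit 0x6143ed9))) (.node 1 (.leaf (nat_lit 0x11441f7)) (.leaf (nat_lit 0x6144965)))) (.node 2 (.node 1 (.leaf (nat_lit 0x1459eb)) (.leaf (nat_lit 0x114567b))) (.node 1 (.leaf (nat_lit 0x31454c2)) (.leaf (nat_lit 0x41454d8)))))) (.node 8 (.node 4 (.node 2 (.node 1 (.leaf (nat_lit 0x5145291)) (.leaf (nat_lit 0x41466e3))) (.node 1 (.leaf (nat_lit 0x21470ce)) (.leaf (nat_lit 0x31474a5)))) (.node 2 (.node 1 (.leaf (nat_lit 0x4147489)) (.leaf (nat_lit 0x514784c))) (.node 1 (.leaf (nat_lit 0x6147d81)) (.leaf (nat_lit 0x148843))))) (.node 4 (.node 2 (.node 1 (.leaf (nat_lit 0x51480ad)) (.leaf (nat_lit 0x61480ef))) (.node 1 (.leaf (nat_lit 0x6149cdf))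 (.leaf (nat_lit 0x314acc1)))) (.node 2 (.node 1 (.leaf (nat_lit 0x614a761)) (.leaf (nat_lit 0x14bdbd))) (.node 1 (.leaf (nat_lit 0x314b797)) (.leaf (nat_lit 0x514b6f7))))))) (.node 16 (.node 8 (.node 4 (.node 2 (.node 1 (.leaf (nat_lit 0x614b9e9)) (.leaf (nat_lit 0x114c313))) (.node 1 (.leaf (nat_lit 0x314cc4b)) (.leaf (nat_lit 0x414c2fa)))) (.node 2 (.node 1 (.leaf (nat_lit 0x614c2e8)) (.leaf (nat_lit 0x114d6ad))) (.node 1 (.leaf (nat_lit 0x214ddd1)) (.leaf (nat_lit 0x614de0f))))) (.node 4 (.node 2 (.node 1 (.leaf (nat_lit 0x14ebc8)) (.leaf (nat_lit 0x114eeca))) (.node 1 (.leaf (nat_lit 0x214e9f0)) (.leaf (nat_lit 0x314eea4)))) (.node 2 (.node 1 (.leaf (nat_lit 0x414eec9)) (.leaf (nat_lit 0x214f428))) (.node 1 (.leaf (nat_lit 0x314fab7)) (.leaf (nat_lit 0x414f6fa)))))) (.node 8 (.node 4 (.node 2 (.node 1 (.leaf (nat_lit 0x514f267)) (.leaf (nat_lit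 0x614fd74))) (.node 1 (.leaf (nat_lit 0x15021e)) (.leaf (nat_lit 0x21501f9)))) (.node 2 (.node 1 (.leaf (nat_lit 0x315068f)) (.leaf (nat_lit 0x615091d))) (.node 1 (.leaf (nat_lit 0x115165e)) (.leaf (nat_lit 0x2151043))))) (.node 4 (.node 2 (.node 1 (.leaf (nat_lit 0x4151075)) (.leaf (nat_lit 0x61516b3))) (.node 1 (.leaf (nat_lit 0x61524ab)) (.leaf (nat_lit 0x1153d4e)))) (.node 2 (.node 1 (.leaf (nat_lit 0x2153a21)) (.leaf (nat_lit 0x6153068))) (.node 1 (.leaf (nat_lit 0x154b55)) (.leaf (nat_lit 0x11540d8))))))))))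

/-- A part of `orbAll`. -/
def orbAll_5 : Tree := (.node 128 (.node 64 (.node 32 (.node 16 (.node 8 (.node 4 (.node 2 (.node 1 (.leaf (nat_lit 0x2154e42)) (.leaf (nat_lit 0x4154ba1))) (.node 1 (.leaf (nat_lit 0x115596b)) (.leaf (nat_lit 0x2155962)))) (.node 2 (.node 1 (.leaf (nat_lit 0x3155d3c)) (.leaf (nat_lit 0x5155902))) (.node 1 (.leaf (nat_lit 0x51561fa)) (.leaf (nat_lit 0x315717f))))) (.node 4 (.node 2 (.node 1 (.leaf (nat_lit 0x4157431)) (.leaf (nat_lit 0x1158473))) (.node 1 (.leaf (nat_lit 0x61581c2)) (.leaf (nat_lit 0x159eab)))) (.node 2 (.node 1 (.leaf (nat_lit 0x1159440)) (.leaf (nat_lit 0x2159b68))) (.node 1 (.leaf (nat_lit 0x515976e)) (.leaf (nat_lit 0x15a13e)))))) (.node 8 (.node 4 (.node 2 (.node 1 (.leaf (nat_lit 0x315a321)) (.leaf (nat_lit 0x415a6a2))) (.node 1 (.leaf (nat_lit 0x615ba25)) (.leaf (nat_lit 0x215ca6a)))) (.node 2 (.node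 1 (.leaf (nat_lit 0x615c869)) (.leaf (nat_lit 0x15ef35))) (.node 1 (.leaf (nat_lit 0x115ed1b)) (.leaf (nat_lit 0x215e4c0))))) (.node 4 (.node 2 (.node 1 (.leaf (nat_lit 0x315e7c8)) (.leaf (nat_lit 0x415eacf))) (.node 1 (.leaf (nat_lit 0x515efb4)) (.leaf (nat_lit 0x115febb)))) (.node 2 (.node 1 (.leaf (nat_lit 0x615fe93)) (.leaf (nat_lit 0x61602b3))) (.node 1 (.leaf (nat_lit 0x161dbe)) (.leaf (nat_lit 0x1161579))))))) (.node 16 (.node 8 (.node 4 (.node 2 (.node 1 (.leaf (nat_lit 0x216120d)) (.leaf (nat_lit 0x31612f7))) (.node 1 (.leaf (nat_lit 0x41613f1)) (.leaf (nat_lit 0x5161794)))) (.node 2 (.node 1 (.leaf (nat_lit 0x1629e4)) (.leaf (nat_lit 0x216246e))) (.node 1 (.leaf (nat_lit 0x3162bec)) (.leaf (nat_lit 0x51627b5))))) (.node 4 (.node 2 (.node 1 (.leaf (nat_lit 0x616227b)) (.leaf (nat_lit 0x61637dc))) (.node 1 (.leaf (nat_lit 0x164ed7)) (.leaf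 (nat_lit 0x2164462)))) (.node 2 (.node 1 (.leaf (nat_lit 0x3164581)) (.leaf (nat_lit 0x4164848))) (.node 1 (.leaf (nat_lit 0x5165abf)) (.leaf (nat_lit 0x1166150)))))) (.node 8 (.node 4 (.node 2 (.node 1 (.leaf (nat_lit 0x2166b1b)) (.leaf (nat_lit 0x316683a))) (.node 1 (.leaf (nat_lit 0x4166e0e)) (.leaf (nat_lit 0x6166b78)))) (.node 2 (.node 1 (.leaf (nat_lit 0x167479)) (.leaf (nat_lit 0x3167726))) (.node 1 (.leaf (nat_lit 0x616788b)) (.leaf (nat_lit 0x1168ca0))))) (.node 4 (.node 2 (.node 1 (.leaf (nat_lit 0x2168ef5)) (.leaf (nat_lit 0x6168fab))) (.node 1 (.leaf (nat_lit 0x116944a)) (.leaf (nat_lit 0x216939e)))) (.node 2 (.node 1 (.leaf (nat_lit 0x4169c94)) (.leaf (nat_lit 0x51696f9))) (.node 1 (.leaf (nat_lit 0x116ad36)) (.leaf (nat_lit 0x216a716)))))))) (.node 32 (.node 16 (.node 8 (.node 4 (.node 2 (.node 1 (.leaf (nat_lit 0x316a7d6)) (.leaf (nat_lit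 0x416aaf2))) (.node 1 (.leaf (nat_lit 0x516af69)) (.leaf (nat_lit 0x616aa95)))) (.node 2 (.node 1 (.leaf (nat_lit 0x16b12e)) (.leaf (nat_lit 0x516b2e4))) (.node 1 (.leaf (nat_lit 0x616b932)) (.leaf (nat_lit 0x316c688))))) (.node 4 (.node 2 (.node 1 (.leaf (nat_lit 0x416c68b)) (.leaf (nat_lit 0x616cd65))) (.node 1 (.leaf (nat_lit 0x216db58)) (.leaf (nat_lit 0x616d4bf)))) (.node 2 (.node 1 (.leaf (nat_lit 0x16edc1)) (.leaf (nat_lit 0x116e7cd))) (.node 1 (.leaf (nat_lit 0x316e2ca)) (.leaf (nat_lit 0x416e977)))))) (.node 8 (.node 4 (.node 2 (.node 1 (.leaf (nat_lit 0x516ebc0)) (.leaf (nat_lit 0x16f22c))) (.node 1 (.leaf (nat_lit 0x216fea8)) (.leaf (nat_lit 0x316f609)))) (.node 2 (.node 1 (.leaf (nat_lit 0x416f005)) (.leaf (nat_lit 0x516f09a))) (.node 1 (.leaf (nat_lit 0x170510)) (.leaf (nat_lit 0x11710f8))))) (.node 4 (.node 2 (.node 1 (.leaf (nat_lit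 0x21712f4)) (.leaf (nat_lit 0x6171544))) (.node 1 (.leaf (nat_lit 0x172754)) (.leaf (nat_lit 0x173acd)))) (.node 2 (.node 1 (.leaf (nat_lit 0x1173ca3)) (.leaf (nat_lit 0x2173e38))) (.node 1 (.leaf (nat_lit 0x3173247)) (.leaf (nat_lit 0x4173ce8))))))) (.node 16 (.node 8 (.node 4 (.node 2 (.node 1 (.leaf (nat_lit 0x517301f)) (.leaf (nat_lit 0x3174eb8))) (.node 1 (.leaf (nat_lit 0x617454e)) (.leaf (nat_lit 0x11755db)))) (.node 2 (.node 1 (.leaf (nat_lit 0x176ce3)) (.leaf (nat_lit 0x2176d7a))) (.node 1 (.leaf (nat_lit 0x3176199)) (.leaf (nat_lit 0x41767ac))))) (.node 4 (.node 2 (.node 1 (.leaf (nat_lit 0x5176f7b)) (.leaf (nat_lit 0x177490))) (.node 1 (.leaf (nat_lit 0x2177d67)) (.leaf (nat_lit 0x3177322)))) (.node 2 (.node 1 (.leaf (nat_lit 0x5177788)) (.leaf (nat_lit 0x178e20))) (.node 1 (.leaf (nat_lit 0x61780f5)) (.leaf (nat_lit 0x179fcd)))))) (.node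 8 (.node 4 (.node 2 (.node 1 (.leaf (nat_lit 0x217977d)) (.leaf (nat_lit 0x3179280))) (.node 1 (.leaf (nat_lit 0x5179d9f)) (.leaf (nat_lit 0x217aea3)))) (.node 2 (.node 1 (.leaf (nat_lit 0x417a70c)) (.leaf (nat_lit 0x517a500))) (.node 1 (.leaf (nat_lit 0x617a46f)) (.leaf (nat_lit 0x17bf62))))) (.node 4 (.node 2 (.node 1 (.leaf (nat_lit 0x317b713)) (.leaf (nat_lit 0x517b306))) (.node 1 (.leaf (nat_lit 0x617b4e3)) (.leaf (nat_lit 0x217c47d)))) (.node 2 (.node 1 (.leaf (nat_lit 0x617c388)) (.leaf (nat_lit 0x17d430))) (.node 1 (.leaf (nat_lit 0x317d78b)) (.leaf (nat_lit 0x617d2eb))))))))) (.node 64 (.node 32 (.node 16 (.node 8 (.node 4 (.node 2 (.node 1 (.leaf (nat_lit 0x217e2d8)) (.leaf (nat_lit 0x617e6ba))) (.node 1 (.leaf (nat_lit 0x17fa4f)) (.leaf (nat_lit 0x117fc2f)))) (.node 2 (.node 1 (.leaf (nat_lit 0x217fb1e)) (.leaf (nat_lit 0x317f007))) (.node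 1 (.leaf (nat_lit 0x18114a)) (.leaf (nat_lit 0x1181331))))) (.node 4 (.node 2 (.node 1 (.leaf (nat_lit 0x2181edb)) (.leaf (nat_lit 0x31814c6))) (.node 1 (.leaf (nat_lit 0x4181704)) (.leaf (nat_lit 0x5181c3e)))) (.node 2 (.node 1 (.leaf (nat_lit 0x18213b)) (.leaf (nat_lit 0x51828c2))) (.node 1 (.leaf (nat_lit 0x6182863)) (.leaf (nat_lit 0x1183d6c)))))) (.node 8 (.node 4 (.node 2 (.node 1 (.leaf (nat_lit 0x218381b)) (.leaf (nat_lit 0x3183cf0))) (.node 1 (.leaf (nat_lit 0x41832de)) (.leaf (nat_lit 0x1184273)))) (.node 2 (.node 1 (.leaf (nat_lit 0x2184bb6)) (.leaf (nat_lit 0x3184b32))) (.node 1 (.leaf (nat_lit 0x4184236)) (.leaf (nat_lit 0x51841b7))))) (.node 4 (.node 2 (.node 1 (.leaf (nat_lit 0x185561)) (.leaf (nat_lit 0x3185c6a))) (.node 1 (.leaf (nat_lit 0x5185d45)) (.leaf (nat_lit 0x186cd0)))) (.node 2 (.node 1 (.leaf (nat_lit 0x6186ca4)) (.leaf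 (nat_lit 0x31878e7))) (.node 1 (.leaf (nat_lit 0x188896)) (.leaf (nat_lit 0x3188d22))))))) (.node 16 (.node 8 (.node 4 (.node 2 (.node 1 (.leaf (nat_lit 0x1189d4f)) (.leaf (nat_lit 0x61897df))) (.node 1 (.leaf (nat_lit 0x318a4d5)) (.leaf (nat_lit 0x518a823)))) (.node 2 (.node 1 (.leaf (nat_lit 0x618aa37)) (.leaf (nat_lit 0x218b68a))) (.node 1 (.leaf (nat_lit 0x318bf5b)) (.leaf (nat_lit 0x418bf49))))) (.node 4 (.node 2 (.node 1 (.leaf (nat_lit 0x618ba5c)) (.leaf (nat_lit 0x318c436))) (.node 1 (.leaf (nat_lit 0x618c5e2)) (.leaf (nat_lit 0x218d094)))) (.node 2 (.node 1 (.leaf (nat_lit 0x618d016)) (.leaf (nat_lit 0x18e608))) (.node 1 (.leaf (nat_lit 0x118ebdf)) (.leaf (nat_lit 0x1904a8)))))) (.node 8 (.node 4 (.node 2 (.node 1 (.leaf (nat_lit 0x1190938)) (.leaf (nat_lit 0x2190c4f))) (.node 1 (.leaf (nat_lit 0x3190161)) (.leaf (nat_lit 0x41908bc)))) (.node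 2 (.node 1 (.leaf (nat_lit 0x519097a)) (.leaf (nat_lit 0x191686))) (.node 1 (.leaf (nat_lit 0x1191b37)) (.leaf (nat_lit 0x2191c20))))) (.node 4 (.node 2 (.node 1 (.leaf (nat_lit 0x4191c3d)) (.leaf (nat_lit 0x5191143))) (.node 1 (.leaf (nat_lit 0x119219e)) (.leaf (nat_lit 0x319263a)))) (.node 2 (.node 1 (.leaf (nat_lit 0x193daf)) (.leaf (nat_lit 0x219376a))) (.node 1 (.leaf (nat_lit 0x3193238)) (.leaf (nat_lit 0x5193186)))))))) (.node 32 (.node 16 (.node 8 (.node 4 (.node 2 (.node 1 (.leaf (nat_lit 0x6193567)) (.leaf (nat_lit 0x194ade))) (.node 1 (.leaf (nat_lit 0x2194221)) (.leaf (nat_lit 0x3194eb3)))) (.node 2 (.node 1 (.leaf (nat_lit 0x2195cd8)) (.leaf (nat_lit 0x3195e51))) (.node 1 (.leaf (nat_lit 0x196abd)) (.leaf (nat_lit 0x319623f))))) (.node 4 (.node 2 (.node 1 (.leaf (nat_lit 0x6196d0d)) (.leaf (nat_lit 0x219793a))) (.node 1 (.leaf (nat_lit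 0x619764e)) (.leaf (nat_lit 0x21981c7)))) (.node 2 (.node 1 (.leaf (nat_lit 0x31985c7)) (.leaf (nat_lit 0x41988b6))) (.node 1 (.leaf (nat_lit 0x1990b3)) (.leaf (nat_lit 0x31990b2)))))) (.node 8 (.node 4 (.node 2 (.node 1 (.leaf (nat_lit 0x519991e)) (.leaf (nat_lit 0x6199a5d))) (.node 1 (.leaf (nat_lit 0x119afa8)) (.leaf (nat_lit 0x319aceb)))) (.node 2 (.node 1 (.leaf (nat_lit 0x419af0b)) (.leaf (nat_lit 0x119bfd1))) (.node 1 (.leaf (nat_lit 0x219bdda)) (.leaf (nat_lit 0x619b80a))))) (.node 4 (.node 2 (.node 1 (.leaf (nat_lit 0x19cd4d)) (.leaf (nat_lit 0x119c8a5))) (.node 1 (.leaf (nat_lit 0x419cb6d)) (.leaf (nat_lit 0x519c0d4)))) (.node 2 (.node 1 (.leaf (nat_lit 0x119d687)) (.leaf (nat_lit 0x219d602))) (.node 1 (.leaf (nat_lit 0x19ec9f)) (.leaf (nat_lit 0x119e625))))))) (.node 16 (.node 8 (.node 4 (.node 2 (.node 1 (.leaf (nat_lit 0x219ebff)) (.leaf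 (nat_lit 0x319ec5a))) (.node 1 (.leaf (nat_lit 0x419e089)) (.leaf (nat_lit 0x519e057)))) (.node 2 (.node 1 (.leaf (nat_lit 0x319f0c1)) (.leaf (nat_lit 0x519f806))) (.node 1 (.leaf (nat_lit 0x619f3b6)) (.leaf (nat_lit 0x21a0e10))))) (.node 4 (.node 2 (.node 1 (.leaf (nat_lit 0x31a05e1)) (.leaf (nat_lit 0x41a0432))) (.node 1 (.leaf (nat_lit 0x51a0b7c)) (.leaf (nat_lit 0x1a1b1a)))) (.node 2 (.node 1 (.leaf (nat_lit 0x21a1fc7)) (.leaf (nat_lit 0x31a1711))) (.node 1 (.leaf (nat_lit 0x51a1682)) (.leaf (nat_lit 0x61a1ad6)))))) (.node 8 (.node 4 (.node 2 (.node 1 (.leaf (nat_lit 0x21a2733)) (.leaf (nat_lit 0x31a20d1))) (.node 1 (.leaf (nat_lit 0x41a265d)) (.leaf (nat_lit 0x61a2011)))) (.node 2 (.node 1 (.leaf (nat_lit 0x1a3c64)) (.leaf (nat_lit 0x31a3fd2))) (.node 1 (.leaf (nat_lit 0x61a390c)) (.leaf (nat_lit 0x11a4603))))) (.node 4 (.node 2 (.node 1 (.leaf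 (nat_lit 0x61a4a50)) (.leaf (nat_lit 0x1a54ed))) (.node 1 (.leaf (nat_lit 0x21a5d50)) (.leaf (nat_lit 0x31a5755)))) (.node 2 (.node 1 (.leaf (nat_lit 0x51a5536)) (.leaf (nat_lit 0x61a536b))) (.node 1 (.leaf (nat_lit 0x1a6bc2)) (.leaf (nat_lit 0x31a627c))))))))))

/-- A part of `orbAll`. -/
def orbAll_6 : Tree := (.node 128 (.node 64 (.node 32 (.node 16 (.node 8 (.node 4 (.node 2 (.node 1 (.leaf (nat_lit 0x51a605e)) (.leaf (nat_lit 0x61a645a))) (.node 1 (.leaf (nat_lit 0x11a7c67)) (.leaf (nat_lit 0x21a7c48)))) (.node 2 (.node 1 (.leaf (nat_lit 0x61a77e5)) (.leaf (nat_lit 0x1a86ec))) (.node 1 (.leaf (nat_lit 0x21a8b53)) (.leaf (nat_lit 0x31a8118))))) (.node 4 (.node 2 (.node 1 (.leaf (nat_lit 0x41a84b7)) (.leaf (nat_lit 0x51a888e))) (.node 1 (.leaf (nat_lit 0x31a91cd)) (.leaf (nat_lit 0x41a98a6)))) (.node 2 (.node 1 (.leaf (nat_lit 0x51a92fe)) (.leaf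 (nat_lit 0x61a94aa))) (.node 1 (.leaf (nat_lit 0x1aa981)) (.leaf (nat_lit 0x31aaf72)))))) (.node 8 (.node 4 (.node 2 (.node 1 (.leaf (nat_lit 0x51aa3f7)) (.leaf (nat_lit 0x61aa8a0))) (.node 1 (.leaf (nat_lit 0x11ab10d)) (.leaf (nat_lit 0x21abcd6)))) (.node 2 (.node 1 (.leaf (nat_lit 0x31ab107)) (.leaf (nat_lit 0x41aba85))) (.node 1 (.leaf (nat_lit 0x1ac050)) (.leaf (nat_lit 0x31accbd))))) (.node 4 (.node 2 (.node 1 (.leaf (nat_lit 0x11add30)) (.leaf (nat_lit 0x61ad3f4))) (.node 1 (.leaf (nat_lit 0x11aeb38)) (.leaf (nat_lit 0x21aed33)))) (.node 2 (.node 1 (.leaf (nat_lit 0x31ae940)) (.leaf (nat_lit 0x41ae0a6))) (.node 1 (.leaf (nat_lit 0x51ae9e5)) (.leaf (nat_lit 0x61ae790))))))) (.node 16 (.node 8 (.node 4 (.node 2 (.node 1 (.leaf (nat_lit 0x31af946)) (.leaf (nat_lit 0x51affbe))) (.node 1 (.leaf (nat_lit 0x61af80b)) (.leaf (nat_lit 0x11b02d9)))) (.node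 2 (.node 1 (.leaf (nat_lit 0x31b046a)) (.leaf (nat_lit 0x41b0919))) (.node 1 (.leaf (nat_lit 0x11b1842)) (.leaf (nat_lit 0x21b29f8))))) (.node 4 (.node 2 (.node 1 (.leaf (nat_lit 0x31b22b1)) (.leaf (nat_lit 0x51b263c))) (.node 1 (.leaf (nat_lit 0x1b3add)) (.leaf (nat_lit 0x11b44b1)))) (.node 2 (.node 1 (.leaf (nat_lit 0x21b421d)) (.leaf (nat_lit 0x61b464a))) (.node 1 (.leaf (nat_lit 0x1b518a)) (.leaf (nat_lit 0x1b6fa3)))))) (.node 8 (.node 4 (.node 2 (.node 1 (.leaf (nat_lit 0x11b6534)) (.leaf (nat_lit 0x11b76f8))) (.node 1 (.leaf (nat_lit 0x21b7dc7)) (.leaf (nat_lit 0x31b73e3)))) (.node 2 (.node 1 (.leaf (nat_lit 0x41b7a3e)) (.leaf (nat_lit 0x61b7dfe))) (.node 1 (.leaf (nat_lit 0x11b8f5d)) (.leaf (nat_lit 0x61b80da))))) (.node 4 (.node 2 (.node 1 (.leaf (nat_lit 0x1b9841)) (.leaf (nat_lit 0x11b979b))) (.node 1 (.leaf (nat_lit 0x21b9324)) (.leaf (nat_lit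 0x31b9fd3)))) (.node 2 (.node 1 (.leaf (nat_lit 0x51b9f1a)) (.leaf (nat_lit 0x1bab6e))) (.node 1 (.leaf (nat_lit 0x21bad95)) (.leaf (nat_lit 0x51baab6)))))))) (.node 32 (.node 16 (.node 8 (.node 4 (.node 2 (.node 1 (.leaf (nat_lit 0x61ba782)) (.leaf (nat_lit 0x1bb1a0))) (.node 1 (.leaf (nat_lit 0x1bc22a)) (.leaf (nat_lit 0x21bcb47)))) (.node 2 (.node 1 (.leaf (nat_lit 0x31bc989)) (.leaf (nat_lit 0x41bc94e))) (.node 1 (.leaf (nat_lit 0x51bc0d3)) (.leaf (nat_lit 0x1bd190))))) (.node 4 (.node 2 (.node 1 (.leaf (nat_lit 0x21bdad0)) (.leaf (nat_lit 0x31bd637))) (.node 1 (.leaf (nat_lit 0x51bd6c0)) (.leaf (nat_lit 0x61bdf23)))) (.node 2 (.node 1 (.leaf (nat_lit 0x11be264)) (.leaf (nat_lit 0x21bebc6))) (.node 1 (.leaf (nat_lit 0x31be425)) (.leaf (nat_lit 0x41bebdc)))))) (.node 8 (.node 4 (.node 2 (.node 1 (.leaf (nat_lit 0x61bf2ee)) (.leaf (nat_lit 0x11c01ad)))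 (.node 1 (.leaf (nat_lit 0x21c05da)) (.leaf (nat_lit 0x11c16aa)))) (.node 2 (.node 1 (.leaf (nat_lit 0x21c198f)) (.leaf (nat_lit 0x41c1ed5))) (.node 1 (.leaf (nat_lit 0x11c2b18)) (.leaf (nat_lit 0x31c2f27))))) (.node 4 (.node 2 (.node 1 (.leaf (nat_lit 0x41c2775)) (.leaf (nat_lit 0x61c2f91))) (.node 1 (.leaf (nat_lit 0x41c3b7a)) (.leaf (nat_lit 0x61c3012)))) (.node 2 (.node 1 (.leaf (nat_lit 0x1c57c6)) (.leaf (nat_lit 0x21c5e06))) (.node 1 (.leaf (nat_lit 0x41c551e)) (.leaf (nat_lit 0x51c5dd3))))))) (.node 16 (.node 8 (.node 4 (.node 2 (.node 1 (.leaf (nat_lit 0x1c70b9)) (.leaf (nat_lit 0x11c8b26))) (.node 1 (.leaf (nat_lit 0x21c8130)) (.leaf (nat_lit 0x61c8cca)))) (.node 2 (.node 1 (.leaf (nat_lit 0x1c9e3f)) (.leaf (nat_lit 0x1ca8df))) (.node 1 (.leaf (nat_lit 0x31cab69)) (.leaf (nat_lit 0x11cb0e0))))) (.node 4 (.node 2 (.node 1 (.leaf (nat_lit 0x21cba5a))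 (.leaf (nat_lit 0x31cb4fc))) (.node 1 (.leaf (nat_lit 0x41cb333)) (.leaf (nat_lit 0x61cbf21)))) (.node 2 (.node 1 (.leaf (nat_lit 0x11ccb8f)) (.leaf (nat_lit 0x61cc7d1))) (.node 1 (.leaf (nat_lit 0x11cd4c5)) (.leaf (nat_lit 0x21cd4e1)))))) (.node 8 (.node 4 (.node 2 (.node 1 (.leaf (nat_lit 0x41cd278)) (.leaf (nat_lit 0x51cdf18))) (.node 1 (.leaf (nat_lit 0x1cee68)) (.leaf (nat_lit 0x21ce612)))) (.node 2 (.node 1 (.leaf (nat_lit 0x61ce8e8)) (.leaf (nat_lit 0x61cfa2e))) (.node 1 (.leaf (nat_lit 0x11d0149)) (.leaf (nat_lit 0x41d04dd))))) (.node 4 (.node 2 (.node 1 (.leaf (nat_lit 0x51d0632)) (.leaf (nat_lit 0x21d1961))) (.node 1 (.leaf (nat_lit 0x61d1c26)) (.leaf (nat_lit 0x1d2bab)))) (.node 2 (.node 1 (.leaf (nat_lit 0x21d2bee)) (.leaf (nat_lit 0x31d281a))) (.node 1 (.leaf (nat_lit 0x41d20f1)) (.leaf (nat_lit 0x61d2d51))))))))) (.node 64 (.node 32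 (.node 16 (.node 8 (.node 4 (.node 2 (.node 1 (.leaf (nat_lit 0x1d35df)) (.leaf (nat_lit 0x21d3679))) (.node 1 (.leaf (nat_lit 0x31d31dc)) (.leaf (nat_lit 0x51d3398)))) (.node 2 (.node 1 (.leaf (nat_lit 0x61d3e0a)) (.leaf (nat_lit 0x21d4e48))) (.node 1 (.leaf (nat_lit 0x61d4bcd)) (.leaf (nat_lit 0x1d5635))))) (.node 4 (.node 2 (.node 1 (.leaf (nat_lit 0x31d53c1)) (.leaf (nat_lit 0x11d6409))) (.node 1 (.leaf (nat_lit 0x21d60ab)) (.leaf (nat_lit 0x61d666d)))) (.node 2 (.node 1 (.leaf (nat_lit 0x31d76a9)) (.leaf (nat_lit 0x41d7831))) (.node 1 (.leaf (nat_lit 0x1d8079)) (.leaf (nat_lit 0x31d8474)))))) (.node 8 (.node 4 (.node 2 (.node 1 (.leaf (nat_lit 0x61d8318)) (.leaf (nat_lit 0x11d9e1f))) (.node 1 (.leaf (nat_lit 0x21d9082)) (.leaf (nat_lit 0x51d9081)))) (.node 2 (.node 1 (.leaf (nat_lit 0x11da160)) (.leaf (nat_lit 0x41da05c))) (.node 1 (.leaf (nat_lit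 0x51daded)) (.leaf (nat_lit 0x1db5ec))))) (.node 4 (.node 2 (.node 1 (.leaf (nat_lit 0x31db4e6)) (.leaf (nat_lit 0x51dbb0c))) (.node 1 (.leaf (nat_lit 0x61dbeb5)) (.leaf (nat_lit 0x1dc721)))) (.node 2 (.node 1 (.leaf (nat_lit 0x31dc903)) (.leaf (nat_lit 0x51dcd03))) (.node 1 (.leaf (nat_lit 0x61dc2e5)) (.leaf (nat_lit 0x11dd7c2))))))) (.node 16 (.node 8 (.node 4 (.node 2 (.node 1 (.leaf (nat_lit 0x31dd5c0)) (.leaf (nat_lit 0x31de9ff))) (.node 1 (.leaf (nat_lit 0x21df1d9)) (.leaf (nat_lit 0x61dfc12)))) (.node 2 (.node 1 (.leaf (nat_lit 0x31e0285)) (.leaf (nat_lit 0x41e0740))) (.node 1 (.leaf (nat_lit 0x61e07ad)) (.leaf (nat_lit 0x1e139f))))) (.node 4 (.node 2 (.node 1 (.leaf (nat_lit 0x31e1a30)) (.leaf (nat_lit 0x51e189a))) (.node 1 (.leaf (nat_lit 0x11e2338)) (.leaf (nat_lit 0x41e23e7)))) (.node 2 (.node 1 (.leaf (nat_lit 0x61e2f2b)) (.leaf (nat_lit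 0x11e3b21))) (.node 1 (.leaf (nat_lit 0x11e4e2a)) (.leaf (nat_lit 0x21e49b1)))))) (.node 8 (.node 4 (.node 2 (.node 1 (.leaf (nat_lit 0x31e4485)) (.leaf (nat_lit 0x41e477f))) (.node 1 (.leaf (nat_lit 0x51e4b6a)) (.leaf (nat_lit 0x11e5706)))) (.node 2 (.node 1 (.leaf (nat_lit 0x21e58c5)) (.leaf (nat_lit 0x21e63dc))) (.node 1 (.leaf (nat_lit 0x31e6b01)) (.leaf (nat_lit 0x51e622d))))) (.node 4 (.node 2 (.node 1 (.leaf (nat_lit 0x21e7d61)) (.leaf (nat_lit 0x31e7049))) (.node 1 (.leaf (nat_lit 0x41e7674)) (.leaf (nat_lit 0x51e71ef)))) (.node 2 (.node 1 (.leaf (nat_lit 0x61e79bf)) (.leaf (nat_lit 0x1e8315))) (.node 1 (.leaf (nat_lit 0x21e81ee)) (.leaf (nat_lit 0x31e8cd9)))))))) (.node 32 (.node 16 (.node 8 (.node 4 (.node 2 (.node 1 (.leaf (nat_lit 0x51e840e)) (.leaf (nat_lit 0x61e848b))) (.node 1 (.leaf (nat_lit 0x11e9ee6)) (.leaf (nat_lit 0x21e9243))))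 (.node 2 (.node 1 (.leaf (nat_lit 0x31e976b)) (.leaf (nat_lit 0x41e9557))) (.node 1 (.leaf (nat_lit 0x61e91b9)) (.leaf (nat_lit 0x1ea513))))) (.node 4 (.node 2 (.node 1 (.leaf (nat_lit 0x31ea8ae)) (.leaf (nat_lit 0x11ebf5f))) (.node 1 (.leaf (nat_lit 0x21eb310)) (.leaf (nat_lit 0x31ec770)))) (.node 2 (.node 1 (.leaf (nat_lit 0x61ec8bb)) (.leaf (nat_lit 0x21ed4c8))) (.node 1 (.leaf (nat_lit 0x41ed3d4)) (.leaf (nat_lit 0x11ee659)))))) (.node 8 (.node 4 (.node 2 (.node 1 (.leaf (nat_lit 0x21eee41)) (.leaf (nat_lit 0x31ee54a))) (.node 1 (.leaf (nat_lit 0x41ee9ba)) (.leaf (nat_lit 0x51ee377)))) (.node 2 (.node 1 (.leaf (nat_lit 0x61eea71)) (.leaf (nat_lit 0x1ef72d))) (.node 1 (.leaf (nat_lit 0x31ef265)) (.leaf (nat_lit 0x41ef417))))) (.node 4 (.node 2 (.node 1 (.leaf (nat_lit 0x51ef402)) (.leaf (nat_lit 0x1f0c34))) (.node 1 (.leaf (nat_lit 0x21f0f99))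 (.leaf (nat_lit 0x31f073c)))) (.node 2 (.node 1 (.leaf (nat_lit 0x51f09be)) (.leaf (nat_lit 0x61f0446))) (.node 1 (.leaf (nat_lit 0x21f142d)) (.leaf (nat_lit 0x31f1a48))))))) (.node 16 (.node 8 (.node 4 (.node 2 (.node 1 (.leaf (nat_lit 0x41f110e)) (.leaf (nat_lit 0x31f255c))) (.node 1 (.leaf (nat_lit 0x61f31be)) (.leaf (nat_lit 0x1f4e26)))) (.node 2 (.node 1 (.leaf (nat_lit 0x21f428a)) (.leaf (nat_lit 0x31f4c66))) (.node 1 (.leaf (nat_lit 0x41f4779)) (.leaf (nat_lit 0x51f42dd))))) (.node 4 (.node 2 (.node 1 (.leaf (nat_lit 0x61f46ea)) (.leaf (nat_lit 0x1f5826))) (.node 1 (.leaf (nat_lit 0x21f563f)) (.leaf (nat_lit 0x31f521b)))) (.node 2 (.node 1 (.leaf (nat_lit 0x51f53dd)) (.leaf (nat_lit 0x11f62d6))) (.node 1 (.leaf (nat_lit 0x21f61e2)) (.leaf (nat_lit 0x31f61a7)))))) (.node 8 (.node 4 (.node 2 (.node 1 (.leaf (nat_lit 0x41f6032)) (.leaf (nat_lit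 0x1f7a93))) (.node 1 (.leaf (nat_lit 0x31f79ad)) (.leaf (nat_lit 0x21f8410)))) (.node 2 (.node 1 (.leaf (nat_lit 0x61f87f3)) (.leaf (nat_lit 0x1f979e))) (.node 1 (.leaf (nat_lit 0x31f9121)) (.leaf (nat_lit 0x41f98fb))))) (.node 4 (.node 2 (.node 1 (.leaf (nat_lit 0x51f9be8)) (.leaf (nat_lit 0x21fad7b))) (.node 1 (.leaf (nat_lit 0x51fad83)) (.leaf (nat_lit 0x61fab06)))) (.node 2 (.node 1 (.leaf (nat_lit 0x1fbbca)) (.leaf (nat_lit 0x21fbb9c))) (.node 1 (.leaf (nat_lit 0x31fb5fc)) (.leaf (nat_lit 0x51fbdc3))))))))))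

/-- A part of `orbAll`. -/
def orbAll_7 : Tree := (.node 128 (.node 64 (.node 32 (.node 16 (.node 8 (.node 4 (.node 2 (.node 1 (.leaf (nat_lit 0x61fb850)) (.leaf (nat_lit 0x11fc593))) (.node 1 (.leaf (nat_lit 0x21fcd88)) (.leaf (nat_lit 0x31fcbb5)))) (.node 2 (.node 1 (.leaf (nat_lit 0x41fc67e)) (.leaf (nat_lit 0x61fc882))) (.node 1 (.leaf (nat_lit 0x1fd1cc)) (.leaf (nat_lit 0x31fd41f))))) (.node 4 (.node 2 (.node 1 (.leaf (nat_lit 0x11fee92)) (.leaf (nat_lit 0x11ff502))) (.node 1 (.leaf (nat_lit 0x1200adf)) (.leaf (nat_lit 0x3200d77)))) (.node 2 (.node 1 (.leaf (nat_lit 0x4200d68)) (.leaf (nat_lit 0x201c81))) (.node 1 (.leaf (nat_lit 0x3201d5a)) (.leaf (nat_lit 0x520178f)))))) (.node 8 (.node 4 (.node 2 (.node 1 (.leaf (nat_lit 0x3202b4f)) (.leaf (nat_lit 0x1203166))) (.node 1 (.leaf (nat_lit 0x2203854)) (.leaf (nat_lit 0x6203e9d)))) (.node 2 (.node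 1 (.leaf (nat_lit 0x20493f)) (.leaf (nat_lit 0x2204ebf))) (.node 1 (.leaf (nat_lit 0x32041b2)) (.leaf (nat_lit 0x4205b52))))) (.node 4 (.node 2 (.node 1 (.leaf (nat_lit 0x5205681)) (.leaf (nat_lit 0x2061e1))) (.node 1 (.leaf (nat_lit 0x6206585)) (.leaf (nat_lit 0x22073ef)))) (.node 2 (.node 1 (.leaf (nat_lit 0x6207165)) (.leaf (nat_lit 0x208511))) (.node 1 (.leaf (nat_lit 0x1209249)) (.leaf (nat_lit 0x22092ba))))))) (.node 16 (.node 8 (.node 4 (.node 2 (.node 1 (.leaf (nat_lit 0x3209f2a)) (.leaf (nat_lit 0x4209920))) (.node 1 (.leaf (nat_lit 0x52092a1)) (.leaf (nat_lit 0x120ae02)))) (.node 2 (.node 1 (.leaf (nat_lit 0x320ab79)) (.leaf (nat_lit 0x120ba28))) (.node 1 (.leaf (nat_lit 0x220c8a8)) (.leaf (nat_lit 0x320ca5e))))) (.node 4 (.node 2 (.node 1 (.leaf (nat_lit 0x420c5b9)) (.leaf (nat_lit 0x520c8eb))) (.node 1 (.leaf (nat_lit 0x20d250)) (.leaf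 (nat_lit 0x620db4e)))) (.node 2 (.node 1 (.leaf (nat_lit 0x20ea91)) (.leaf (nat_lit 0x620e8d5))) (.node 1 (.leaf (nat_lit 0x20f49f)) (.leaf (nat_lit 0x120fbaf)))))) (.node 8 (.node 4 (.node 2 (.node 1 (.leaf (nat_lit 0x220f7e2)) (.leaf (nat_lit 0x420fdec))) (.node 1 (.leaf (nat_lit 0x1210f8a)) (.leaf (nat_lit 0x2210ccb)))) (.node 2 (.node 1 (.leaf (nat_lit 0x4210bfc)) (.leaf (nat_lit 0x5210f4f))) (.node 1 (.leaf (nat_lit 0x621070f)) (.leaf (nat_lit 0x1211329))))) (.node 4 (.node 2 (.node 1 (.leaf (nat_lit 0x6211a59)) (.leaf (nat_lit 0x212995))) (.node 1 (.leaf (nat_lit 0x1212f4d)) (.leaf (nat_lit 0x22124af)))) (.node 2 (.node 1 (.leaf (nat_lit 0x3212601)) (.leaf (nat_lit 0x4212df5))) (.node 1 (.leaf (nat_lit 0x52127a8)) (.leaf (nat_lit 0x321388d)))))))) (.node 32 (.node 16 (.node 8 (.node 4 (.node 2 (.node 1 (.leaf (nat_lit 0x4213fc4)) (.leaf (nat_lit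 0x6213a1b))) (.node 1 (.leaf (nat_lit 0x214935)) (.leaf (nat_lit 0x6214545)))) (.node 2 (.node 1 (.leaf (nat_lit 0x2155b4)) (.leaf (nat_lit 0x12153b8))) (.node 1 (.leaf (nat_lit 0x3215b59)) (.leaf (nat_lit 0x4215575))))) (.node 4 (.node 2 (.node 1 (.leaf (nat_lit 0x12166ae)) (.leaf (nat_lit 0x321652e))) (.node 1 (.leaf (nat_lit 0x4216a60)) (.leaf (nat_lit 0x6216164)))) (.node 2 (.node 1 (.leaf (nat_lit 0x217206)) (.leaf (nat_lit 0x4217e52))) (.node 1 (.leaf (nat_lit 0x218ae2)) (.leaf (nat_lit 0x3218719)))))) (.node 8 (.node 4 (.node 2 (.node 1 (.leaf (nat_lit 0x521851d)) (.leaf (nat_lit 0x6218cf6))) (.node 1 (.leaf (nat_lit 0x12195f7)) (.leaf (nat_lit 0x221946b)))) (.node 2 (.node 1 (.leaf (nat_lit 0x4219d8e)) (.leaf (nat_lit 0x6219cb0))) (.node 1 (.leaf (nat_lit 0x121b620)) (.leaf (nat_lit 0x121c86e))))) (.node 4 (.node 2 (.node 1 (.leaf (nat_lit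 0x621c792)) (.leaf (nat_lit 0x21df94))) (.node 1 (.leaf (nat_lit 0x221dc0e)) (.leaf (nat_lit 0x421df75)))) (.node 2 (.node 1 (.leaf (nat_lit 0x321e41e)) (.leaf (nat_lit 0x521e1e7))) (.node 1 (.leaf (nat_lit 0x621ef4e)) (.leaf (nat_lit 0x221f855))))))) (.node 16 (.node 8 (.node 4 (.node 2 (.node 1 (.leaf (nat_lit 0x321fec5)) (.leaf (nat_lit 0x421f99a))) (.node 1 (.leaf (nat_lit 0x621f3c5)) (.leaf (nat_lit 0x2220d57)))) (.node 2 (.node 1 (.leaf (nat_lit 0x5220bd5)) (.leaf (nat_lit 0x62209b0))) (.node 1 (.leaf (nat_lit 0x1221d41)) (.leaf (nat_lit 0x3221cf2))))) (.node 4 (.node 2 (.node 1 (.leaf (nat_lit 0x4221979)) (.leaf (nat_lit 0x6221dae))) (.node 1 (.leaf (nat_lit 0x62222a0)) (.leaf (nat_lit 0x1223420)))) (.node 2 (.node 1 (.leaf (nat_lit 0x22232f2)) (.leaf (nat_lit 0x62234e5))) (.node 1 (.leaf (nat_lit 0x224379)) (.leaf (nat_lit 0x2224c61))))))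 (.node 8 (.node 4 (.node 2 (.node 1 (.leaf (nat_lit 0x3224299)) (.leaf (nat_lit 0x52247e7))) (.node 1 (.leaf (nat_lit 0x6224a96)) (.leaf (nat_lit 0x3225b0e)))) (.node 2 (.node 1 (.leaf (nat_lit 0x622540c)) (.leaf (nat_lit 0x1226c80))) (.node 1 (.leaf (nat_lit 0x6226dca)) (.leaf (nat_lit 0x1228b89))))) (.node 4 (.node 2 (.node 1 (.leaf (nat_lit 0x22280e6)) (.leaf (nat_lit 0x6228b91))) (.node 1 (.leaf (nat_lit 0x22967f)) (.leaf (nat_lit 0x1229fdb)))) (.node 2 (.node 1 (.leaf (nat_lit 0x22295a3)) (.leaf (nat_lit 0x3229d2c))) (.node 1 (.leaf (nat_lit 0x42292fb)) (.leaf (nat_lit 0x5229bcf))))))))) (.node 64 (.node 32 (.node 16 (.node 8 (.node 4 (.node 2 (.node 1 (.leaf (nat_lit 0x222ac62)) (.leaf (nat_lit 0x322ad8a))) (.node 1 (.leaf (nat_lit 0x422a33e)) (.leaf (nat_lit 0x622a0f9)))) (.node 2 (.node 1 (.leaf (nat_lit 0x22b482)) (.leaf (nat_lit 0x622bd66)))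 (.node 1 (.leaf (nat_lit 0x122cd32)) (.leaf (nat_lit 0x422c9c4))))) (.node 4 (.node 2 (.node 1 (.leaf (nat_lit 0x622cd0f)) (.leaf (nat_lit 0x22edee))) (.node 1 (.leaf (nat_lit 0x222e982)) (.leaf (nat_lit 0x422e19d)))) (.node 2 (.node 1 (.leaf (nat_lit 0x522ec03)) (.leaf (nat_lit 0x122fd2e))) (.node 1 (.leaf (nat_lit 0x222f343)) (.leaf (nat_lit 0x322fc7a)))))) (.node 8 (.node 4 (.node 2 (.node 1 (.leaf (nat_lit 0x422f193)) (.leaf (nat_lit 0x3230db8))) (.node 1 (.leaf (nat_lit 0x6230c8f)) (.leaf (nat_lit 0x3231024)))) (.node 2 (.node 1 (.leaf (nat_lit 0x623185c)) (.leaf (nat_lit 0x123252a))) (.node 1 (.leaf (nat_lit 0x2232628)) (.leaf (nat_lit 0x233ccd))))) (.node 4 (.node 2 (.node 1 (.leaf (nat_lit 0x12339e3)) (.leaf (nat_lit 0x22333cc))) (.node 1 (.leaf (nat_lit 0x323348e)) (.leaf (nat_lit 0x4233499)))) (.node 2 (.node 1 (.leaf (nat_lit 0x323494f))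 (.leaf (nat_lit 0x42342da))) (.node 1 (.leaf (nat_lit 0x23526b)) (.leaf (nat_lit 0x6235588))))))) (.node 16 (.node 8 (.node 4 (.node 2 (.node 1 (.leaf (nat_lit 0x223696c)) (.leaf (nat_lit 0x623662c))) (.node 1 (.leaf (nat_lit 0x237e50)) (.leaf (nat_lit 0x6237539)))) (.node 2 (.node 1 (.leaf (nat_lit 0x238d7c)) (.leaf (nat_lit 0x223803e))) (.node 1 (.leaf (nat_lit 0x3238be6)) (.leaf (nat_lit 0x52386fb))))) (.node 4 (.node 2 (.node 1 (.leaf (nat_lit 0x22391ea)) (.leaf (nat_lit 0x3239c27))) (.node 1 (.leaf (nat_lit 0x4239baa)) (.leaf (nat_lit 0x623940d)))) (.node 2 (.node 1 (.leaf (nat_lit 0x23b443)) (.leaf (nat_lit 0x423bc71))) (.node 1 (.leaf (nat_lit 0x523ba03)) (.leaf (nat_lit 0x323cd23)))))) (.node 8 (.node 4 (.node 2 (.node 1 (.leaf (nat_lit 0x623cef7)) (.leaf (nat_lit 0x223edd9))) (.node 1 (.leaf (nat_lit 0x123f10b)) (.leaf (nat_lit 0x223f3e4))))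 (.node 2 (.node 1 (.leaf (nat_lit 0x323f7f9)) (.leaf (nat_lit 0x423f19c))) (.node 1 (.leaf (nat_lit 0x240c8e)) (.leaf (nat_lit 0x12410e2))))) (.node 4 (.node 2 (.node 1 (.leaf (nat_lit 0x2241be1)) (.leaf (nat_lit 0x62411e9))) (.node 1 (.leaf (nat_lit 0x24231d)) (.leaf (nat_lit 0x2242ecc)))) (.node 2 (.node 1 (.leaf (nat_lit 0x3242881)) (.leaf (nat_lit 0x4242d05))) (.node 1 (.leaf (nat_lit 0x524205a)) (.leaf (nat_lit 0x52433a4)))))))) (.node 32 (.node 16 (.node 8 (.node 4 (.node 2 (.node 1 (.leaf (nat_lit 0x62430a8)) (.leaf (nat_lit 0x12445e0))) (.node 1 (.leaf (nat_lit 0x4244875)) (.leaf (nat_lit 0x6244eec)))) (.node 2 (.node 1 (.leaf (nat_lit 0x124555d)) (.leaf (nat_lit 0x1246aaf))) (.node 1 (.leaf (nat_lit 0x2246b49)) (.leaf (nat_lit 0x32464cd))))) (.node 4 (.node 2 (.node 1 (.leaf (nat_lit 0x4246c4d)) (.leaf (nat_lit 0x52464f5))) (.node 1 (.leaf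 (nat_lit 0x247d9a)) (.leaf (nat_lit 0x4247ce2)))) (.node 2 (.node 1 (.leaf (nat_lit 0x62487b8)) (.leaf (nat_lit 0x24919f))) (.node 1 (.leaf (nat_lit 0x6249e66)) (.leaf (nat_lit 0x24a237)))))) (.node 8 (.node 4 (.node 2 (.node 1 (.leaf (nat_lit 0x124aea7)) (.leaf (nat_lit 0x224af0e))) (.node 1 (.leaf (nat_lit 0x324abad)) (.leaf (nat_lit 0x424a6a6)))) (.node 2 (.node 1 (.leaf (nat_lit 0x224b441)) (.leaf (nat_lit 0x524bb72))) (.node 1 (.leaf (nat_lit 0x224d422)) (.leaf (nat_lit 0x324d9b9))))) (.node 4 (.node 2 (.node 1 (.leaf (nat_lit 0x524defb)) (.leaf (nat_lit 0x224eb76))) (.node 1 (.leaf (nat_lit 0x24fd18)) (.leaf (nat_lit 0x224ff00)))) (.node 2 (.node 1 (.leaf (nat_lit 0x424faad)) (.leaf (nat_lit 0x524f5cf))) (.node 1 (.leaf (nat_lit 0x624f366)) (.leaf (nat_lit 0x2250f67))))))) (.node 16 (.node 8 (.node 4 (.node 2 (.node 1 (.leaf (nat_lit 0x3250551))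 (.leaf (nat_lit 0x1251157))) (.node 1 (.leaf (nat_lit 0x3251c17)) (.leaf (nat_lit 0x42515d9)))) (.node 2 (.node 1 (.leaf (nat_lit 0x6252114)) (.leaf (nat_lit 0x12532d3))) (.node 1 (.leaf (nat_lit 0x22536e4)) (.leaf (nat_lit 0x6253a8c))))) (.node 4 (.node 2 (.node 1 (.leaf (nat_lit 0x32549cf)) (.leaf (nat_lit 0x425400e))) (.node 1 (.leaf (nat_lit 0x5254abe)) (.leaf (nat_lit 0x6254bd7)))) (.node 2 (.node 1 (.leaf (nat_lit 0x255774)) (.leaf (nat_lit 0x5255c1e))) (.node 1 (.leaf (nat_lit 0x25626e)) (.leaf (nat_lit 0x62566a0)))))) (.node 8 (.node 4 (.node 2 (.node 1 (.leaf (nat_lit 0x2571c9)) (.leaf (nat_lit 0x125758c))) (.node 1 (.leaf (nat_lit 0x225704e)) (.leaf (nat_lit 0x3257e5e)))) (.node 2 (.node 1 (.leaf (nat_lit 0x4257cfe)) (.leaf (nat_lit 0x5257e01))) (.node 1 (.leaf (nat_lit 0x42588dd)) (.leaf (nat_lit 0x5258571))))) (.node 4 (.node 2 (.node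 1 (.leaf (nat_lit 0x6258316)) (.leaf (nat_lit 0x3259d84))) (.node 1 (.leaf (nat_lit 0x4259fb7)) (.leaf (nat_lit 0x5259340)))) (.node 2 (.node 1 (.leaf (nat_lit 0x62590b1)) (.leaf (nat_lit 0x225a360))) (.node 1 (.leaf (nat_lit 0x325a505)) (.leaf (nat_lit 0x425aaec))))))))))

/-- A part of `orbAll`. -/
def orbAll_8 : Tree := (.node 128 (.node 64 (.node 32 (.node 16 (.node 8 (.node 4 (.node 2 (.node 1 (.leaf (nat_lit 0x625b1f3)) (.leaf (nat_lit 0x125cdf8))) (.node 1 (.leaf (nat_lit 0x25d570)) (.leaf (nat_lit 0x625dbac)))) (.node 2 (.node 1 (.leaf (nat_lit 0x125e263)) (.leaf (nat_lit 0x425eb0a))) (.node 1 (.leaf (nat_lit 0x625ec2b)) (.leaf (nat_lit 0x125f96a))))) (.node 4 (.node 2 (.node 1 (.leaf (nat_lit 0x325fd90)) (.leaf (nat_lit 0x425fdf3))) (.node 1 (.leaf (nat_lit 0x2260926)) (.leaf (nat_lit 0x62604a7)))) (.node 2 (.node 1 (.leaf (nat_lit 0x1261cd4))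 (.leaf (nat_lit 0x2261334))) (.node 1 (.leaf (nat_lit 0x32611df)) (.leaf (nat_lit 0x4261d1d)))))) (.node 8 (.node 4 (.node 2 (.node 1 (.leaf (nat_lit 0x62629e8)) (.leaf (nat_lit 0x2263354))) (.node 1 (.leaf (nat_lit 0x264966)) (.leaf (nat_lit 0x1264d34)))) (.node 2 (.node 1 (.leaf (nat_lit 0x3264724)) (.leaf (nat_lit 0x5264665))) (.node 1 (.leaf (nat_lit 0x12655fb)) (.leaf (nat_lit 0x326594b))))) (.node 4 (.node 2 (.node 1 (.leaf (nat_lit 0x426551f)) (.leaf (nat_lit 0x5265c14))) (.node 1 (.leaf (nat_lit 0x6265eb9)) (.leaf (nat_lit 0x266791)))) (.node 2 (.node 1 (.leaf (nat_lit 0x3266dd4)) (.leaf (nat_lit 0x6266741))) (.node 1 (.leaf (nat_lit 0x12675b6)) (.leaf (nat_lit 0x3267766))))))) (.node 16 (.node 8 (.node 4 (.node 2 (.node 1 (.leaf (nat_lit 0x426745d)) (.leaf (nat_lit 0x6268dba))) (.node 1 (.leaf (nat_lit 0x226960a)) (.leaf (nat_lit 0x3269718))))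 (.node 2 (.node 1 (.leaf (nat_lit 0x5269295)) (.leaf (nat_lit 0x26a49c))) (.node 1 (.leaf (nat_lit 0x226a248)) (.leaf (nat_lit 0x326ae1b))))) (.node 4 (.node 2 (.node 1 (.leaf (nat_lit 0x626ac57)) (.leaf (nat_lit 0x626bf88))) (.node 1 (.leaf (nat_lit 0x126c640)) (.leaf (nat_lit 0x226c77a)))) (.node 2 (.node 1 (.leaf (nat_lit 0x26d700)) (.leaf (nat_lit 0x626d177))) (.node 1 (.leaf (nat_lit 0x26ef57)) (.leaf (nat_lit 0x126e317)))))) (.node 8 (.node 4 (.node 2 (.node 1 (.leaf (nat_lit 0x226e078)) (.leaf (nat_lit 0x326e795))) (.node 1 (.leaf (nat_lit 0x426ee99)) (.leaf (nat_lit 0x526e173)))) (.node 2 (.node 1 (.leaf (nat_lit 0x126fdd0)) (.leaf (nat_lit 0x426f2db))) (.node 1 (.leaf (nat_lit 0x626f232)) (.leaf (nat_lit 0x1270527))))) (.node 4 (.node 2 (.node 1 (.leaf (nat_lit 0x271f19)) (.leaf (nat_lit 0x32713e6))) (.node 1 (.leaf (nat_lit 0x527107c)) (.leaf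 (nat_lit 0x272f06)))) (.node 2 (.node 1 (.leaf (nat_lit 0x3272edd)) (.leaf (nat_lit 0x6272357))) (.node 1 (.leaf (nat_lit 0x6273d58)) (.leaf (nat_lit 0x3274e2d)))))))) (.node 32 (.node 16 (.node 8 (.node 4 (.node 2 (.node 1 (.leaf (nat_lit 0x276937)) (.leaf (nat_lit 0x1276a86))) (.node 1 (.leaf (nat_lit 0x2276892)) (.leaf (nat_lit 0x4276b00)))) (.node 2 (.node 1 (.leaf (nat_lit 0x1277f63)) (.leaf (nat_lit 0x6277834))) (.node 1 (.leaf (nat_lit 0x278900)) (.leaf (nat_lit 0x2278696))))) (.node 4 (.node 2 (.node 1 (.leaf (nat_lit 0x3278824)) (.leaf (nat_lit 0x27aa2b))) (.node 1 (.leaf (nat_lit 0x227bee3)) (.leaf (nat_lit 0x327b32b)))) (.node 2 (.node 1 (.leaf (nat_lit 0x427b139)) (.leaf (nat_lit 0x527b4e0))) (.node 1 (.leaf (nat_lit 0x627b94c)) (.leaf (nat_lit 0x127d274)))))) (.node 8 (.node 4 (.node 2 (.node 1 (.leaf (nat_lit 0x27e18e)) (.leaf (nat_lit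 0x627eaaa))) (.node 1 (.leaf (nat_lit 0x27fa63)) (.leaf (nat_lit 0x127f25b)))) (.node 2 (.node 1 (.leaf (nat_lit 0x327f284)) (.leaf (nat_lit 0x527fdce))) (.node 1 (.leaf (nat_lit 0x428073a)) (.leaf (nat_lit 0x6281691))))) (.node 4 (.node 2 (.node 1 (.leaf (nat_lit 0x2820fe)) (.leaf (nat_lit 0x22825f9))) (.node 1 (.leaf (nat_lit 0x52822ff)) (.leaf (nat_lit 0x283019)))) (.node 2 (.node 1 (.leaf (nat_lit 0x12844df)) (.leaf (nat_lit 0x62854ef))) (.node 1 (.leaf (nat_lit 0x22861bd)) (.leaf (nat_lit 0x5286ca1))))))) (.node 16 (.node 8 (.node 4 (.node 2 (.node 1 (.leaf (nat_lit 0x2288d6e)) (.leaf (nat_lit 0x32883ff))) (.node 1 (.leaf (nat_lit 0x528835d)) (.leaf (nat_lit 0x628919a)))) (.node 2 (.node 1 (.leaf (nat_lit 0x128acea)) (.leaf (nat_lit 0x228a924))) (.node 1 (.leaf (nat_lit 0x428aad2)) (.leaf (nat_lit 0x28bdf2))))) (.node 4 (.node 2 (.node 1 (.leaf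 (nat_lit 0x328bef0)) (.leaf (nat_lit 0x628bcc0))) (.node 1 (.leaf (nat_lit 0x128c3ee)) (.leaf (nat_lit 0x628c9ef)))) (.node 2 (.node 1 (.leaf (nat_lit 0x328dc53)) (.leaf (nat_lit 0x228fb9b))) (.node 1 (.leaf (nat_lit 0x628f75a)) (.leaf (nat_lit 0x290e46)))))) (.node 8 (.node 4 (.node 2 (.node 1 (.leaf (nat_lit 0x2290658)) (.leaf (nat_lit 0x32900c5))) (.node 1 (.leaf (nat_lit 0x5290b09)) (.leaf (nat_lit 0x629161d)))) (.node 2 (.node 1 (.leaf (nat_lit 0x1292d76)) (.leaf (nat_lit 0x52923c0))) (.node 1 (.leaf (nat_lit 0x6293014)) (.leaf (nat_lit 0x1295df9))))) (.node 4 (.node 2 (.node 1 (.leaf (nat_lit 0x1296f08)) (.leaf (nat_lit 0x2296b48))) (.node 1 (.leaf (nat_lit 0x3296909)) (.leaf (nat_lit 0x42965c1)))) (.node 2 (.node 1 (.leaf (nat_lit 0x297457)) (.leaf (nat_lit 0x22979ca))) (.node 1 (.leaf (nat_lit 0x3297825)) (.leaf (nat_lit 0x5297638)))))))))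 (.node 64 (.node 32 (.node 16 (.node 8 (.node 4 (.node 2 (.node 1 (.leaf (nat_lit 0x6297591)) (.leaf (nat_lit 0x229857f))) (.node 1 (.leaf (nat_lit 0x1299a24)) (.leaf (nat_lit 0x22994f6)))) (.node 2 (.node 1 (.leaf (nat_lit 0x4299f60)) (.leaf (nat_lit 0x629a84a))) (.node 1 (.leaf (nat_lit 0x329b6cf)) (.leaf (nat_lit 0x429bb7f))))) (.node 4 (.node 2 (.node 1 (.leaf (nat_lit 0x629c759)) (.leaf (nat_lit 0x29d369))) (.node 1 (.leaf (nat_lit 0x129eab9)) (.leaf (nat_lit 0x329ea89)))) (.node 2 (.node 1 (.leaf (nat_lit 0x429e4db)) (.leaf (nat_lit 0x529efd9))) (.node 1 (.leaf (nat_lit 0x29f323)) (.leaf (nat_lit 0x229f947)))))) (.node 8 (.node 4 (.node 2 (.node 1 (.leaf (nat_lit 0x529f6e0)) (.leaf (nat_lit 0x42a0476))) (.node 1 (.leaf (nat_lit 0x62a0c1d)) (.leaf (nat_lit 0x22a1b7d)))) (.node 2 (.node 1 (.leaf (nat_lit 0x32a1226)) (.leaf (nat_lit 0x62a1f6b)))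 (.node 1 (.leaf (nat_lit 0x2a266a)) (.leaf (nat_lit 0x32a2311))))) (.node 4 (.node 2 (.node 1 (.leaf (nat_lit 0x62a2ebe)) (.leaf (nat_lit 0x22a360c))) (.node 1 (.leaf (nat_lit 0x12a5c5c)) (.leaf (nat_lit 0x32a5914)))) (.node 2 (.node 1 (.leaf (nat_lit 0x12a66c4)) (.leaf (nat_lit 0x42a6762))) (.node 1 (.leaf (nat_lit 0x2a7327)) (.leaf (nat_lit 0x12a7a1d))))))) (.node 16 (.node 8 (.node 4 (.node 2 (.node 1 (.leaf (nat_lit 0x22a799c)) (.leaf (nat_lit 0x52a7745))) (.node 1 (.leaf (nat_lit 0x2a8086)) (.leaf (nat_lit 0x32a89c9)))) (.node 2 (.node 1 (.leaf (nat_lit 0x52a84fd)) (.leaf (nat_lit 0x62a8a70))) (.node 1 (.leaf (nat_lit 0x22ac31c)) (.leaf (nat_lit 0x32ac06a))))) (.node 4 (.node 2 (.node 1 (.leaf (nat_lit 0x52ac36d)) (.leaf (nat_lit 0x32ade47))) (.node 1 (.leaf (nat_lit 0x42ad01e)) (.leaf (nat_lit 0x22ae59a)))) (.node 2 (.node 1 (.leaf (nat_lit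 0x52aeb36)) (.leaf (nat_lit 0x62ae616))) (.node 1 (.leaf (nat_lit 0x12af3c7)) (.leaf (nat_lit 0x22afb42)))))) (.node 8 (.node 4 (.node 2 (.node 1 (.leaf (nat_lit 0x42afe21)) (.leaf (nat_lit 0x2b007d))) (.node 1 (.leaf (nat_lit 0x32b0809)) (.leaf (nat_lit 0x62b0f4c)))) (.node 2 (.node 1 (.leaf (nat_lit 0x12b1c35)) (.leaf (nat_lit 0x22b1771))) (.node 1 (.leaf (nat_lit 0x42b1d62)) (.leaf (nat_lit 0x12b29b3))))) (.node 4 (.node 2 (.node 1 (.leaf (nat_lit 0x22b279c)) (.leaf (nat_lit 0x32b2f3d))) (.node 1 (.leaf (nat_lit 0x2b3549)) (.leaf (nat_lit 0x62b3f42)))) (.node 2 (.node 1 (.leaf (nat_lit 0x12b4c28)) (.leaf (nat_lit 0x2b69f1))) (.node 1 (.leaf (nat_lit 0x42b642f)) (.leaf (nat_lit 0x52b69c6)))))))) (.node 32 (.node 16 (.node 8 (.node 4 (.node 2 (.node 1 (.leaf (nat_lit 0x62b671d)) (.leaf (nat_lit 0x12b825f))) (.node 1 (.leaf (nat_lit 0x2b992e)) (.leaf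 (nat_lit 0x62b948c)))) (.node 2 (.node 1 (.leaf (nat_lit 0x22bb814)) (.leaf (nat_lit 0x42bbfae))) (.node 1 (.leaf (nat_lit 0x52bbe4f)) (.leaf (nat_lit 0x2bce9f))))) (.node 4 (.node 2 (.node 1 (.leaf (nat_lit 0x22bc83d)) (.leaf (nat_lit 0x32bc8ba))) (.node 1 (.leaf (nat_lit 0x52bca49)) (.leaf (nat_lit 0x2bd423)))) (.node 2 (.node 1 (.leaf (nat_lit 0x62bd2b7)) (.leaf (nat_lit 0x2be120))) (.node 1 (.leaf (nat_lit 0x12be598)) (.leaf (nat_lit 0x22bef5c)))))) (.node 8 (.node 4 (.node 2 (.node 1 (.leaf (nat_lit 0x42bea05)) (.leaf (nat_lit 0x32bfe61))) (.node 1 (.leaf (nat_lit 0x12c0d75)) (.leaf (nat_lit 0x32c091a)))) (.node 2 (.node 1 (.leaf (nat_lit 0x42c0c75)) (.leaf (nat_lit 0x32c1b9e))) (.node 1 (.leaf (nat_lit 0x12c237c)) (.leaf (nat_lit 0x22c268c))))) (.node 4 (.node 2 (.node 1 (.leaf (nat_lit 0x2c3181)) (.leaf (nat_lit 0x32c34d2))) (.node 1 (.leaf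 (nat_lit 0x52c384b)) (.leaf (nat_lit 0x12c4f1c)))) (.node 2 (.node 1 (.leaf (nat_lit 0x22c4840)) (.leaf (nat_lit 0x62c4907))) (.node 1 (.leaf (nat_lit 0x2c5a41)) (.leaf (nat_lit 0x12c53c6))))))) (.node 16 (.node 8 (.node 4 (.node 2 (.node 1 (.leaf (nat_lit 0x32c5594)) (.leaf (nat_lit 0x42c57b1))) (.node 1 (.leaf (nat_lit 0x62c6832)) (.leaf (nat_lit 0x42c72c1)))) (.node 2 (.node 1 (.leaf (nat_lit 0x52c7533)) (.leaf (nat_lit 0x12c8141))) (.node 1 (.leaf (nat_lit 0x22c895a)) (.leaf (nat_lit 0x32c87b4))))) (.node 4 (.node 2 (.node 1 (.leaf (nat_lit 0x52c8b4c)) (.leaf (nat_lit 0x62c8069))) (.node 1 (.leaf (nat_lit 0x22c9829)) (.leaf (nat_lit 0x62c9d07)))) (.node 2 (.node 1 (.leaf (nat_lit 0x62ca789)) (.leaf (nat_lit 0x22cba16))) (.node 1 (.leaf (nat_lit 0x42cbcff)) (.leaf (nat_lit 0x62cb2bd)))))) (.node 8 (.node 4 (.node 2 (.node 1 (.leaf (nat_lit 0x32cc1d3))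 (.leaf (nat_lit 0x62cc9e6))) (.node 1 (.leaf (nat_lit 0x62cd8af)) (.leaf (nat_lit 0x22ceb08)))) (.node 2 (.node 1 (.leaf (nat_lit 0x52cec79)) (.leaf (nat_lit 0x62cef34))) (.node 1 (.leaf (nat_lit 0x2cfbd9)) (.leaf (nat_lit 0x32cf487))))) (.node 4 (.node 2 (.node 1 (.leaf (nat_lit 0x22d0617)) (.leaf (nat_lit 0x42d02e2))) (.node 1 (.leaf (nat_lit 0x62d028c)) (.leaf (nat_lit 0x2d14e8)))) (.node 2 (.node 1 (.leaf (nat_lit 0x32d1cf9)) (.leaf (nat_lit 0x12d26c6))) (.node 1 (.leaf (nat_lit 0x12d37ee)) (.leaf (nat_lit 0x22d3b93))))))))))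

/-- A part of `orbAll`. -/
def orbAll_9 : Tree := (.node 128 (.node 64 (.node 32 (.node 16 (.node 8 (.node 4 (.node 2 (.node 1 (.leaf (nat_lit 0x42d31a2)) (.leaf (nat_lit 0x2d4e6d))) (.node 1 (.leaf (nat_lit 0x32d46b1)) (.leaf (nat_lit 0x42d4c10)))) (.node 2 (.node 1 (.leaf (nat_lit 0x52d4c19)) (.leaf (nat_lit 0x62d5271))) (.node 1 (.leaf (nat_lit 0x2d6d38)) (.leaf (nat_lit 0x22d6404))))) (.node 4 (.node 2 (.node 1 (.leaf (nat_lit 0x32d6d9b)) (.leaf (nat_lit 0x2d71d2))) (.node 1 (.leaf (nat_lit 0x32d7b85)) (.leaf (nat_lit 0x62d743c)))) (.node 2 (.node 1 (.leaf (nat_lit 0x22d82a9)) (.leaf (nat_lit 0x42d852f))) (.node 1 (.leaf (nat_lit 0x2d9a98)) (.leaf (nat_lit 0x32da365)))))) (.node 8 (.node 4 (.node 2 (.node 1 (.leaf (nat_lit 0x62da400)) (.leaf (nat_lit 0x62db4bd))) (.node 1 (.leaf (nat_lit 0x22dc573)) (.leaf (nat_lit 0x32dcd3e)))) (.node 2 (.node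 1 (.leaf (nat_lit 0x42dc90d)) (.leaf (nat_lit 0x52dc380))) (.node 1 (.leaf (nat_lit 0x2de9af)) (.leaf (nat_lit 0x22e0290))))) (.node 4 (.node 2 (.node 1 (.leaf (nat_lit 0x32e2af4)) (.leaf (nat_lit 0x52e247b))) (.node 1 (.leaf (nat_lit 0x12e3397)) (.leaf (nat_lit 0x22e36d5)))) (.node 2 (.node 1 (.leaf (nat_lit 0x62e33f2)) (.leaf (nat_lit 0x2e4108))) (.node 1 (.leaf (nat_lit 0x22e49b8)) (.leaf (nat_lit 0x32e47b0))))))) (.node 16 (.node 8 (.node 4 (.node 2 (.node 1 (.leaf (nat_lit 0x22e516d)) (.leaf (nat_lit 0x62e5244))) (.node 1 (.leaf (nat_lit 0x32e662b)) (.leaf (nat_lit 0x42e68b7)))) (.node 2 (.node 1 (.leaf (nat_lit 0x62e6065)) (.leaf (nat_lit 0x22e70e1))) (.node 1 (.leaf (nat_lit 0x32e7163)) (.leaf (nat_lit 0x52e7f52))))) (.node 4 (.node 2 (.node 1 (.leaf (nat_lit 0x12e880e)) (.leaf (nat_lit 0x32e8739))) (.node 1 (.leaf (nat_lit 0x42e86a5)) (.leaf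 (nat_lit 0x32e9182)))) (.node 2 (.node 1 (.leaf (nat_lit 0x62e984d)) (.leaf (nat_lit 0x12eab5c))) (.node 1 (.leaf (nat_lit 0x22ea16a)) (.leaf (nat_lit 0x62ea26d)))))) (.node 8 (.node 4 (.node 2 (.node 1 (.leaf (nat_lit 0x52ebaa5)) (.leaf (nat_lit 0x62eb553))) (.node 1 (.leaf (nat_lit 0x22eddb1)) (.leaf (nat_lit 0x42edb8c)))) (.node 2 (.node 1 (.leaf (nat_lit 0x2ee281)) (.leaf (nat_lit 0x22ee8fa))) (.node 1 (.leaf (nat_lit 0x32eeae0)) (.leaf (nat_lit 0x52eeef6))))) (.node 4 (.node 2 (.node 1 (.leaf (nat_lit 0x22efbeb)) (.leaf (nat_lit 0x42ef2fc))) (.node 1 (.leaf (nat_lit 0x52ef136)) (.leaf (nat_lit 0x2f0ab4)))) (.node 2 (.node 1 (.leaf (nat_lit 0x22f07eb)) (.leaf (nat_lit 0x32f0a43))) (.node 1 (.leaf (nat_lit 0x52f0845)) (.leaf (nat_lit 0x62f095c)))))))) (.node 32 (.node 16 (.node 8 (.node 4 (.node 2 (.node 1 (.leaf (nat_lit 0x62f12d2)) (.leaf (nat_lit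 0x22f2a65))) (.node 1 (.leaf (nat_lit 0x32f3b13)) (.leaf (nat_lit 0x62f3bd6)))) (.node 2 (.node 1 (.leaf (nat_lit 0x12f5cfb)) (.leaf (nat_lit 0x62f5d14))) (.node 1 (.leaf (nat_lit 0x2f651c)) (.leaf (nat_lit 0x12f82c0))))) (.node 4 (.node 2 (.node 1 (.leaf (nat_lit 0x32f9241)) (.leaf (nat_lit 0x2fab07))) (.node 1 (.leaf (nat_lit 0x62fa720)) (.leaf (nat_lit 0x22fb60e)))) (.node 2 (.node 1 (.leaf (nat_lit 0x62fb42b)) (.leaf (nat_lit 0x2fcb6b))) (.node 1 (.leaf (nat_lit 0x62fc272)) (.leaf (nat_lit 0x12fdda4)))))) (.node 8 (.node 4 (.node 2 (.node 1 (.leaf (nat_lit 0x62fd23c)) (.leaf (nat_lit 0x2fe4ad))) (.node 1 (.leaf (nat_lit 0x32feda0)) (.leaf (nat_lit 0x22ff200)))) (.node 2 (.node 1 (.leaf (nat_lit 0x32ff49b)) (.leaf (nat_lit 0x42ff4f9))) (.node 1 (.leaf (nat_lit 0x52ff83b)) (.leaf (nat_lit 0x3300e3e))))) (.node 4 (.node 2 (.node 1 (.leaf (nat_lit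 0x3301a1c)) (.leaf (nat_lit 0x4301174))) (.node 1 (.leaf (nat_lit 0x630145f)) (.leaf (nat_lit 0x2302516)))) (.node 2 (.node 1 (.leaf (nat_lit 0x303224)) (.leaf (nat_lit 0x1303662))) (.node 1 (.leaf (nat_lit 0x2304d40)) (.leaf (nat_lit 0x33042ef))))))) (.node 16 (.node 8 (.node 4 (.node 2 (.node 1 (.leaf (nat_lit 0x43047fc)) (.leaf (nat_lit 0x5304308))) (.node 1 (.leaf (nat_lit 0x6304183)) (.leaf (nat_lit 0x305f73)))) (.node 2 (.node 1 (.leaf (nat_lit 0x30609d)) (.leaf (nat_lit 0x230750a))) (.node 1 (.leaf (nat_lit 0x1308ed0)) (.leaf (nat_lit 0x23087a3))))) (.node 4 (.node 2 (.node 1 (.leaf (nat_lit 0x33081e6)) (.leaf (nat_lit 0x4308864))) (.node 1 (.leaf (nat_lit 0x1309372)) (.leaf (nat_lit 0x330ab67)))) (.node 2 (.node 1 (.leaf (nat_lit 0x30be58)) (.leaf (nat_lit 0x330b41a))) (.node 1 (.leaf (nat_lit 0x530bc6e)) (.leaf (nat_lit 0x630cf12)))))) (.node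 8 (.node 4 (.node 2 (.node 1 (.leaf (nat_lit 0x130d0fb)) (.leaf (nat_lit 0x230dfc2))) (.node 1 (.leaf (nat_lit 0x530e0d2)) (.leaf (nat_lit 0x630ec2a)))) (.node 2 (.node 1 (.leaf (nat_lit 0x130f8f8)) (.leaf (nat_lit 0x6310fa4))) (.node 1 (.leaf (nat_lit 0x631165b)) (.leaf (nat_lit 0x312131))))) (.node 4 (.node 2 (.node 1 (.leaf (nat_lit 0x1312600)) (.leaf (nat_lit 0x4312893))) (.node 1 (.leaf (nat_lit 0x31323d)) (.leaf (nat_lit 0x53132b6)))) (.node 2 (.node 1 (.leaf (nat_lit 0x6314022)) (.leaf (nat_lit 0x3315e70))) (.node 1 (.leaf (nat_lit 0x5315093)) (.leaf (nat_lit 0x63151bf))))))))) (.node 64 (.node 32 (.node 16 (.node 8 (.node 4 (.node 2 (.node 1 (.leaf (nat_lit 0x31633b)) (.leaf (nat_lit 0x33163d3))) (.node 1 (.leaf (nat_lit 0x4316f84)) (.leaf (nat_lit 0x6316905)))) (.node 2 (.node 1 (.leaf (nat_lit 0x5317972)) (.leaf (nat_lit 0x1318101))) (.node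 1 (.leaf (nat_lit 0x2318023)) (.leaf (nat_lit 0x33180b7))))) (.node 4 (.node 2 (.node 1 (.leaf (nat_lit 0x4318db9)) (.leaf (nat_lit 0x319906))) (.node 1 (.leaf (nat_lit 0x331931f)) (.leaf (nat_lit 0x6319868)))) (.node 2 (.node 1 (.leaf (nat_lit 0x31b28d)) (.leaf (nat_lit 0x531bfc5))) (.node 1 (.leaf (nat_lit 0x131c7ba)) (.leaf (nat_lit 0x231ccd5)))))) (.node 8 (.node 4 (.node 2 (.node 1 (.leaf (nat_lit 0x431c56b)) (.leaf (nat_lit 0x531ce4d))) (.node 1 (.leaf (nat_lit 0x231d974)) (.leaf (nat_lit 0x431d1f0)))) (.node 2 (.node 1 (.leaf (nat_lit 0x31e099)) (.leaf (nat_lit 0x231fd08))) (.node 1 (.leaf (nat_lit 0x6320e96)) (.leaf (nat_lit 0x2321e29))))) (.node 4 (.node 2 (.node 1 (.leaf (nat_lit 0x3322f40)) (.leaf (nat_lit 0x432287d))) (.node 1 (.leaf (nat_lit 0x1323dfb)) (.leaf (nat_lit 0x23236a7)))) (.node 2 (.node 1 (.leaf (nat_lit 0x632384e)) (.leaf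 (nat_lit 0x3324451))) (.node 1 (.leaf (nat_lit 0x1325045)) (.leaf (nat_lit 0x23251f2))))))) (.node 16 (.node 8 (.node 4 (.node 2 (.node 1 (.leaf (nat_lit 0x326f74)) (.leaf (nat_lit 0x2326cd7))) (.node 1 (.leaf (nat_lit 0x3326a5b)) (.leaf (nat_lit 0x4326c70)))) (.node 2 (.node 1 (.leaf (nat_lit 0x1327a66)) (.leaf (nat_lit 0x328933))) (.node 1 (.leaf (nat_lit 0x2328853)) (.leaf (nat_lit 0x33287ae))))) (.node 4 (.node 2 (.node 1 (.leaf (nat_lit 0x4328efe)) (.leaf (nat_lit 0x532861b))) (.node 1 (.leaf (nat_lit 0x232ac15)) (.leaf (nat_lit 0x632aec3)))) (.node 2 (.node 1 (.leaf (nat_lit 0x32bdf7)) (.leaf (nat_lit 0x632cb43))) (.node 1 (.leaf (nat_lit 0x232d4b9)) (.leaf (nat_lit 0x332d866)))))) (.node 8 (.node 4 (.node 2 (.node 1 (.leaf (nat_lit 0x632d69a)) (.leaf (nat_lit 0x232eac1))) (.node 1 (.leaf (nat_lit 0x33308f1)) (.leaf (nat_lit 0x4330ddc)))) (.node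 2 (.node 1 (.leaf (nat_lit 0x6330983)) (.leaf (nat_lit 0x3318c0))) (.node 1 (.leaf (nat_lit 0x3331839)) (.leaf (nat_lit 0x5331a26))))) (.node 4 (.node 2 (.node 1 (.leaf (nat_lit 0x6331eac)) (.leaf (nat_lit 0x332cd3))) (.node 1 (.leaf (nat_lit 0x23325a9)) (.leaf (nat_lit 0x3332be4)))) (.node 2 (.node 1 (.leaf (nat_lit 0x33332c8)) (.leaf (nat_lit 0x2334cfc))) (.node 1 (.leaf (nat_lit 0x63346cd)) (.leaf (nat_lit 0x2335fd5)))))))) (.node 32 (.node 16 (.node 8 (.node 4 (.node 2 (.node 1 (.leaf (nat_lit 0x33368d0)) (.leaf (nat_lit 0x337904))) (.node 1 (.leaf (nat_lit 0x33373a9)) (.leaf (nat_lit 0x63374cc)))) (.node 2 (.node 1 (.leaf (nat_lit 0x2338da1)) (.leaf (nat_lit 0x633820a))) (.node 1 (.leaf (nat_lit 0x339de7)) (.leaf (nat_lit 0x2339f87))))) (.node 4 (.node 2 (.node 1 (.leaf (nat_lit 0x533982e)) (.leaf (nat_lit 0x133aa29))) (.node 1 (.leaf (nat_lit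 0x433ac08)) (.leaf (nat_lit 0x133cda8)))) (.node 2 (.node 1 (.leaf (nat_lit 0x233c24d)) (.leaf (nat_lit 0x333cb75))) (.node 1 (.leaf (nat_lit 0x433c1af)) (.leaf (nat_lit 0x533cba2)))))) (.node 8 (.node 4 (.node 2 (.node 1 (.leaf (nat_lit 0x133dd42)) (.leaf (nat_lit 0x233d4d1))) (.node 1 (.leaf (nat_lit 0x333d948)) (.leaf (nat_lit 0x433d666)))) (.node 2 (.node 1 (.leaf (nat_lit 0x533d194)) (.leaf (nat_lit 0x633d667))) (.node 1 (.leaf (nat_lit 0x133e89c)) (.leaf (nat_lit 0x333eca9))))) (.node 4 (.node 2 (.node 1 (.leaf (nat_lit 0x633ec78)) (.leaf (nat_lit 0x133faea))) (.node 1 (.leaf (nat_lit 0x233f229)) (.leaf (nat_lit 0x633f30a)))) (.node 2 (.node 1 (.leaf (nat_lit 0x3401e0)) (.leaf (nat_lit 0x5340576))) (.node 1 (.leaf (nat_lit 0x341ddd)) (.leaf (nat_lit 0x2341b6c))))))) (.node 16 (.node 8 (.node 4 (.node 2 (.node 1 (.leaf (nat_lit 0x3341cf8)) (.leaf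 (nat_lit 0x434185f))) (.node 1 (.leaf (nat_lit 0x342702)) (.leaf (nat_lit 0x13431fe)))) (.node 2 (.node 1 (.leaf (nat_lit 0x2343ac3)) (.leaf (nat_lit 0x63432f8))) (.node 1 (.leaf (nat_lit 0x3449bb)) (.leaf (nat_lit 0x6344208))))) (.node 4 (.node 2 (.node 1 (.leaf (nat_lit 0x3459f6)) (.leaf (nat_lit 0x23453ac))) (.node 1 (.leaf (nat_lit 0x3345e84)) (.leaf (nat_lit 0x5345a36)))) (.node 2 (.node 1 (.leaf (nat_lit 0x3346996)) (.leaf (nat_lit 0x1347b0b))) (.node 1 (.leaf (nat_lit 0x63478d2)) (.leaf (nat_lit 0x13486f6)))))) (.node 8 (.node 4 (.node 2 (.node 1 (.leaf (nat_lit 0x3348339)) (.leaf (nat_lit 0x6349c76))) (.node 1 (.leaf (nat_lit 0x34be98)) (.leaf (nat_lit 0x134b4a2)))) (.node 2 (.node 1 (.leaf (nat_lit 0x334bcae)) (.leaf (nat_lit 0x434b5ed))) (.node 1 (.leaf (nat_lit 0x534c971)) (.leaf (nat_lit 0x634cb30))))) (.node 4 (.node 2 (.node 1 (.leaf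 (nat_lit 0x134d512)) (.leaf (nat_lit 0x334dfaa))) (.node 1 (.leaf (nat_lit 0x434dc6c)) (.leaf (nat_lit 0x634da9e)))) (.node 2 (.node 1 (.leaf (nat_lit 0x134eda9)) (.leaf (nat_lit 0x234e3a7))) (.node 1 (.leaf (nat_lit 0x634e1b5)) (.leaf (nat_lit 0x5350113))))))))))

/-- A part of `orbAll`. -/
def orbAll_10 : Tree := (.node 128 (.node 64 (.node 32 (.node 16 (.node 8 (.node 4 (.node 2 (.node 1 (.leaf (nat_lit 0x63500f7)) (.leaf (nat_lit 0x35187a))) (.node 1 (.leaf (nat_lit 0x6351655)) (.leaf (nat_lit 0x2352a39)))) (.node 2 (.node 1 (.leaf (nat_lit 0x353fa1)) (.leaf (nat_lit 0x354e18))) (.node 1 (.leaf (nat_lit 0x2354a3b)) (.leaf (nat_lit 0x335430b))))) (.node 4 (.node 2 (.node 1 (.leaf (nat_lit 0x5354cdd)) (.leaf (nat_lit 0x635469b))) (.node 1 (.leaf (nat_lit 0x63550d7)) (.leaf (nat_lit 0x3560fd)))) (.node 2 (.node 1 (.leaf (nat_lit 0x63561bc)) (.leaf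 (nat_lit 0x135790a))) (.node 1 (.leaf (nat_lit 0x2357501)) (.leaf (nat_lit 0x1358ab3)))))) (.node 8 (.node 4 (.node 2 (.node 1 (.leaf (nat_lit 0x359dcd)) (.leaf (nat_lit 0x4359540))) (.node 1 (.leaf (nat_lit 0x435a0bd)) (.leaf (nat_lit 0x635a201)))) (.node 2 (.node 1 (.leaf (nat_lit 0x635bfc0)) (.leaf (nat_lit 0x635cb02))) (.node 1 (.leaf (nat_lit 0x335dcd2)) (.leaf (nat_lit 0x635d849))))) (.node 4 (.node 2 (.node 1 (.leaf (nat_lit 0x435e1aa)) (.leaf (nat_lit 0x635e7be))) (.node 1 (.leaf (nat_lit 0x135f117)) (.leaf (nat_lit 0x635ffbc)))) (.node 2 (.node 1 (.leaf (nat_lit 0x13605d4)) (.leaf (nat_lit 0x5360edf))) (.node 1 (.leaf (nat_lit 0x361c46)) (.leaf (nat_lit 0x536199d))))))) (.node 16 (.node 8 (.node 4 (.node 2 (.node 1 (.leaf (nat_lit 0x3622d5)) (.leaf (nat_lit 0x1363fcb))) (.node 1 (.leaf (nat_lit 0x23639d8)) (.leaf (nat_lit 0x4363296)))) (.node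 2 (.node 1 (.leaf (nat_lit 0x636381e)) (.leaf (nat_lit 0x3364202))) (.node 1 (.leaf (nat_lit 0x6364f7d)) (.leaf (nat_lit 0x4365af6))))) (.node 4 (.node 2 (.node 1 (.leaf (nat_lit 0x1366805)) (.leaf (nat_lit 0x3681a4))) (.node 1 (.leaf (nat_lit 0x5368213)) (.leaf (nat_lit 0x6368639)))) (.node 2 (.node 1 (.leaf (nat_lit 0x13696b2)) (.leaf (nat_lit 0x2369147))) (.node 1 (.leaf (nat_lit 0x33697a0)) (.leaf (nat_lit 0x436976f)))))) (.node 8 (.node 4 (.node 2 (.node 1 (.leaf (nat_lit 0x5369bc7)) (.leaf (nat_lit 0x336aab2))) (.node 1 (.leaf (nat_lit 0x636ab5a)) (.leaf (nat_lit 0x636bdd6)))) (.node 2 (.node 1 (.leaf (nat_lit 0x136cb1d)) (.leaf (nat_lit 0x436c035))) (.node 1 (.leaf (nat_lit 0x636c077)) (.leaf (nat_lit 0x436ef46))))) (.node 4 (.node 2 (.node 1 (.leaf (nat_lit 0x636e96e)) (.leaf (nat_lit 0x36f7ce))) (.node 1 (.leaf (nat_lit 0x636f1c8)) (.leaf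 (nat_lit 0x370c25)))) (.node 2 (.node 1 (.leaf (nat_lit 0x6370925)) (.leaf (nat_lit 0x2371e9a))) (.node 1 (.leaf (nat_lit 0x33711a3)) (.leaf (nat_lit 0x4371f6e)))))))) (.node 32 (.node 16 (.node 8 (.node 4 (.node 2 (.node 1 (.leaf (nat_lit 0x537118b)) (.leaf (nat_lit 0x1372f7f))) (.node 1 (.leaf (nat_lit 0x3372a45)) (.leaf (nat_lit 0x6373921)))) (.node 2 (.node 1 (.leaf (nat_lit 0x137438f)) (.leaf (nat_lit 0x2374dc8))) (.node 1 (.leaf (nat_lit 0x3374ae9)) (.leaf (nat_lit 0x4374683))))) (.node 4 (.node 2 (.node 1 (.leaf (nat_lit 0x375bd0)) (.leaf (nat_lit 0x237552d))) (.node 1 (.leaf (nat_lit 0x377e89)) (.leaf (nat_lit 0x1377126)))) (.node 2 (.node 1 (.leaf (nat_lit 0x2377438)) (.leaf (nat_lit 0x3796db))) (.node 1 (.leaf (nat_lit 0x13797cf)) (.leaf (nat_lit 0x23793b2)))))) (.node 8 (.node 4 (.node 2 (.node 1 (.leaf (nat_lit 0x3379e13)) (.leaf (nat_lit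 0x4379be9))) (.node 1 (.leaf (nat_lit 0x5379ae1)) (.leaf (nat_lit 0x37a78d)))) (.node 2 (.node 1 (.leaf (nat_lit 0x637b550)) (.leaf (nat_lit 0x637cd43))) (.node 1 (.leaf (nat_lit 0x37d12a)) (.leaf (nat_lit 0x237d70d))))) (.node 4 (.node 2 (.node 1 (.leaf (nat_lit 0x37feee)) (.leaf (nat_lit 0x137f676))) (.node 1 (.leaf (nat_lit 0x237f675)) (.leaf (nat_lit 0x537f330)))) (.node 2 (.node 1 (.leaf (nat_lit 0x4380c1f)) (.leaf (nat_lit 0x53802ab))) (.node 1 (.leaf (nat_lit 0x6380497)) (.leaf (nat_lit 0x2381671))))))) (.node 16 (.node 8 (.node 4 (.node 2 (.node 1 (.leaf (nat_lit 0x3381936)) (.leaf (nat_lit 0x4381d71))) (.node 1 (.leaf (nat_lit 0x1383435)) (.leaf (nat_lit 0x33836a3)))) (.node 2 (.node 1 (.leaf (nat_lit 0x638302b)) (.leaf (nat_lit 0x1385af5))) (.node 1 (.leaf (nat_lit 0x3386b61)) (.leaf (nat_lit 0x43868c3))))) (.node 4 (.node 2 (.node 1 (.leaf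 (nat_lit 0x387a09)) (.leaf (nat_lit 0x6387f36))) (.node 1 (.leaf (nat_lit 0x138974a)) (.leaf (nat_lit 0x238903d)))) (.node 2 (.node 1 (.leaf (nat_lit 0x4389efc)) (.leaf (nat_lit 0x5389a64))) (.node 1 (.leaf (nat_lit 0x38af65)) (.leaf (nat_lit 0x238ab82)))))) (.node 8 (.node 4 (.node 2 (.node 1 (.leaf (nat_lit 0x438ade6)) (.leaf (nat_lit 0x538a1d4))) (.node 1 (.leaf (nat_lit 0x638b4b5)) (.leaf (nat_lit 0x138c556)))) (.node 2 (.node 1 (.leaf (nat_lit 0x238c520)) (.leaf (nat_lit 0x338c8cd))) (.node 1 (.leaf (nat_lit 0x638ce43)) (.leaf (nat_lit 0x638d06b))))) (.node 4 (.node 2 (.node 1 (.leaf (nat_lit 0x438f1ab)) (.leaf (nat_lit 0x439087f))) (.node 1 (.leaf (nat_lit 0x5390651)) (.leaf (nat_lit 0x1391c0a)))) (.node 2 (.node 1 (.leaf (nat_lit 0x339142c)) (.leaf (nat_lit 0x63915ce))) (.node 1 (.leaf (nat_lit 0x3394414)) (.leaf (nat_lit 0x43948b0)))))))))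 (.node 64 (.node 32 (.node 16 (.node 8 (.node 4 (.node 2 (.node 1 (.leaf (nat_lit 0x1395dc0)) (.leaf (nat_lit 0x3395c45))) (.node 1 (.leaf (nat_lit 0x4395303)) (.leaf (nat_lit 0x6395456)))) (.node 2 (.node 1 (.leaf (nat_lit 0x39689e)) (.leaf (nat_lit 0x33968a9))) (.node 1 (.leaf (nat_lit 0x5396478)) (.leaf (nat_lit 0x639653e))))) (.node 4 (.node 2 (.node 1 (.leaf (nat_lit 0x4397134)) (.leaf (nat_lit 0x2398ef1))) (.node 1 (.leaf (nat_lit 0x1399aa3)) (.leaf (nat_lit 0x2399a8a)))) (.node 2 (.node 1 (.leaf (nat_lit 0x4399846)) (.leaf (nat_lit 0x539917b))) (.node 1 (.leaf (nat_lit 0x339a16b)) (.leaf (nat_lit 0x539a33a)))))) (.node 8 (.node 4 (.node 2 (.node 1 (.leaf (nat_lit 0x639b72f)) (.leaf (nat_lit 0x239cb5e))) (.node 1 (.leaf (nat_lit 0x639c382)) (.leaf (nat_lit 0x639d144)))) (.node 2 (.node 1 (.leaf (nat_lit 0x139e23a)) (.leaf (nat_lit 0x339e6df)))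 (.node 1 (.leaf (nat_lit 0x539e0c4)) (.leaf (nat_lit 0x3a03d6))))) (.node 4 (.node 2 (.node 1 (.leaf (nat_lit 0x13a0dff)) (.leaf (nat_lit 0x33a0bf2))) (.node 1 (.leaf (nat_lit 0x3a123b)) (.leaf (nat_lit 0x13a2259)))) (.node 2 (.node 1 (.leaf (nat_lit 0x43a2cf3)) (.leaf (nat_lit 0x23a3f0f))) (.node 1 (.leaf (nat_lit 0x33a30a1)) (.leaf (nat_lit 0x63a39df))))))) (.node 16 (.node 8 (.node 4 (.node 2 (.node 1 (.leaf (nat_lit 0x63a4475)) (.leaf (nat_lit 0x13a58ef))) (.node 1 (.leaf (nat_lit 0x63a6f71)) (.leaf (nat_lit 0x3a7611)))) (.node 2 (.node 1 (.leaf (nat_lit 0x33a7d69)) (.leaf (nat_lit 0x53a7301))) (.node 1 (.leaf (nat_lit 0x3a9528)) (.leaf (nat_lit 0x3aba33))))) (.node 4 (.node 2 (.node 1 (.leaf (nat_lit 0x33ab444)) (.leaf (nat_lit 0x3ac178))) (.node 1 (.leaf (nat_lit 0x53acc0b)) (.leaf (nat_lit 0x3addcb)))) (.node 2 (.node 1 (.leaf (nat_lit 0x13adc01))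 (.leaf (nat_lit 0x23adb4b))) (.node 1 (.leaf (nat_lit 0x43ad564)) (.leaf (nat_lit 0x13ae727)))))) (.node 8 (.node 4 (.node 2 (.node 1 (.leaf (nat_lit 0x23aea6f)) (.leaf (nat_lit 0x33aed29))) (.node 1 (.leaf (nat_lit 0x43aef9c)) (.leaf (nat_lit 0x3af669)))) (.node 2 (.node 1 (.leaf (nat_lit 0x23af251)) (.leaf (nat_lit 0x33affa2))) (.node 1 (.leaf (nat_lit 0x43af031)) (.leaf (nat_lit 0x3b0f1b))))) (.node 4 (.node 2 (.node 1 (.leaf (nat_lit 0x23b03d5)) (.leaf (nat_lit 0x53b0daa))) (.node 1 (.leaf (nat_lit 0x63b0b9f)) (.leaf (nat_lit 0x3b2a2d)))) (.node 2 (.node 1 (.leaf (nat_lit 0x33b23a6)) (.leaf (nat_lit 0x3b3d04))) (.node 1 (.leaf (nat_lit 0x23b3d9e)) (.leaf (nat_lit 0x3b477c)))))))) (.node 32 (.node 16 (.node 8 (.node 4 (.node 2 (.node 1 (.leaf (nat_lit 0x33b4f68)) (.leaf (nat_lit 0x23b6496))) (.node 1 (.leaf (nat_lit 0x33b6697)) (.leaf (nat_lit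 0x23b7378)))) (.node 2 (.node 1 (.leaf (nat_lit 0x33b8ba3)) (.leaf (nat_lit 0x63b9385))) (.node 1 (.leaf (nat_lit 0x63ba146)) (.leaf (nat_lit 0x53bb661))))) (.node 4 (.node 2 (.node 1 (.leaf (nat_lit 0x63bca80)) (.leaf (nat_lit 0x3bdde3))) (.node 1 (.leaf (nat_lit 0x63be4bb)) (.leaf (nat_lit 0x3bf05d)))) (.node 2 (.node 1 (.leaf (nat_lit 0x33bf87c)) (.leaf (nat_lit 0x43bf6d7))) (.node 1 (.leaf (nat_lit 0x53bfbf0)) (.leaf (nat_lit 0x13c00a7)))))) (.node 8 (.node 4 (.node 2 (.node 1 (.leaf (nat_lit 0x23c0732)) (.leaf (nat_lit 0x53c0c98))) (.node 1 (.leaf (nat_lit 0x63c21bb)) (.leaf (nat_lit 0x13c3d1f)))) (.node 2 (.node 1 (.leaf (nat_lit 0x13c6da7)) (.leaf (nat_lit 0x63c63be))) (.node 1 (.leaf (nat_lit 0x3c7ed8)) (.leaf (nat_lit 0x23c7b99))))) (.node 4 (.node 2 (.node 1 (.leaf (nat_lit 0x33c7fad)) (.leaf (nat_lit 0x23c8be0))) (.node 1 (.leaf (nat_lit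 0x53c832a)) (.leaf (nat_lit 0x13c96b7)))) (.node 2 (.node 1 (.leaf (nat_lit 0x63c9d19)) (.leaf (nat_lit 0x13ca060))) (.node 1 (.leaf (nat_lit 0x63ca02e)) (.leaf (nat_lit 0x3cbd16))))))) (.node 16 (.node 8 (.node 4 (.node 2 (.node 1 (.leaf (nat_lit 0x23cbc7e)) (.leaf (nat_lit 0x3cc2a2))) (.node 1 (.leaf (nat_lit 0x33cc5c9)) (.leaf (nat_lit 0x3cd37d)))) (.node 2 (.node 1 (.leaf (nat_lit 0x33cd95b)) (.leaf (nat_lit 0x63cdf2d))) (.node 1 (.leaf (nat_lit 0x3cf37f)) (.leaf (nat_lit 0x13d0987))))) (.node 4 (.node 2 (.node 1 (.leaf (nat_lit 0x33d0828)) (.leaf (nat_lit 0x43d0c90))) (.node 1 (.leaf (nat_lit 0x3d1127)) (.leaf (nat_lit 0x23d1963)))) (.node 2 (.node 1 (.leaf (nat_lit 0x43d1235)) (.leaf (nat_lit 0x53d13aa))) (.node 1 (.leaf (nat_lit 0x63d11d5)) (.leaf (nat_lit 0x33d2f01)))))) (.node 8 (.node 4 (.node 2 (.node 1 (.leaf (nat_lit 0x13d35f1)) (.leaf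 (nat_lit 0x33d354f))) (.node 1 (.leaf (nat_lit 0x43d3119)) (.leaf (nat_lit 0x63d5332)))) (.node 2 (.node 1 (.leaf (nat_lit 0x33d6c0f)) (.leaf (nat_lit 0x23d7c33))) (.node 1 (.leaf (nat_lit 0x3d8494)) (.leaf (nat_lit 0x13d9572))))) (.node 4 (.node 2 (.node 1 (.leaf (nat_lit 0x43d9cc9)) (.leaf (nat_lit 0x3da0c0))) (.node 1 (.leaf (nat_lit 0x63da41c)) (.leaf (nat_lit 0x23db7da)))) (.node 2 (.node 1 (.leaf (nat_lit 0x43db0ca)) (.leaf (nat_lit 0x53dbc3c))) (.node 1 (.leaf (nat_lit 0x63dc294)) (.leaf (nat_lit 0x3ddd99))))))))))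

/-- A part of `orbAll`. -/
def orbAll_11 : Tree := (.node 128 (.node 64 (.node 32 (.node 16 (.node 8 (.node 4 (.node 2 (.node 1 (.leaf (nat_lit 0x63dda7b)) (.leaf (nat_lit 0x13de4f8))) (.node 1 (.leaf (nat_lit 0x23de211)) (.leaf (nat_lit 0x63de7b2)))) (.node 2 (.node 1 (.leaf (nat_lit 0x3df15a)) (.leaf (nat_lit 0x33dfc87))) (.node 1 (.leaf (nat_lit 0x13e03a8)) (.leaf (nat_lit 0x63e05a4))))) (.node 4 (.node 2 (.node 1 (.leaf (nat_lit 0x23e140b)) (.leaf (nat_lit 0x43e1390))) (.node 1 (.leaf (nat_lit 0x3e2ae5)) (.leaf (nat_lit 0x23e2179)))) (.node 2 (.node 1 (.leaf (nat_lit 0x53e2777)) (.leaf (nat_lit 0x63e2e5a))) (.node 1 (.leaf (nat_lit 0x23e343f)) (.leaf (nat_lit 0x63e3e1e)))))) (.node 8 (.node 4 (.node 2 (.node 1 (.leaf (nat_lit 0x33e4a0c)) (.leaf (nat_lit 0x63e4439))) (.node 1 (.leaf (nat_lit 0x13e5d35)) (.leaf (nat_lit 0x23e586a)))) (.node 2 (.node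 1 (.leaf (nat_lit 0x53e60d9)) (.leaf (nat_lit 0x23e7e74))) (.node 1 (.leaf (nat_lit 0x33e758f)) (.leaf (nat_lit 0x43e8123))))) (.node 4 (.node 2 (.node 1 (.leaf (nat_lit 0x53e8af1)) (.leaf (nat_lit 0x63e8610))) (.node 1 (.leaf (nat_lit 0x63ea351)) (.leaf (nat_lit 0x13eb6ee)))) (.node 2 (.node 1 (.leaf (nat_lit 0x63eb66b)) (.leaf (nat_lit 0x43ec874))) (.node 1 (.leaf (nat_lit 0x63ecc54)) (.leaf (nat_lit 0x63ed975))))))) (.node 16 (.node 8 (.node 4 (.node 2 (.node 1 (.leaf (nat_lit 0x13eeafc)) (.leaf (nat_lit 0x23ee9fd))) (.node 1 (.leaf (nat_lit 0x43eeb8e)) (.leaf (nat_lit 0x23ef8f5)))) (.node 2 (.node 1 (.leaf (nat_lit 0x13f0f3e)) (.leaf (nat_lit 0x33f0aef))) (.node 1 (.leaf (nat_lit 0x23f1b46)) (.leaf (nat_lit 0x63f3684))))) (.node 4 (.node 2 (.node 1 (.leaf (nat_lit 0x3f4acc)) (.leaf (nat_lit 0x33f44b6))) (.node 1 (.leaf (nat_lit 0x53f43a5)) (.leaf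 (nat_lit 0x63f49c5)))) (.node 2 (.node 1 (.leaf (nat_lit 0x33f5e57)) (.leaf (nat_lit 0x43f5a53))) (.node 1 (.leaf (nat_lit 0x13f7ec2)) (.leaf (nat_lit 0x23f7a75)))))) (.node 8 (.node 4 (.node 2 (.node 1 (.leaf (nat_lit 0x63f7d7e)) (.leaf (nat_lit 0x3f81f4))) (.node 1 (.leaf (nat_lit 0x53f8074)) (.leaf (nat_lit 0x53f961a)))) (.node 2 (.node 1 (.leaf (nat_lit 0x23fc61e)) (.leaf (nat_lit 0x53fc12b))) (.node 1 (.leaf (nat_lit 0x3fd8ca)) (.leaf (nat_lit 0x13fe196))))) (.node 4 (.node 2 (.node 1 (.leaf (nat_lit 0x63fec58)) (.leaf (nat_lit 0x400bc4))) (.node 1 (.leaf (nat_lit 0x140074b)) (.leaf (nat_lit 0x4033df)))) (.node 2 (.node 1 (.leaf (nat_lit 0x1403d46)) (.leaf (nat_lit 0x2403acb))) (.node 1 (.leaf (nat_lit 0x34037e6)) (.leaf (nat_lit 0x4403bfe)))))))) (.node 32 (.node 16 (.node 8 (.node 4 (.node 2 (.node 1 (.leaf (nat_lit 0x4048f6)) (.leaf (nat_lit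 0x24049ac))) (.node 1 (.leaf (nat_lit 0x34044fb)) (.leaf (nat_lit 0x4404cf5)))) (.node 2 (.node 1 (.leaf (nat_lit 0x54040dd)) (.leaf (nat_lit 0x4050c7))) (.node 1 (.leaf (nat_lit 0x2405a83)) (.leaf (nat_lit 0x3406fc8))))) (.node 4 (.node 2 (.node 1 (.leaf (nat_lit 0x6406927)) (.leaf (nat_lit 0x407648))) (.node 1 (.leaf (nat_lit 0x1408bc1)) (.leaf (nat_lit 0x640802d)))) (.node 2 (.node 1 (.leaf (nat_lit 0x2409e17)) (.leaf (nat_lit 0x340a0bb))) (.node 1 (.leaf (nat_lit 0x540a3b5)) (.leaf (nat_lit 0x440b595)))))) (.node 8 (.node 4 (.node 2 (.node 1 (.leaf (nat_lit 0x640c55a)) (.leaf (nat_lit 0x140daba))) (.node 1 (.leaf (nat_lit 0x240d542)) (.leaf (nat_lit 0x40e568)))) (.node 2 (.node 1 (.leaf (nat_lit 0x240f6af)) (.leaf (nat_lit 0x411f79))) (.node 1 (.leaf (nat_lit 0x6412b73)) (.leaf (nat_lit 0x2413586))))) (.node 4 (.node 2 (.node 1 (.leaf (nat_lit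 0x34131f1)) (.leaf (nat_lit 0x4413ba8))) (.node 1 (.leaf (nat_lit 0x5413de8)) (.leaf (nat_lit 0x341439a)))) (.node 2 (.node 1 (.leaf (nat_lit 0x4414027)) (.leaf (nat_lit 0x5414374))) (.node 1 (.leaf (nat_lit 0x4156ac)) (.leaf (nat_lit 0x2415990))))))) (.node 16 (.node 8 (.node 4 (.node 2 (.node 1 (.leaf (nat_lit 0x44155cc)) (.leaf (nat_lit 0x6415837))) (.node 1 (.leaf (nat_lit 0x2416d56)) (.leaf (nat_lit 0x3416f64)))) (.node 2 (.node 1 (.leaf (nat_lit 0x54166b5)) (.leaf (nat_lit 0x6416076))) (.node 1 (.leaf (nat_lit 0x418d91)) (.leaf (nat_lit 0x3418b3e))))) (.node 4 (.node 2 (.node 1 (.leaf (nat_lit 0x241932c)) (.leaf (nat_lit 0x441b664))) (.node 1 (.leaf (nat_lit 0x441c4eb)) (.leaf (nat_lit 0x241d5bf)))) (.node 2 (.node 1 (.leaf (nat_lit 0x341d319)) (.leaf (nat_lit 0x441d491))) (.node 1 (.leaf (nat_lit 0x641d429)) (.leaf (nat_lit 0x141e34a))))))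 (.node 8 (.node 4 (.node 2 (.node 1 (.leaf (nat_lit 0x441e0e3)) (.leaf (nat_lit 0x1420e90))) (.node 1 (.leaf (nat_lit 0x44204f0)) (.leaf (nat_lit 0x423d6a)))) (.node 2 (.node 1 (.leaf (nat_lit 0x3423449)) (.leaf (nat_lit 0x54235d8))) (.node 1 (.leaf (nat_lit 0x2425d09)) (.leaf (nat_lit 0x3425634))))) (.node 4 (.node 2 (.node 1 (.leaf (nat_lit 0x44256f3)) (.leaf (nat_lit 0x426703))) (.node 1 (.leaf (nat_lit 0x34262f1)) (.leaf (nat_lit 0x2427217)))) (.node 2 (.node 1 (.leaf (nat_lit 0x6427437)) (.leaf (nat_lit 0x242874f))) (.node 1 (.leaf (nat_lit 0x5428ac7)) (.leaf (nat_lit 0x242952c))))))))) (.node 64 (.node 32 (.node 16 (.node 8 (.node 4 (.node 2 (.node 1 (.leaf (nat_lit 0x34297bb)) (.leaf (nat_lit 0x6429898))) (.node 1 (.leaf (nat_lit 0x342a984)) (.leaf (nat_lit 0x642a7c3)))) (.node 2 (.node 1 (.leaf (nat_lit 0x142b644)) (.leaf (nat_lit 0x242b6d4)))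 (.node 1 (.leaf (nat_lit 0x642bedc)) (.leaf (nat_lit 0x142cad5))))) (.node 4 (.node 2 (.node 1 (.leaf (nat_lit 0x242c649)) (.leaf (nat_lit 0x142e74e))) (.node 1 (.leaf (nat_lit 0x642fb0f)) (.leaf (nat_lit 0x14309d1)))) (.node 2 (.node 1 (.leaf (nat_lit 0x6430c7b)) (.leaf (nat_lit 0x1431531))) (.node 1 (.leaf (nat_lit 0x4431169)) (.leaf (nat_lit 0x14328f7)))))) (.node 8 (.node 4 (.node 2 (.node 1 (.leaf (nat_lit 0x24324be)) (.leaf (nat_lit 0x4339f2))) (.node 1 (.leaf (nat_lit 0x34332af)) (.leaf (nat_lit 0x4434960)))) (.node 2 (.node 1 (.leaf (nat_lit 0x64345ac)) (.leaf (nat_lit 0x1435cce))) (.node 1 (.leaf (nat_lit 0x2435353)) (.leaf (nat_lit 0x64351b8))))) (.node 4 (.node 2 (.node 1 (.leaf (nat_lit 0x436463)) (.leaf (nat_lit 0x2437b83))) (.node 1 (.leaf (nat_lit 0x43a747)) (.leaf (nat_lit 0x143b171)))) (.node 2 (.node 1 (.leaf (nat_lit 0x343b76c))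 (.leaf (nat_lit 0x443bd0b))) (.node 1 (.leaf (nat_lit 0x143e93e)) (.leaf (nat_lit 0x243ebb8))))))) (.node 16 (.node 8 (.node 4 (.node 2 (.node 1 (.leaf (nat_lit 0x343e2f3)) (.leaf (nat_lit 0x4400c3))) (.node 1 (.leaf (nat_lit 0x6440992)) (.leaf (nat_lit 0x4414ea)))) (.node 2 (.node 1 (.leaf (nat_lit 0x24413af)) (.leaf (nat_lit 0x3441222))) (.node 1 (.leaf (nat_lit 0x4441cd1)) (.leaf (nat_lit 0x442314))))) (.node 4 (.node 2 (.node 1 (.leaf (nat_lit 0x644211e)) (.leaf (nat_lit 0x1445dd8))) (.node 1 (.leaf (nat_lit 0x444701d)) (.leaf (nat_lit 0x6447cad)))) (.node 2 (.node 1 (.leaf (nat_lit 0x1448c7d)) (.leaf (nat_lit 0x64485ab))) (.node 1 (.leaf (nat_lit 0x449405)) (.leaf (nat_lit 0x2449503)))))) (.node 8 (.node 4 (.node 2 (.node 1 (.leaf (nat_lit 0x4449a73)) (.leaf (nat_lit 0x644ad82))) (.node 1 (.leaf (nat_lit 0x244be8b)) (.leaf (nat_lit 0x44c5b5))))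 (.node 2 (.node 1 (.leaf (nat_lit 0x344d835)) (.leaf (nat_lit 0x444e4e2))) (.node 1 (.leaf (nat_lit 0x644fa58)) (.leaf (nat_lit 0x245010c))))) (.node 4 (.node 2 (.node 1 (.leaf (nat_lit 0x64505ea)) (.leaf (nat_lit 0x6451c63))) (.node 1 (.leaf (nat_lit 0x24527f0)) (.leaf (nat_lit 0x3452fd4)))) (.node 2 (.node 1 (.leaf (nat_lit 0x54526c1)) (.leaf (nat_lit 0x245363d))) (.node 1 (.leaf (nat_lit 0x4453d4a)) (.leaf (nat_lit 0x54536a4)))))))) (.node 32 (.node 16 (.node 8 (.node 4 (.node 2 (.node 1 (.leaf (nat_lit 0x45486d)) (.leaf (nat_lit 0x2454f1f))) (.node 1 (.leaf (nat_lit 0x4454d5f)) (.leaf (nat_lit 0x5454148)))) (.node 2 (.node 1 (.leaf (nat_lit 0x4556ed)) (.leaf (nat_lit 0x34559a7))) (.node 1 (.leaf (nat_lit 0x1456976)) (.leaf (nat_lit 0x2456599))))) (.node 4 (.node 2 (.node 1 (.leaf (nat_lit 0x3456859)) (.leaf (nat_lit 0x4456b14))) (.node 1 (.leaf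 (nat_lit 0x3457c55)) (.leaf (nat_lit 0x1458773)))) (.node 2 (.node 1 (.leaf (nat_lit 0x3459912)) (.leaf (nat_lit 0x645ac1b))) (.node 1 (.leaf (nat_lit 0x645bea1)) (.leaf (nat_lit 0x545cf51)))))) (.node 8 (.node 4 (.node 2 (.node 1 (.leaf (nat_lit 0x645c678)) (.leaf (nat_lit 0x645d645))) (.node 1 (.leaf (nat_lit 0x445ea52)) (.leaf (nat_lit 0x1460622)))) (.node 2 (.node 1 (.leaf (nat_lit 0x4460f0a)) (.leaf (nat_lit 0x5460d2b))) (.node 1 (.leaf (nat_lit 0x24618e0)) (.leaf (nat_lit 0x4461460))))) (.node 4 (.node 2 (.node 1 (.leaf (nat_lit 0x64612aa)) (.leaf (nat_lit 0x462e7e))) (.node 1 (.leaf (nat_lit 0x6462eed)) (.leaf (nat_lit 0x2465695)))) (.node 2 (.node 1 (.leaf (nat_lit 0x3465d96)) (.leaf (nat_lit 0x6465d10))) (.node 1 (.leaf (nat_lit 0x2466d64)) (.leaf (nat_lit 0x467381))))))) (.node 16 (.node 8 (.node 4 (.node 2 (.node 1 (.leaf (nat_lit 0x64682e7))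 (.leaf (nat_lit 0x46938b))) (.node 1 (.leaf (nat_lit 0x146cb3d)) (.leaf (nat_lit 0x246da32)))) (.node 2 (.node 1 (.leaf (nat_lit 0x446d424)) (.leaf (nat_lit 0x546db39))) (.node 1 (.leaf (nat_lit 0x46e11d)) (.leaf (nat_lit 0x546ed49))))) (.node 4 (.node 2 (.node 1 (.leaf (nat_lit 0x146f3db)) (.leaf (nat_lit 0x346f3f3))) (.node 1 (.leaf (nat_lit 0x646f105)) (.leaf (nat_lit 0x14713ca)))) (.node 2 (.node 1 (.leaf (nat_lit 0x2471c02)) (.leaf (nat_lit 0x3471ece))) (.node 1 (.leaf (nat_lit 0x4471e6e)) (.leaf (nat_lit 0x547218f)))))) (.node 8 (.node 4 (.node 2 (.node 1 (.leaf (nat_lit 0x6473041)) (.leaf (nat_lit 0x6474968))) (.node 1 (.leaf (nat_lit 0x4758b2)) (.leaf (nat_lit 0x476b17)))) (.node 2 (.node 1 (.leaf (nat_lit 0x1476e05)) (.leaf (nat_lit 0x2476240))) (.node 1 (.leaf (nat_lit 0x3477da3)) (.leaf (nat_lit 0x4477445))))) (.node 4 (.node 2 (.node 1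 (.leaf (nat_lit 0x347a10f)) (.leaf (nat_lit 0x547a66c))) (.node 1 (.leaf (nat_lit 0x147c6f0)) (.leaf (nat_lit 0x247c395)))) (.node 2 (.node 1 (.leaf (nat_lit 0x347c0fa)) (.leaf (nat_lit 0x447c0f2))) (.node 1 (.leaf (nat_lit 0x47d2b0)) (.leaf (nat_lit 0x247d58b))))))))))

/-- A part of `orbAll`. -/
def orbAll_12 : Tree := (.node 128 (.node 64 (.node 32 (.node 16 (.node 8 (.node 4 (.node 2 (.node 1 (.leaf (nat_lit 0x47eb2e)) (.leaf (nat_lit 0x647e0bf))) (.node 1 (.leaf (nat_lit 0x2480a3a)) (.leaf (nat_lit 0x5480403)))) (.node 2 (.node 1 (.leaf (nat_lit 0x648264c)) (.leaf (nat_lit 0x484d1e))) (.node 1 (.leaf (nat_lit 0x485481)) (.leaf (nat_lit 0x2485bba))))) (.node 4 (.node 2 (.node 1 (.leaf (nat_lit 0x6486002)) (.leaf (nat_lit 0x24870f3))) (.node 1 (.leaf (nat_lit 0x488f13)) (.leaf (nat_lit 0x348acdb)))) (.node 2 (.node 1 (.leaf (nat_lit 0x448a9d2))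 (.leaf (nat_lit 0x548ac40))) (.node 1 (.leaf (nat_lit 0x648a69e)) (.leaf (nat_lit 0x448bc36)))))) (.node 8 (.node 4 (.node 2 (.node 1 (.leaf (nat_lit 0x648b1d1)) (.leaf (nat_lit 0x548c245))) (.node 1 (.leaf (nat_lit 0x148d39d)) (.leaf (nat_lit 0x248d9dd)))) (.node 2 (.node 1 (.leaf (nat_lit 0x48e607)) (.leaf (nat_lit 0x648f287))) (.node 1 (.leaf (nat_lit 0x490ba4)) (.leaf (nat_lit 0x4490879))))) (.node 4 (.node 2 (.node 1 (.leaf (nat_lit 0x3491218)) (.leaf (nat_lit 0x6495ea6))) (.node 1 (.leaf (nat_lit 0x496b57)) (.leaf (nat_lit 0x1499d8f)))) (.node 2 (.node 1 (.leaf (nat_lit 0x4499d26)) (.leaf (nat_lit 0x349b0be))) (.node 1 (.leaf (nat_lit 0x549b504)) (.leaf (nat_lit 0x249cd6f))))))) (.node 16 (.node 8 (.node 4 (.node 2 (.node 1 (.leaf (nat_lit 0x349cac2)) (.leaf (nat_lit 0x649c959))) (.node 1 (.leaf (nat_lit 0x249d998)) (.leaf (nat_lit 0x349d084))))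 (.node 2 (.node 1 (.leaf (nat_lit 0x449d1e4)) (.leaf (nat_lit 0x649daf7))) (.node 1 (.leaf (nat_lit 0x49e59d)) (.leaf (nat_lit 0x349e5ba))))) (.node 4 (.node 2 (.node 1 (.leaf (nat_lit 0x249f4d6)) (.leaf (nat_lit 0x4a09a1))) (.node 1 (.leaf (nat_lit 0x54a0765)) (.leaf (nat_lit 0x14a1c86)))) (.node 2 (.node 1 (.leaf (nat_lit 0x4a21b3)) (.leaf (nat_lit 0x14a2ca5))) (.node 1 (.leaf (nat_lit 0x4a371c)) (.leaf (nat_lit 0x4a5dcf)))))) (.node 8 (.node 4 (.node 2 (.node 1 (.leaf (nat_lit 0x64a5a18)) (.leaf (nat_lit 0x44a6a76))) (.node 1 (.leaf (nat_lit 0x14a7bf3)) (.leaf (nat_lit 0x64a7bdd)))) (.node 2 (.node 1 (.leaf (nat_lit 0x14a8b98)) (.leaf (nat_lit 0x64a8d25))) (.node 1 (.leaf (nat_lit 0x4aacfa)) (.leaf (nat_lit 0x4abac8))))) (.node 4 (.node 2 (.node 1 (.leaf (nat_lit 0x4ad30c)) (.leaf (nat_lit 0x44ad16c))) (.node 1 (.leaf (nat_lit 0x54ad27e)) (.leaf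 (nat_lit 0x14b16dc)))) (.node 2 (.node 1 (.leaf (nat_lit 0x24b18e3)) (.leaf (nat_lit 0x44b17bf))) (.node 1 (.leaf (nat_lit 0x64b1ec1)) (.leaf (nat_lit 0x34b20db)))))))) (.node 32 (.node 16 (.node 8 (.node 4 (.node 2 (.node 1 (.leaf (nat_lit 0x64b2bf8)) (.leaf (nat_lit 0x14b344f))) (.node 1 (.leaf (nat_lit 0x24b3f53)) (.leaf (nat_lit 0x64b3042)))) (.node 2 (.node 1 (.leaf (nat_lit 0x14b410a)) (.leaf (nat_lit 0x34b56a8))) (.node 1 (.leaf (nat_lit 0x14b6f92)) (.leaf (nat_lit 0x24b6c7f))))) (.node 4 (.node 2 (.node 1 (.leaf (nat_lit 0x14b726f)) (.leaf (nat_lit 0x44b7eaf))) (.node 1 (.leaf (nat_lit 0x44b83d0)) (.leaf (nat_lit 0x64b8bf1)))) (.node 2 (.node 1 (.leaf (nat_lit 0x4b98ec)) (.leaf (nat_lit 0x64b945e))) (.node 1 (.leaf (nat_lit 0x4bb9a0)) (.leaf (nat_lit 0x4bcfac)))))) (.node 8 (.node 4 (.node 2 (.node 1 (.leaf (nat_lit 0x34bd584)) (.leaf (nat_lit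 0x44bd5f2))) (.node 1 (.leaf (nat_lit 0x14bf227)) (.leaf (nat_lit 0x14c164b)))) (.node 2 (.node 1 (.leaf (nat_lit 0x34c169d)) (.leaf (nat_lit 0x44c117c))) (.node 1 (.leaf (nat_lit 0x34c2709)) (.leaf (nat_lit 0x54c212d))))) (.node 4 (.node 2 (.node 1 (.leaf (nat_lit 0x64c2de2)) (.leaf (nat_lit 0x34c356a))) (.node 1 (.leaf (nat_lit 0x64c3a72)) (.leaf (nat_lit 0x34c6889)))) (.node 2 (.node 1 (.leaf (nat_lit 0x54c6220)) (.leaf (nat_lit 0x64c73e2))) (.node 1 (.leaf (nat_lit 0x4c9486)) (.leaf (nat_lit 0x4ca009))))))) (.node 16 (.node 8 (.node 4 (.node 2 (.node 1 (.leaf (nat_lit 0x4cba7a)) (.leaf (nat_lit 0x34cbcbb))) (.node 1 (.leaf (nat_lit 0x54cb8f0)) (.leaf (nat_lit 0x34cc677)))) (.node 2 (.node 1 (.leaf (nat_lit 0x54ccf2f)) (.leaf (nat_lit 0x4cd895))) (.node 1 (.leaf (nat_lit 0x34cd787)) (.leaf (nat_lit 0x44cde3b))))) (.node 4 (.node 2 (.node 1 (.leaf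 (nat_lit 0x54cd9b4)) (.leaf (nat_lit 0x14ce72b))) (.node 1 (.leaf (nat_lit 0x24cebb9)) (.leaf (nat_lit 0x4cf67c)))) (.node 2 (.node 1 (.leaf (nat_lit 0x34cfeff)) (.leaf (nat_lit 0x14d38ea))) (.node 1 (.leaf (nat_lit 0x34d3d3b)) (.leaf (nat_lit 0x24d5275)))))) (.node 8 (.node 4 (.node 2 (.node 1 (.leaf (nat_lit 0x4d60c2)) (.leaf (nat_lit 0x54d6c07))) (.node 1 (.leaf (nat_lit 0x64d732d)) (.leaf (nat_lit 0x14d915d)))) (.node 2 (.node 1 (.leaf (nat_lit 0x34d9db5)) (.leaf (nat_lit 0x44daa87))) (.node 1 (.leaf (nat_lit 0x14db49a)) (.leaf (nat_lit 0x14dca8d))))) (.node 4 (.node 2 (.node 1 (.leaf (nat_lit 0x24dc2cb)) (.leaf (nat_lit 0x44dce8f))) (.node 1 (.leaf (nat_lit 0x54dcd44)) (.leaf (nat_lit 0x64dd7f2)))) (.node 2 (.node 1 (.leaf (nat_lit 0x44dec72)) (.leaf (nat_lit 0x64e3246))) (.node 1 (.leaf (nat_lit 0x4e4f6c)) (.leaf (nat_lit 0x4e5887))))))))) (.node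 64 (.node 32 (.node 16 (.node 8 (.node 4 (.node 2 (.node 1 (.leaf (nat_lit 0x54e5cb1)) (.leaf (nat_lit 0x64e5484))) (.node 1 (.leaf (nat_lit 0x34e8ef9)) (.leaf (nat_lit 0x24e94f1)))) (.node 2 (.node 1 (.leaf (nat_lit 0x44e9c05)) (.leaf (nat_lit 0x4ecad8))) (.node 1 (.leaf (nat_lit 0x64ed897)) (.leaf (nat_lit 0x24ee419))))) (.node 4 (.node 2 (.node 1 (.leaf (nat_lit 0x44ee80f)) (.leaf (nat_lit 0x4ef20b))) (.node 1 (.leaf (nat_lit 0x34efd5d)) (.leaf (nat_lit 0x14f0ab1)))) (.node 2 (.node 1 (.leaf (nat_lit 0x24f076d)) (.leaf (nat_lit 0x64f0fb2))) (.node 1 (.leaf (nat_lit 0x24f23fd)) (.leaf (nat_lit 0x64f27ca)))))) (.node 8 (.node 4 (.node 2 (.node 1 (.leaf (nat_lit 0x44f4d47)) (.leaf (nat_lit 0x24f5448))) (.node 1 (.leaf (nat_lit 0x44f59b5)) (.leaf (nat_lit 0x54f5796)))) (.node 2 (.node 1 (.leaf (nat_lit 0x24f63e8)) (.leaf (nat_lit 0x34f689f))) (.node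 1 (.leaf (nat_lit 0x44f6eb1)) (.leaf (nat_lit 0x14f975d))))) (.node 4 (.node 2 (.node 1 (.leaf (nat_lit 0x24f9d6b)) (.leaf (nat_lit 0x44f958d))) (.node 1 (.leaf (nat_lit 0x14faaed)) (.leaf (nat_lit 0x4fb6b8)))) (.node 2 (.node 1 (.leaf (nat_lit 0x24fb636)) (.leaf (nat_lit 0x34fb32f))) (.node 1 (.leaf (nat_lit 0x4fcc60)) (.leaf (nat_lit 0x34fdc16))))))) (.node 16 (.node 8 (.node 4 (.node 2 (.node 1 (.leaf (nat_lit 0x14fe54c)) (.leaf (nat_lit 0x44fe808))) (.node 1 (.leaf (nat_lit 0x64feae4)) (.leaf (nat_lit 0x24ffdb2)))) (.node 2 (.node 1 (.leaf (nat_lit 0x44ff2bc)) (.leaf (nat_lit 0x54ffd06))) (.node 1 (.leaf (nat_lit 0x64ff742)) (.leaf (nat_lit 0x2500f9d))))) (.node 4 (.node 2 (.node 1 (.leaf (nat_lit 0x50186c)) (.leaf (nat_lit 0x25025a2))) (.node 1 (.leaf (nat_lit 0x5502ee4)) (.leaf (nat_lit 0x350473b)))) (.node 2 (.node 1 (.leaf (nat_lit 0x2505a97))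 (.leaf (nat_lit 0x6505615))) (.node 1 (.leaf (nat_lit 0x650830d)) (.leaf (nat_lit 0x5096e6)))))) (.node 8 (.node 4 (.node 2 (.node 1 (.leaf (nat_lit 0x35095f0)) (.leaf (nat_lit 0x150a63b))) (.node 1 (.leaf (nat_lit 0x450aa9a)) (.leaf (nat_lit 0x650b563)))) (.node 2 (.node 1 (.leaf (nat_lit 0x550ce62)) (.leaf (nat_lit 0x3511b71))) (.node 1 (.leaf (nat_lit 0x551201a)) (.leaf (nat_lit 0x3515256))))) (.node 4 (.node 2 (.node 1 (.leaf (nat_lit 0x2516fb9)) (.leaf (nat_lit 0x4516447))) (.node 1 (.leaf (nat_lit 0x2517342)) (.leaf (nat_lit 0x6518bed)))) (.node 2 (.node 1 (.leaf (nat_lit 0x651956d)) (.leaf (nat_lit 0x251a1de))) (.node 1 (.leaf (nat_lit 0x351bb15)) (.leaf (nat_lit 0x551b5ef)))))))) (.node 32 (.node 16 (.node 8 (.node 4 (.node 2 (.node 1 (.leaf (nat_lit 0x651b812)) (.leaf (nat_lit 0x151c434))) (.node 1 (.leaf (nat_lit 0x51d98d)) (.leaf (nat_lit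 0x251dace)))) (.node 2 (.node 1 (.leaf (nat_lit 0x351dd0a)) (.leaf (nat_lit 0x451dcaf))) (.node 1 (.leaf (nat_lit 0x551d4a0)) (.leaf (nat_lit 0x451e82c))))) (.node 4 (.node 2 (.node 1 (.leaf (nat_lit 0x651e7e8)) (.leaf (nat_lit 0x451f0b8))) (.node 1 (.leaf (nat_lit 0x55209c2)) (.leaf (nat_lit 0x6520fb0)))) (.node 2 (.node 1 (.leaf (nat_lit 0x3522a9c)) (.leaf (nat_lit 0x3524f32))) (.node 1 (.leaf (nat_lit 0x45246d9)) (.leaf (nat_lit 0x6524c13)))))) (.node 8 (.node 4 (.node 2 (.node 1 (.leaf (nat_lit 0x5525095)) (.leaf (nat_lit 0x15261a8))) (.node 1 (.leaf (nat_lit 0x4526799)) (.leaf (nat_lit 0x65267c9)))) (.node 2 (.node 1 (.leaf (nat_lit 0x15287bc)) (.leaf (nat_lit 0x3529b27))) (.node 1 (.leaf (nat_lit 0x352ae97)) (.leaf (nat_lit 0x252bd98))))) (.node 4 (.node 2 (.node 1 (.leaf (nat_lit 0x352d816)) (.leaf (nat_lit 0x252f6b0))) (.node 1 (.leaf (nat_lit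 0x552f5e4)) (.leaf (nat_lit 0x530c9d)))) (.node 2 (.node 1 (.leaf (nat_lit 0x25313ed)) (.leaf (nat_lit 0x53225a))) (.node 1 (.leaf (nat_lit 0x1533888)) (.leaf (nat_lit 0x4534a56))))))) (.node 16 (.node 8 (.node 4 (.node 2 (.node 1 (.leaf (nat_lit 0x3536827)) (.leaf (nat_lit 0x2537515))) (.node 1 (.leaf (nat_lit 0x6538212)) (.leaf (nat_lit 0x53918d)))) (.node 2 (.node 1 (.leaf (nat_lit 0x1539c50)) (.leaf (nat_lit 0x2539e4b))) (.node 1 (.leaf (nat_lit 0x35395e6)) (.leaf (nat_lit 0x45398fe))))) (.node 4 (.node 2 (.node 1 (.leaf (nat_lit 0x53a255)) (.leaf (nat_lit 0x153d822))) (.node 1 (.leaf (nat_lit 0x553fb20)) (.leaf (nat_lit 0x2540110)))) (.node 2 (.node 1 (.leaf (nat_lit 0x1542037)) (.leaf (nat_lit 0x3543bd2))) (.node 1 (.leaf (nat_lit 0x4544aa0)) (.leaf (nat_lit 0x5544e63)))))) (.node 8 (.node 4 (.node 2 (.node 1 (.leaf (nat_lit 0x1549ee9)) (.leaf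 (nat_lit 0x4549768))) (.node 1 (.leaf (nat_lit 0x654a407)) (.leaf (nat_lit 0x154bb60)))) (.node 2 (.node 1 (.leaf (nat_lit 0x254bc2c)) (.leaf (nat_lit 0x454b752))) (.node 1 (.leaf (nat_lit 0x154ce9c)) (.leaf (nat_lit 0x254cc92))))) (.node 4 (.node 2 (.node 1 (.leaf (nat_lit 0x454c957)) (.leaf (nat_lit 0x554c3bd))) (.node 1 (.leaf (nat_lit 0x354d21c)) (.leaf (nat_lit 0x154e1e3)))) (.node 2 (.node 1 (.leaf (nat_lit 0x654e2a6)) (.leaf (nat_lit 0x155033f))) (.node 1 (.leaf (nat_lit 0x25506f5)) (.leaf (nat_lit 0x3551ad9))))))))))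

/-- A part of `orbAll`. -/
def orbAll_13 : Tree := (.node 128 (.node 64 (.node 32 (.node 16 (.node 8 (.node 4 (.node 2 (.node 1 (.leaf (nat_lit 0x4551f38)) (.leaf (nat_lit 0x6551d2a))) (.node 1 (.leaf (nat_lit 0x35528c1)) (.leaf (nat_lit 0x6554004)))) (.node 2 (.node 1 (.leaf (nat_lit 0x65550f4)) (.leaf (nat_lit 0x25579f7))) (.node 1 (.leaf (nat_lit 0x558f78)) (.leaf (nat_lit 0x6558215))))) (.node 4 (.node 2 (.node 1 (.leaf (nat_lit 0x55938d)) (.leaf (nat_lit 0x3559690))) (.node 1 (.leaf (nat_lit 0x4559def)) (.leaf (nat_lit 0x155af77)))) (.node 2 (.node 1 (.leaf (nat_lit 0x455ae54)) (.leaf (nat_lit 0x655a760))) (.node 1 (.leaf (nat_lit 0x155ba69)) (.leaf (nat_lit 0x55ccf4)))))) (.node 8 (.node 4 (.node 2 (.node 1 (.leaf (nat_lit 0x355dada)) (.leaf (nat_lit 0x155e1c1))) (.node 1 (.leaf (nat_lit 0x255edc2)) (.leaf (nat_lit 0x355e1b6)))) (.node 2 (.node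 1 (.leaf (nat_lit 0x455ef37)) (.leaf (nat_lit 0x55f642))) (.node 1 (.leaf (nat_lit 0x355f25c)) (.leaf (nat_lit 0x655fe7a))))) (.node 4 (.node 2 (.node 1 (.leaf (nat_lit 0x25604d9)) (.leaf (nat_lit 0x65609d9))) (.node 1 (.leaf (nat_lit 0x562f5e)) (.leaf (nat_lit 0x2562030)))) (.node 2 (.node 1 (.leaf (nat_lit 0x3562300)) (.leaf (nat_lit 0x45627ed))) (.node 1 (.leaf (nat_lit 0x5562e59)) (.leaf (nat_lit 0x6563493))))))) (.node 16 (.node 8 (.node 4 (.node 2 (.node 1 (.leaf (nat_lit 0x4564ce6)) (.leaf (nat_lit 0x65658b9))) (.node 1 (.leaf (nat_lit 0x2569458)) (.leaf (nat_lit 0x3569c11)))) (.node 2 (.node 1 (.leaf (nat_lit 0x55693e0)) (.leaf (nat_lit 0x156c74c))) (.node 1 (.leaf (nat_lit 0x456d9f3)) (.leaf (nat_lit 0x156e6f1))))) (.node 4 (.node 2 (.node 1 (.leaf (nat_lit 0x256e735)) (.leaf (nat_lit 0x456e8fd))) (.node 1 (.leaf (nat_lit 0x156f730)) (.leaf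 (nat_lit 0x656f4de)))) (.node 2 (.node 1 (.leaf (nat_lit 0x5703ab)) (.leaf (nat_lit 0x5570cc5))) (.node 1 (.leaf (nat_lit 0x6570262)) (.leaf (nat_lit 0x157143e)))))) (.node 8 (.node 4 (.node 2 (.node 1 (.leaf (nat_lit 0x3571810)) (.leaf (nat_lit 0x6571ac9))) (.node 1 (.leaf (nat_lit 0x25724ce)) (.leaf (nat_lit 0x557307f)))) (.node 2 (.node 1 (.leaf (nat_lit 0x3574605)) (.leaf (nat_lit 0x65741c0))) (.node 1 (.leaf (nat_lit 0x5767dd)) (.leaf (nat_lit 0x2576dc4))))) (.node 4 (.node 2 (.node 1 (.leaf (nat_lit 0x257784f)) (.leaf (nat_lit 0x4577a9b))) (.node 1 (.leaf (nat_lit 0x5577d73)) (.leaf (nat_lit 0x65782c6)))) (.node 2 (.node 1 (.leaf (nat_lit 0x657b592)) (.leaf (nat_lit 0x57f7d2))) (.node 1 (.leaf (nat_lit 0x1582326)) (.leaf (nat_lit 0x584f4b)))))))) (.node 32 (.node 16 (.node 8 (.node 4 (.node 2 (.node 1 (.leaf (nat_lit 0x158681f)) (.leaf (nat_lit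 0x558799e))) (.node 1 (.leaf (nat_lit 0x6587337)) (.leaf (nat_lit 0x2588af8)))) (.node 2 (.node 1 (.leaf (nat_lit 0x258903f)) (.leaf (nat_lit 0x58adfd))) (.node 1 (.leaf (nat_lit 0x358aa12)) (.leaf (nat_lit 0x158bbe3))))) (.node 4 (.node 2 (.node 1 (.leaf (nat_lit 0x558c88a)) (.leaf (nat_lit 0x658cf22))) (.node 1 (.leaf (nat_lit 0x158d44c)) (.leaf (nat_lit 0x258d60f)))) (.node 2 (.node 1 (.leaf (nat_lit 0x658d44e)) (.leaf (nat_lit 0x158eabb))) (.node 1 (.leaf (nat_lit 0x458e548)) (.leaf (nat_lit 0x58f9f9)))))) (.node 8 (.node 4 (.node 2 (.node 1 (.leaf (nat_lit 0x15918a3)) (.leaf (nat_lit 0x6592587))) (.node 1 (.leaf (nat_lit 0x2593d70)) (.leaf (nat_lit 0x4593c89)))) (.node 2 (.node 1 (.leaf (nat_lit 0x5593d28)) (.leaf (nat_lit 0x6593781))) (.node 1 (.leaf (nat_lit 0x2595aa9)) (.leaf (nat_lit 0x4595a6b))))) (.node 4 (.node 2 (.node 1 (.leaf (nat_lit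 0x596364)) (.leaf (nat_lit 0x1597396))) (.node 1 (.leaf (nat_lit 0x159bdc5)) (.leaf (nat_lit 0x59c7fa)))) (.node 2 (.node 1 (.leaf (nat_lit 0x359c01b)) (.leaf (nat_lit 0x659dc47))) (.node 1 (.leaf (nat_lit 0x15a130e)) (.leaf (nat_lit 0x35a20ec))))))) (.node 16 (.node 8 (.node 4 (.node 2 (.node 1 (.leaf (nat_lit 0x65a6db3)) (.leaf (nat_lit 0x5a7a3c))) (.node 1 (.leaf (nat_lit 0x15a921a)) (.leaf (nat_lit 0x65a959f)))) (.node 2 (.node 1 (.leaf (nat_lit 0x5abe6f)) (.leaf (nat_lit 0x35ac9fa))) (.node 1 (.leaf (nat_lit 0x45ac597)) (.leaf (nat_lit 0x55acc0d))))) (.node 4 (.node 2 (.node 1 (.leaf (nat_lit 0x15ad8e9)) (.leaf (nat_lit 0x65ad5fe))) (.node 1 (.leaf (nat_lit 0x5aee81)) (.leaf (nat_lit 0x25af64d)))) (.node 2 (.node 1 (.leaf (nat_lit 0x35af2ae)) (.leaf (nat_lit 0x65b3d72))) (.node 1 (.leaf (nat_lit 0x65b5080)) (.leaf (nat_lit 0x25b608e)))))) (.node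 8 (.node 4 (.node 2 (.node 1 (.leaf (nat_lit 0x5b7ee8)) (.leaf (nat_lit 0x35b7cbf))) (.node 1 (.leaf (nat_lit 0x65b7aa8)) (.leaf (nat_lit 0x15b90e4)))) (.node 2 (.node 1 (.leaf (nat_lit 0x65bace1)) (.leaf (nat_lit 0x15bb8c7))) (.node 1 (.leaf (nat_lit 0x25bcb2c)) (.leaf (nat_lit 0x35bcfb6))))) (.node 4 (.node 2 (.node 1 (.leaf (nat_lit 0x55bcdb7)) (.leaf (nat_lit 0x5bdbbc))) (.node 1 (.leaf (nat_lit 0x35be75f)) (.leaf (nat_lit 0x45beda2)))) (.node 2 (.node 1 (.leaf (nat_lit 0x65beed6)) (.leaf (nat_lit 0x25bfb16))) (.node 1 (.leaf (nat_lit 0x15c17db)) (.leaf (nat_lit 0x25c1207))))))))) (.node 64 (.node 32 (.node 16 (.node 8 (.node 4 (.node 2 (.node 1 (.leaf (nat_lit 0x45c1adc)) (.leaf (nat_lit 0x65c203a))) (.node 1 (.leaf (nat_lit 0x65c4067)) (.leaf (nat_lit 0x15c6d97)))) (.node 2 (.node 1 (.leaf (nat_lit 0x35c63f6)) (.leaf (nat_lit 0x45c6988))) (.node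 1 (.leaf (nat_lit 0x65c96bd)) (.leaf (nat_lit 0x35ca257))))) (.node 4 (.node 2 (.node 1 (.leaf (nat_lit 0x5cbe44)) (.leaf (nat_lit 0x55cb6de))) (.node 1 (.leaf (nat_lit 0x25ce954)) (.leaf (nat_lit 0x45d1a01)))) (.node 2 (.node 1 (.leaf (nat_lit 0x55d11ce)) (.leaf (nat_lit 0x65d29d6))) (.node 1 (.leaf (nat_lit 0x15d7233)) (.leaf (nat_lit 0x25d75aa)))))) (.node 8 (.node 4 (.node 2 (.node 1 (.leaf (nat_lit 0x35d7560)) (.leaf (nat_lit 0x25d8aee))) (.node 1 (.leaf (nat_lit 0x5d90f0)) (.leaf (nat_lit 0x45d9dbb)))) (.node 2 (.node 1 (.leaf (nat_lit 0x5dada5)) (.leaf (nat_lit 0x65dc4cb))) (.node 1 (.leaf (nat_lit 0x65dd606)) (.leaf (nat_lit 0x15de911))))) (.node 4 (.node 2 (.node 1 (.leaf (nat_lit 0x35de483)) (.leaf (nat_lit 0x55de27a))) (.node 1 (.leaf (nat_lit 0x65df083)) (.leaf (nat_lit 0x25e004f)))) (.node 2 (.node 1 (.leaf (nat_lit 0x55e04b2)) (.leaf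 (nat_lit 0x65e09e0))) (.node 1 (.leaf (nat_lit 0x35e17a4)) (.leaf (nat_lit 0x45e18bd))))))) (.node 16 (.node 8 (.node 4 (.node 2 (.node 1 (.leaf (nat_lit 0x35e224e)) (.leaf (nat_lit 0x45e4a06))) (.node 1 (.leaf (nat_lit 0x65e473d)) (.leaf (nat_lit 0x15e5dea)))) (.node 2 (.node 1 (.leaf (nat_lit 0x15e642a)) (.leaf (nat_lit 0x35e60fc))) (.node 1 (.leaf (nat_lit 0x45e69da)) (.leaf (nat_lit 0x55eb04c))))) (.node 4 (.node 2 (.node 1 (.leaf (nat_lit 0x65ec836)) (.leaf (nat_lit 0x35ed917))) (.node 1 (.leaf (nat_lit 0x15ee38e)) (.leaf (nat_lit 0x25ee9c8)))) (.node 2 (.node 1 (.leaf (nat_lit 0x5ef97e)) (.leaf (nat_lit 0x55f3350))) (.node 1 (.leaf (nat_lit 0x5f7ea2)) (.leaf (nat_lit 0x15f806d)))))) (.node 8 (.node 4 (.node 2 (.node 1 (.leaf (nat_lit 0x25f9e08)) (.leaf (nat_lit 0x55f95ae))) (.node 1 (.leaf (nat_lit 0x5fa063)) (.leaf (nat_lit 0x55fad5b)))) (.node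 2 (.node 1 (.leaf (nat_lit 0x15fb92c)) (.leaf (nat_lit 0x45fbbd4))) (.node 1 (.leaf (nat_lit 0x65fb2c2)) (.leaf (nat_lit 0x25fc44b))))) (.node 4 (.node 2 (.node 1 (.leaf (nat_lit 0x55fe371)) (.leaf (nat_lit 0x15ff5d5))) (.node 1 (.leaf (nat_lit 0x6029c3)) (.leaf (nat_lit 0x56040cd)))) (.node 2 (.node 1 (.leaf (nat_lit 0x1605dab)) (.leaf (nat_lit 0x560545b))) (.node 1 (.leaf (nat_lit 0x3606999)) (.leaf (nat_lit 0x260747a)))))))) (.node 32 (.node 16 (.node 8 (.node 4 (.node 2 (.node 1 (.leaf (nat_lit 0x660751a)) (.leaf (nat_lit 0x260a29e))) (.node 1 (.leaf (nat_lit 0x60d03b)) (.leaf (nat_lit 0x560e24a)))) (.node 2 (.node 1 (.leaf (nat_lit 0x660fbc5)) (.leaf (nat_lit 0x66104f2))) (.node 1 (.leaf (nat_lit 0x3612bfa)) (.leaf (nat_lit 0x56185a5))))) (.node 4 (.node 2 (.node 1 (.leaf (nat_lit 0x6618618)) (.leaf (nat_lit 0x261b3bb))) (.node 1 (.leaf (nat_lit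 0x361b8ad)) (.leaf (nat_lit 0x561be67)))) (.node 2 (.node 1 (.leaf (nat_lit 0x161cc5b)) (.leaf (nat_lit 0x261ce95))) (.node 1 (.leaf (nat_lit 0x361c341)) (.leaf (nat_lit 0x61d5c4)))))) (.node 8 (.node 4 (.node 2 (.node 1 (.leaf (nat_lit 0x261e5f4)) (.leaf (nat_lit 0x361f18c))) (.node 1 (.leaf (nat_lit 0x461f266)) (.leaf (nat_lit 0x561f3de)))) (.node 2 (.node 1 (.leaf (nat_lit 0x1620ecd)) (.leaf (nat_lit 0x6620468))) (.node 1 (.leaf (nat_lit 0x1621ede)) (.leaf (nat_lit 0x662136a))))) (.node 4 (.node 2 (.node 1 (.leaf (nat_lit 0x625098)) (.leaf (nat_lit 0x3627a11))) (.node 1 (.leaf (nat_lit 0x1628e1d)) (.leaf (nat_lit 0x462aeaa)))) (.node 2 (.node 1 (.leaf (nat_lit 0x62bc9e)) (.leaf (nat_lit 0x262bc00))) (.node 1 (.leaf (nat_lit 0x562b020)) (.leaf (nat_lit 0x62c4d4))))))) (.node 16 (.node 8 (.node 4 (.node 2 (.node 1 (.leaf (nat_lit 0x162dc99)) (.leaf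 (nat_lit 0x262dbb7))) (.node 1 (.leaf (nat_lit 0x462d913)) (.leaf (nat_lit 0x162fc43)))) (.node 2 (.node 1 (.leaf (nat_lit 0x662f8cc)) (.leaf (nat_lit 0x663186b))) (.node 1 (.leaf (nat_lit 0x56320b5)) (.leaf (nat_lit 0x6368d7))))) (.node 4 (.node 2 (.node 1 (.leaf (nat_lit 0x5636261)) (.leaf (nat_lit 0x6636c2e))) (.node 1 (.leaf (nat_lit 0x163783c)) (.leaf (nat_lit 0x2637066)))) (.node 2 (.node 1 (.leaf (nat_lit 0x363735c)) (.leaf (nat_lit 0x46373fa))) (.node 1 (.leaf (nat_lit 0x5637f93)) (.leaf (nat_lit 0x663886f)))))) (.node 8 (.node 4 (.node 2 (.node 1 (.leaf (nat_lit 0x663a3bf)) (.leaf (nat_lit 0x663ce27))) (.node 1 (.leaf (nat_lit 0x363e0cb)) (.leaf (nat_lit 0x6402fd)))) (.node 2 (.node 1 (.leaf (nat_lit 0x2640d8d)) (.leaf (nat_lit 0x464299b))) (.node 1 (.leaf (nat_lit 0x5642964)) (.leaf (nat_lit 0x66438ff))))) (.node 4 (.node 2 (.node 1 (.leaf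 (nat_lit 0x6458d6)) (.leaf (nat_lit 0x1646a00))) (.node 1 (.leaf (nat_lit 0x46476c7)) (.leaf (nat_lit 0x5647c6d)))) (.node 2 (.node 1 (.leaf (nat_lit 0x1649689)) (.leaf (nat_lit 0x3649e83))) (.node 1 (.leaf (nat_lit 0x265021f)) (.leaf (nat_lit 0x6652492))))))))))

/-- A part of `orbAll`. -/
def orbAll_14 : Tree := (.node 128 (.node 64 (.node 32 (.node 16 (.node 8 (.node 4 (.node 2 (.node 1 (.leaf (nat_lit 0x5654399)) (.leaf (nat_lit 0x6556d0))) (.node 1 (.leaf (nat_lit 0x3655f3f)) (.leaf (nat_lit 0x2657138)))) (.node 2 (.node 1 (.leaf (nat_lit 0x46572cf)) (.leaf (nat_lit 0x659d2d))) (.node 1 (.leaf (nat_lit 0x3659dc6)) (.leaf (nat_lit 0x4659384))))) (.node 4 (.node 2 (.node 1 (.leaf (nat_lit 0x465bd79)) (.leaf (nat_lit 0x165ce24))) (.node 1 (.leaf (nat_lit 0x265c5b2)) (.leaf (nat_lit 0x465c50e)))) (.node 2 (.node 1 (.leaf (nat_lit 0x565c2ad)) (.leaf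 (nat_lit 0x265d4f3))) (.node 1 (.leaf (nat_lit 0x665d1a5)) (.leaf (nat_lit 0x2660b8b)))))) (.node 8 (.node 4 (.node 2 (.node 1 (.leaf (nat_lit 0x4660c74)) (.leaf (nat_lit 0x2661ad3))) (.node 1 (.leaf (nat_lit 0x2667170)) (.leaf (nat_lit 0x5668401)))) (.node 2 (.node 1 (.leaf (nat_lit 0x4669f7e)) (.leaf (nat_lit 0x366b75b))) (.node 1 (.leaf (nat_lit 0x366e3a1)) (.leaf (nat_lit 0x366fa0e))))) (.node 4 (.node 2 (.node 1 (.leaf (nat_lit 0x3670e33)) (.leaf (nat_lit 0x6673a1a))) (.node 1 (.leaf (nat_lit 0x3675e12)) (.leaf (nat_lit 0x567624f)))) (.node 2 (.node 1 (.leaf (nat_lit 0x67974d)) (.leaf (nat_lit 0x267a283))) (.node 1 (.leaf (nat_lit 0x267b433)) (.leaf (nat_lit 0x367b9ed))))))) (.node 16 (.node 8 (.node 4 (.node 2 (.node 1 (.leaf (nat_lit 0x467d204)) (.leaf (nat_lit 0x67e6ce))) (.node 1 (.leaf (nat_lit 0x16808a7)) (.leaf (nat_lit 0x168240f)))) (.node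 2 (.node 1 (.leaf (nat_lit 0x4686986)) (.leaf (nat_lit 0x4687090))) (.node 1 (.leaf (nat_lit 0x6687b6f)) (.leaf (nat_lit 0x6689ddf))))) (.node 4 (.node 2 (.node 1 (.leaf (nat_lit 0x168cac6)) (.leaf (nat_lit 0x668c1e8))) (.node 1 (.leaf (nat_lit 0x268e07a)) (.leaf (nat_lit 0x1690e79)))) (.node 2 (.node 1 (.leaf (nat_lit 0x26931d8)) (.leaf (nat_lit 0x6941a6))) (.node 1 (.leaf (nat_lit 0x26964a6)) (.leaf (nat_lit 0x6696b50)))))) (.node 8 (.node 4 (.node 2 (.node 1 (.leaf (nat_lit 0x16993fe)) (.leaf (nat_lit 0x369b17e))) (.node 1 (.leaf (nat_lit 0x469b6be)) (.leaf (nat_lit 0x69eab8)))) (.node 2 (.node 1 (.leaf (nat_lit 0x369fa79)) (.leaf (nat_lit 0x569f5b1))) (.node 1 (.leaf (nat_lit 0x66a22c9)) (.leaf (nat_lit 0x16a324b))))) (.node 4 (.node 2 (.node 1 (.leaf (nat_lit 0x26a4a6e)) (.leaf (nat_lit 0x66a71b1))) (.node 1 (.leaf (nat_lit 0x6aa3a3)) (.leaf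 (nat_lit 0x36aac52)))) (.node 2 (.node 1 (.leaf (nat_lit 0x66aab5b)) (.leaf (nat_lit 0x26b25cd))) (.node 1 (.leaf (nat_lit 0x36b52cd)) (.leaf (nat_lit 0x66b57cc)))))))) (.node 32 (.node 16 (.node 8 (.node 4 (.node 2 (.node 1 (.leaf (nat_lit 0x16b75f5)) (.leaf (nat_lit 0x26b7d89))) (.node 1 (.leaf (nat_lit 0x6b81a9)) (.leaf (nat_lit 0x36b95a6)))) (.node 2 (.node 1 (.leaf (nat_lit 0x36badbf)) (.leaf (nat_lit 0x66bab3c))) (.node 1 (.leaf (nat_lit 0x16bb555)) (.leaf (nat_lit 0x36bd85b))))) (.node 4 (.node 2 (.node 1 (.leaf (nat_lit 0x56be6a1)) (.leaf (nat_lit 0x16bfb97))) (.node 1 (.leaf (nat_lit 0x66c08b4)) (.leaf (nat_lit 0x36c1ce9)))) (.node 2 (.node 1 (.leaf (nat_lit 0x6c2cc7)) (.leaf (nat_lit 0x26c2b24))) (.node 1 (.leaf (nat_lit 0x6c3209)) (.leaf (nat_lit 0x6c6f98)))))) (.node 8 (.node 4 (.node 2 (.node 1 (.leaf (nat_lit 0x56c66b9)) (.leaf (nat_lit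 0x16c734c))) (.node 1 (.leaf (nat_lit 0x36c792a)) (.leaf (nat_lit 0x66c7359)))) (.node 2 (.node 1 (.leaf (nat_lit 0x36cce8e)) (.leaf (nat_lit 0x6ce6f4))) (.node 1 (.leaf (nat_lit 0x36ce72a)) (.leaf (nat_lit 0x66d0d85))))) (.node 4 (.node 2 (.node 1 (.leaf (nat_lit 0x26d1862)) (.leaf (nat_lit 0x36d1197))) (.node 1 (.leaf (nat_lit 0x36d2e04)) (.leaf (nat_lit 0x66d26dd)))) (.node 2 (.node 1 (.leaf (nat_lit 0x26d357e)) (.leaf (nat_lit 0x36d4335))) (.node 1 (.leaf (nat_lit 0x46d4355)) (.leaf (nat_lit 0x56d425e))))))) (.node 16 (.node 8 (.node 4 (.node 2 (.node 1 (.leaf (nat_lit 0x26d6c04)) (.leaf (nat_lit 0x26d8e60))) (.node 1 (.leaf (nat_lit 0x66d8eda)) (.leaf (nat_lit 0x6da2b2)))) (.node 2 (.node 1 (.leaf (nat_lit 0x26dd48d)) (.leaf (nat_lit 0x26df34f))) (.node 1 (.leaf (nat_lit 0x66dfa3d)) (.leaf (nat_lit 0x6e211c))))) (.node 4 (.node 2 (.node 1 (.leaf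 (nat_lit 0x66e72a4)) (.leaf (nat_lit 0x16e9d92))) (.node 1 (.leaf (nat_lit 0x26e9aca)) (.leaf (nat_lit 0x36e92bb)))) (.node 2 (.node 1 (.leaf (nat_lit 0x56ea5f6)) (.leaf (nat_lit 0x66ea8a2))) (.node 1 (.leaf (nat_lit 0x36ebf81)) (.leaf (nat_lit 0x26ece75)))))) (.node 8 (.node 4 (.node 2 (.node 1 (.leaf (nat_lit 0x46ed7e3)) (.leaf (nat_lit 0x26f1cb4))) (.node 1 (.leaf (nat_lit 0x36f1b84)) (.leaf (nat_lit 0x16f2e71)))) (.node 2 (.node 1 (.leaf (nat_lit 0x66f515f)) (.leaf (nat_lit 0x66f93c4))) (.node 1 (.leaf (nat_lit 0x66fc7de)) (.leaf (nat_lit 0x16fed94))))) (.node 4 (.node 2 (.node 1 (.leaf (nat_lit 0x66ff7ef)) (.leaf (nat_lit 0x37009ec))) (.node 1 (.leaf (nat_lit 0x5700391)) (.leaf (nat_lit 0x70145c)))) (.node 2 (.node 1 (.leaf (nat_lit 0x270153b)) (.leaf (nat_lit 0x47013b1))) (.node 1 (.leaf (nat_lit 0x57017a7)) (.leaf (nat_lit 0x67013a0)))))))))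 (.node 64 (.node 32 (.node 16 (.node 8 (.node 4 (.node 2 (.node 1 (.leaf (nat_lit 0x27038dc)) (.leaf (nat_lit 0x670617a))) (.node 1 (.leaf (nat_lit 0x37087c4)) (.leaf (nat_lit 0x6708915)))) (.node 2 (.node 1 (.leaf (nat_lit 0x170b091)) (.leaf (nat_lit 0x670e0cc))) (.node 1 (.leaf (nat_lit 0x1713056)) (.leaf (nat_lit 0x2713102))))) (.node 4 (.node 2 (.node 1 (.leaf (nat_lit 0x17189ea)) (.leaf (nat_lit 0x2718225))) (.node 1 (.leaf (nat_lit 0x17193ad)) (.leaf (nat_lit 0x6719877)))) (.node 2 (.node 1 (.leaf (nat_lit 0x171a90b)) (.leaf (nat_lit 0x571cf8f))) (.node 1 (.leaf (nat_lit 0x571f239)) (.leaf (nat_lit 0x671f05f)))))) (.node 8 (.node 4 (.node 2 (.node 1 (.leaf (nat_lit 0x6721880)) (.leaf (nat_lit 0x172490f))) (.node 1 (.leaf (nat_lit 0x47244d0)) (.leaf (nat_lit 0x27269a6)))) (.node 2 (.node 1 (.leaf (nat_lit 0x172c6c2)) (.leaf (nat_lit 0x472c9cc)))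 (.node 1 (.leaf (nat_lit 0x272de45)) (.leaf (nat_lit 0x272f8a4))))) (.node 4 (.node 2 (.node 1 (.leaf (nat_lit 0x572fb44)) (.leaf (nat_lit 0x67307f4))) (.node 1 (.leaf (nat_lit 0x6731b51)) (.leaf (nat_lit 0x733f9e)))) (.node 2 (.node 1 (.leaf (nat_lit 0x3733254)) (.leaf (nat_lit 0x1735de5))) (.node 1 (.leaf (nat_lit 0x67371f5)) (.leaf (nat_lit 0x3738292))))))) (.node 16 (.node 8 (.node 4 (.node 2 (.node 1 (.leaf (nat_lit 0x3739386)) (.leaf (nat_lit 0x5739844))) (.node 1 (.leaf (nat_lit 0x6739cdc)) (.leaf (nat_lit 0x273b525)))) (.node 2 (.node 1 (.leaf (nat_lit 0x573b847)) (.leaf (nat_lit 0x373c8c9))) (.node 1 (.leaf (nat_lit 0x1744040)) (.leaf (nat_lit 0x6744488))))) (.node 4 (.node 2 (.node 1 (.leaf (nat_lit 0x6746406)) (.leaf (nat_lit 0x6747adb))) (.node 1 (.leaf (nat_lit 0x1751535)) (.leaf (nat_lit 0x2751051)))) (.node 2 (.node 1 (.leaf (nat_lit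 0x5751e69)) (.leaf (nat_lit 0x67525f8))) (.node 1 (.leaf (nat_lit 0x3755778)) (.leaf (nat_lit 0x175eea9)))))) (.node 8 (.node 4 (.node 2 (.node 1 (.leaf (nat_lit 0x675f0a9)) (.leaf (nat_lit 0x17644ff))) (.node 1 (.leaf (nat_lit 0x176590e)) (.leaf (nat_lit 0x27654d3)))) (.node 2 (.node 1 (.leaf (nat_lit 0x1767a5f)) (.leaf (nat_lit 0x7684f7))) (.node 1 (.leaf (nat_lit 0x4769349)) (.leaf (nat_lit 0x176a9c0))))) (.node 4 (.node 2 (.node 1 (.leaf (nat_lit 0x376a80c)) (.leaf (nat_lit 0x576a302))) (.node 1 (.leaf (nat_lit 0x376e0a3)) (.leaf (nat_lit 0x476e0b6)))) (.node 2 (.node 1 (.leaf (nat_lit 0x47727e4)) (.leaf (nat_lit 0x3775569))) (.node 1 (.leaf (nat_lit 0x2776956)) (.leaf (nat_lit 0x377997b)))))))) (.node 32 (.node 16 (.node 8 (.node 4 (.node 2 (.node 1 (.leaf (nat_lit 0x377ad55)) (.leaf (nat_lit 0x277bc6f))) (.node 1 (.leaf (nat_lit 0x577bf33))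 (.leaf (nat_lit 0x377dd54)))) (.node 2 (.node 1 (.leaf (nat_lit 0x677fb90)) (.leaf (nat_lit 0x27809bc))) (.node 1 (.leaf (nat_lit 0x3785929)) (.leaf (nat_lit 0x478636f))))) (.node 4 (.node 2 (.node 1 (.leaf (nat_lit 0x6789e53)) (.leaf (nat_lit 0x678c159))) (.node 1 (.leaf (nat_lit 0x278d1db)) (.leaf (nat_lit 0x678db96)))) (.node 2 (.node 1 (.leaf (nat_lit 0x278edd5)) (.leaf (nat_lit 0x678e33d))) (.node 1 (.leaf (nat_lit 0x679025d)) (.leaf (nat_lit 0x27950dc)))))) (.node 8 (.node 4 (.node 2 (.node 1 (.leaf (nat_lit 0x796455)) (.leaf (nat_lit 0x37973cf))) (.node 1 (.leaf (nat_lit 0x2799967)) (.leaf (nat_lit 0x67992a5)))) (.node 2 (.node 1 (.leaf (nat_lit 0x379df05)) (.leaf (nat_lit 0x279ed02))) (.node 1 (.leaf (nat_lit 0x479e5a1)) (.leaf (nat_lit 0x57a1d53))))) (.node 4 (.node 2 (.node 1 (.leaf (nat_lit 0x67a7d13)) (.leaf (nat_lit 0x67a82df))) (.node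 1 (.leaf (nat_lit 0x47a96ef)) (.leaf (nat_lit 0x37aaed1)))) (.node 2 (.node 1 (.leaf (nat_lit 0x27aecaa)) (.leaf (nat_lit 0x67ae9fe))) (.node 1 (.leaf (nat_lit 0x7b0699)) (.leaf (nat_lit 0x7b1f28))))))) (.node 16 (.node 8 (.node 4 (.node 2 (.node 1 (.leaf (nat_lit 0x47b2465)) (.leaf (nat_lit 0x67b2bbe))) (.node 1 (.leaf (nat_lit 0x7b3c77)) (.leaf (nat_lit 0x17c0650)))) (.node 2 (.node 1 (.leaf (nat_lit 0x37c10bc)) (.leaf (nat_lit 0x27c307b))) (.node 1 (.leaf (nat_lit 0x67c547c)) (.leaf (nat_lit 0x37c7a4a))))) (.node 4 (.node 2 (.node 1 (.leaf (nat_lit 0x7ccce5)) (.leaf (nat_lit 0x57d15d1))) (.node 1 (.leaf (nat_lit 0x67d11eb)) (.leaf (nat_lit 0x7d3c8c)))) (.node 2 (.node 1 (.leaf (nat_lit 0x37d3088)) (.leaf (nat_lit 0x37d6c85))) (.node 1 (.leaf (nat_lit 0x57d67d9)) (.leaf (nat_lit 0x67da694)))))) (.node 8 (.node 4 (.node 2 (.node 1 (.leaf (nat_lit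 0x67dcec7)) (.leaf (nat_lit 0x7de3ba))) (.node 1 (.leaf (nat_lit 0x37e1c4e)) (.leaf (nat_lit 0x57e1dac)))) (.node 2 (.node 1 (.leaf (nat_lit 0x17ea061)) (.leaf (nat_lit 0x47eea1e))) (.node 1 (.leaf (nat_lit 0x27f19ee)) (.leaf (nat_lit 0x57f18e4))))) (.node 4 (.node 2 (.node 1 (.leaf (nat_lit 0x27f2aeb)) (.leaf (nat_lit 0x57f252b))) (.node 1 (.leaf (nat_lit 0x27f31f6)) (.leaf (nat_lit 0x67f3d59)))) (.node 2 (.node 1 (.leaf (nat_lit 0x27f57e1)) (.leaf (nat_lit 0x67f6a14))) (.node 1 (.leaf (nat_lit 0x27f877b)) (.leaf (nat_lit 0x17f908c))))))))))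

/-- A part of `orbAll`. -/
def orbAll_15 : Tree := (.node 110 (.node 55 (.node 27 (.node 13 (.node 6 (.node 3 (.node 1 (.leaf (nat_lit 0x67fe9e2)) (.node 1 (.leaf (nat_lit 0x7ff821)) (.leaf (nat_lit 0x2800526)))) (.node 1 (.leaf (nat_lit 0x4800ec0)) (.node 1 (.leaf (nat_lit 0x5800394)) (.leaf (nat_lit 0x68025e5))))) (.node 3 (.node 1 (.leaf (nat_lit 0x803950)) (.node 1 (.leaf (nat_lit 0x4803ee1)) (.leaf (nat_lit 0x580303c)))) (.node 2 (.node 1 (.leaf (nat_lit 0x380c9e1)) (.leaf (nat_lit 0x480ce15))) (.node 1 (.leaf (nat_lit 0x810d4b)) (.leaf (nat_lit 0x18102f5)))))) (.node 7 (.node 3 (.node 1 (.leaf (nat_lit 0x281a116)) (.node 1 (.leaf (nat_lit 0x381d77e)) (.leaf (nat_lit 0x681e48a)))) (.node 2 (.node 1 (.leaf (nat_lit 0x82bd24)) (.leaf (nat_lit 0x82d58a))) (.node 1 (.leaf (nat_lit 0x582ea13)) (.leaf (nat_lit 0x482f852))))) (.node 3 (.node 1 (.leaf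 (nat_lit 0x2830ed3)) (.node 1 (.leaf (nat_lit 0x8325de)) (.leaf (nat_lit 0x18366c8)))) (.node 2 (.node 1 (.leaf (nat_lit 0x5836008)) (.leaf (nat_lit 0x38392ed))) (.node 1 (.leaf (nat_lit 0x6840f45)) (.leaf (nat_lit 0x3841e9b))))))) (.node 14 (.node 7 (.node 3 (.node 1 (.leaf (nat_lit 0x4841e65)) (.node 1 (.leaf (nat_lit 0x68436ff)) (.leaf (nat_lit 0x684696f)))) (.node 2 (.node 1 (.leaf (nat_lit 0x184e085)) (.leaf (nat_lit 0x18547f7))) (.node 1 (.leaf (nat_lit 0x4858f8e)) (.leaf (nat_lit 0x85def2))))) (.node 3 (.node 1 (.leaf (nat_lit 0x685ff82)) (.node 1 (.leaf (nat_lit 0x58607b9)) (.leaf (nat_lit 0x3861554)))) (.node 2 (.node 1 (.leaf (nat_lit 0x386334b)) (.leaf (nat_lit 0x486313f))) (.node 1 (.leaf (nat_lit 0x2867a90)) (.leaf (nat_lit 0x686cb5d)))))) (.node 7 (.node 3 (.node 1 (.leaf (nat_lit 0x186f2f6)) (.node 1 (.leaf (nat_lit 0x2873705)) (.leaf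 (nat_lit 0x68754ac)))) (.node 2 (.node 1 (.leaf (nat_lit 0x5877a35)) (.leaf (nat_lit 0x487a786))) (.node 1 (.leaf (nat_lit 0x8825ca)) (.leaf (nat_lit 0x388228f))))) (.node 3 (.node 1 (.leaf (nat_lit 0x885038)) (.node 1 (.leaf (nat_lit 0x4885f86)) (.leaf (nat_lit 0x888a74)))) (.node 2 (.node 1 (.leaf (nat_lit 0x688af61)) (.leaf (nat_lit 0x188bdde))) (.node 1 (.leaf (nat_lit 0x488b59b)) (.leaf (nat_lit 0x488ee2f)))))))) (.node 27 (.node 13 (.node 6 (.node 3 (.node 1 (.leaf (nat_lit 0x688f69f)) (.node 1 (.leaf (nat_lit 0x891aa6)) (.leaf (nat_lit 0x3892033)))) (.node 1 (.leaf (nat_lit 0x589232e)) (.node 1 (.leaf (nat_lit 0x4895c5d)) (.leaf (nat_lit 0x389c363))))) (.node 3 (.node 1 (.leaf (nat_lit 0x68a2663)) (.node 1 (.leaf (nat_lit 0x48a370b)) (.leaf (nat_lit 0x28a5b86)))) (.node 2 (.node 1 (.leaf (nat_lit 0x58a5ee0)) (.leaf (nat_lit 0x38a6d9d))) (.node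 1 (.leaf (nat_lit 0x68a7eb0)) (.leaf (nat_lit 0x58ae80d)))))) (.node 7 (.node 3 (.node 1 (.leaf (nat_lit 0x38b1c8d)) (.node 1 (.leaf (nat_lit 0x28b4a4d)) (.leaf (nat_lit 0x8b553c)))) (.node 2 (.node 1 (.leaf (nat_lit 0x8b6268)) (.leaf (nat_lit 0x38b7f9a))) (.node 1 (.leaf (nat_lit 0x28c2aff)) (.leaf (nat_lit 0x8c47fd))))) (.node 3 (.node 1 (.leaf (nat_lit 0x28c4ae7)) (.node 1 (.leaf (nat_lit 0x68c4412)) (.leaf (nat_lit 0x28c7c4c)))) (.node 2 (.node 1 (.leaf (nat_lit 0x38c7955)) (.leaf (nat_lit 0x38c9e86))) (.node 1 (.leaf (nat_lit 0x8cc1ae)) (.leaf (nat_lit 0x68ce98b))))))) (.node 14 (.node 7 (.node 3 (.node 1 (.leaf (nat_lit 0x18d1934)) (.node 1 (.leaf (nat_lit 0x48d1710)) (.leaf (nat_lit 0x28d65e7)))) (.node 2 (.node 1 (.leaf (nat_lit 0x38d68cb)) (.leaf (nat_lit 0x58d695f))) (.node 1 (.leaf (nat_lit 0x48d8b35)) (.leaf (nat_lit 0x58d89a3))))) (.node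 3 (.node 1 (.leaf (nat_lit 0x28db8f9)) (.node 1 (.leaf (nat_lit 0x8df112)) (.leaf (nat_lit 0x28e9e40)))) (.node 2 (.node 1 (.leaf (nat_lit 0x8eb7ff)) (.leaf (nat_lit 0x48f2356))) (.node 1 (.leaf (nat_lit 0x28f4a07)) (.leaf (nat_lit 0x8f5524)))))) (.node 7 (.node 3 (.node 1 (.leaf (nat_lit 0x58f50d6)) (.node 1 (.leaf (nat_lit 0x48f6e3d)) (.leaf (nat_lit 0x38fa734)))) (.node 2 (.node 1 (.leaf (nat_lit 0x18fba51)) (.leaf (nat_lit 0x38fbe23))) (.node 1 (.leaf (nat_lit 0x5901d3d)) (.leaf (nat_lit 0x1905851))))) (.node 3 (.node 1 (.leaf (nat_lit 0x490a582)) (.node 1 (.leaf (nat_lit 0x490b9cb)) (.leaf (nat_lit 0x391d978)))) (.node 2 (.node 1 (.leaf (nat_lit 0x3924cb8)) (.leaf (nat_lit 0x4926185))) (.node 1 (.leaf (nat_lit 0x6928857)) (.leaf (nat_lit 0x2929469))))))))) (.node 55 (.node 27 (.node 13 (.node 6 (.node 3 (.node 1 (.leaf (nat_lit 0x392c096)) (.node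 1 (.leaf (nat_lit 0x492c9d7)) (.leaf (nat_lit 0x292d5d6)))) (.node 1 (.leaf (nat_lit 0x2931656)) (.node 1 (.leaf (nat_lit 0x5931358)) (.leaf (nat_lit 0x1945769))))) (.node 3 (.node 1 (.leaf (nat_lit 0x694637a)) (.node 1 (.leaf (nat_lit 0x39511cf)) (.leaf (nat_lit 0x955aa2)))) (.node 2 (.node 1 (.leaf (nat_lit 0x1958ca2)) (.leaf (nat_lit 0x395fbf9))) (.node 1 (.leaf (nat_lit 0x596cc88)) (.leaf (nat_lit 0x6972f54)))))) (.node 7 (.node 3 (.node 1 (.leaf (nat_lit 0x19732f9)) (.node 1 (.leaf (nat_lit 0x4973d8b)) (.leaf (nat_lit 0x19767e0)))) (.node 2 (.node 1 (.leaf (nat_lit 0x397c596)) (.leaf (nat_lit 0x497fafb))) (.node 1 (.leaf (nat_lit 0x398029c)) (.leaf (nat_lit 0x3983336))))) (.node 3 (.node 1 (.leaf (nat_lit 0x29848b3)) (.node 1 (.leaf (nat_lit 0x39858e5)) (.leaf (nat_lit 0x298769c)))) (.node 2 (.node 1 (.leaf (nat_lit 0x2989e76)) (.leaf (nat_lit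 0x198aaf9))) (.node 1 (.leaf (nat_lit 0x2992743)) (.leaf (nat_lit 0x3993939))))))) (.node 14 (.node 7 (.node 3 (.node 1 (.leaf (nat_lit 0x69a1bbb)) (.node 1 (.leaf (nat_lit 0x69a75bb)) (.leaf (nat_lit 0x9a8c21)))) (.node 2 (.node 1 (.leaf (nat_lit 0x49abc84)) (.leaf (nat_lit 0x49b920f))) (.node 1 (.leaf (nat_lit 0x39ba9b6)) (.leaf (nat_lit 0x9be619))))) (.node 3 (.node 1 (.leaf (nat_lit 0x39c156c)) (.node 1 (.leaf (nat_lit 0x19c21ff)) (.leaf (nat_lit 0x49c68aa)))) (.node 2 (.node 1 (.leaf (nat_lit 0x29d58d3)) (.leaf (nat_lit 0x49d5b87))) (.node 1 (.leaf (nat_lit 0x69d6d93)) (.leaf (nat_lit 0x39d9800)))))) (.node 7 (.node 3 (.node 1 (.leaf (nat_lit 0x49de7f5)) (.node 1 (.leaf (nat_lit 0x9df7ec)) (.leaf (nat_lit 0x69dfe1a)))) (.node 2 (.node 1 (.leaf (nat_lit 0x49f41ba)) (.leaf (nat_lit 0x49f8574))) (.node 1 (.leaf (nat_lit 0xa00bd1)) (.leaf (nat_lit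 0x3a07f3a))))) (.node 3 (.node 1 (.leaf (nat_lit 0x4a0b803)) (.node 1 (.leaf (nat_lit 0xa135fa)) (.leaf (nat_lit 0x4a13fba)))) (.node 2 (.node 1 (.leaf (nat_lit 0x4a26b65)) (.leaf (nat_lit 0x3a2d2f0))) (.node 1 (.leaf (nat_lit 0x2a3dfb5)) (.leaf (nat_lit 0x5a3d2e9)))))))) (.node 27 (.node 13 (.node 6 (.node 3 (.node 1 (.leaf (nat_lit 0x3a3e85a)) (.node 1 (.leaf (nat_lit 0x4a3e9a2)) (.leaf (nat_lit 0x2a44f58)))) (.node 1 (.leaf (nat_lit 0xa45d52)) (.node 1 (.leaf (nat_lit 0x6a567a6)) (.leaf (nat_lit 0x5a62a04))))) (.node 3 (.node 1 (.leaf (nat_lit 0x1a7685d)) (.node 1 (.leaf (nat_lit 0x4a7d6f2)) (.leaf (nat_lit 0x5a8031e)))) (.node 2 (.node 1 (.leaf (nat_lit 0xa83641)) (.leaf (nat_lit 0xa8b7ea))) (.node 1 (.leaf (nat_lit 0x3a8b67d)) (.leaf (nat_lit 0x2a928e6)))))) (.node 7 (.node 3 (.node 1 (.leaf (nat_lit 0x5a9285e)) (.node 1 (.leaf (nat_lit 0x6a95a2c))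 (.leaf (nat_lit 0x5a9d62d)))) (.node 2 (.node 1 (.leaf (nat_lit 0x1aa5ca8)) (.leaf (nat_lit 0x6aa7e94))) (.node 1 (.leaf (nat_lit 0x2aac7b7)) (.leaf (nat_lit 0x5aac298))))) (.node 3 (.node 1 (.leaf (nat_lit 0x6ab3cb5)) (.node 1 (.leaf (nat_lit 0x6ab4f59)) (.leaf (nat_lit 0x1abc46c)))) (.node 2 (.node 1 (.leaf (nat_lit 0x2ac598a)) (.leaf (nat_lit 0x3aeb3b9))) (.node 1 (.leaf (nat_lit 0x2afd08f)) (.leaf (nat_lit 0x6affe6c))))))) (.node 14 (.node 7 (.node 3 (.node 1 (.leaf (nat_lit 0x6b041d6)) (.node 1 (.leaf (nat_lit 0xb1114d)) (.leaf (nat_lit 0x1b18faf)))) (.node 2 (.node 1 (.leaf (nat_lit 0xb1fd9c)) (.leaf (nat_lit 0x4b1f156))) (.node 1 (.leaf (nat_lit 0x6b22d00)) (.leaf (nat_lit 0x1b2b29f))))) (.node 3 (.node 1 (.leaf (nat_lit 0x3b342ac)) (.node 1 (.leaf (nat_lit 0x3b3cead)) (.leaf (nat_lit 0x2b3e470)))) (.node 2 (.node 1 (.leaf (nat_lit 0x1b426b6))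 (.leaf (nat_lit 0x2b42128))) (.node 1 (.leaf (nat_lit 0x2b57c3b)) (.leaf (nat_lit 0x2b87f30)))))) (.node 7 (.node 3 (.node 1 (.leaf (nat_lit 0x3b8a744)) (.node 1 (.leaf (nat_lit 0x4bc0059)) (.leaf (nat_lit 0x3bf83cb)))) (.node 2 (.node 1 (.leaf (nat_lit 0x5c1fc44)) (.leaf (nat_lit 0xc4b8ac))) (.node 1 (.leaf (nat_lit 0x6c5512f)) (.leaf (nat_lit 0x3c5addb))))) (.node 3 (.node 1 (.leaf (nat_lit 0x3c7bd60)) (.node 1 (.leaf (nat_lit 0x2c97807)) (.leaf (nat_lit 0xcae546)))) (.node 2 (.node 1 (.leaf (nat_lit 0xcb1a15)) (.leaf (nat_lit 0x5ce2552))) (.node 1 (.leaf (nat_lit 0x1d1a4a1)) (.leaf (nat_lit 0x1d2c63e))))))))))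

/-- All points. -/
def orbAll : Tree := (.node 2048 (.node 1024 (.node 512 (.node 256 orbAll_0 orbAll_1) (.node 256 orbAll_2 orbAll_3)) (.node 512 (.node 256 orbAll_4 orbAll_5) (.node 256 orbAll_6 orbAll_7))) (.node 1024 (.node 512 (.node 256 orbAll_8 orbAll_9) (.node 256 orbAll_10 orbAll_11)) (.node 512 (.node 256 orbAll_12 orbAll_13) (.node 256 orbAll_14 orbAll_15))))

/-- A part of `orbN`. -/
def orbN_0 : Tree := (.node 128 (.node 64 (.node 32 (.node 16 (.node 8 (.node 4 (.node 2 (.node 1 (.leaf (nat_lit 0xd1f)) (.leaf (nat_lit 0x1000bf4))) (.node 1 (.leaf (nat_lit 0x1c98)) (.leaf (nat_lit 0x3001b1c)))) (.node 2 (.node 1 (.leaf (nat_lit 0x300216f)) (.leaf (nat_lit 0x10038e1))) (.node 1 (.leaf (nat_lit 0x2003c51)) (.leaf (nat_lit 0x300314c))))) (.node 4 (.node 2 (.node 1 (.leaf (nat_lit 0x10040a7)) (.leaf (nat_lit 0x2004732))) (.node 1 (.leaf (nat_lit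 0x3004fa3)) (.leaf (nat_lit 0x5d38)))) (.node 2 (.node 1 (.leaf (nat_lit 0x2005404)) (.leaf (nat_lit 0x3005d9b))) (.node 1 (.leaf (nat_lit 0x1007534)) (.leaf (nat_lit 0x2007654)))))) (.node 8 (.node 4 (.node 2 (.node 1 (.leaf (nat_lit 0x8c1b)) (.leaf (nat_lit 0x200806b))) (.node 1 (.leaf (nat_lit 0x3008f08)) (.leaf (nat_lit 0x100ac43)))) (.node 2 (.node 1 (.leaf (nat_lit 0x200a475)) (.leaf (nat_lit 0x300b4bf))) (.node 1 (.leaf (nat_lit 0xcec1)) (.leaf (nat_lit 0x300c503))))) (.node 4 (.node 2 (.node 1 (.leaf (nat_lit 0x100d7fa)) (.leaf (nat_lit 0x200d4cb))) (.node 1 (.leaf (nat_lit 0x300d01c)) (.leaf (nat_lit 0xe84e)))) (.node 2 (.node 1 (.leaf (nat_lit 0x200e6e0)) (.leaf (nat_lit 0x300e669))) (.node 1 (.leaf (nat_lit 0x3010781)) (.leaf (nat_lit 0x112c6))))))) (.node 16 (.node 8 (.node 4 (.node 2 (.node 1 (.leaf (nat_lit 0x3011ac6)) (.leaf (nat_lit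 0x10122ec))) (.node 1 (.leaf (nat_lit 0x2012b50)) (.leaf (nat_lit 0x3012491)))) (.node 2 (.node 1 (.leaf (nat_lit 0x13213)) (.leaf (nat_lit 0x2013d59))) (.node 1 (.leaf (nat_lit 0x30131a4)) (.leaf (nat_lit 0x1015b60))))) (.node 4 (.node 2 (.node 1 (.leaf (nat_lit 0x2015c2c)) (.leaf (nat_lit 0x30158ca))) (.node 1 (.leaf (nat_lit 0x301624f)) (.leaf (nat_lit 0x1017e49)))) (.node 2 (.node 1 (.leaf (nat_lit 0x20176ba)) (.leaf (nat_lit 0x30170e3))) (.node 1 (.leaf (nat_lit 0x18ca4)) (.leaf (nat_lit 0x20186b9)))))) (.node 8 (.node 4 (.node 2 (.node 1 (.leaf (nat_lit 0x30188d5)) (.leaf (nat_lit 0x19741))) (.node 1 (.leaf (nat_lit 0x101a65c)) (.leaf (nat_lit 0x201a522)))) (.node 2 (.node 1 (.leaf (nat_lit 0x301b91f)) (.leaf (nat_lit 0x1c77e))) (.node 1 (.leaf (nat_lit 0x301ce87)) (.leaf (nat_lit 0x101d66d))))) (.node 4 (.node 2 (.node 1 (.leaf (nat_lit 0x201d21a))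 (.leaf (nat_lit 0x301da73))) (.node 1 (.leaf (nat_lit 0x101e457)) (.leaf (nat_lit 0x201e2a6)))) (.node 2 (.node 1 (.leaf (nat_lit 0x301eda9)) (.leaf (nat_lit 0x301fa36))) (.node 1 (.leaf (nat_lit 0x10206a9)) (.leaf (nat_lit 0x2020eb0)))))))) (.node 32 (.node 16 (.node 8 (.node 4 (.node 2 (.node 1 (.leaf (nat_lit 0x30209f6)) (.leaf (nat_lit 0x2135e))) (.node 1 (.leaf (nat_lit 0x2021b48)) (.leaf (nat_lit 0x3021909)))) (.node 2 (.node 1 (.leaf (nat_lit 0x225e7)) (.leaf (nat_lit 0x1023736))) (.node 1 (.leaf (nat_lit 0x202359c)) (.leaf (nat_lit 0x3024958))))) (.node 4 (.node 2 (.node 1 (.leaf (nat_lit 0x2595f)) (.leaf (nat_lit 0x30255bf))) (.node 1 (.leaf (nat_lit 0x1026ece)) (.leaf (nat_lit 0x2026ed6)))) (.node 2 (.node 1 (.leaf (nat_lit 0x302671d)) (.leaf (nat_lit 0x272f3))) (.node 1 (.leaf (nat_lit 0x2027792)) (.leaf (nat_lit 0x3027879)))))) (.node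 8 (.node 4 (.node 2 (.node 1 (.leaf (nat_lit 0x1029862)) (.leaf (nat_lit 0x2029ea6))) (.node 1 (.leaf (nat_lit 0x102ac0f)) (.leaf (nat_lit 0x202ae84)))) (.node 2 (.node 1 (.leaf (nat_lit 0x302a149)) (.leaf (nat_lit 0x2bf9c))) (.node 1 (.leaf (nat_lit 0x202bfa1)) (.leaf (nat_lit 0x302b519))))) (.node 4 (.node 2 (.node 1 (.leaf (nat_lit 0x102d770)) (.leaf (nat_lit 0x202d1ec))) (.node 1 (.leaf (nat_lit 0x202e40d)) (.leaf (nat_lit 0x302e01b)))) (.node 2 (.node 1 (.leaf (nat_lit 0x2fa07)) (.leaf (nat_lit 0x302f1b9))) (.node 1 (.leaf (nat_lit 0x10304be)) (.leaf (nat_lit 0x2030e45))))))) (.node 16 (.node 8 (.node 4 (.node 2 (.node 1 (.leaf (nat_lit 0x3030b26)) (.leaf (nat_lit 0x10311af))) (.node 1 (.leaf (nat_lit 0x2031da8)) (.leaf (nat_lit 0x323ea)))) (.node 2 (.node 1 (.leaf (nat_lit 0x2032c0c)) (.leaf (nat_lit 0x3032f7c))) (.node 1 (.leaf (nat_lit 0x1034753))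 (.leaf (nat_lit 0x2034251))))) (.node 4 (.node 2 (.node 1 (.leaf (nat_lit 0x3034fa2)) (.leaf (nat_lit 0x3035323))) (.node 1 (.leaf (nat_lit 0x1036f9b)) (.leaf (nat_lit 0x2036947)))) (.node 2 (.node 1 (.leaf (nat_lit 0x303655d)) (.leaf (nat_lit 0x37727))) (.node 1 (.leaf (nat_lit 0x2037436)) (.leaf (nat_lit 0x3037f49)))))) (.node 8 (.node 4 (.node 2 (.node 1 (.leaf (nat_lit 0x3848c)) (.leaf (nat_lit 0x1039819))) (.node 1 (.leaf (nat_lit 0x20394ae)) (.leaf (nat_lit 0x3aa4e)))) (.node 2 (.node 1 (.leaf (nat_lit 0x203a54a)) (.leaf (nat_lit 0x303ad0f))) (.node 1 (.leaf (nat_lit 0x103c647)) (.leaf (nat_lit 0x203c752))))) (.node 4 (.node 2 (.node 1 (.leaf (nat_lit 0x103da0b)) (.leaf (nat_lit 0x303dd20))) (.node 1 (.leaf (nat_lit 0x3e9ca)) (.leaf (nat_lit 0x203e827)))) (.node 2 (.node 1 (.leaf (nat_lit 0x303e9c6)) (.leaf (nat_lit 0x1040ed9))) (.node 1 (.leaf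 (nat_lit 0x2040319)) (.leaf (nat_lit 0x2041d63))))))))) (.node 64 (.node 32 (.node 16 (.node 8 (.node 4 (.node 2 (.node 1 (.leaf (nat_lit 0x3041529)) (.leaf (nat_lit 0x4210e))) (.node 1 (.leaf (nat_lit 0x3042344)) (.leaf (nat_lit 0x1043945)))) (.node 2 (.node 1 (.leaf (nat_lit 0x2043d12)) (.leaf (nat_lit 0x3043cbe))) (.node 1 (.leaf (nat_lit 0x104468c)) (.leaf (nat_lit 0x20448cb))))) (.node 4 (.node 2 (.node 1 (.leaf (nat_lit 0x454c5)) (.leaf (nat_lit 0x2045ad7))) (.node 1 (.leaf (nat_lit 0x304574e)) (.leaf (nat_lit 0x1047b25)))) (.node 2 (.node 1 (.leaf (nat_lit 0x2047451)) (.leaf (nat_lit 0x304700c))) (.node 1 (.leaf (nat_lit 0x304837c)) (.leaf (nat_lit 0x10493d8)))))) (.node 8 (.node 4 (.node 2 (.node 1 (.leaf (nat_lit 0x2049d72)) (.leaf (nat_lit 0x3049c84))) (.node 1 (.leaf (nat_lit 0x4a57f)) (.leaf (nat_lit 0x204af61)))) (.node 2 (.node 1 (.leaf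 (nat_lit 0x304ac28)) (.leaf (nat_lit 0x104ca52))) (.node 1 (.leaf (nat_lit 0x204c405)) (.leaf (nat_lit 0x304d515))))) (.node 4 (.node 2 (.node 1 (.leaf (nat_lit 0x4eaf4)) (.leaf (nat_lit 0x304ebe1))) (.node 1 (.leaf (nat_lit 0x104fafe)) (.leaf (nat_lit 0x204f234)))) (.node 2 (.node 1 (.leaf (nat_lit 0x304f19c)) (.leaf (nat_lit 0x50b85))) (.node 1 (.leaf (nat_lit 0x2050ef9)) (.leaf (nat_lit 0x30509ba))))))) (.node 16 (.node 8 (.node 4 (.node 2 (.node 1 (.leaf (nat_lit 0x205270b)) (.leaf (nat_lit 0x305212c))) (.node 1 (.leaf (nat_lit 0x10542b4)) (.leaf (nat_lit 0x20548f8)))) (.node 2 (.node 1 (.leaf (nat_lit 0x20550cf)) (.leaf (nat_lit 0x3055b11))) (.node 1 (.leaf (nat_lit 0x563d9)) (.leaf (nat_lit 0x3056944))))) (.node 4 (.node 2 (.node 1 (.leaf (nat_lit 0x1057307)) (.leaf (nat_lit 0x2057dcc))) (.node 1 (.leaf (nat_lit 0x3057a47)) (.leaf (nat_lit 0x58117))))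 (.node 2 (.node 1 (.leaf (nat_lit 0x205834a)) (.leaf (nat_lit 0x3058c0b))) (.node 1 (.leaf (nat_lit 0x305a43a)) (.leaf (nat_lit 0x105b474)))))) (.node 8 (.node 4 (.node 2 (.node 1 (.leaf (nat_lit 0x205bfc4)) (.leaf (nat_lit 0x305b25f))) (.node 1 (.leaf (nat_lit 0x105c008)) (.leaf (nat_lit 0x305cf98)))) (.node 2 (.node 1 (.leaf (nat_lit 0x105da30)) (.leaf (nat_lit 0x205db21))) (.node 1 (.leaf (nat_lit 0x305d6c4)) (.leaf (nat_lit 0x5e542))))) (.node 4 (.node 2 (.node 1 (.leaf (nat_lit 0x205e762)) (.leaf (nat_lit 0x305eee0))) (.node 1 (.leaf (nat_lit 0x5f9b3)) (.leaf (nat_lit 0x1060cc6)))) (.node 2 (.node 1 (.leaf (nat_lit 0x2060ad3)) (.leaf (nat_lit 0x2061a6c))) (.node 1 (.leaf (nat_lit 0x3061b5b)) (.leaf (nat_lit 0x2062e2f)))))))) (.node 32 (.node 16 (.node 8 (.node 4 (.node 2 (.node 1 (.leaf (nat_lit 0x3063e57)) (.leaf (nat_lit 0x648d4))) (.node 1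 (.leaf (nat_lit 0x30644da)) (.leaf (nat_lit 0x1065196)))) (.node 2 (.node 1 (.leaf (nat_lit 0x206542e)) (.leaf (nat_lit 0x3065ef4))) (.node 1 (.leaf (nat_lit 0x2066bae)) (.leaf (nat_lit 0x3066466))))) (.node 4 (.node 2 (.node 1 (.leaf (nat_lit 0x10683d5)) (.leaf (nat_lit 0x2068031))) (.node 1 (.leaf (nat_lit 0x1069011)) (.leaf (nat_lit 0x6a776)))) (.node 2 (.node 1 (.leaf (nat_lit 0x206aeb7)) (.leaf (nat_lit 0x306abd8))) (.node 1 (.leaf (nat_lit 0x106ca77)) (.leaf (nat_lit 0x206c764)))))) (.node 8 (.node 4 (.node 2 (.node 1 (.leaf (nat_lit 0x206d4e0)) (.leaf (nat_lit 0x306da3c))) (.node 1 (.leaf (nat_lit 0x6e42d)) (.leaf (nat_lit 0x306e89b)))) (.node 2 (.node 1 (.leaf (nat_lit 0x106fceb)) (.leaf (nat_lit 0x206fca6))) (.node 1 (.leaf (nat_lit 0x306fdd2)) (.leaf (nat_lit 0x10704dd))))) (.node 4 (.node 2 (.node 1 (.leaf (nat_lit 0x715b5)) (.leaf (nat_lit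 0x2071a4b))) (.node 1 (.leaf (nat_lit 0x307101d)) (.leaf (nat_lit 0x3073825)))) (.node 2 (.node 1 (.leaf (nat_lit 0x74fc1)) (.leaf (nat_lit 0x3074197))) (.node 1 (.leaf (nat_lit 0x1075965)) (.leaf (nat_lit 0x2075bc8))))))) (.node 16 (.node 8 (.node 4 (.node 2 (.node 1 (.leaf (nat_lit 0x3075a95)) (.leaf (nat_lit 0x76756))) (.node 1 (.leaf (nat_lit 0x20763a7)) (.leaf (nat_lit 0x30763ec)))) (.node 2 (.node 1 (.leaf (nat_lit 0x30787c7)) (.leaf (nat_lit 0x10799c9))) (.node 1 (.leaf (nat_lit 0x20793ac)) (.leaf (nat_lit 0x207a352))))) (.node 4 (.node 2 (.node 1 (.leaf (nat_lit 0x307ab49)) (.leaf (nat_lit 0x7b4ac))) (.node 1 (.leaf (nat_lit 0x307b831)) (.leaf (nat_lit 0x107c573)))) (.node 2 (.node 1 (.leaf (nat_lit 0x207ce68)) (.leaf (nat_lit 0x307c9ae))) (.node 1 (.leaf (nat_lit 0x7d486)) (.leaf (nat_lit 0x207d5c1)))))) (.node 8 (.node 4 (.node 2 (.node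 1 (.leaf (nat_lit 0x307d411)) (.leaf (nat_lit 0x307f129))) (.node 1 (.leaf (nat_lit 0x1080a24)) (.leaf (nat_lit 0x20804f6)))) (.node 2 (.node 1 (.leaf (nat_lit 0x3080b3a)) (.leaf (nat_lit 0x10810d1))) (.node 1 (.leaf (nat_lit 0x308177c)) (.leaf (nat_lit 0x108219a))))) (.node 4 (.node 2 (.node 1 (.leaf (nat_lit 0x2082785)) (.leaf (nat_lit 0x3082f68))) (.node 1 (.leaf (nat_lit 0x83ae1)) (.leaf (nat_lit 0x20834d7)))) (.node 2 (.node 1 (.leaf (nat_lit 0x30836db)) (.leaf (nat_lit 0x84fd3))) (.node 1 (.leaf (nat_lit 0x1085b1e)) (.leaf (nat_lit 0x2085c25))))))))))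

/-- A part of `orbN`. -/
def orbN_1 : Tree := (.node 128 (.node 64 (.node 32 (.node 16 (.node 8 (.node 4 (.node 2 (.node 1 (.leaf (nat_lit 0x2086710)) (.leaf (nat_lit 0x3086806))) (.node 1 (.leaf (nat_lit 0x2087934)) (.leaf (nat_lit 0x30883a1)))) (.node 2 (.node 1 (.leaf (nat_lit 0x890ae)) (.leaf (nat_lit 0x3089afd))) (.node 1 (.leaf (nat_lit 0x108a11b)) (.leaf (nat_lit 0x208a322))))) (.node 4 (.node 2 (.node 1 (.leaf (nat_lit 0x308a80d)) (.leaf (nat_lit 0x208b33c))) (.node 1 (.leaf (nat_lit 0x308b746)) (.leaf (nat_lit 0x108df0c)))) (.node 2 (.node 1 (.leaf (nat_lit 0x208dc18)) (.leaf (nat_lit 0x108e0ea))) (.node 1 (.leaf (nat_lit 0x8fa6f)) (.leaf (nat_lit 0x208f2b7)))))) (.node 8 (.node 4 (.node 2 (.node 1 (.leaf (nat_lit 0x308f709)) (.leaf (nat_lit 0x1091e69))) (.node 1 (.leaf (nat_lit 0x2091ec3)) (.leaf (nat_lit 0x2092817)))) (.node 2 (.node 1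 (.leaf (nat_lit 0x3092bb0)) (.leaf (nat_lit 0x937d9))) (.node 1 (.leaf (nat_lit 0x3093e6e)) (.leaf (nat_lit 0x1094bc9))))) (.node 4 (.node 2 (.node 1 (.leaf (nat_lit 0x2094ad4)) (.leaf (nat_lit 0x3094ea5))) (.node 1 (.leaf (nat_lit 0x95f7f)) (.leaf (nat_lit 0x209578a)))) (.node 2 (.node 1 (.leaf (nat_lit 0x3095982)) (.leaf (nat_lit 0x1097ef5))) (.node 1 (.leaf (nat_lit 0x2097690)) (.leaf (nat_lit 0x3097c94))))))) (.node 16 (.node 8 (.node 4 (.node 2 (.node 1 (.leaf (nat_lit 0x3098880)) (.leaf (nat_lit 0x1099ae5))) (.node 1 (.leaf (nat_lit 0x2099c6c)) (.leaf (nat_lit 0x3099971)))) (.node 2 (.node 1 (.leaf (nat_lit 0x9a36b)) (.leaf (nat_lit 0x209a4b8))) (.node 1 (.leaf (nat_lit 0x309ab5a)) (.leaf (nat_lit 0x9bba4))))) (.node 4 (.node 2 (.node 1 (.leaf (nat_lit 0x109c465)) (.leaf (nat_lit 0x209c2c3))) (.node 1 (.leaf (nat_lit 0x209d3fb)) (.leaf (nat_lit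 0x309dbdb)))) (.node 2 (.node 1 (.leaf (nat_lit 0x9eea4)) (.leaf (nat_lit 0x309ead8))) (.node 1 (.leaf (nat_lit 0x109fb30)) (.leaf (nat_lit 0x209f78c)))))) (.node 8 (.node 4 (.node 2 (.node 1 (.leaf (nat_lit 0x309fe04)) (.leaf (nat_lit 0xa0bc5))) (.node 1 (.leaf (nat_lit 0x30a0ab3)) (.leaf (nat_lit 0x10a1e2e)))) (.node 2 (.node 1 (.leaf (nat_lit 0x20a1c33)) (.leaf (nat_lit 0x30a1712))) (.node 1 (.leaf (nat_lit 0x20a2ebc)) (.leaf (nat_lit 0x30a2230))))) (.node 4 (.node 2 (.node 1 (.leaf (nat_lit 0x30a4d29)) (.leaf (nat_lit 0x10a5ce3))) (.node 1 (.leaf (nat_lit 0x20a57d0)) (.leaf (nat_lit 0x30a5c8f)))) (.node 2 (.node 1 (.leaf (nat_lit 0x20a6fd2)) (.leaf (nat_lit 0x30a665d))) (.node 1 (.leaf (nat_lit 0x10a7c7d)) (.leaf (nat_lit 0x20a77d1)))))))) (.node 32 (.node 16 (.node 8 (.node 4 (.node 2 (.node 1 (.leaf (nat_lit 0x30a7604)) (.leaf (nat_lit 0xa82be)))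 (.node 1 (.leaf (nat_lit 0x20a8b31)) (.leaf (nat_lit 0xa9124)))) (.node 2 (.node 1 (.leaf (nat_lit 0x10aa8c0)) (.leaf (nat_lit 0x20aaeb5))) (.node 1 (.leaf (nat_lit 0x30ab613)) (.leaf (nat_lit 0xacf9a))))) (.node 4 (.node 2 (.node 1 (.leaf (nat_lit 0x30acb8f)) (.leaf (nat_lit 0x10ad6d5))) (.node 1 (.leaf (nat_lit 0x20ad363)) (.leaf (nat_lit 0x30ad7b3)))) (.node 2 (.node 1 (.leaf (nat_lit 0x10aef97)) (.leaf (nat_lit 0x20aeb83))) (.node 1 (.leaf (nat_lit 0x30ae62a)) (.leaf (nat_lit 0xafa37)))))) (.node 8 (.node 4 (.node 2 (.node 1 (.leaf (nat_lit 0x20afebd)) (.leaf (nat_lit 0x30afa46))) (.node 1 (.leaf (nat_lit 0xb091a)) (.leaf (nat_lit 0x10b1a02)))) (.node 2 (.node 1 (.leaf (nat_lit 0x20b1139)) (.leaf (nat_lit 0x30b2232))) (.node 1 (.leaf (nat_lit 0x10b326e)) (.leaf (nat_lit 0x20b3914))))) (.node 4 (.node 2 (.node 1 (.leaf (nat_lit 0x30b3037)) (.leaf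 (nat_lit 0xb400e))) (.node 1 (.leaf (nat_lit 0x20b4006)) (.leaf (nat_lit 0x30b460f)))) (.node 2 (.node 1 (.leaf (nat_lit 0x10b6f95)) (.leaf (nat_lit 0x20b68f7))) (.node 1 (.leaf (nat_lit 0x20b72ad)) (.leaf (nat_lit 0x30b71c0))))))) (.node 16 (.node 8 (.node 4 (.node 2 (.node 1 (.leaf (nat_lit 0xb8fa0)) (.leaf (nat_lit 0x30b87bc))) (.node 1 (.leaf (nat_lit 0x10b93b5)) (.leaf (nat_lit 0x20b9e13)))) (.node 2 (.node 1 (.leaf (nat_lit 0x30b9a70)) (.leaf (nat_lit 0x10ba942))) (.node 1 (.leaf (nat_lit 0x20ba5ab)) (.leaf (nat_lit 0xbb425))))) (.node 4 (.node 2 (.node 1 (.leaf (nat_lit 0x20bb130)) (.leaf (nat_lit 0x30bb870))) (.node 1 (.leaf (nat_lit 0xbccaa)) (.leaf (nat_lit 0xbd278)))) (.node 2 (.node 1 (.leaf (nat_lit 0x20bd24d)) (.leaf (nat_lit 0x30bdb75))) (.node 1 (.leaf (nat_lit 0x10be0fd)) (.leaf (nat_lit 0x20be350)))))) (.node 8 (.node 4 (.node 2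 (.node 1 (.leaf (nat_lit 0x30bebba)) (.leaf (nat_lit 0x10c066b))) (.node 1 (.leaf (nat_lit 0x20c0112)) (.leaf (nat_lit 0x30c08d1)))) (.node 2 (.node 1 (.leaf (nat_lit 0x20c1309)) (.leaf (nat_lit 0x30c1070))) (.node 1 (.leaf (nat_lit 0x10c2715)) (.leaf (nat_lit 0x20c2a1f))))) (.node 4 (.node 2 (.node 1 (.leaf (nat_lit 0x30c2833)) (.leaf (nat_lit 0x20c3566))) (.node 1 (.leaf (nat_lit 0x30c35b2)) (.leaf (nat_lit 0xc4692)))) (.node 2 (.node 1 (.leaf (nat_lit 0x10c5523)) (.leaf (nat_lit 0x20c50c6))) (.node 1 (.leaf (nat_lit 0xc6f1b)) (.leaf (nat_lit 0x30c6c71))))))))) (.node 64 (.node 32 (.node 16 (.node 8 (.node 4 (.node 2 (.node 1 (.leaf (nat_lit 0x10c7147)) (.leaf (nat_lit 0x20c7456))) (.node 1 (.leaf (nat_lit 0x30c7a03)) (.leaf (nat_lit 0xc8f40)))) (.node 2 (.node 1 (.leaf (nat_lit 0x20c8442)) (.leaf (nat_lit 0x30c863c))) (.node 1 (.leaf (nat_lit 0x30ca387))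 (.leaf (nat_lit 0x30cb61a))))) (.node 4 (.node 2 (.node 1 (.leaf (nat_lit 0xcc6df)) (.leaf (nat_lit 0x30ccfa7))) (.node 1 (.leaf (nat_lit 0x10cd053)) (.leaf (nat_lit 0x20cd00b)))) (.node 2 (.node 1 (.leaf (nat_lit 0x30cde55)) (.leaf (nat_lit 0xce3a4))) (.node 1 (.leaf (nat_lit 0x20cef5b)) (.leaf (nat_lit 0x30ce953)))))) (.node 8 (.node 4 (.node 2 (.node 1 (.leaf (nat_lit 0x30d0624)) (.leaf (nat_lit 0x10d1402))) (.node 1 (.leaf (nat_lit 0x20d188d)) (.leaf (nat_lit 0x30d119f)))) (.node 2 (.node 1 (.leaf (nat_lit 0x30d2f14)) (.leaf (nat_lit 0x10d3441))) (.node 1 (.leaf (nat_lit 0x20d3875)) (.leaf (nat_lit 0x30d368a))))) (.node 4 (.node 2 (.node 1 (.leaf (nat_lit 0xd41d7)) (.leaf (nat_lit 0x20d4199))) (.node 1 (.leaf (nat_lit 0x30d404b)) (.leaf (nat_lit 0xd54d5)))) (.node 2 (.node 1 (.leaf (nat_lit 0x10d6ce2)) (.leaf (nat_lit 0x20d681c))) (.node 1 (.leaf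 (nat_lit 0x30d70d2)) (.leaf (nat_lit 0x20d8a53))))))) (.node 16 (.node 8 (.node 4 (.node 2 (.node 1 (.leaf (nat_lit 0x30d83a5)) (.leaf (nat_lit 0x30d9b54))) (.node 1 (.leaf (nat_lit 0x10da2b6)) (.leaf (nat_lit 0x20dacc2)))) (.node 2 (.node 1 (.leaf (nat_lit 0x30daacc)) (.leaf (nat_lit 0x10db95b))) (.node 1 (.leaf (nat_lit 0x20db588)) (.leaf (nat_lit 0x30db5ac))))) (.node 4 (.node 2 (.node 1 (.leaf (nat_lit 0x30dca48)) (.leaf (nat_lit 0x10dd164))) (.node 1 (.leaf (nat_lit 0x20ddbd2)) (.leaf (nat_lit 0x30dd377)))) (.node 2 (.node 1 (.leaf (nat_lit 0xdea7a)) (.leaf (nat_lit 0x20deb10))) (.node 1 (.leaf (nat_lit 0x30decbb)) (.leaf (nat_lit 0xdf928)))))) (.node 8 (.node 4 (.node 2 (.node 1 (.leaf (nat_lit 0x10e0f09)) (.leaf (nat_lit 0x20e0a58))) (.node 1 (.leaf (nat_lit 0x20e14e1)) (.leaf (nat_lit 0x30e14ba)))) (.node 2 (.node 1 (.leaf (nat_lit 0xe2db3))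 (.leaf (nat_lit 0x30e23e4))) (.node 1 (.leaf (nat_lit 0x10e3191)) (.leaf (nat_lit 0x20e3a0a))))) (.node 4 (.node 2 (.node 1 (.leaf (nat_lit 0x30e3737)) (.leaf (nat_lit 0x10e471e))) (.node 1 (.leaf (nat_lit 0x20e41a1)) (.leaf (nat_lit 0x30e48fb)))) (.node 2 (.node 1 (.leaf (nat_lit 0x20e51e9)) (.leaf (nat_lit 0x30e56af))) (.node 1 (.leaf (nat_lit 0x30e7ab2)) (.leaf (nat_lit 0x10e840c)))))))) (.node 32 (.node 16 (.node 8 (.node 4 (.node 2 (.node 1 (.leaf (nat_lit 0x20e8638)) (.leaf (nat_lit 0x30e89f1))) (.node 1 (.leaf (nat_lit 0x30e953e)) (.leaf (nat_lit 0x10ea708)))) (.node 2 (.node 1 (.leaf (nat_lit 0x20eacb3)) (.leaf (nat_lit 0x30ea759))) (.node 1 (.leaf (nat_lit 0xebefa)) (.leaf (nat_lit 0x20ebcc5))))) (.node 4 (.node 2 (.node 1 (.leaf (nat_lit 0x30eb4ce)) (.leaf (nat_lit 0xec8f3))) (.node 1 (.leaf (nat_lit 0x10ed368)) (.leaf (nat_lit 0x20ed38c))))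 (.node 2 (.node 1 (.leaf (nat_lit 0x30eef94)) (.leaf (nat_lit 0xef02b))) (.node 1 (.leaf (nat_lit 0x30ef79a)) (.leaf (nat_lit 0x10f083a)))))) (.node 8 (.node 4 (.node 2 (.node 1 (.leaf (nat_lit 0x20f0c0e)) (.leaf (nat_lit 0x30f09ab))) (.node 1 (.leaf (nat_lit 0x10f17bd)) (.leaf (nat_lit 0x20f1c09)))) (.node 2 (.node 1 (.leaf (nat_lit 0x30f1ac4)) (.leaf (nat_lit 0xf25ca))) (.node 1 (.leaf (nat_lit 0x20f2a9b)) (.leaf (nat_lit 0x30f228f))))) (.node 4 (.node 2 (.node 1 (.leaf (nat_lit 0x10f4fcf)) (.leaf (nat_lit 0x20f4348))) (.node 1 (.leaf (nat_lit 0x30f55a8)) (.leaf (nat_lit 0x10f6594)))) (.node 2 (.node 1 (.leaf (nat_lit 0x20f673c)) (.leaf (nat_lit 0x30f69f7))) (.node 1 (.leaf (nat_lit 0xf7f9d)) (.leaf (nat_lit 0x20f7fa9))))))) (.node 16 (.node 8 (.node 4 (.node 2 (.node 1 (.leaf (nat_lit 0x30f734b)) (.leaf (nat_lit 0x10f96c9))) (.node 1 (.leaf (nat_lit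 0x20f9786)) (.leaf (nat_lit 0x20faf2a)))) (.node 2 (.node 1 (.leaf (nat_lit 0x30fa304)) (.leaf (nat_lit 0xfb361))) (.node 1 (.leaf (nat_lit 0x30fb31b)) (.leaf (nat_lit 0x20fc872))))) (.node 4 (.node 2 (.node 1 (.leaf (nat_lit 0x30fc39c)) (.leaf (nat_lit 0x10fdcd7))) (.node 1 (.leaf (nat_lit 0x20fdc95)) (.leaf (nat_lit 0xfef4b)))) (.node 2 (.node 1 (.leaf (nat_lit 0x20fed21)) (.leaf (nat_lit 0x30fe58b))) (.node 1 (.leaf (nat_lit 0xff02a)) (.leaf (nat_lit 0x100582)))))) (.node 8 (.node 4 (.node 2 (.node 1 (.leaf (nat_lit 0x2100e61)) (.leaf (nat_lit 0x3100a06))) (.node 1 (.leaf (nat_lit 0x1101dea)) (.leaf (nat_lit 0x3101537)))) (.node 2 (.node 1 (.leaf (nat_lit 0x1103f7d)) (.leaf (nat_lit 0x2103e6f))) (.node 1 (.leaf (nat_lit 0x3103da7)) (.leaf (nat_lit 0x2104a4c))))) (.node 4 (.node 2 (.node 1 (.leaf (nat_lit 0x3104e16)) (.leaf (nat_lit 0x1105e21)))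 (.node 1 (.leaf (nat_lit 0x21053c7)) (.leaf (nat_lit 0x310556a)))) (.node 2 (.node 1 (.leaf (nat_lit 0x1060bb)) (.leaf (nat_lit 0x2106bc4))) (.node 1 (.leaf (nat_lit 0x3106cdf)) (.leaf (nat_lit 0x107c11))))))))))

/-- A part of `orbN`. -/
def orbN_2 : Tree := (.node 128 (.node 64 (.node 32 (.node 16 (.node 8 (.node 4 (.node 2 (.node 1 (.leaf (nat_lit 0x110837d)) (.leaf (nat_lit 0x21081b3))) (.node 1 (.leaf (nat_lit 0x109c79)) (.leaf (nat_lit 0x3109249)))) (.node 2 (.node 1 (.leaf (nat_lit 0x110ab1d)) (.leaf (nat_lit 0x210ab04))) (.node 1 (.leaf (nat_lit 0x310a8e8)) (.leaf (nat_lit 0x10be19))))) (.node 4 (.node 2 (.node 1 (.leaf (nat_lit 0x210bbfd)) (.leaf (nat_lit 0x310b87e))) (.node 1 (.leaf (nat_lit 0x310dc3f)) (.leaf (nat_lit 0x310e39e)))) (.node 2 (.node 1 (.leaf (nat_lit 0x10f1ae)) (.leaf (nat_lit 0x310f788))) (.node 1 (.leaf (nat_lit 0x111068b))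 (.leaf (nat_lit 0x2110543)))))) (.node 8 (.node 4 (.node 2 (.node 1 (.leaf (nat_lit 0x311038d)) (.leaf (nat_lit 0x21118ba))) (.node 1 (.leaf (nat_lit 0x3111cf6)) (.leaf (nat_lit 0x31135b4)))) (.node 2 (.node 1 (.leaf (nat_lit 0x1114be4)) (.leaf (nat_lit 0x2114114))) (.node 1 (.leaf (nat_lit 0x3114729)) (.leaf (nat_lit 0x3115422))))) (.node 4 (.node 2 (.node 1 (.leaf (nat_lit 0x1116353)) (.leaf (nat_lit 0x211619b))) (.node 1 (.leaf (nat_lit 0x311683d)) (.leaf (nat_lit 0x117f3d)))) (.node 2 (.node 1 (.leaf (nat_lit 0x2117d11)) (.leaf (nat_lit 0x3117784))) (.node 1 (.leaf (nat_lit 0x118e9f)) (.leaf (nat_lit 0x1119026))))))) (.node 16 (.node 8 (.node 4 (.node 2 (.node 1 (.leaf (nat_lit 0x2119378)) (.leaf (nat_lit 0x311aecc))) (.node 1 (.leaf (nat_lit 0x311b696)) (.leaf (nat_lit 0x111cdd9)))) (.node 2 (.node 1 (.leaf (nat_lit 0x211c88b)) (.leaf (nat_lit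 0x311c687))) (.node 1 (.leaf (nat_lit 0x11dc3a)) (.leaf (nat_lit 0x211dddc))))) (.node 4 (.node 2 (.node 1 (.leaf (nat_lit 0x311d113)) (.leaf (nat_lit 0x11e12d))) (.node 1 (.leaf (nat_lit 0x111f43f)) (.leaf (nat_lit 0x211f23e)))) (.node 2 (.node 1 (.leaf (nat_lit 0x1120e6c)) (.leaf (nat_lit 0x2120f45))) (.node 1 (.leaf (nat_lit 0x312047b)) (.leaf (nat_lit 0x121c65)))))) (.node 8 (.node 4 (.node 2 (.node 1 (.leaf (nat_lit 0x2121574)) (.leaf (nat_lit 0x31210e2))) (.node 1 (.leaf (nat_lit 0x1123421)) (.leaf (nat_lit 0x21237f9)))) (.node 2 (.node 1 (.leaf (nat_lit 0x212430b)) (.leaf (nat_lit 0x3124b43))) (.node 1 (.leaf (nat_lit 0x3125a7c)) (.leaf (nat_lit 0x1126a3d))))) (.node 4 (.node 2 (.node 1 (.leaf (nat_lit 0x2126b62)) (.leaf (nat_lit 0x31266de))) (.node 1 (.leaf (nat_lit 0x1127c53)) (.leaf (nat_lit 0x2127c8e)))) (.node 2 (.node 1 (.leaf (nat_lit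 0x128b8e)) (.leaf (nat_lit 0x212810b))) (.node 1 (.leaf (nat_lit 0x3128e79)) (.leaf (nat_lit 0x312aea0)))))))) (.node 32 (.node 16 (.node 8 (.node 4 (.node 2 (.node 1 (.leaf (nat_lit 0x112bc78)) (.leaf (nat_lit 0x212b1aa))) (.node 1 (.leaf (nat_lit 0x312b616)) (.leaf (nat_lit 0x312cec9)))) (.node 2 (.node 1 (.leaf (nat_lit 0x112db20)) (.leaf (nat_lit 0x212d1d2))) (.node 1 (.leaf (nat_lit 0x312de41)) (.leaf (nat_lit 0x12e2cf))))) (.node 4 (.node 2 (.node 1 (.leaf (nat_lit 0x212e659)) (.leaf (nat_lit 0x312e220))) (.node 1 (.leaf (nat_lit 0x12f65a)) (.leaf (nat_lit 0x1130812)))) (.node 2 (.node 1 (.leaf (nat_lit 0x2130c07)) (.leaf (nat_lit 0x3131c5d))) (.node 1 (.leaf (nat_lit 0x113268e)) (.leaf (nat_lit 0x21325fd)))))) (.node 8 (.node 4 (.node 2 (.node 1 (.leaf (nat_lit 0x31328c3)) (.leaf (nat_lit 0x133a09))) (.node 1 (.leaf (nat_lit 0x2133cf9)) (.leaf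 (nat_lit 0x31332e2)))) (.node 2 (.node 1 (.leaf (nat_lit 0x1346b0)) (.leaf (nat_lit 0x11355cb))) (.node 1 (.leaf (nat_lit 0x2135813)) (.leaf (nat_lit 0x1366e8))))) (.node 4 (.node 2 (.node 1 (.leaf (nat_lit 0x3136fc3)) (.leaf (nat_lit 0x1137e18))) (.node 1 (.leaf (nat_lit 0x2137c64)) (.leaf (nat_lit 0x3137cd2)))) (.node 2 (.node 1 (.leaf (nat_lit 0x1138281)) (.leaf (nat_lit 0x2138def))) (.node 1 (.leaf (nat_lit 0x3138bb8)) (.leaf (nat_lit 0x139f50))))))) (.node 16 (.node 8 (.node 4 (.node 2 (.node 1 (.leaf (nat_lit 0x213993e)) (.leaf (nat_lit 0x3139abe))) (.node 1 (.leaf (nat_lit 0x113b627)) (.leaf (nat_lit 0x213bca0)))) (.node 2 (.node 1 (.leaf (nat_lit 0x313c9c8)) (.leaf (nat_lit 0x113d34d))) (.node 1 (.leaf (nat_lit 0x213d010)) (.leaf (nat_lit 0x313d71b))))) (.node 4 (.node 2 (.node 1 (.leaf (nat_lit 0x13ed79)) (.leaf (nat_lit 0x213e9fa))) (.node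 1 (.leaf (nat_lit 0x313ec0d)) (.leaf (nat_lit 0x1140162)))) (.node 2 (.node 1 (.leaf (nat_lit 0x21409a4)) (.leaf (nat_lit 0x2141b69))) (.node 1 (.leaf (nat_lit 0x142b74)) (.leaf (nat_lit 0x31428b8)))))) (.node 8 (.node 4 (.node 2 (.node 1 (.leaf (nat_lit 0x1143459)) (.leaf (nat_lit 0x2143ac5))) (.node 1 (.leaf (nat_lit 0x144860)) (.leaf (nat_lit 0x314450e)))) (.node 2 (.node 1 (.leaf (nat_lit 0x1459d1)) (.leaf (nat_lit 0x11466c5))) (.node 1 (.leaf (nat_lit 0x2146a6d)) (.leaf (nat_lit 0x3146178))))) (.node 4 (.node 2 (.node 1 (.leaf (nat_lit 0x2147955)) (.leaf (nat_lit 0x3147760))) (.node 1 (.leaf (nat_lit 0x11483cd)) (.leaf (nat_lit 0x2148426)))) (.node 2 (.node 1 (.leaf (nat_lit 0x3148572)) (.leaf (nat_lit 0x1490ee))) (.node 1 (.leaf (nat_lit 0x2149cc9)) (.leaf (nat_lit 0x114bc9a))))))))) (.node 64 (.node 32 (.node 16 (.node 8 (.node 4 (.node 2 (.node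 1 (.leaf (nat_lit 0x214b9bf)) (.leaf (nat_lit 0x14c758))) (.node 1 (.leaf (nat_lit 0x214c2e6)) (.leaf (nat_lit 0x314cb63)))) (.node 2 (.node 1 (.leaf (nat_lit 0x114e8db)) (.leaf (nat_lit 0x214e329))) (.node 1 (.leaf (nat_lit 0x214f079)) (.leaf (nat_lit 0x314ff4f))))) (.node 4 (.node 2 (.node 1 (.leaf (nat_lit 0x150935)) (.leaf (nat_lit 0x3150602))) (.node 1 (.leaf (nat_lit 0x3151f7a)) (.leaf (nat_lit 0x1152e54)))) (.node 2 (.node 1 (.leaf (nat_lit 0x2152f77)) (.leaf (nat_lit 0x1535b3))) (.node 1 (.leaf (nat_lit 0x2153b05)) (.leaf (nat_lit 0x154873)))))) (.node 8 (.node 4 (.node 2 (.node 1 (.leaf (nat_lit 0x11556c8)) (.leaf (nat_lit 0x3155c99))) (.node 1 (.leaf (nat_lit 0x156949)) (.leaf (nat_lit 0x215601a)))) (.node 2 (.node 1 (.leaf (nat_lit 0x3156224)) (.leaf (nat_lit 0x15797c))) (.node 1 (.leaf (nat_lit 0x1158f69)) (.leaf (nat_lit 0x21589b9)))))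 (.node 4 (.node 2 (.node 1 (.leaf (nat_lit 0x2159a31)) (.leaf (nat_lit 0x3159aa5))) (.node 1 (.leaf (nat_lit 0x15af0d)) (.leaf (nat_lit 0x315ae31)))) (.node 2 (.node 1 (.leaf (nat_lit 0x115b6c7)) (.leaf (nat_lit 0x215b3e7))) (.node 1 (.leaf (nat_lit 0x315b89a)) (.leaf (nat_lit 0x15ce1c))))))) (.node 16 (.node 8 (.node 4 (.node 2 (.node 1 (.leaf (nat_lit 0x215cde4)) (.leaf (nat_lit 0x315c2a1))) (.node 1 (.leaf (nat_lit 0x15d6b2)) (.leaf (nat_lit 0x15edd3)))) (.node 2 (.node 1 (.leaf (nat_lit 0x315e7c6)) (.leaf (nat_lit 0x215f0f9))) (.node 1 (.leaf (nat_lit 0x11606cc)) (.leaf (nat_lit 0x216059a))))) (.node 4 (.node 2 (.node 1 (.leaf (nat_lit 0x316070c)) (.leaf (nat_lit 0x116127b))) (.node 1 (.leaf (nat_lit 0x2161920)) (.leaf (nat_lit 0x3161e24)))) (.node 2 (.node 1 (.leaf (nat_lit 0x162e6a)) (.leaf (nat_lit 0x316200f))) (.node 1 (.leaf (nat_lit 0x1164012))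 (.leaf (nat_lit 0x2164b86)))))) (.node 8 (.node 4 (.node 2 (.node 1 (.leaf (nat_lit 0x216579c)) (.leaf (nat_lit 0x216669f))) (.node 1 (.leaf (nat_lit 0x21676b7)) (.leaf (nat_lit 0x3167646)))) (.node 2 (.node 1 (.leaf (nat_lit 0x1682bf)) (.leaf (nat_lit 0x3168fcc))) (.node 1 (.leaf (nat_lit 0x21696d3)) (.leaf (nat_lit 0x3169623))))) (.node 4 (.node 2 (.node 1 (.leaf (nat_lit 0x116ac8c)) (.leaf (nat_lit 0x216a3a6))) (.node 1 (.leaf (nat_lit 0x316be33)) (.leaf (nat_lit 0x16c36a)))) (.node 2 (.node 1 (.leaf (nat_lit 0x316c2e7)) (.leaf (nat_lit 0x116db68))) (.node 1 (.leaf (nat_lit 0x216dbdf)) (.leaf (nat_lit 0x316d857)))))))) (.node 32 (.node 16 (.node 8 (.node 4 (.node 2 (.node 1 (.leaf (nat_lit 0x16eae8)) (.leaf (nat_lit 0x216e5d1))) (.node 1 (.leaf (nat_lit 0x316e2a2)) (.leaf (nat_lit 0x1170007)))) (.node 2 (.node 1 (.leaf (nat_lit 0x2170575)) (.leaf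 (nat_lit 0x2171874))) (.node 1 (.leaf (nat_lit 0x3171b1b)) (.leaf (nat_lit 0x1723c6))))) (.node 4 (.node 2 (.node 1 (.leaf (nat_lit 0x1173ec2)) (.leaf (nat_lit 0x2173a75))) (.node 1 (.leaf (nat_lit 0x3174ba7)) (.leaf (nat_lit 0x1175001)))) (.node 2 (.node 1 (.leaf (nat_lit 0x3175589)) (.leaf (nat_lit 0x176452))) (.node 1 (.leaf (nat_lit 0x2176783)) (.leaf (nat_lit 0x31768da)))))) (.node 8 (.node 4 (.node 2 (.node 1 (.leaf (nat_lit 0x1178c5e)) (.leaf (nat_lit 0x2178e7d))) (.node 1 (.leaf (nat_lit 0x179a26)) (.leaf (nat_lit 0x117a239)))) (.node 2 (.node 1 (.leaf (nat_lit 0x117b23a)) (.leaf (nat_lit 0x17cf42))) (.node 1 (.leaf (nat_lit 0x317c530)) (.leaf (nat_lit 0x17db61))))) (.node 4 (.node 2 (.node 1 (.leaf (nat_lit 0x317e9be)) (.leaf (nat_lit 0x117f48f))) (.node 1 (.leaf (nat_lit 0x217f2b9)) (.leaf (nat_lit 0x317fc34)))) (.node 2 (.node 1 (.leaf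 (nat_lit 0x1801bd)) (.leaf (nat_lit 0x2180bd1))) (.node 1 (.leaf (nat_lit 0x31802f0)) (.leaf (nat_lit 0x181641))))))) (.node 16 (.node 8 (.node 4 (.node 2 (.node 1 (.leaf (nat_lit 0x1182877)) (.leaf (nat_lit 0x318314e))) (.node 1 (.leaf (nat_lit 0x184a2d)) (.leaf (nat_lit 0x1185c76)))) (.node 2 (.node 1 (.leaf (nat_lit 0x2185daa)) (.leaf (nat_lit 0x3185bbf))) (.node 1 (.leaf (nat_lit 0x11863b8)) (.leaf (nat_lit 0x2186ba5))))) (.node 4 (.node 2 (.node 1 (.leaf (nat_lit 0x3186b59)) (.leaf (nat_lit 0x1187d3d))) (.node 1 (.leaf (nat_lit 0x218794c)) (.leaf (nat_lit 0x3187693)))) (.node 2 (.node 1 (.leaf (nat_lit 0x3188fc7)) (.leaf (nat_lit 0x11891d0))) (.node 1 (.leaf (nat_lit 0x2189312)) (.leaf (nat_lit 0x318904a)))))) (.node 8 (.node 4 (.node 2 (.node 1 (.leaf (nat_lit 0x18a78b)) (.leaf (nat_lit 0x218a3f9))) (.node 1 (.leaf (nat_lit 0x318ae25)) (.leaf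 (nat_lit 0x18bf96)))) (.node 2 (.node 1 (.leaf (nat_lit 0x118c35a)) (.leaf (nat_lit 0x218cd78))) (.node 1 (.leaf (nat_lit 0x318d073)) (.leaf (nat_lit 0x18e0ec))))) (.node 4 (.node 2 (.node 1 (.leaf (nat_lit 0x318e017)) (.leaf (nat_lit 0x118f3c3))) (.node 1 (.leaf (nat_lit 0x218f56f)) (.leaf (nat_lit 0x318f47e)))) (.node 2 (.node 1 (.leaf (nat_lit 0x1190e56)) (.leaf (nat_lit 0x2190ee3))) (.node 1 (.leaf (nat_lit 0x319032b)) (.leaf (nat_lit 0x191bdc))))))))))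

/-- A part of `orbN`. -/
def orbN_3 : Tree := (.node 128 (.node 64 (.node 32 (.node 16 (.node 8 (.node 4 (.node 2 (.node 1 (.leaf (nat_lit 0x2191e60)) (.leaf (nat_lit 0x319153f))) (.node 1 (.leaf (nat_lit 0x219380b)) (.leaf (nat_lit 0x1194417)))) (.node 2 (.node 1 (.leaf (nat_lit 0x319455c)) (.leaf (nat_lit 0x195067))) (.node 1 (.leaf (nat_lit 0x21959fc)) (.leaf (nat_lit 0x1197fd0))))) (.node 4 (.node 2 (.node 1 (.leaf (nat_lit 0x219738a)) (.leaf (nat_lit 0x2198264))) (.node 1 (.leaf (nat_lit 0x3199f0b)) (.leaf (nat_lit 0x119afd1)))) (.node 2 (.node 1 (.leaf (nat_lit 0x219adda)) (.leaf (nat_lit 0x319a97d))) (.node 1 (.leaf (nat_lit 0x119bf38)) (.leaf (nat_lit 0x219bbb4)))))) (.node 8 (.node 4 (.node 2 (.node 1 (.leaf (nat_lit 0x19c7cf)) (.leaf (nat_lit 0x219c518))) (.node 1 (.leaf (nat_lit 0x319c407)) (.leaf (nat_lit 0x119eaf2)))) (.node 2 (.node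 1 (.leaf (nat_lit 0x219ed36)) (.leaf (nat_lit 0x319ed86))) (.node 1 (.leaf (nat_lit 0x319fb73)) (.leaf (nat_lit 0x11a0333))))) (.node 4 (.node 2 (.node 1 (.leaf (nat_lit 0x21a00e0)) (.leaf (nat_lit 0x31a0da6))) (.node 1 (.leaf (nat_lit 0x21a1e8b)) (.leaf (nat_lit 0x31a1e30)))) (.node 2 (.node 1 (.leaf (nat_lit 0x1a2539)) (.leaf (nat_lit 0x21a2af3))) (.node 1 (.leaf (nat_lit 0x1a36aa)) (.leaf (nat_lit 0x11a4992))))))) (.node 16 (.node 8 (.node 4 (.node 2 (.node 1 (.leaf (nat_lit 0x21a4437)) (.leaf (nat_lit 0x1a570f))) (.node 1 (.leaf (nat_lit 0x21a5f12)) (.leaf (nat_lit 0x31a5bc6)))) (.node 2 (.node 1 (.leaf (nat_lit 0x11a7e6d)) (.leaf (nat_lit 0x21a7a4a))) (.node 1 (.leaf (nat_lit 0x11a87ca)) (.leaf (nat_lit 0x21a834f))))) (.node 4 (.node 2 (.node 1 (.leaf (nat_lit 0x31a8653)) (.leaf (nat_lit 0x1a952c))) (.node 1 (.leaf (nat_lit 0x21a9549)) (.leaf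 (nat_lit 0x31a9400)))) (.node 2 (.node 1 (.leaf (nat_lit 0x11ab13b)) (.leaf (nat_lit 0x21ab57e))) (.node 1 (.leaf (nat_lit 0x21acea2)) (.leaf (nat_lit 0x31acb09)))))) (.node 8 (.node 4 (.node 2 (.node 1 (.leaf (nat_lit 0x1ad7c5)) (.leaf (nat_lit 0x31ad369))) (.node 1 (.leaf (nat_lit 0x21ae494)) (.leaf (nat_lit 0x31aee46)))) (.node 2 (.node 1 (.leaf (nat_lit 0x11afeca)) (.leaf (nat_lit 0x21af9f0))) (.node 1 (.leaf (nat_lit 0x1b0b8a)) (.leaf (nat_lit 0x21b0617))))) (.node 4 (.node 2 (.node 1 (.leaf (nat_lit 0x31b035b)) (.leaf (nat_lit 0x31b2a0e))) (.node 1 (.leaf (nat_lit 0x11b3dad)) (.leaf (nat_lit 0x21b386e)))) (.node 2 (.node 1 (.leaf (nat_lit 0x31b36cf)) (.leaf (nat_lit 0x31b4c77))) (.node 1 (.leaf (nat_lit 0x11b5921)) (.leaf (nat_lit 0x21b5faa)))))))) (.node 32 (.node 16 (.node 8 (.node 4 (.node 2 (.node 1 (.leaf (nat_lit 0x31b5717)) (.leaf (nat_lit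 0x1b6559))) (.node 1 (.leaf (nat_lit 0x21b68de)) (.leaf (nat_lit 0x31b6158)))) (.node 2 (.node 1 (.leaf (nat_lit 0x1b73d7)) (.leaf (nat_lit 0x11b8512))) (.node 1 (.leaf (nat_lit 0x21b82d7)) (.leaf (nat_lit 0x1b9e7c))))) (.node 4 (.node 2 (.node 1 (.leaf (nat_lit 0x21b9723)) (.leaf (nat_lit 0x31b9751))) (.node 1 (.leaf (nat_lit 0x1baa22)) (.leaf (nat_lit 0x11bb51e)))) (.node 2 (.node 1 (.leaf (nat_lit 0x21bbf8b)) (.leaf (nat_lit 0x1bc5e4))) (.node 1 (.leaf (nat_lit 0x31bc3c9)) (.leaf (nat_lit 0x11bd92f)))))) (.node 8 (.node 4 (.node 2 (.node 1 (.leaf (nat_lit 0x21bdb9f)) (.leaf (nat_lit 0x31bd4fd))) (.node 1 (.leaf (nat_lit 0x11be775)) (.leaf (nat_lit 0x21beb18)))) (.node 2 (.node 1 (.leaf (nat_lit 0x31bec4d)) (.leaf (nat_lit 0x1bf4b9))) (.node 1 (.leaf (nat_lit 0x21bfa5b)) (.leaf (nat_lit 0x31bfe06))))) (.node 4 (.node 2 (.node 1 (.leaf (nat_lit 0x11c128d))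 (.leaf (nat_lit 0x21c14f5))) (.node 1 (.leaf (nat_lit 0x21c2e81)) (.leaf (nat_lit 0x31c2a74)))) (.node 2 (.node 1 (.leaf (nat_lit 0x21c33c8)) (.leaf (nat_lit 0x11c590d))) (.node 1 (.leaf (nat_lit 0x21c5824)) (.leaf (nat_lit 0x21c6ac1))))))) (.node 16 (.node 8 (.node 4 (.node 2 (.node 1 (.leaf (nat_lit 0x31c61f2)) (.leaf (nat_lit 0x1c71ad))) (.node 1 (.leaf (nat_lit 0x31c777d)) (.leaf (nat_lit 0x11c82ed)))) (.node 2 (.node 1 (.leaf (nat_lit 0x21c8380)) (.leaf (nat_lit 0x31c8c04))) (.node 1 (.leaf (nat_lit 0x21c9612)) (.leaf (nat_lit 0x1ca0de))))) (.node 4 (.node 2 (.node 1 (.leaf (nat_lit 0x21cab2b)) (.leaf (nat_lit 0x1cb900))) (.node 1 (.leaf (nat_lit 0x11cc548)) (.leaf (nat_lit 0x21ccabb)))) (.node 2 (.node 1 (.leaf (nat_lit 0x31ccd04)) (.leaf (nat_lit 0x31cdf1a))) (.node 1 (.leaf (nat_lit 0x11ce461)) (.leaf (nat_lit 0x21cec2f)))))) (.node 8 (.node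 4 (.node 2 (.node 1 (.leaf (nat_lit 0x31ce841)) (.leaf (nat_lit 0x1cfe2d))) (.node 1 (.leaf (nat_lit 0x21cf3ed)) (.leaf (nat_lit 0x31cf3d1)))) (.node 2 (.node 1 (.leaf (nat_lit 0x11d1f0f)) (.leaf (nat_lit 0x21d1d9e))) (.node 1 (.leaf (nat_lit 0x1d27cb)) (.leaf (nat_lit 0x21d25be))))) (.node 4 (.node 2 (.node 1 (.leaf (nat_lit 0x31d2495)) (.leaf (nat_lit 0x11d4f62))) (.node 1 (.leaf (nat_lit 0x21d4f60)) (.leaf (nat_lit 0x1d6110)))) (.node 2 (.node 1 (.leaf (nat_lit 0x31d68fa)) (.leaf (nat_lit 0x11d7929))) (.node 1 (.leaf (nat_lit 0x21d7f9e)) (.leaf (nat_lit 0x1d8de3))))))))) (.node 64 (.node 32 (.node 16 (.node 8 (.node 4 (.node 2 (.node 1 (.leaf (nat_lit 0x21d8cdd)) (.leaf (nat_lit 0x31d8a3b))) (.node 1 (.leaf (nat_lit 0x11da603)) (.leaf (nat_lit 0x31dabf5)))) (.node 2 (.node 1 (.leaf (nat_lit 0x1dbc2e)) (.leaf (nat_lit 0x21db713))) (.node 1 (.leaf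 (nat_lit 0x31dbc1e)) (.leaf (nat_lit 0x11dd2f4))))) (.node 4 (.node 2 (.node 1 (.leaf (nat_lit 0x21dd5db)) (.leaf (nat_lit 0x21deba1))) (.node 1 (.leaf (nat_lit 0x31de074)) (.leaf (nat_lit 0x1dfc42)))) (.node 2 (.node 1 (.leaf (nat_lit 0x31df0a1)) (.leaf (nat_lit 0x11e0105))) (.node 1 (.leaf (nat_lit 0x21e0c05)) (.leaf (nat_lit 0x31e01f4)))))) (.node 8 (.node 4 (.node 2 (.node 1 (.leaf (nat_lit 0x1e10c3)) (.leaf (nat_lit 0x21e1960))) (.node 1 (.leaf (nat_lit 0x31e12e5)) (.leaf (nat_lit 0x1e2035)))) (.node 2 (.node 1 (.leaf (nat_lit 0x21e43b2)) (.leaf (nat_lit 0x11e5644))) (.node 1 (.leaf (nat_lit 0x21e56d4)) (.leaf (nat_lit 0x31e5e22))))) (.node 4 (.node 2 (.node 1 (.leaf (nat_lit 0x11e656e)) (.leaf (nat_lit 0x21e63d2))) (.node 1 (.leaf (nat_lit 0x1e7747)) (.leaf (nat_lit 0x11e8cce)))) (.node 2 (.node 1 (.leaf (nat_lit 0x21e979b)) (.leaf (nat_lit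 0x31e94f3))) (.node 1 (.leaf (nat_lit 0x21ea324)) (.leaf (nat_lit 0x21eb314))))))) (.node 16 (.node 8 (.node 4 (.node 2 (.node 1 (.leaf (nat_lit 0x31ebc5c)) (.leaf (nat_lit 0x1ec4c9))) (.node 1 (.leaf (nat_lit 0x31ec58e)) (.leaf (nat_lit 0x11ed06f)))) (.node 2 (.node 1 (.leaf (nat_lit 0x21ed922)) (.leaf (nat_lit 0x11eef46))) (.node 1 (.leaf (nat_lit 0x21ee6d2)) (.leaf (nat_lit 0x31ef87d))))) (.node 4 (.node 2 (.node 1 (.leaf (nat_lit 0x1f03e2)) (.leaf (nat_lit 0x31f054c))) (.node 1 (.leaf (nat_lit 0x11f1c8d)) (.leaf (nat_lit 0x21f10c1)))) (.node 2 (.node 1 (.leaf (nat_lit 0x1f2492)) (.leaf (nat_lit 0x31f28f9))) (.node 1 (.leaf (nat_lit 0x11f3f43)) (.leaf (nat_lit 0x21f3838)))))) (.node 8 (.node 4 (.node 2 (.node 1 (.leaf (nat_lit 0x1f407a)) (.leaf (nat_lit 0x21f4ce1))) (.node 1 (.leaf (nat_lit 0x31f4151)) (.leaf (nat_lit 0x1f5094)))) (.node 2 (.node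 1 (.leaf (nat_lit 0x11f64b3)) (.leaf (nat_lit 0x21f6881))) (.node 1 (.leaf (nat_lit 0x31f7b45)) (.leaf (nat_lit 0x11f8013))))) (.node 4 (.node 2 (.node 1 (.leaf (nat_lit 0x31f8328)) (.leaf (nat_lit 0x1f9272))) (.node 1 (.leaf (nat_lit 0x21f946d)) (.leaf (nat_lit 0x31f9662)))) (.node 2 (.node 1 (.leaf (nat_lit 0x11fbf0a)) (.leaf (nat_lit 0x21fb622))) (.node 1 (.leaf (nat_lit 0x21fc223)) (.leaf (nat_lit 0x31fc927)))))))) (.node 32 (.node 16 (.node 8 (.node 4 (.node 2 (.node 1 (.leaf (nat_lit 0x31fd4b4)) (.leaf (nat_lit 0x11fefa5))) (.node 1 (.leaf (nat_lit 0x21fed2b)) (.leaf (nat_lit 0x11ffb87)))) (.node 2 (.node 1 (.leaf (nat_lit 0x220053c)) (.leaf (nat_lit 0x201be5))) (.node 1 (.leaf (nat_lit 0x3202e2c)) (.leaf (nat_lit 0x1203f6a))))) (.node 4 (.node 2 (.node 1 (.leaf (nat_lit 0x2203bda)) (.leaf (nat_lit 0x3203ccf))) (.node 1 (.leaf (nat_lit 0x204500))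 (.leaf (nat_lit 0x220435f)))) (.node 2 (.node 1 (.leaf (nat_lit 0x3204b29)) (.leaf (nat_lit 0x205aa4))) (.node 1 (.leaf (nat_lit 0x1206510)) (.leaf (nat_lit 0x3207a45)))))) (.node 8 (.node 4 (.node 2 (.node 1 (.leaf (nat_lit 0x208b2a)) (.leaf (nat_lit 0x1209375))) (.node 1 (.leaf (nat_lit 0x120af4a)) (.leaf (nat_lit 0x220a06e)))) (.node 2 (.node 1 (.leaf (nat_lit 0x320a6bf)) (.leaf (nat_lit 0x120bc57))) (.node 1 (.leaf (nat_lit 0x220b443)) (.leaf (nat_lit 0x320b544))))) (.node 4 (.node 2 (.node 1 (.leaf (nat_lit 0x320c3e0)) (.leaf (nat_lit 0x120d74c))) (.node 1 (.leaf (nat_lit 0x320d9ce)) (.leaf (nat_lit 0x20edb2)))) (.node 2 (.node 1 (.leaf (nat_lit 0x220e8be)) (.leaf (nat_lit 0x320e9f4))) (.node 1 (.leaf (nat_lit 0x20f652)) (.leaf (nat_lit 0x1210b42))))))) (.node 16 (.node 8 (.node 4 (.node 2 (.node 1 (.leaf (nat_lit 0x221079e)) (.leaf (nat_lit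 0x3211e86))) (.node 1 (.leaf (nat_lit 0x1212535)) (.leaf (nat_lit 0x2212051)))) (.node 2 (.node 1 (.leaf (nat_lit 0x3212c02)) (.leaf (nat_lit 0x1213040))) (.node 1 (.leaf (nat_lit 0x221308b)) (.leaf (nat_lit 0x3213587))))) (.node 4 (.node 2 (.node 1 (.leaf (nat_lit 0x21421f)) (.leaf (nat_lit 0x2214d01))) (.node 1 (.leaf (nat_lit 0x32148bf)) (.leaf (nat_lit 0x12166bb)))) (.node 2 (.node 1 (.leaf (nat_lit 0x1217aa0)) (.leaf (nat_lit 0x3217c85))) (.node 1 (.leaf (nat_lit 0x218d7a)) (.leaf (nat_lit 0x22183ca)))))) (.node 8 (.node 4 (.node 2 (.node 1 (.leaf (nat_lit 0x121a9aa)) (.leaf (nat_lit 0x221aebe))) (.node 1 (.leaf (nat_lit 0x221b984)) (.leaf (nat_lit 0x321b528)))) (.node 2 (.node 1 (.leaf (nat_lit 0x21c558)) (.leaf (nat_lit 0x321cc32))) (.node 1 (.leaf (nat_lit 0x221d6e9)) (.leaf (nat_lit 0x321da2f))))) (.node 4 (.node 2 (.node 1 (.leaf (nat_lit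 0x221ec4c)) (.leaf (nat_lit 0x21fce4))) (.node 1 (.leaf (nat_lit 0x221f47d)) (.leaf (nat_lit 0x321f135)))) (.node 2 (.node 1 (.leaf (nat_lit 0x1221e78)) (.leaf (nat_lit 0x222190c))) (.node 1 (.leaf (nat_lit 0x32218d2)) (.leaf (nat_lit 0x222242f))))))))))

/-- A part of `orbN`. -/
def orbN_4 : Tree := (.node 128 (.node 64 (.node 32 (.node 16 (.node 8 (.node 4 (.node 2 (.node 1 (.leaf (nat_lit 0x322219d)) (.leaf (nat_lit 0x223f28))) (.node 1 (.leaf (nat_lit 0x22239cf)) (.leaf (nat_lit 0x3223349)))) (.node 2 (.node 1 (.leaf (nat_lit 0x224f6b)) (.leaf (nat_lit 0x1225cc3))) (.node 1 (.leaf (nat_lit 0x2225c03)) (.leaf (nat_lit 0x3226d15))))) (.node 4 (.node 2 (.node 1 (.leaf (nat_lit 0x227840)) (.leaf (nat_lit 0x1228f75))) (.node 1 (.leaf (nat_lit 0x322809c)) (.leaf (nat_lit 0x1229401)))) (.node 2 (.node 1 (.leaf (nat_lit 0x22a3a2)) (.leaf (nat_lit 0x222a44a)))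 (.node 1 (.leaf (nat_lit 0x322a0ff)) (.leaf (nat_lit 0x22bfa6)))))) (.node 8 (.node 4 (.node 2 (.node 1 (.leaf (nat_lit 0x22c40b)) (.leaf (nat_lit 0x222c20f))) (.node 1 (.leaf (nat_lit 0x322cf3e)) (.leaf (nat_lit 0x222e2b2)))) (.node 2 (.node 1 (.leaf (nat_lit 0x222f179)) (.leaf (nat_lit 0x322f722))) (.node 1 (.leaf (nat_lit 0x2307b2)) (.leaf (nat_lit 0x3231255))))) (.node 4 (.node 2 (.node 1 (.leaf (nat_lit 0x2232351)) (.leaf (nat_lit 0x3232218))) (.node 1 (.leaf (nat_lit 0x2234f3b)) (.leaf (nat_lit 0x3234f3a)))) (.node 2 (.node 1 (.leaf (nat_lit 0x1236490)) (.leaf (nat_lit 0x22361c7))) (.node 1 (.leaf (nat_lit 0x32365c7)) (.leaf (nat_lit 0x223774b))))))) (.node 16 (.node 8 (.node 4 (.node 2 (.node 1 (.leaf (nat_lit 0x3237aff)) (.leaf (nat_lit 0x1239138))) (.node 1 (.leaf (nat_lit 0x223923d)) (.leaf (nat_lit 0x223a195)))) (.node 2 (.node 1 (.leaf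 (nat_lit 0x223b406)) (.leaf (nat_lit 0x223cc24))) (.node 1 (.leaf (nat_lit 0x323ca56)) (.leaf (nat_lit 0x23df0e))))) (.node 4 (.node 2 (.node 1 (.leaf (nat_lit 0x323def6)) (.leaf (nat_lit 0x123e318))) (.node 1 (.leaf (nat_lit 0x223e6a0)) (.leaf (nat_lit 0x123f4c1)))) (.node 2 (.node 1 (.leaf (nat_lit 0x223fc1c)) (.leaf (nat_lit 0x24056d))) (.node 1 (.leaf (nat_lit 0x2240a87)) (.leaf (nat_lit 0x3240d74)))))) (.node 8 (.node 4 (.node 2 (.node 1 (.leaf (nat_lit 0x241c75)) (.leaf (nat_lit 0x1242d9f))) (.node 1 (.leaf (nat_lit 0x244257)) (.leaf (nat_lit 0x3244716)))) (.node 2 (.node 1 (.leaf (nat_lit 0x1246889)) (.leaf (nat_lit 0x2246d81))) (.node 1 (.leaf (nat_lit 0x2247f27)) (.leaf (nat_lit 0x32479f3))))) (.node 4 (.node 2 (.node 1 (.leaf (nat_lit 0x248a80)) (.leaf (nat_lit 0x3249b4a))) (.node 1 (.leaf (nat_lit 0x224a15e)) (.leaf (nat_lit 0x24b694))))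 (.node 2 (.node 1 (.leaf (nat_lit 0x224b839)) (.leaf (nat_lit 0x324b0f7))) (.node 1 (.leaf (nat_lit 0x124d78d)) (.leaf (nat_lit 0x324dc50)))))))) (.node 32 (.node 16 (.node 8 (.node 4 (.node 2 (.node 1 (.leaf (nat_lit 0x24e5d3)) (.leaf (nat_lit 0x224eb8c))) (.node 1 (.leaf (nat_lit 0x324ea39)) (.leaf (nat_lit 0x125041d)))) (.node 2 (.node 1 (.leaf (nat_lit 0x2250018)) (.leaf (nat_lit 0x32516c6))) (.node 1 (.leaf (nat_lit 0x252e23)) (.leaf (nat_lit 0x3252ca5))))) (.node 4 (.node 2 (.node 1 (.leaf (nat_lit 0x22541ab)) (.leaf (nat_lit 0x2556fc))) (.node 1 (.leaf (nat_lit 0x22550f6)) (.leaf (nat_lit 0x3255b28)))) (.node 2 (.node 1 (.leaf (nat_lit 0x32579d0)) (.leaf (nat_lit 0x2258632))) (.node 1 (.leaf (nat_lit 0x3258f3c)) (.leaf (nat_lit 0x225932a)))))) (.node 8 (.node 4 (.node 2 (.node 1 (.leaf (nat_lit 0x25a8ee)) (.leaf (nat_lit 0x25c88f))) (.node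 1 (.leaf (nat_lit 0x225c1f5)) (.leaf (nat_lit 0x225e4e2)))) (.node 2 (.node 1 (.leaf (nat_lit 0x1261061)) (.leaf (nat_lit 0x22616b1))) (.node 1 (.leaf (nat_lit 0x262943)) (.leaf (nat_lit 0x32628f1))))) (.node 4 (.node 2 (.node 1 (.leaf (nat_lit 0x2634cd)) (.leaf (nat_lit 0x1264ed5))) (.node 1 (.leaf (nat_lit 0x3264733)) (.leaf (nat_lit 0x2265415)))) (.node 2 (.node 1 (.leaf (nat_lit 0x1267dd8)) (.leaf (nat_lit 0x2267711))) (.node 1 (.leaf (nat_lit 0x326885d)) (.leaf (nat_lit 0x269e3d))))))) (.node 16 (.node 8 (.node 4 (.node 2 (.node 1 (.leaf (nat_lit 0x226a045)) (.leaf (nat_lit 0x326a016))) (.node 1 (.leaf (nat_lit 0x226b985)) (.leaf (nat_lit 0x326b2d1)))) (.node 2 (.node 1 (.leaf (nat_lit 0x126e6cb)) (.leaf (nat_lit 0x226e993))) (.node 1 (.leaf (nat_lit 0x326e8d8)) (.leaf (nat_lit 0x126f7ac))))) (.node 4 (.node 2 (.node 1 (.leaf (nat_lit 0x2270f16))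 (.leaf (nat_lit 0x327041b))) (.node 1 (.leaf (nat_lit 0x22719c7)) (.leaf (nat_lit 0x2272423)))) (.node 2 (.node 1 (.leaf (nat_lit 0x3273afc)) (.leaf (nat_lit 0x275b72))) (.node 1 (.leaf (nat_lit 0x2275e88)) (.leaf (nat_lit 0x3275bb1)))))) (.node 8 (.node 4 (.node 2 (.node 1 (.leaf (nat_lit 0x1277e3c)) (.leaf (nat_lit 0x2277ad6))) (.node 1 (.leaf (nat_lit 0x3278650)) (.leaf (nat_lit 0x27a4fc)))) (.node 2 (.node 1 (.leaf (nat_lit 0x227acab)) (.leaf (nat_lit 0x127c09b))) (.node 1 (.leaf (nat_lit 0x227c397)) (.leaf (nat_lit 0x227d15b))))) (.node 4 (.node 2 (.node 1 (.leaf (nat_lit 0x27f62e)) (.leaf (nat_lit 0x227f95d))) (.node 1 (.leaf (nat_lit 0x327fbde)) (.leaf (nat_lit 0x2809f8)))) (.node 2 (.node 1 (.leaf (nat_lit 0x32817bb)) (.leaf (nat_lit 0x32823ce))) (.node 1 (.leaf (nat_lit 0x1283cc8)) (.leaf (nat_lit 0x2283805))))))))) (.node 64 (.node 32 (.node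 16 (.node 8 (.node 4 (.node 2 (.node 1 (.leaf (nat_lit 0x284f76)) (.leaf (nat_lit 0x285ba3))) (.node 1 (.leaf (nat_lit 0x1287de5)) (.leaf (nat_lit 0x2287254)))) (.node 2 (.node 1 (.leaf (nat_lit 0x328729a)) (.leaf (nat_lit 0x2288661))) (.node 1 (.leaf (nat_lit 0x3288ea7)) (.leaf (nat_lit 0x228a1c6))))) (.node 4 (.node 2 (.node 1 (.leaf (nat_lit 0x228b754)) (.leaf (nat_lit 0x328b774))) (.node 1 (.leaf (nat_lit 0x28c9df)) (.leaf (nat_lit 0x228cb9e)))) (.node 2 (.node 1 (.leaf (nat_lit 0x228d26a)) (.leaf (nat_lit 0x28e18e))) (.node 1 (.leaf (nat_lit 0x128faa1)) (.leaf (nat_lit 0x32908d3)))))) (.node 8 (.node 4 (.node 2 (.node 1 (.leaf (nat_lit 0x129164a)) (.leaf (nat_lit 0x22915e5))) (.node 1 (.leaf (nat_lit 0x3292320)) (.leaf (nat_lit 0x293567)))) (.node 2 (.node 1 (.leaf (nat_lit 0x3293a25)) (.leaf (nat_lit 0x2294a1e))) (.node 1 (.leaf (nat_lit 0x129570d))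 (.leaf (nat_lit 0x2295a82))))) (.node 4 (.node 2 (.node 1 (.leaf (nat_lit 0x296668)) (.leaf (nat_lit 0x2296d0e))) (.node 1 (.leaf (nat_lit 0x3296c29)) (.leaf (nat_lit 0x297b78)))) (.node 2 (.node 1 (.leaf (nat_lit 0x2298f15)) (.leaf (nat_lit 0x2299ce6))) (.node 1 (.leaf (nat_lit 0x3299eb4)) (.leaf (nat_lit 0x229a50a))))))) (.node 16 (.node 8 (.node 4 (.node 2 (.node 1 (.leaf (nat_lit 0x329a3da)) (.leaf (nat_lit 0x129bf41))) (.node 1 (.leaf (nat_lit 0x229bcef)) (.leaf (nat_lit 0x329bd3f)))) (.node 2 (.node 1 (.leaf (nat_lit 0x229c190)) (.leaf (nat_lit 0x29dd39))) (.node 1 (.leaf (nat_lit 0x129efa4)) (.leaf (nat_lit 0x229ec9c))))) (.node 4 (.node 2 (.node 1 (.leaf (nat_lit 0x229ffce)) (.leaf (nat_lit 0x329f8f2))) (.node 1 (.leaf (nat_lit 0x12a1597)) (.leaf (nat_lit 0x22a1be9)))) (.node 2 (.node 1 (.leaf (nat_lit 0x12a2b2f)) (.leaf (nat_lit 0x22a38fe)))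 (.node 1 (.leaf (nat_lit 0x32a397f)) (.leaf (nat_lit 0x32a44e5)))))) (.node 8 (.node 4 (.node 2 (.node 1 (.leaf (nat_lit 0x22a6d7d)) (.leaf (nat_lit 0x22a7e32))) (.node 1 (.leaf (nat_lit 0x32a707f)) (.leaf (nat_lit 0x12a8214)))) (.node 2 (.node 1 (.leaf (nat_lit 0x22a8aae)) (.leaf (nat_lit 0x32a8605))) (.node 1 (.leaf (nat_lit 0x2a9002)) (.leaf (nat_lit 0x22a9f51))))) (.node 4 (.node 2 (.node 1 (.leaf (nat_lit 0x32a92cc)) (.leaf (nat_lit 0x22ac5e1))) (.node 1 (.leaf (nat_lit 0x32aec9d)) (.leaf (nat_lit 0x2b0c10)))) (.node 2 (.node 1 (.leaf (nat_lit 0x22b0ac7)) (.leaf (nat_lit 0x32b12f6))) (.node 1 (.leaf (nat_lit 0x22b35da)) (.leaf (nat_lit 0x12b46a6)))))))) (.node 32 (.node 16 (.node 8 (.node 4 (.node 2 (.node 1 (.leaf (nat_lit 0x32b4e3f)) (.leaf (nat_lit 0x32b5b7a))) (.node 1 (.leaf (nat_lit 0x2b613d)) (.leaf (nat_lit 0x12b7eb6)))) (.node 2 (.node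 1 (.leaf (nat_lit 0x22b75c5)) (.leaf (nat_lit 0x22b846c))) (.node 1 (.leaf (nat_lit 0x32b844c)) (.leaf (nat_lit 0x2b9493))))) (.node 4 (.node 2 (.node 1 (.leaf (nat_lit 0x22b92b1)) (.leaf (nat_lit 0x32b9ef7))) (.node 1 (.leaf (nat_lit 0x22ba7ce)) (.leaf (nat_lit 0x32ba9d6)))) (.node 2 (.node 1 (.leaf (nat_lit 0x32bbbd6)) (.leaf (nat_lit 0x22bcba2))) (.node 1 (.leaf (nat_lit 0x32bc274)) (.leaf (nat_lit 0x12bf3a3)))))) (.node 8 (.node 4 (.node 2 (.node 1 (.leaf (nat_lit 0x22bfe62)) (.leaf (nat_lit 0x32c06b4))) (.node 1 (.leaf (nat_lit 0x2c1ae0)) (.leaf (nat_lit 0x22c2888)))) (.node 2 (.node 1 (.leaf (nat_lit 0x32c28b4)) (.leaf (nat_lit 0x22c355e))) (.node 1 (.leaf (nat_lit 0x32c33eb)) (.leaf (nat_lit 0x2c57ad))))) (.node 4 (.node 2 (.node 1 (.leaf (nat_lit 0x32c650f)) (.leaf (nat_lit 0x12c77f8))) (.node 1 (.leaf (nat_lit 0x2c8a72)) (.leaf (nat_lit 0x32c838e))))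 (.node 2 (.node 1 (.leaf (nat_lit 0x12cacb9)) (.leaf (nat_lit 0x2cb980))) (.node 1 (.leaf (nat_lit 0x12cc097)) (.leaf (nat_lit 0x22cc66f))))))) (.node 16 (.node 8 (.node 4 (.node 2 (.node 1 (.leaf (nat_lit 0x22cdf10)) (.leaf (nat_lit 0x32cd9f5))) (.node 1 (.leaf (nat_lit 0x2cecb7)) (.leaf (nat_lit 0x32cf325)))) (.node 2 (.node 1 (.leaf (nat_lit 0x2d09b7)) (.leaf (nat_lit 0x2d1590))) (.node 1 (.leaf (nat_lit 0x12d29b2)) (.leaf (nat_lit 0x22d20fb))))) (.node 4 (.node 2 (.node 1 (.leaf (nat_lit 0x2d313f)) (.leaf (nat_lit 0x32d32ba))) (.node 1 (.leaf (nat_lit 0x32d418d)) (.leaf (nat_lit 0x22d5292)))) (.node 2 (.node 1 (.leaf (nat_lit 0x32d5509)) (.leaf (nat_lit 0x12d698e))) (.node 1 (.leaf (nat_lit 0x12d7db1)) (.leaf (nat_lit 0x12d82e4)))))) (.node 8 (.node 4 (.node 2 (.node 1 (.leaf (nat_lit 0x22d80f8)) (.leaf (nat_lit 0x22d9740))) (.node 1 (.leaf (nat_lit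 0x12db76f)) (.leaf (nat_lit 0x22dc6d0)))) (.node 2 (.node 1 (.leaf (nat_lit 0x32dcbb7)) (.leaf (nat_lit 0x12de0bc))) (.node 1 (.leaf (nat_lit 0x22debc7)) (.leaf (nat_lit 0x22df699))))) (.node 4 (.node 2 (.node 1 (.leaf (nat_lit 0x12e1dfb)) (.leaf (nat_lit 0x22e16a7))) (.node 1 (.leaf (nat_lit 0x32e100d)) (.leaf (nat_lit 0x22e364e)))) (.node 2 (.node 1 (.leaf (nat_lit 0x22e655f)) (.leaf (nat_lit 0x32e62e1))) (.node 1 (.leaf (nat_lit 0x2e7481)) (.leaf (nat_lit 0x12e8898))))))))))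

/-- A part of `orbN`. -/
def orbN_5 : Tree := (.node 128 (.node 64 (.node 32 (.node 16 (.node 8 (.node 4 (.node 2 (.node 1 (.leaf (nat_lit 0x2e9c19)) (.leaf (nat_lit 0x22e9085))) (.node 1 (.leaf (nat_lit 0x12ebe82)) (.leaf (nat_lit 0x32ec0c4)))) (.node 2 (.node 1 (.leaf (nat_lit 0x2edd37)) (.leaf (nat_lit 0x22ed82b))) (.node 1 (.leaf (nat_lit 0x12ef5e8)) (.leaf (nat_lit 0x22ef153))))) (.node 4 (.node 2 (.node 1 (.leaf (nat_lit 0x32f0003)) (.leaf (nat_lit 0x2f1f79))) (.node 1 (.leaf (nat_lit 0x32f1047)) (.leaf (nat_lit 0x32f2908)))) (.node 2 (.node 1 (.leaf (nat_lit 0x2f4508)) (.leaf (nat_lit 0x22f6fa8))) (.node 1 (.leaf (nat_lit 0x32f6d05)) (.leaf (nat_lit 0x32f7823)))))) (.node 8 (.node 4 (.node 2 (.node 1 (.leaf (nat_lit 0x12f8a2a)) (.leaf (nat_lit 0x32f86d1))) (.node 1 (.leaf (nat_lit 0x22f9d1a)) (.leaf (nat_lit 0x32f9b34)))) (.node 2 (.node 1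 (.leaf (nat_lit 0x12fb5e0)) (.leaf (nat_lit 0x22fbb77))) (.node 1 (.leaf (nat_lit 0x22fca10)) (.leaf (nat_lit 0x32fc4cf))))) (.node 4 (.node 2 (.node 1 (.leaf (nat_lit 0x12fe2b0)) (.leaf (nat_lit 0x22fe43e))) (.node 1 (.leaf (nat_lit 0x32ff72d)) (.leaf (nat_lit 0x300076)))) (.node 2 (.node 1 (.leaf (nat_lit 0x2301a34)) (.leaf (nat_lit 0x3301265))) (.node 1 (.leaf (nat_lit 0x3064eb)) (.leaf (nat_lit 0x307f39))))))) (.node 16 (.node 8 (.node 4 (.node 2 (.node 1 (.leaf (nat_lit 0x23071f8)) (.leaf (nat_lit 0x230ad87))) (.node 1 (.leaf (nat_lit 0x330af7b)) (.leaf (nat_lit 0x330b01e)))) (.node 2 (.node 1 (.leaf (nat_lit 0x130d93d)) (.leaf (nat_lit 0x230dca7))) (.node 1 (.leaf (nat_lit 0x230e22c)) (.leaf (nat_lit 0x330ed10))))) (.node 4 (.node 2 (.node 1 (.leaf (nat_lit 0x230f71f)) (.leaf (nat_lit 0x2310d1e))) (.node 1 (.leaf (nat_lit 0x311d9a)) (.leaf (nat_lit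 0x1312f19)))) (.node 2 (.node 1 (.leaf (nat_lit 0x2312912)) (.leaf (nat_lit 0x3312d62))) (.node 1 (.leaf (nat_lit 0x1315155)) (.leaf (nat_lit 0x2315121)))))) (.node 8 (.node 4 (.node 2 (.node 1 (.leaf (nat_lit 0x131686c)) (.leaf (nat_lit 0x23164b6))) (.node 1 (.leaf (nat_lit 0x3316170)) (.leaf (nat_lit 0x2317176)))) (.node 2 (.node 1 (.leaf (nat_lit 0x2319015)) (.leaf (nat_lit 0x231ba88))) (.node 1 (.leaf (nat_lit 0x31d286)) (.leaf (nat_lit 0x131e172))))) (.node 4 (.node 2 (.node 1 (.leaf (nat_lit 0x231f268)) (.leaf (nat_lit 0x2323e83))) (.node 1 (.leaf (nat_lit 0x324a42)) (.leaf (nat_lit 0x2324e7a)))) (.node 2 (.node 1 (.leaf (nat_lit 0x23267b8)) (.leaf (nat_lit 0x1328408))) (.node 1 (.leaf (nat_lit 0x2328e0f)) (.leaf (nat_lit 0x3329cfd)))))))) (.node 32 (.node 16 (.node 8 (.node 4 (.node 2 (.node 1 (.leaf (nat_lit 0x132b2a3)) (.leaf (nat_lit 0x332bca1)))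 (.node 1 (.leaf (nat_lit 0x32c7d8)) (.leaf (nat_lit 0x232cfc0)))) (.node 2 (.node 1 (.leaf (nat_lit 0x232ea2e)) (.leaf (nat_lit 0x332e7be))) (.node 1 (.leaf (nat_lit 0x332f541)) (.leaf (nat_lit 0x1330bbd))))) (.node 4 (.node 2 (.node 1 (.leaf (nat_lit 0x1331a94)) (.leaf (nat_lit 0x23318f0))) (.node 1 (.leaf (nat_lit 0x333188a)) (.leaf (nat_lit 0x3322c7)))) (.node 2 (.node 1 (.leaf (nat_lit 0x23344f1)) (.leaf (nat_lit 0x2336f11))) (.node 1 (.leaf (nat_lit 0x33363b0)) (.leaf (nat_lit 0x337c35)))))) (.node 8 (.node 4 (.node 2 (.node 1 (.leaf (nat_lit 0x33385ff)) (.leaf (nat_lit 0x2339f18))) (.node 1 (.leaf (nat_lit 0x33af47)) (.leaf (nat_lit 0x233a767)))) (.node 2 (.node 1 (.leaf (nat_lit 0x333a899)) (.leaf (nat_lit 0x133cb2e))) (.node 1 (.leaf (nat_lit 0x233ce43)) (.leaf (nat_lit 0x133da0c))))) (.node 4 (.node 2 (.node 1 (.leaf (nat_lit 0x33eaba)) (.leaf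 (nat_lit 0x233ed73))) (.node 1 (.leaf (nat_lit 0x333e009)) (.leaf (nat_lit 0x1340cde)))) (.node 2 (.node 1 (.leaf (nat_lit 0x2340b8d)) (.leaf (nat_lit 0x3342472))) (.node 1 (.leaf (nat_lit 0x2343802)) (.leaf (nat_lit 0x3343cda))))))) (.node 16 (.node 8 (.node 4 (.node 2 (.node 1 (.leaf (nat_lit 0x134412e)) (.leaf (nat_lit 0x2344b1f))) (.node 1 (.leaf (nat_lit 0x345777)) (.leaf (nat_lit 0x1349c7c)))) (.node 2 (.node 1 (.leaf (nat_lit 0x234987a)) (.leaf (nat_lit 0x134a750))) (.node 1 (.leaf (nat_lit 0x234a728)) (.leaf (nat_lit 0x34bea3))))) (.node 4 (.node 2 (.node 1 (.leaf (nat_lit 0x334b0e8)) (.leaf (nat_lit 0x334d150))) (.node 1 (.leaf (nat_lit 0x134e100)) (.leaf (nat_lit 0x234ec22)))) (.node 2 (.node 1 (.leaf (nat_lit 0x334eaaa)) (.leaf (nat_lit 0x234f74f))) (.node 1 (.leaf (nat_lit 0x334fd66)) (.leaf (nat_lit 0x350a2c)))))) (.node 8 (.node 4 (.node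 2 (.node 1 (.leaf (nat_lit 0x2352c56)) (.leaf (nat_lit 0x13545e6))) (.node 1 (.leaf (nat_lit 0x3355a27)) (.leaf (nat_lit 0x3356fc2)))) (.node 2 (.node 1 (.leaf (nat_lit 0x3357e4b)) (.leaf (nat_lit 0x3585c3))) (.node 1 (.leaf (nat_lit 0x23586c0)) (.leaf (nat_lit 0x3596f9))))) (.node 4 (.node 2 (.node 1 (.leaf (nat_lit 0x135b667)) (.leaf (nat_lit 0x235b04c))) (.node 1 (.leaf (nat_lit 0x35cde0)) (.leaf (nat_lit 0x235d521)))) (.node 2 (.node 1 (.leaf (nat_lit 0x2360cf7)) (.leaf (nat_lit 0x33613ab))) (.node 1 (.leaf (nat_lit 0x1362f99)) (.leaf (nat_lit 0x3362f88))))))))) (.node 64 (.node 32 (.node 16 (.node 8 (.node 4 (.node 2 (.node 1 (.leaf (nat_lit 0x336307c)) (.leaf (nat_lit 0x3647a1))) (.node 1 (.leaf (nat_lit 0x1365b8b)) (.leaf (nat_lit 0x2365810)))) (.node 2 (.node 1 (.leaf (nat_lit 0x2366a38)) (.leaf (nat_lit 0x3686da))) (.node 1 (.leaf (nat_lit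 0x33683e5)) (.leaf (nat_lit 0x1369808))))) (.node 4 (.node 2 (.node 1 (.leaf (nat_lit 0x36a91e)) (.leaf (nat_lit 0x236a863))) (.node 1 (.leaf (nat_lit 0x336a0b3)) (.leaf (nat_lit 0x136cddf)))) (.node 2 (.node 1 (.leaf (nat_lit 0x236c97e)) (.leaf (nat_lit 0x136dcca))) (.node 1 (.leaf (nat_lit 0x236e53d)) (.leaf (nat_lit 0x336e3fc)))))) (.node 8 (.node 4 (.node 2 (.node 1 (.leaf (nat_lit 0x1370726)) (.leaf (nat_lit 0x3371b9a))) (.node 1 (.leaf (nat_lit 0x3724bd)) (.leaf (nat_lit 0x3372e0e)))) (.node 2 (.node 1 (.leaf (nat_lit 0x374789)) (.leaf (nat_lit 0x3376f1d))) (.node 1 (.leaf (nat_lit 0x1378867)) (.leaf (nat_lit 0x2378ced))))) (.node 4 (.node 2 (.node 1 (.leaf (nat_lit 0x3378e6b)) (.leaf (nat_lit 0x37936e))) (.node 1 (.leaf (nat_lit 0x237984f)) (.leaf (nat_lit 0x3379429)))) (.node 2 (.node 1 (.leaf (nat_lit 0x237b487)) (.leaf (nat_lit 0x37eccb)))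 (.node 1 (.leaf (nat_lit 0x237fa35)) (.leaf (nat_lit 0x380be0))))))) (.node 16 (.node 8 (.node 4 (.node 2 (.node 1 (.leaf (nat_lit 0x3382005)) (.leaf (nat_lit 0x138393b))) (.node 1 (.leaf (nat_lit 0x2383b4d)) (.leaf (nat_lit 0x23842bc)))) (.node 2 (.node 1 (.leaf (nat_lit 0x33857b1)) (.leaf (nat_lit 0x338670a))) (.node 1 (.leaf (nat_lit 0x387f78)) (.leaf (nat_lit 0x2387ab5))))) (.node 4 (.node 2 (.node 1 (.leaf (nat_lit 0x338717d)) (.leaf (nat_lit 0x388efb))) (.node 1 (.leaf (nat_lit 0x2389d1c)) (.leaf (nat_lit 0x238a869)))) (.node 2 (.node 1 (.leaf (nat_lit 0x338ab64)) (.leaf (nat_lit 0x238b68d))) (.node 1 (.leaf (nat_lit 0x338be80)) (.leaf (nat_lit 0x138fdae)))))) (.node 8 (.node 4 (.node 2 (.node 1 (.leaf (nat_lit 0x2390540)) (.leaf (nat_lit 0x3390ab8))) (.node 1 (.leaf (nat_lit 0x3918e0)) (.leaf (nat_lit 0x1392af6)))) (.node 2 (.node 1 (.leaf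 (nat_lit 0x3392a0f)) (.leaf (nat_lit 0x1393e7e))) (.node 1 (.leaf (nat_lit 0x39498f)) (.leaf (nat_lit 0x3395b51))))) (.node 4 (.node 2 (.node 1 (.leaf (nat_lit 0x2396608)) (.leaf (nat_lit 0x2398f17))) (.node 1 (.leaf (nat_lit 0x339b0c2)) (.leaf (nat_lit 0x39c595)))) (.node 2 (.node 1 (.leaf (nat_lit 0x239cc70)) (.leaf (nat_lit 0x339daaf))) (.node 1 (.leaf (nat_lit 0x339f8df)) (.leaf (nat_lit 0x23a0a59)))))))) (.node 32 (.node 16 (.node 8 (.node 4 (.node 2 (.node 1 (.leaf (nat_lit 0x13a12bd)) (.leaf (nat_lit 0x13a2f74))) (.node 1 (.leaf (nat_lit 0x33a2c23)) (.leaf (nat_lit 0x3a352d)))) (.node 2 (.node 1 (.leaf (nat_lit 0x33a36ca)) (.leaf (nat_lit 0x23a5901))) (.node 1 (.leaf (nat_lit 0x33a5b46)) (.leaf (nat_lit 0x23a761f))))) (.node 4 (.node 2 (.node 1 (.leaf (nat_lit 0x33a83f4)) (.leaf (nat_lit 0x13a9b55))) (.node 1 (.leaf (nat_lit 0x33a993f)) (.leaf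 (nat_lit 0x3aa809)))) (.node 2 (.node 1 (.leaf (nat_lit 0x23aa07d)) (.leaf (nat_lit 0x33aae89))) (.node 1 (.leaf (nat_lit 0x23acf7e)) (.leaf (nat_lit 0x23adce5)))))) (.node 8 (.node 4 (.node 2 (.node 1 (.leaf (nat_lit 0x33ad52f)) (.leaf (nat_lit 0x23ae039))) (.node 1 (.leaf (nat_lit 0x33b0bfc)) (.leaf (nat_lit 0x33b1eaf)))) (.node 2 (.node 1 (.leaf (nat_lit 0x13b226f)) (.leaf (nat_lit 0x23b2684))) (.node 1 (.leaf (nat_lit 0x13b3876)) (.leaf (nat_lit 0x23b4f2b))))) (.node 4 (.node 2 (.node 1 (.leaf (nat_lit 0x33b4ac0)) (.leaf (nat_lit 0x23b8f8a))) (.node 1 (.leaf (nat_lit 0x3bae47)) (.leaf (nat_lit 0x33bb438)))) (.node 2 (.node 1 (.leaf (nat_lit 0x23bcf5a)) (.leaf (nat_lit 0x33bce10))) (.node 1 (.leaf (nat_lit 0x3bdbe8)) (.leaf (nat_lit 0x13bf9fd))))))) (.node 16 (.node 8 (.node 4 (.node 2 (.node 1 (.leaf (nat_lit 0x33c38f5)) (.leaf (nat_lit 0x3c4771)))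 (.node 1 (.leaf (nat_lit 0x33c4390)) (.leaf (nat_lit 0x13c6f89)))) (.node 2 (.node 1 (.leaf (nat_lit 0x23c6b08)) (.leaf (nat_lit 0x3c728e))) (.node 1 (.leaf (nat_lit 0x23cabf6)) (.leaf (nat_lit 0x3cbbd0))))) (.node 4 (.node 2 (.node 1 (.leaf (nat_lit 0x23cc10c)) (.leaf (nat_lit 0x33cc952))) (.node 1 (.leaf (nat_lit 0x23cd54b)) (.leaf (nat_lit 0x3ce1c4)))) (.node 2 (.node 1 (.leaf (nat_lit 0x33ce54d)) (.leaf (nat_lit 0x23cf086))) (.node 1 (.leaf (nat_lit 0x3d112a)) (.leaf (nat_lit 0x3d250b)))))) (.node 8 (.node 4 (.node 2 (.node 1 (.leaf (nat_lit 0x23d2a08)) (.leaf (nat_lit 0x3d31b2))) (.node 1 (.leaf (nat_lit 0x13d4d75)) (.leaf (nat_lit 0x3d5e42)))) (.node 2 (.node 1 (.leaf (nat_lit 0x33d54df)) (.leaf (nat_lit 0x13d7bad))) (.node 1 (.leaf (nat_lit 0x3d99cb)) (.leaf (nat_lit 0x13da731))))) (.node 4 (.node 2 (.node 1 (.leaf (nat_lit 0x23dad67)) (.leaf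 (nat_lit 0x33db019))) (.node 1 (.leaf (nat_lit 0x3dc7d6)) (.leaf (nat_lit 0x33dc688)))) (.node 2 (.node 1 (.leaf (nat_lit 0x13dd9a5)) (.leaf (nat_lit 0x23ddc06))) (.node 1 (.leaf (nat_lit 0x13de1f7)) (.leaf (nat_lit 0x3df95c))))))))))

/-- A part of `orbN`. -/
def orbN_6 : Tree := (.node 109 (.node 54 (.node 27 (.node 13 (.node 6 (.node 3 (.node 1 (.leaf (nat_lit 0x33e1a49)) (.node 1 (.leaf (nat_lit 0x23e258a)) (.leaf (nat_lit 0x13e42af)))) (.node 1 (.leaf (nat_lit 0x33e5e44)) (.node 1 (.leaf (nat_lit 0x13e7cfc)) (.leaf (nat_lit 0x33e8cd3))))) (.node 3 (.node 1 (.leaf (nat_lit 0x23ea5a9)) (.node 1 (.leaf (nat_lit 0x33eca2b)) (.leaf (nat_lit 0x23f076e)))) (.node 2 (.node 1 (.leaf (nat_lit 0x33f20a8)) (.leaf (nat_lit 0x33f47aa))) (.node 1 (.leaf (nat_lit 0x13f5ba0)) (.leaf (nat_lit 0x3f692e)))))) (.node 7 (.node 3 (.node 1 (.leaf (nat_lit 0x3fc43c))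 (.node 1 (.leaf (nat_lit 0x33fc94d)) (.leaf (nat_lit 0x23fe05a)))) (.node 2 (.node 1 (.leaf (nat_lit 0x140039f)) (.leaf (nat_lit 0x2400347))) (.node 1 (.leaf (nat_lit 0x140362d)) (.leaf (nat_lit 0x14048b6))))) (.node 3 (.node 1 (.leaf (nat_lit 0x405184)) (.node 1 (.leaf (nat_lit 0x140a11f)) (.leaf (nat_lit 0x340ba5a)))) (.node 2 (.node 1 (.leaf (nat_lit 0x3410c2b)) (.leaf (nat_lit 0x141257a))) (.node 1 (.leaf (nat_lit 0x2415125)) (.leaf (nat_lit 0x24168e9))))))) (.node 13 (.node 6 (.node 3 (.node 1 (.leaf (nat_lit 0x1417959)) (.node 1 (.leaf (nat_lit 0x141bddb)) (.leaf (nat_lit 0x241c458)))) (.node 1 (.leaf (nat_lit 0x341fd3a)) (.node 1 (.leaf (nat_lit 0x2421e63)) (.leaf (nat_lit 0x2423b9b))))) (.node 3 (.node 1 (.leaf (nat_lit 0x34259af)) (.node 1 (.leaf (nat_lit 0x2426479)) (.leaf (nat_lit 0x2427014)))) (.node 2 (.node 1 (.leaf (nat_lit 0x242972c))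 (.leaf (nat_lit 0x242b132))) (.node 1 (.leaf (nat_lit 0x342b514)) (.leaf (nat_lit 0x342eb7c)))))) (.node 7 (.node 3 (.node 1 (.leaf (nat_lit 0x242f432)) (.node 1 (.leaf (nat_lit 0x3433815)) (.leaf (nat_lit 0x14375c9)))) (.node 2 (.node 1 (.leaf (nat_lit 0x2437e20)) (.leaf (nat_lit 0x2438689))) (.node 1 (.leaf (nat_lit 0x243dd0d)) (.leaf (nat_lit 0x143ffab))))) (.node 3 (.node 1 (.leaf (nat_lit 0x243fb1a)) (.node 1 (.leaf (nat_lit 0x2446359)) (.leaf (nat_lit 0x3446a4d)))) (.node 2 (.node 1 (.leaf (nat_lit 0x24485e9)) (.leaf (nat_lit 0x144b57b))) (.node 1 (.leaf (nat_lit 0x144cbf7)) (.leaf (nat_lit 0x144e5c8)))))))) (.node 27 (.node 13 (.node 6 (.node 3 (.node 1 (.leaf (nat_lit 0x344fa0d)) (.node 1 (.leaf (nat_lit 0x2454399)) (.leaf (nat_lit 0x3457abf)))) (.node 1 (.leaf (nat_lit 0x3459f3f)) (.node 1 (.leaf (nat_lit 0x245a917)) (.leaf (nat_lit 0x245c609)))))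 (.node 3 (.node 1 (.leaf (nat_lit 0x345c09a)) (.node 1 (.leaf (nat_lit 0x345eae4)) (.leaf (nat_lit 0x245fbd9)))) (.node 2 (.node 1 (.leaf (nat_lit 0x246462f)) (.leaf (nat_lit 0x3464e7b))) (.node 1 (.leaf (nat_lit 0x46860d)) (.leaf (nat_lit 0x2468c9b)))))) (.node 7 (.node 3 (.node 1 (.leaf (nat_lit 0x24696e1)) (.node 1 (.leaf (nat_lit 0x3469e11)) (.leaf (nat_lit 0x346d3b4)))) (.node 2 (.node 1 (.leaf (nat_lit 0x474547)) (.leaf (nat_lit 0x3474f9f))) (.node 1 (.leaf (nat_lit 0x475ef8)) (.leaf (nat_lit 0x2475072))))) (.node 3 (.node 1 (.leaf (nat_lit 0x476a11)) (.node 1 (.leaf (nat_lit 0x2478480)) (.leaf (nat_lit 0x479a23)))) (.node 2 (.node 1 (.leaf (nat_lit 0x147be85)) (.leaf (nat_lit 0x147c2ee))) (.node 1 (.leaf (nat_lit 0x347da3f)) (.leaf (nat_lit 0x14819b6))))))) (.node 14 (.node 7 (.node 3 (.node 1 (.leaf (nat_lit 0x2482004)) (.node 1 (.leaf (nat_lit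 0x2485403)) (.leaf (nat_lit 0x14862c5)))) (.node 2 (.node 1 (.leaf (nat_lit 0x2488237)) (.leaf (nat_lit 0x2489cad))) (.node 1 (.leaf (nat_lit 0x3489a41)) (.leaf (nat_lit 0x248a3e6))))) (.node 3 (.node 1 (.leaf (nat_lit 0x348bdee)) (.node 1 (.leaf (nat_lit 0x2493306)) (.leaf (nat_lit 0x34932d8)))) (.node 2 (.node 1 (.leaf (nat_lit 0x49563e)) (.leaf (nat_lit 0x2496861))) (.node 1 (.leaf (nat_lit 0x2498b58)) (.leaf (nat_lit 0x4994e8)))))) (.node 7 (.node 3 (.node 1 (.leaf (nat_lit 0x49dea9)) (.node 1 (.leaf (nat_lit 0x34a0285)) (.leaf (nat_lit 0x4a1763)))) (.node 2 (.node 1 (.leaf (nat_lit 0x14a3338)) (.leaf (nat_lit 0x24a38c2))) (.node 1 (.leaf (nat_lit 0x34a4e1d)) (.leaf (nat_lit 0x24a573a))))) (.node 3 (.node 1 (.leaf (nat_lit 0x24a6b7f)) (.node 1 (.leaf (nat_lit 0x24a92ea)) (.leaf (nat_lit 0x4abb36)))) (.node 2 (.node 1 (.leaf (nat_lit 0x34ac7a0))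 (.leaf (nat_lit 0x34ae43d))) (.node 1 (.leaf (nat_lit 0x4b3430)) (.leaf (nat_lit 0x24b90c0))))))))) (.node 55 (.node 27 (.node 13 (.node 6 (.node 3 (.node 1 (.leaf (nat_lit 0x4bc658)) (.node 1 (.leaf (nat_lit 0x34bf088)) (.leaf (nat_lit 0x34c0a3a)))) (.node 1 (.leaf (nat_lit 0x34c5c6d)) (.node 1 (.leaf (nat_lit 0x24cb8ff)) (.leaf (nat_lit 0x34cc262))))) (.node 3 (.node 1 (.leaf (nat_lit 0x24ce440)) (.node 1 (.leaf (nat_lit 0x24cf803)) (.leaf (nat_lit 0x34cf822)))) (.node 2 (.node 1 (.leaf (nat_lit 0x4d3a51)) (.leaf (nat_lit 0x14d6660))) (.node 1 (.leaf (nat_lit 0x24d67af)) (.leaf (nat_lit 0x24d7970)))))) (.node 7 (.node 3 (.node 1 (.leaf (nat_lit 0x14d8deb)) (.node 1 (.leaf (nat_lit 0x14db682)) (.leaf (nat_lit 0x24de00a)))) (.node 2 (.node 1 (.leaf (nat_lit 0x34de91b)) (.leaf (nat_lit 0x14e3f63))) (.node 1 (.leaf (nat_lit 0x24e4e17)) (.leaf (nat_lit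 0x34e7913))))) (.node 3 (.node 1 (.leaf (nat_lit 0x34eaea8)) (.node 1 (.leaf (nat_lit 0x24efc1a)) (.leaf (nat_lit 0x4f2730)))) (.node 2 (.node 1 (.leaf (nat_lit 0x24f5866)) (.leaf (nat_lit 0x24f7126))) (.node 1 (.leaf (nat_lit 0x24f8e12)) (.leaf (nat_lit 0x24fac5f))))))) (.node 14 (.node 7 (.node 3 (.node 1 (.leaf (nat_lit 0x4fcd3e)) (.node 1 (.leaf (nat_lit 0x34fce8a)) (.leaf (nat_lit 0x5050b9)))) (.node 2 (.node 1 (.leaf (nat_lit 0x350575e)) (.leaf (nat_lit 0x150e4e7))) (.node 1 (.leaf (nat_lit 0x250ebd3)) (.leaf (nat_lit 0x2511b7e))))) (.node 3 (.node 1 (.leaf (nat_lit 0x3512a54)) (.node 1 (.leaf (nat_lit 0x2517d80)) (.leaf (nat_lit 0x2518280)))) (.node 2 (.node 1 (.leaf (nat_lit 0x251a637)) (.leaf (nat_lit 0x51cfcd))) (.node 1 (.leaf (nat_lit 0x3520ec4)) (.leaf (nat_lit 0x25220b2)))))) (.node 7 (.node 3 (.node 1 (.leaf (nat_lit 0x526305)) (.node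 1 (.leaf (nat_lit 0x2526df9)) (.leaf (nat_lit 0x3526ad9)))) (.node 2 (.node 1 (.leaf (nat_lit 0x152d59f)) (.leaf (nat_lit 0x252ead0))) (.node 1 (.leaf (nat_lit 0x253231d)) (.leaf (nat_lit 0x253ae7f))))) (.node 3 (.node 1 (.leaf (nat_lit 0x53bf4e)) (.node 1 (.leaf (nat_lit 0x53e8d9)) (.leaf (nat_lit 0x35402c8)))) (.node 2 (.node 1 (.leaf (nat_lit 0x5436bc)) (.leaf (nat_lit 0x25450c5))) (.node 1 (.leaf (nat_lit 0x25480d9)) (.leaf (nat_lit 0x3548219)))))))) (.node 27 (.node 13 (.node 6 (.node 3 (.node 1 (.leaf (nat_lit 0x154e714)) (.node 1 (.leaf (nat_lit 0x3555a4f)) (.leaf (nat_lit 0x255b22f)))) (.node 1 (.leaf (nat_lit 0x355bfc5)) (.node 1 (.leaf (nat_lit 0x255df26)) (.leaf (nat_lit 0x25650af))))) (.node 3 (.node 1 (.leaf (nat_lit 0x2566ba6)) (.node 1 (.leaf (nat_lit 0x57c0d0)) (.leaf (nat_lit 0x2582f13)))) (.node 2 (.node 1 (.leaf (nat_lit 0x35898ef))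 (.leaf (nat_lit 0x258a954))) (.node 1 (.leaf (nat_lit 0x258bb65)) (.leaf (nat_lit 0x158ff29)))))) (.node 7 (.node 3 (.node 1 (.leaf (nat_lit 0x590d58)) (.node 1 (.leaf (nat_lit 0x359225a)) (.leaf (nat_lit 0x2596060)))) (.node 2 (.node 1 (.leaf (nat_lit 0x3596bd7)) (.leaf (nat_lit 0x25a30d8))) (.node 1 (.leaf (nat_lit 0x5a7eb8)) (.leaf (nat_lit 0x15a9aef))))) (.node 3 (.node 1 (.leaf (nat_lit 0x35af062)) (.node 1 (.leaf (nat_lit 0x25b00e9)) (.leaf (nat_lit 0x35b19f2)))) (.node 2 (.node 1 (.leaf (nat_lit 0x15b247f)) (.leaf (nat_lit 0x25b2eab))) (.node 1 (.leaf (nat_lit 0x35b5a6e)) (.leaf (nat_lit 0x5bc8c1))))))) (.node 14 (.node 7 (.node 3 (.node 1 (.leaf (nat_lit 0x35c0326)) (.node 1 (.leaf (nat_lit 0x15c8b19)) (.leaf (nat_lit 0x35c8b3b)))) (.node 2 (.node 1 (.leaf (nat_lit 0x15cadcd)) (.leaf (nat_lit 0x35cbaab))) (.node 1 (.leaf (nat_lit 0x25d0a40))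 (.leaf (nat_lit 0x5d111a))))) (.node 3 (.node 1 (.leaf (nat_lit 0x35d1fc6)) (.node 1 (.leaf (nat_lit 0x5e329d)) (.leaf (nat_lit 0x15f17d7)))) (.node 2 (.node 1 (.leaf (nat_lit 0x5f52a9)) (.leaf (nat_lit 0x25f7eb2))) (.node 1 (.leaf (nat_lit 0x25f9d06)) (.leaf (nat_lit 0x601177)))))) (.node 7 (.node 3 (.node 1 (.leaf (nat_lit 0x3604bdd)) (.node 1 (.leaf (nat_lit 0x608460)) (.leaf (nat_lit 0x360e055)))) (.node 2 (.node 1 (.leaf (nat_lit 0x3616c74)) (.leaf (nat_lit 0x36526c3))) (.node 1 (.leaf (nat_lit 0x2656f1c)) (.leaf (nat_lit 0x3662c52))))) (.node 3 (.node 1 (.leaf (nat_lit 0x26728cc)) (.node 1 (.leaf (nat_lit 0x26a97ab)) (.leaf (nat_lit 0x36c070e)))) (.node 2 (.node 1 (.leaf (nat_lit 0x26c1ebf)) (.leaf (nat_lit 0x36c8365))) (.node 1 (.leaf (nat_lit 0x26d6793)) (.leaf (nat_lit 0x6d9a98))))))))))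

/-- The first suborbit. -/
def orbN : Tree := (.node 768 (.node 256 orbN_0 (.node 256 orbN_1 orbN_2)) (.node 512 (.node 256 orbN_3 orbN_4) (.node 256 orbN_5 orbN_6)))

/-- A part of `orbF`. -/
def orbF_0 : Tree := (.node 128 (.node 64 (.node 32 (.node 16 (.node 8 (.node 4 (.node 2 (.node 1 (.leaf (nat_lit 0x1f)) (.leaf (nat_lit 0xfca))) (.node 1 (.leaf (nat_lit 0x1000700)) (.leaf (nat_lit 0x20004d9)))) (.node 2 (.node 1 (.leaf (nat_lit 0x3000cec)) (.leaf (nat_lit 0x1001de9))) (.node 1 (.leaf (nat_lit 0x2001850)) (.leaf (nat_lit 0x3001acd))))) (.node 4 (.node 2 (.node 1 (.leaf (nat_lit 0x2f1e)) (.leaf (nat_lit 0x200228c))) (.node 1 (.leaf (nat_lit 0x3002042)) (.leaf (nat_lit 0x3854)))) (.node 2 (.node 1 (.leaf (nat_lit 0x2003056)) (.leaf (nat_lit 0x30031e1))) (.node 1 (.leaf (nat_lit 0x1004ca3)) (.leaf (nat_lit 0x2004e38)))))) (.node 8 (.node 4 (.node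 2 (.node 1 (.leaf (nat_lit 0x3004247)) (.leaf (nat_lit 0x592d))) (.node 1 (.leaf (nat_lit 0x2005691)) (.leaf (nat_lit 0x3005362)))) (.node 2 (.node 1 (.leaf (nat_lit 0x6433)) (.leaf (nat_lit 0x2006b6f))) (.node 1 (.leaf (nat_lit 0x30069ec)) (.leaf (nat_lit 0x1007a69))))) (.node 4 (.node 2 (.node 1 (.leaf (nat_lit 0x20072e3)) (.leaf (nat_lit 0x3007489))) (.node 1 (.leaf (nat_lit 0x2008991)) (.leaf (nat_lit 0x300845d)))) (.node 2 (.node 1 (.leaf (nat_lit 0x9134)) (.leaf (nat_lit 0x2009e9d))) (.node 1 (.leaf (nat_lit 0x3009734)) (.leaf (nat_lit 0x100a3af))))))) (.node 16 (.node 8 (.node 4 (.node 2 (.node 1 (.leaf (nat_lit 0x200a55a)) (.leaf (nat_lit 0x300a74d))) (.node 1 (.leaf (nat_lit 0x100bd5a)) (.leaf (nat_lit 0x200b166)))) (.node 2 (.node 1 (.leaf (nat_lit 0x300b7c1)) (.leaf (nat_lit 0xc1f6))) (.node 1 (.leaf (nat_lit 0x200cada)) (.leaf (nat_lit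 0x300c4d0))))) (.node 4 (.node 2 (.node 1 (.leaf (nat_lit 0x100d3ad)) (.leaf (nat_lit 0x200d1b6))) (.node 1 (.leaf (nat_lit 0x300de39)) (.leaf (nat_lit 0xecf4)))) (.node 2 (.node 1 (.leaf (nat_lit 0x200e981)) (.leaf (nat_lit 0x300e2d3))) (.node 1 (.leaf (nat_lit 0xfb38)) (.leaf (nat_lit 0x10101c1)))))) (.node 8 (.node 4 (.node 2 (.node 1 (.leaf (nat_lit 0x2010dc2)) (.leaf (nat_lit 0x2011f90))) (.node 1 (.leaf (nat_lit 0x3011b40)) (.leaf (nat_lit 0x12baf)))) (.node 2 (.node 1 (.leaf (nat_lit 0x20124f2)) (.leaf (nat_lit 0x301299d))) (.node 1 (.leaf (nat_lit 0x101316e)) (.leaf (nat_lit 0x2013685))))) (.node 4 (.node 2 (.node 1 (.leaf (nat_lit 0x30136eb)) (.leaf (nat_lit 0x101449f))) (.node 1 (.leaf (nat_lit 0x2014298)) (.leaf (nat_lit 0x30145a2)))) (.node 2 (.node 1 (.leaf (nat_lit 0x1569b)) (.leaf (nat_lit 0x20152c1))) (.node 1 (.leaf (nat_lit 0x3015275))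 (.leaf (nat_lit 0x10166a1)))))))) (.node 32 (.node 16 (.node 8 (.node 4 (.node 2 (.node 1 (.leaf (nat_lit 0x2016533)) (.leaf (nat_lit 0x3016591))) (.node 1 (.leaf (nat_lit 0x17444)) (.leaf (nat_lit 0x20175d4)))) (.node 2 (.node 1 (.leaf (nat_lit 0x30177ee)) (.leaf (nat_lit 0x1863f))) (.node 1 (.leaf (nat_lit 0x1019e4c)) (.leaf (nat_lit 0x2019c31))))) (.node 4 (.node 2 (.node 1 (.leaf (nat_lit 0x1af66)) (.leaf (nat_lit 0x201ac68))) (.node 1 (.leaf (nat_lit 0x301a416)) (.leaf (nat_lit 0x101b4ee)))) (.node 2 (.node 1 (.leaf (nat_lit 0x201b1dd)) (.leaf (nat_lit 0x301b961))) (.node 1 (.leaf (nat_lit 0x101cc58)) (.leaf (nat_lit 0x201ce5c)))))) (.node 8 (.node 4 (.node 2 (.node 1 (.leaf (nat_lit 0x301caf9)) (.leaf (nat_lit 0x1dc36))) (.node 1 (.leaf (nat_lit 0x201d102)) (.leaf (nat_lit 0x301dc89)))) (.node 2 (.node 1 (.leaf (nat_lit 0x101e033)) (.leaf (nat_lit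 0x201ed24))) (.node 1 (.leaf (nat_lit 0x301ed28)) (.leaf (nat_lit 0x1f0bd))))) (.node 4 (.node 2 (.node 1 (.leaf (nat_lit 0x201f18c)) (.leaf (nat_lit 0x301f9a3))) (.node 1 (.leaf (nat_lit 0x209c4)) (.leaf (nat_lit 0x1021aca)))) (.node 2 (.node 1 (.leaf (nat_lit 0x202197b)) (.leaf (nat_lit 0x2022a92))) (.node 1 (.leaf (nat_lit 0x3022453)) (.leaf (nat_lit 0x23545))))))) (.node 16 (.node 8 (.node 4 (.node 2 (.node 1 (.leaf (nat_lit 0x30233ef)) (.leaf (nat_lit 0x10248bb))) (.node 1 (.leaf (nat_lit 0x2024b4f)) (.leaf (nat_lit 0x3024029)))) (.node 2 (.node 1 (.leaf (nat_lit 0x1025607)) (.leaf (nat_lit 0x202517c))) (.node 1 (.leaf (nat_lit 0x3025cfe)) (.leaf (nat_lit 0x26290))))) (.node 4 (.node 2 (.node 1 (.leaf (nat_lit 0x1027601)) (.leaf (nat_lit 0x2027b79))) (.node 1 (.leaf (nat_lit 0x3027ed8)) (.leaf (nat_lit 0x281b1)))) (.node 2 (.node 1 (.leaf (nat_lit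 0x202862b)) (.leaf (nat_lit 0x3028022))) (.node 1 (.leaf (nat_lit 0x102ae02)) (.leaf (nat_lit 0x202ace8)))))) (.node 8 (.node 4 (.node 2 (.node 1 (.leaf (nat_lit 0x202b80c)) (.leaf (nat_lit 0x302b5f5))) (.node 1 (.leaf (nat_lit 0x2c507)) (.leaf (nat_lit 0x302c5d5)))) (.node 2 (.node 1 (.leaf (nat_lit 0x102d9de)) (.leaf (nat_lit 0x202df2f))) (.node 1 (.leaf (nat_lit 0x302d02d)) (.leaf (nat_lit 0x102e894))))) (.node 4 (.node 2 (.node 1 (.leaf (nat_lit 0x202e376)) (.leaf (nat_lit 0x2f96a))) (.node 1 (.leaf (nat_lit 0x202ff37)) (.leaf (nat_lit 0x302f568)))) (.node 2 (.node 1 (.leaf (nat_lit 0x307e0)) (.leaf (nat_lit 0x3149c))) (.node 1 (.leaf (nat_lit 0x2031248)) (.leaf (nat_lit 0x3031e1b))))))))) (.node 64 (.node 32 (.node 16 (.node 8 (.node 4 (.node 2 (.node 1 (.leaf (nat_lit 0x1032e3a)) (.leaf (nat_lit 0x2032b7d))) (.node 1 (.leaf (nat_lit 0x3032226))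 (.leaf (nat_lit 0x1033df4)))) (.node 2 (.node 1 (.leaf (nat_lit 0x20338a4)) (.leaf (nat_lit 0x3033598))) (.node 1 (.leaf (nat_lit 0x34cb1)) (.leaf (nat_lit 0x2034476))))) (.node 4 (.node 2 (.node 1 (.leaf (nat_lit 0x3034887)) (.leaf (nat_lit 0x1035d68))) (.node 1 (.leaf (nat_lit 0x2035adf)) (.leaf (nat_lit 0x36c46)))) (.node 2 (.node 1 (.leaf (nat_lit 0x2036c59)) (.leaf (nat_lit 0x3036420))) (.node 1 (.leaf (nat_lit 0x372d5)) (.leaf (nat_lit 0x1038fcb)))))) (.node 8 (.node 4 (.node 2 (.node 1 (.leaf (nat_lit 0x20389d8)) (.leaf (nat_lit 0x2039768))) (.node 1 (.leaf (nat_lit 0x3039b4c)) (.leaf (nat_lit 0x3adc4)))) (.node 2 (.node 1 (.leaf (nat_lit 0x203aee9)) (.leaf (nat_lit 0x303ac01))) (.node 1 (.leaf (nat_lit 0x103b962)) (.leaf (nat_lit 0x203b38b))))) (.node 4 (.node 2 (.node 1 (.leaf (nat_lit 0x303b2a4)) (.leaf (nat_lit 0x103cb71))) (.node 1 (.leaf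 (nat_lit 0x203c9c1)) (.leaf (nat_lit 0x303c0ef)))) (.node 2 (.node 1 (.leaf (nat_lit 0x3d925)) (.leaf (nat_lit 0x303d0ce))) (.node 1 (.leaf (nat_lit 0x103ed52)) (.leaf (nat_lit 0x203e391))))))) (.node 16 (.node 8 (.node 4 (.node 2 (.node 1 (.leaf (nat_lit 0x303e484)) (.leaf (nat_lit 0x3ff00))) (.node 1 (.leaf (nat_lit 0x203f76b)) (.leaf (nat_lit 0x303f1ee)))) (.node 2 (.node 1 (.leaf (nat_lit 0x1041615)) (.leaf (nat_lit 0x20414a5))) (.node 1 (.leaf (nat_lit 0x20427b9)) (.leaf (nat_lit 0x3042edc))))) (.node 4 (.node 2 (.node 1 (.leaf (nat_lit 0x43766)) (.leaf (nat_lit 0x3043c14))) (.node 1 (.leaf (nat_lit 0x1044c69)) (.leaf (nat_lit 0x204451f)))) (.node 2 (.node 1 (.leaf (nat_lit 0x30442df)) (.leaf (nat_lit 0x104566a))) (.node 1 (.leaf (nat_lit 0x20455eb)) (.leaf (nat_lit 0x4683e)))))) (.node 8 (.node 4 (.node 2 (.node 1 (.leaf (nat_lit 0x2046454))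 (.leaf (nat_lit 0x3046910))) (.node 1 (.leaf (nat_lit 0x1048263)) (.leaf (nat_lit 0x20486fd)))) (.node 2 (.node 1 (.leaf (nat_lit 0x3048af0)) (.leaf (nat_lit 0x49b9d))) (.node 1 (.leaf (nat_lit 0x3049e73)) (.leaf (nat_lit 0x104a640))))) (.node 4 (.node 2 (.node 1 (.leaf (nat_lit 0x204a77a)) (.leaf (nat_lit 0x304a471))) (.node 1 (.leaf (nat_lit 0x4b1fb)) (.leaf (nat_lit 0x204b5b6)))) (.node 2 (.node 1 (.leaf (nat_lit 0x304bdfe)) (.leaf (nat_lit 0x4c94b))) (.node 1 (.leaf (nat_lit 0x104d462)) (.leaf (nat_lit 0x204ddd4)))))))) (.node 32 (.node 16 (.node 8 (.node 4 (.node 2 (.node 1 (.leaf (nat_lit 0x204e4f9)) (.leaf (nat_lit 0x304ea91))) (.node 1 (.leaf (nat_lit 0x4fc45)) (.leaf (nat_lit 0x204fa78)))) (.node 2 (.node 1 (.leaf (nat_lit 0x304f832)) (.leaf (nat_lit 0x105031f))) (.node 1 (.leaf (nat_lit 0x20508a9)) (.leaf (nat_lit 0x3050b5e))))) (.node 4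 (.node 2 (.node 1 (.leaf (nat_lit 0x1051818)) (.leaf (nat_lit 0x20512d0))) (.node 1 (.leaf (nat_lit 0x30515f8)) (.leaf (nat_lit 0x52468)))) (.node 2 (.node 1 (.leaf (nat_lit 0x3052e1a)) (.leaf (nat_lit 0x1053236))) (.node 1 (.leaf (nat_lit 0x2053273)) (.leaf (nat_lit 0x3053d4b)))))) (.node 8 (.node 4 (.node 2 (.node 1 (.leaf (nat_lit 0x54066)) (.leaf (nat_lit 0x2054da5))) (.node 1 (.leaf (nat_lit 0x3054683)) (.leaf (nat_lit 0x1056cd1)))) (.node 2 (.node 1 (.leaf (nat_lit 0x20561b5)) (.leaf (nat_lit 0x205708d))) (.node 1 (.leaf (nat_lit 0x305784b)) (.leaf (nat_lit 0x582aa))))) (.node 4 (.node 2 (.node 1 (.leaf (nat_lit 0x3058d32)) (.leaf (nat_lit 0x1059027))) (.node 1 (.leaf (nat_lit 0x2059dd6)) (.leaf (nat_lit 0x3059181)))) (.node 2 (.node 1 (.leaf (nat_lit 0x105a36f)) (.leaf (nat_lit 0x205ae4e))) (.node 1 (.leaf (nat_lit 0x5b300)) (.leaf (nat_lit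 0x205b02e))))))) (.node 16 (.node 8 (.node 4 (.node 2 (.node 1 (.leaf (nat_lit 0x305b5a5)) (.leaf (nat_lit 0x5c599))) (.node 1 (.leaf (nat_lit 0x5ddf1)) (.leaf (nat_lit 0x305d393)))) (.node 2 (.node 1 (.leaf (nat_lit 0x105ee0c)) (.leaf (nat_lit 0x205eae3))) (.node 1 (.leaf (nat_lit 0x305e78f)) (.leaf (nat_lit 0x105f679))))) (.node 4 (.node 2 (.node 1 (.leaf (nat_lit 0x205f0f1)) (.leaf (nat_lit 0x305fd4a))) (.node 1 (.leaf (nat_lit 0x106031c)) (.leaf (nat_lit 0x2060258)))) (.node 2 (.node 1 (.leaf (nat_lit 0x30608e2)) (.leaf (nat_lit 0x61384))) (.node 1 (.leaf (nat_lit 0x3061e8e)) (.leaf (nat_lit 0x62853)))))) (.node 8 (.node 4 (.node 2 (.node 1 (.leaf (nat_lit 0x1063a68)) (.leaf (nat_lit 0x2063e36))) (.node 1 (.leaf (nat_lit 0x206424a)) (.leaf (nat_lit 0x3064648)))) (.node 2 (.node 1 (.leaf (nat_lit 0x65848)) (.leaf (nat_lit 0x20654a9))) (.node 1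 (.leaf (nat_lit 0x306552b)) (.leaf (nat_lit 0x10666cd))))) (.node 4 (.node 2 (.node 1 (.leaf (nat_lit 0x2066e0b)) (.leaf (nat_lit 0x30660b0))) (.node 1 (.leaf (nat_lit 0x106733a)) (.leaf (nat_lit 0x206782c)))) (.node 2 (.node 1 (.leaf (nat_lit 0x68386)) (.leaf (nat_lit 0x206890f))) (.node 1 (.leaf (nat_lit 0x30688c9)) (.leaf (nat_lit 0x106ade1))))))))))

/-- A part of `orbF`. -/
def orbF_1 : Tree := (.node 128 (.node 64 (.node 32 (.node 16 (.node 8 (.node 4 (.node 2 (.node 1 (.leaf (nat_lit 0x206a25c)) (.leaf (nat_lit 0x206b72f))) (.node 1 (.leaf (nat_lit 0x306b0f3)) (.leaf (nat_lit 0x6cbcc)))) (.node 2 (.node 1 (.leaf (nat_lit 0x306c681)) (.leaf (nat_lit 0x206db52))) (.node 1 (.leaf (nat_lit 0x306d596)) (.leaf (nat_lit 0x6e9dd))))) (.node 4 (.node 2 (.node 1 (.leaf (nat_lit 0x206e9eb)) (.leaf (nat_lit 0x6f642))) (.node 1 (.leaf (nat_lit 0x70217))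 (.leaf (nat_lit 0x2070aa2)))) (.node 2 (.node 1 (.leaf (nat_lit 0x3070807)) (.leaf (nat_lit 0x107122d))) (.node 1 (.leaf (nat_lit 0x2071b84)) (.leaf (nat_lit 0x307129f)))))) (.node 8 (.node 4 (.node 2 (.node 1 (.leaf (nat_lit 0x1072f70)) (.leaf (nat_lit 0x2072bfb))) (.node 1 (.leaf (nat_lit 0x3072f72)) (.leaf (nat_lit 0x107327c)))) (.node 2 (.node 1 (.leaf (nat_lit 0x2073c67)) (.leaf (nat_lit 0x3073099))) (.node 1 (.leaf (nat_lit 0x74f5f)) (.leaf (nat_lit 0x20746e4))))) (.node 4 (.node 2 (.node 1 (.leaf (nat_lit 0x3074a20)) (.leaf (nat_lit 0x75291))) (.node 1 (.leaf (nat_lit 0x1076455)) (.leaf (nat_lit 0x2076ccd)))) (.node 2 (.node 1 (.leaf (nat_lit 0x2077d33)) (.leaf (nat_lit 0x3077940))) (.node 1 (.leaf (nat_lit 0x781e0)) (.leaf (nat_lit 0x207809d))))))) (.node 16 (.node 8 (.node 4 (.node 2 (.node 1 (.leaf (nat_lit 0x30788b1)) (.leaf (nat_lit 0x2079d34)))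 (.node 1 (.leaf (nat_lit 0x3079e72)) (.leaf (nat_lit 0x7afad)))) (.node 2 (.node 1 (.leaf (nat_lit 0x107bafb)) (.leaf (nat_lit 0x207b6dd))) (.node 1 (.leaf (nat_lit 0x107c65b)) (.leaf (nat_lit 0x207c1a5))))) (.node 4 (.node 2 (.node 1 (.leaf (nat_lit 0x107d64d)) (.leaf (nat_lit 0x207d08a))) (.node 1 (.leaf (nat_lit 0x307dd65)) (.leaf (nat_lit 0x7edc0)))) (.node 2 (.node 1 (.leaf (nat_lit 0x207e0b4)) (.leaf (nat_lit 0x307eb6c))) (.node 1 (.leaf (nat_lit 0x107fc4f)) (.leaf (nat_lit 0x207f4ca)))))) (.node 8 (.node 4 (.node 2 (.node 1 (.leaf (nat_lit 0x307fb4e)) (.leaf (nat_lit 0x80520))) (.node 1 (.leaf (nat_lit 0x20801a0)) (.leaf (nat_lit 0x3080cd8)))) (.node 2 (.node 1 (.leaf (nat_lit 0x81e0a)) (.leaf (nat_lit 0x1082eee))) (.node 1 (.leaf (nat_lit 0x2082cf8)) (.leaf (nat_lit 0x20837e2))))) (.node 4 (.node 2 (.node 1 (.leaf (nat_lit 0x3083670)) (.leaf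 (nat_lit 0x84fb5))) (.node 1 (.leaf (nat_lit 0x2084206)) (.leaf (nat_lit 0x30844de)))) (.node 2 (.node 1 (.leaf (nat_lit 0x1085a57)) (.leaf (nat_lit 0x208567c))) (.node 1 (.leaf (nat_lit 0x1086ae7)) (.leaf (nat_lit 0x2086c6a)))))))) (.node 32 (.node 16 (.node 8 (.node 4 (.node 2 (.node 1 (.leaf (nat_lit 0x30866ad)) (.leaf (nat_lit 0x87aa6))) (.node 1 (.leaf (nat_lit 0x30872ff)) (.leaf (nat_lit 0x10889e4)))) (.node 2 (.node 1 (.leaf (nat_lit 0x3088b07)) (.leaf (nat_lit 0x89d2a))) (.node 1 (.leaf (nat_lit 0x2089e14)) (.leaf (nat_lit 0x3089efe))))) (.node 4 (.node 2 (.node 1 (.leaf (nat_lit 0x208b091)) (.leaf (nat_lit 0x308bb44))) (.node 1 (.leaf (nat_lit 0x308c202)) (.leaf (nat_lit 0x108d373)))) (.node 2 (.node 1 (.leaf (nat_lit 0x208dfda)) (.leaf (nat_lit 0x208e8f6))) (.node 1 (.leaf (nat_lit 0x8f676)) (.leaf (nat_lit 0x208f6ef)))))) (.node 8 (.node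 4 (.node 2 (.node 1 (.leaf (nat_lit 0x308f488)) (.leaf (nat_lit 0x910f5))) (.node 1 (.leaf (nat_lit 0x30911a9)) (.leaf (nat_lit 0x1092498)))) (.node 2 (.node 1 (.leaf (nat_lit 0x209230c)) (.leaf (nat_lit 0x1093a05))) (.node 1 (.leaf (nat_lit 0x309342b)) (.leaf (nat_lit 0x949c0))))) (.node 4 (.node 2 (.node 1 (.leaf (nat_lit 0x2094bab)) (.leaf (nat_lit 0x30949e2))) (.node 1 (.leaf (nat_lit 0x1095b95)) (.leaf (nat_lit 0x20957b7)))) (.node 2 (.node 1 (.leaf (nat_lit 0x3095e90)) (.leaf (nat_lit 0x9607e))) (.node 1 (.leaf (nat_lit 0x20964f0)) (.leaf (nat_lit 0x3096eed))))))) (.node 16 (.node 8 (.node 4 (.node 2 (.node 1 (.leaf (nat_lit 0x973bc)) (.leaf (nat_lit 0x2098ee4))) (.node 1 (.leaf (nat_lit 0x209939d)) (.leaf (nat_lit 0x3099adc)))) (.node 2 (.node 1 (.leaf (nat_lit 0x9acdb)) (.leaf (nat_lit 0x309ae34))) (.node 1 (.leaf (nat_lit 0x109b15d)) (.leaf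 (nat_lit 0x209b140))))) (.node 4 (.node 2 (.node 1 (.leaf (nat_lit 0x309bdb5)) (.leaf (nat_lit 0x109ce75))) (.node 1 (.leaf (nat_lit 0x209c3dd)) (.leaf (nat_lit 0x309c410)))) (.node 2 (.node 1 (.leaf (nat_lit 0x109d1fd)) (.leaf (nat_lit 0x209d372))) (.node 1 (.leaf (nat_lit 0x309dedf)) (.leaf (nat_lit 0x9edc8)))))) (.node 8 (.node 4 (.node 2 (.node 1 (.leaf (nat_lit 0x209ed9d)) (.leaf (nat_lit 0x309e8b0))) (.node 1 (.leaf (nat_lit 0x10a0a5c)) (.leaf (nat_lit 0x20a0d3b)))) (.node 2 (.node 1 (.leaf (nat_lit 0x20a1dce)) (.leaf (nat_lit 0x30a1ab1))) (.node 1 (.leaf (nat_lit 0xa2c90)) (.leaf (nat_lit 0x30a2a7f))))) (.node 4 (.node 2 (.node 1 (.leaf (nat_lit 0x10a36b8)) (.leaf (nat_lit 0x20a3583))) (.node 1 (.leaf (nat_lit 0x30a38d6)) (.leaf (nat_lit 0x20a48ea)))) (.node 2 (.node 1 (.leaf (nat_lit 0x30a407b)) (.leaf (nat_lit 0xa6a18))) (.node 1 (.leaf (nat_lit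 0x20a6936)) (.leaf (nat_lit 0x30a6d6e))))))))) (.node 64 (.node 32 (.node 16 (.node 8 (.node 4 (.node 2 (.node 1 (.leaf (nat_lit 0x30a7671)) (.leaf (nat_lit 0x30a87fe))) (.node 1 (.leaf (nat_lit 0x10a93f7)) (.leaf (nat_lit 0x20a9a33)))) (.node 2 (.node 1 (.leaf (nat_lit 0x30a9a62)) (.leaf (nat_lit 0x20aab93))) (.node 1 (.leaf (nat_lit 0x30aa842)) (.leaf (nat_lit 0xabc5b))))) (.node 4 (.node 2 (.node 1 (.leaf (nat_lit 0x10ac1cf)) (.leaf (nat_lit 0x20ac301))) (.node 1 (.leaf (nat_lit 0x20ad779)) (.leaf (nat_lit 0x30add8e)))) (.node 2 (.node 1 (.leaf (nat_lit 0xaea93)) (.leaf (nat_lit 0x20aec6b))) (.node 1 (.leaf (nat_lit 0x30ae9ad)) (.leaf (nat_lit 0x20af02c)))))) (.node 8 (.node 4 (.node 2 (.node 1 (.leaf (nat_lit 0x30afd90)) (.leaf (nat_lit 0xb0be2))) (.node 1 (.leaf (nat_lit 0x30b0152)) (.leaf (nat_lit 0x10b16e2)))) (.node 2 (.node 1 (.leaf (nat_lit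 0x20b120e)) (.leaf (nat_lit 0x30b1e3e))) (.node 1 (.leaf (nat_lit 0x20b2cfb)) (.leaf (nat_lit 0x30b2303))))) (.node 4 (.node 2 (.node 1 (.leaf (nat_lit 0xb3028)) (.leaf (nat_lit 0x20b3f4c))) (.node 1 (.leaf (nat_lit 0x10b46ab)) (.leaf (nat_lit 0x20b4a65)))) (.node 2 (.node 1 (.leaf (nat_lit 0x30b4167)) (.leaf (nat_lit 0x10b5025))) (.node 1 (.leaf (nat_lit 0x20b5e48)) (.leaf (nat_lit 0x30b5f25))))))) (.node 16 (.node 8 (.node 4 (.node 2 (.node 1 (.leaf (nat_lit 0x10b6b23)) (.leaf (nat_lit 0x20b69d3))) (.node 1 (.leaf (nat_lit 0x30b63ae)) (.leaf (nat_lit 0xb75d2)))) (.node 2 (.node 1 (.leaf (nat_lit 0x20b745a)) (.leaf (nat_lit 0x30b7904))) (.node 1 (.leaf (nat_lit 0x10b95c6)) (.leaf (nat_lit 0x20b9e5f))))) (.node 4 (.node 2 (.node 1 (.leaf (nat_lit 0x20ba633)) (.leaf (nat_lit 0x30badf8))) (.node 1 (.leaf (nat_lit 0xbb915)) (.leaf (nat_lit 0x30bb434))))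 (.node 2 (.node 1 (.leaf (nat_lit 0x10bc3d4)) (.leaf (nat_lit 0x20bca17))) (.node 1 (.leaf (nat_lit 0x30bcdf6)) (.leaf (nat_lit 0x10bde8f)))))) (.node 8 (.node 4 (.node 2 (.node 1 (.leaf (nat_lit 0x20bda8d)) (.leaf (nat_lit 0xbe163))) (.node 1 (.leaf (nat_lit 0x20bed98)) (.leaf (nat_lit 0x30be16c)))) (.node 2 (.node 1 (.leaf (nat_lit 0xbf625)) (.leaf (nat_lit 0x20c0276))) (.node 1 (.leaf (nat_lit 0x30c06bd)) (.leaf (nat_lit 0x10c16c2))))) (.node 4 (.node 2 (.node 1 (.leaf (nat_lit 0x20c117e)) (.leaf (nat_lit 0x30c1215))) (.node 1 (.leaf (nat_lit 0x10c2b0a)) (.leaf (nat_lit 0x30c2b98)))) (.node 2 (.node 1 (.leaf (nat_lit 0xc3c91)) (.leaf (nat_lit 0x20c3e5b))) (.node 1 (.leaf (nat_lit 0x30c3e28)) (.leaf (nat_lit 0x10c487c)))))))) (.node 32 (.node 16 (.node 8 (.node 4 (.node 2 (.node 1 (.leaf (nat_lit 0x20c4dfc)) (.leaf (nat_lit 0x30c4168))) (.node 1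 (.leaf (nat_lit 0xc53fa)) (.leaf (nat_lit 0x20c5fd4)))) (.node 2 (.node 1 (.leaf (nat_lit 0x30c58b3)) (.leaf (nat_lit 0xc6342))) (.node 1 (.leaf (nat_lit 0x10c7b53)) (.leaf (nat_lit 0x20c794a))))) (.node 4 (.node 2 (.node 1 (.leaf (nat_lit 0x20c8f56)) (.leaf (nat_lit 0x30c813a))) (.node 1 (.leaf (nat_lit 0x20c9cb2)) (.leaf (nat_lit 0x30c951c)))) (.node 2 (.node 1 (.leaf (nat_lit 0x10ca9c2)) (.leaf (nat_lit 0x20ca62c))) (.node 1 (.leaf (nat_lit 0x30ca9e8)) (.leaf (nat_lit 0x10cbc66)))))) (.node 8 (.node 4 (.node 2 (.node 1 (.leaf (nat_lit 0x20cbe52)) (.leaf (nat_lit 0x30cb563))) (.node 1 (.leaf (nat_lit 0x10cca1a)) (.leaf (nat_lit 0x20ccd92)))) (.node 2 (.node 1 (.leaf (nat_lit 0x30ccd70)) (.leaf (nat_lit 0xcd364))) (.node 1 (.leaf (nat_lit 0x20cd7e9)) (.leaf (nat_lit 0x30cd99a))))) (.node 4 (.node 2 (.node 1 (.leaf (nat_lit 0x10cf30d)) (.leaf (nat_lit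 0x20cfeac))) (.node 1 (.leaf (nat_lit 0x20d083c)) (.leaf (nat_lit 0x30d02cb)))) (.node 2 (.node 1 (.leaf (nat_lit 0xd1b6d)) (.leaf (nat_lit 0x30d1956))) (.node 1 (.leaf (nat_lit 0x10d2b06)) (.leaf (nat_lit 0x20d2021))))))) (.node 16 (.node 8 (.node 4 (.node 2 (.node 1 (.leaf (nat_lit 0x30d232e)) (.leaf (nat_lit 0xd3851))) (.node 1 (.leaf (nat_lit 0x20d3f03)) (.leaf (nat_lit 0x30d3266)))) (.node 2 (.node 1 (.leaf (nat_lit 0xd422e)) (.leaf (nat_lit 0xd50ba))) (.node 1 (.leaf (nat_lit 0x20d587b)) (.leaf (nat_lit 0x30d52d2))))) (.node 4 (.node 2 (.node 1 (.leaf (nat_lit 0x10d6655)) (.leaf (nat_lit 0x20d6bf2))) (.node 1 (.leaf (nat_lit 0x30d6973)) (.leaf (nat_lit 0x10d759b)))) (.node 2 (.node 1 (.leaf (nat_lit 0x20d7dde)) (.leaf (nat_lit 0x30d765e))) (.node 1 (.leaf (nat_lit 0x20d8fbc)) (.leaf (nat_lit 0x30d83de)))))) (.node 8 (.node 4 (.node 2 (.node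 1 (.leaf (nat_lit 0xd9999)) (.leaf (nat_lit 0x20d9780))) (.node 1 (.leaf (nat_lit 0x30d92d6)) (.leaf (nat_lit 0xda557)))) (.node 2 (.node 1 (.leaf (nat_lit 0x10db5d9)) (.leaf (nat_lit 0x20db157))) (.node 1 (.leaf (nat_lit 0x30dcdac)) (.leaf (nat_lit 0xddd8a))))) (.node 4 (.node 2 (.node 1 (.leaf (nat_lit 0x20dd6e7)) (.leaf (nat_lit 0x30dd8a8))) (.node 1 (.leaf (nat_lit 0x20deb5c)) (.leaf (nat_lit 0x30de7fc)))) (.node 2 (.node 1 (.leaf (nat_lit 0x30df1d4)) (.leaf (nat_lit 0x10e061b))) (.node 1 (.leaf (nat_lit 0x20e0de6)) (.leaf (nat_lit 0x30e0d30))))))))))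

/-- A part of `orbF`. -/
def orbF_2 : Tree := (.node 128 (.node 64 (.node 32 (.node 16 (.node 8 (.node 4 (.node 2 (.node 1 (.leaf (nat_lit 0x20e1745)) (.leaf (nat_lit 0x10e2b82))) (.node 1 (.leaf (nat_lit 0x10e3260)) (.leaf (nat_lit 0x20e304d)))) (.node 2 (.node 1 (.leaf (nat_lit 0xe4d77)) (.leaf (nat_lit 0x20e451b))) (.node 1 (.leaf (nat_lit 0xe5250)) (.leaf (nat_lit 0x10e60d4))))) (.node 4 (.node 2 (.node 1 (.leaf (nat_lit 0x20e6115)) (.leaf (nat_lit 0x20e760b))) (.node 1 (.leaf (nat_lit 0x30e76f0)) (.leaf (nat_lit 0xe86ce)))) (.node 2 (.node 1 (.leaf (nat_lit 0x20e896d)) (.leaf (nat_lit 0x30e8246))) (.node 1 (.leaf (nat_lit 0x10e9ac2)) (.leaf (nat_lit 0x20e9e8c)))))) (.node 8 (.node 4 (.node 2 (.node 1 (.leaf (nat_lit 0x30e9511)) (.leaf (nat_lit 0xea0e4))) (.node 1 (.leaf (nat_lit 0x20eaa28)) (.leaf (nat_lit 0x20ecb41)))) (.node 2 (.node 1 (.leaf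 (nat_lit 0x20edf91)) (.leaf (nat_lit 0x30edcaf))) (.node 1 (.leaf (nat_lit 0x10ee48e)) (.leaf (nat_lit 0x30eeb76))))) (.node 4 (.node 2 (.node 1 (.leaf (nat_lit 0x10ef058)) (.leaf (nat_lit 0x20ef3f6))) (.node 1 (.leaf (nat_lit 0xf01cc)) (.leaf (nat_lit 0x20f0565)))) (.node 2 (.node 1 (.leaf (nat_lit 0x30f041f)) (.leaf (nat_lit 0x20f264b))) (.node 1 (.leaf (nat_lit 0x10f3c48)) (.leaf (nat_lit 0x20f308c))))))) (.node 16 (.node 8 (.node 4 (.node 2 (.node 1 (.leaf (nat_lit 0x30f37de)) (.leaf (nat_lit 0x20f42c4))) (.node 1 (.leaf (nat_lit 0x30f4816)) (.leaf (nat_lit 0xf5145)))) (.node 2 (.node 1 (.leaf (nat_lit 0x20f5e5e)) (.leaf (nat_lit 0x30f569d))) (.node 1 (.leaf (nat_lit 0x10f6bf9)) (.leaf (nat_lit 0x30f604e))))) (.node 4 (.node 2 (.node 1 (.leaf (nat_lit 0xf7619)) (.leaf (nat_lit 0x20f758c))) (.node 1 (.leaf (nat_lit 0x30f7e1f)) (.leaf (nat_lit 0xf81c9))))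 (.node 2 (.node 1 (.leaf (nat_lit 0x10f96f7)) (.leaf (nat_lit 0x20f9b99))) (.node 1 (.leaf (nat_lit 0x20fabf0)) (.leaf (nat_lit 0x30fa044)))))) (.node 8 (.node 4 (.node 2 (.node 1 (.leaf (nat_lit 0x20fbdbe)) (.leaf (nat_lit 0x30fb05d))) (.node 1 (.leaf (nat_lit 0x20fcf8f)) (.leaf (nat_lit 0x30fc412)))) (.node 2 (.node 1 (.leaf (nat_lit 0xfdc1f)) (.leaf (nat_lit 0x30fddf5))) (.node 1 (.leaf (nat_lit 0x10fe9bc)) (.leaf (nat_lit 0x20fe0b6))))) (.node 4 (.node 2 (.node 1 (.leaf (nat_lit 0x30fe7a8)) (.leaf (nat_lit 0xff463))) (.node 1 (.leaf (nat_lit 0x20ff837)) (.leaf (nat_lit 0x30ff8b7)))) (.node 2 (.node 1 (.leaf (nat_lit 0x100aed)) (.leaf (nat_lit 0x101f44))) (.node 1 (.leaf (nat_lit 0x21018a3)) (.leaf (nat_lit 0x3101034)))))))) (.node 32 (.node 16 (.node 8 (.node 4 (.node 2 (.node 1 (.leaf (nat_lit 0x2102951)) (.leaf (nat_lit 0x3102d5f))) (.node 1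 (.leaf (nat_lit 0x2103987)) (.leaf (nat_lit 0x31032d4)))) (.node 2 (.node 1 (.leaf (nat_lit 0x11049ea)) (.leaf (nat_lit 0x2104225))) (.node 1 (.leaf (nat_lit 0x3104db0)) (.leaf (nat_lit 0x105142))))) (.node 4 (.node 2 (.node 1 (.leaf (nat_lit 0x11064ea)) (.leaf (nat_lit 0x2106b97))) (.node 1 (.leaf (nat_lit 0x210763a)) (.leaf (nat_lit 0x1087fb)))) (.node 2 (.node 1 (.leaf (nat_lit 0x3108677)) (.leaf (nat_lit 0x1109895))) (.node 1 (.leaf (nat_lit 0x21090b8)) (.leaf (nat_lit 0x110a796)))))) (.node 8 (.node 4 (.node 2 (.node 1 (.leaf (nat_lit 0x210a97a)) (.leaf (nat_lit 0x310ad93))) (.node 1 (.leaf (nat_lit 0x210b358)) (.leaf (nat_lit 0x310b64c)))) (.node 2 (.node 1 (.leaf (nat_lit 0x110cd6b)) (.leaf (nat_lit 0x210c9c3))) (.node 1 (.leaf (nat_lit 0x310c302)) (.leaf (nat_lit 0x210dd89))))) (.node 4 (.node 2 (.node 1 (.leaf (nat_lit 0x310dc97)) (.leaf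 (nat_lit 0x110f9c5))) (.node 1 (.leaf (nat_lit 0x210f7f2)) (.leaf (nat_lit 0x211027d)))) (.node 2 (.node 1 (.leaf (nat_lit 0x3110103)) (.leaf (nat_lit 0x1113b3))) (.node 1 (.leaf (nat_lit 0x2111772)) (.leaf (nat_lit 0x3111241))))))) (.node 16 (.node 8 (.node 4 (.node 2 (.node 1 (.leaf (nat_lit 0x1112e98)) (.leaf (nat_lit 0x2112ee5))) (.node 1 (.leaf (nat_lit 0x3112891)) (.leaf (nat_lit 0x1134a2)))) (.node 2 (.node 1 (.leaf (nat_lit 0x2113418)) (.leaf (nat_lit 0x3113fb7))) (.node 1 (.leaf (nat_lit 0x11158a0)) (.leaf (nat_lit 0x21153cf))))) (.node 4 (.node 2 (.node 1 (.leaf (nat_lit 0x2116a7b)) (.leaf (nat_lit 0x3116c73))) (.node 1 (.leaf (nat_lit 0x1175d8)) (.leaf (nat_lit 0x3117d6a)))) (.node 2 (.node 1 (.leaf (nat_lit 0x1118c37)) (.leaf (nat_lit 0x1119b22))) (.node 1 (.leaf (nat_lit 0x11a628)) (.leaf (nat_lit 0x211a3df)))))) (.node 8 (.node 4 (.node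 2 (.node 1 (.leaf (nat_lit 0x311a26b)) (.leaf (nat_lit 0x11b672))) (.node 1 (.leaf (nat_lit 0x11cb14)) (.leaf (nat_lit 0x211c3bb)))) (.node 2 (.node 1 (.leaf (nat_lit 0x311c8ad)) (.leaf (nat_lit 0x211de95))) (.node 1 (.leaf (nat_lit 0x311d341)) (.leaf (nat_lit 0x111e81a))))) (.node 4 (.node 2 (.node 1 (.leaf (nat_lit 0x211e58f)) (.leaf (nat_lit 0x311e794))) (.node 1 (.leaf (nat_lit 0x11f75c)) (.leaf (nat_lit 0x311f18f)))) (.node 2 (.node 1 (.leaf (nat_lit 0x11203f3)) (.leaf (nat_lit 0x12157d))) (.node 1 (.leaf (nat_lit 0x2121cc0)) (.leaf (nat_lit 0x3121cf1))))))))) (.node 64 (.node 32 (.node 16 (.node 8 (.node 4 (.node 2 (.node 1 (.leaf (nat_lit 0x112234e)) (.leaf (nat_lit 0x21228c6))) (.node 1 (.leaf (nat_lit 0x112317a)) (.leaf (nat_lit 0x2123ded)))) (.node 2 (.node 1 (.leaf (nat_lit 0x124d02)) (.leaf (nat_lit 0x21241bf))) (.node 1 (.leaf (nat_lit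 0x3124847)) (.leaf (nat_lit 0x1256f2))))) (.node 4 (.node 2 (.node 1 (.leaf (nat_lit 0x212623c)) (.leaf (nat_lit 0x3126e15))) (.node 1 (.leaf (nat_lit 0x1273c1)) (.leaf (nat_lit 0x2127983)))) (.node 2 (.node 1 (.leaf (nat_lit 0x3127636)) (.leaf (nat_lit 0x2128141))) (.node 1 (.leaf (nat_lit 0x12992b)) (.leaf (nat_lit 0x212995a)))))) (.node 8 (.node 4 (.node 2 (.node 1 (.leaf (nat_lit 0x31297b4)) (.leaf (nat_lit 0x212aed7))) (.node 1 (.leaf (nat_lit 0x112bef3)) (.leaf (nat_lit 0x312b7ec)))) (.node 2 (.node 1 (.leaf (nat_lit 0x312c311)) (.leaf (nat_lit 0x112d289))) (.node 1 (.leaf (nat_lit 0x212d7f3)) (.leaf (nat_lit 0x312d60c))))) (.node 4 (.node 2 (.node 1 (.leaf (nat_lit 0x12e2a0)) (.leaf (nat_lit 0x212ebca))) (.node 1 (.leaf (nat_lit 0x1130413)) (.leaf (nat_lit 0x2130a81)))) (.node 2 (.node 1 (.leaf (nat_lit 0x313173f)) (.leaf (nat_lit 0x132884)))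 (.node 1 (.leaf (nat_lit 0x3132e93)) (.leaf (nat_lit 0x1133845))))))) (.node 16 (.node 8 (.node 4 (.node 2 (.node 1 (.leaf (nat_lit 0x2133231)) (.leaf (nat_lit 0x31337a2))) (.node 1 (.leaf (nat_lit 0x1134fbb)) (.leaf (nat_lit 0x2134bef)))) (.node 2 (.node 1 (.leaf (nat_lit 0x1355d7)) (.leaf (nat_lit 0x2135294))) (.node 1 (.leaf (nat_lit 0x31352c2)) (.leaf (nat_lit 0x136d13))))) (.node 4 (.node 2 (.node 1 (.leaf (nat_lit 0x21371d3)) (.leaf (nat_lit 0x3137cff))) (.node 1 (.leaf (nat_lit 0x2138631)) (.leaf (nat_lit 0x2139f6e)))) (.node 2 (.node 1 (.leaf (nat_lit 0x3139de2)) (.leaf (nat_lit 0x13a65f))) (.node 1 (.leaf (nat_lit 0x213a068)) (.leaf (nat_lit 0x313a279)))))) (.node 8 (.node 4 (.node 2 (.node 1 (.leaf (nat_lit 0x113b606)) (.leaf (nat_lit 0x313b46f))) (.node 1 (.leaf (nat_lit 0x13c120)) (.leaf (nat_lit 0x213cf5c)))) (.node 2 (.node 1 (.leaf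 (nat_lit 0x313c8c4)) (.leaf (nat_lit 0x13d4d8))) (.node 1 (.leaf (nat_lit 0x213efae)) (.leaf (nat_lit 0x313efb2))))) (.node 4 (.node 2 (.node 1 (.leaf (nat_lit 0x13f6d7)) (.leaf (nat_lit 0x213f30f))) (.node 1 (.leaf (nat_lit 0x313f1ac)) (.leaf (nat_lit 0x1140106)))) (.node 2 (.node 1 (.leaf (nat_lit 0x2140d22)) (.leaf (nat_lit 0x31409a9))) (.node 1 (.leaf (nat_lit 0x3141d71)) (.leaf (nat_lit 0x1142c27)))))))) (.node 32 (.node 16 (.node 8 (.node 4 (.node 2 (.node 1 (.leaf (nat_lit 0x2142296)) (.leaf (nat_lit 0x143923))) (.node 1 (.leaf (nat_lit 0x3143f32)) (.leaf (nat_lit 0x21450f4)))) (.node 2 (.node 1 (.leaf (nat_lit 0x3145c21)) (.leaf (nat_lit 0x114705b))) (.node 1 (.leaf (nat_lit 0x21470a5)) (.leaf (nat_lit 0x3147988))))) (.node 4 (.node 2 (.node 1 (.leaf (nat_lit 0x2148c16)) (.leaf (nat_lit 0x114980f))) (.node 1 (.leaf (nat_lit 0x114a7ae)) (.leaf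 (nat_lit 0x314a5f9)))) (.node 2 (.node 1 (.leaf (nat_lit 0x14b1e7)) (.leaf (nat_lit 0x214b2f2))) (.node 1 (.leaf (nat_lit 0x314bb88)) (.leaf (nat_lit 0x14c0fe)))))) (.node 8 (.node 4 (.node 2 (.node 1 (.leaf (nat_lit 0x14d0eb)) (.leaf (nat_lit 0x214d35d))) (.node 1 (.leaf (nat_lit 0x314df8e)) (.leaf (nat_lit 0x214e1b8)))) (.node 2 (.node 1 (.leaf (nat_lit 0x14f7e6)) (.leaf (nat_lit 0x314fd85))) (.node 1 (.leaf (nat_lit 0x1150357)) (.leaf (nat_lit 0x215086b))))) (.node 4 (.node 2 (.node 1 (.leaf (nat_lit 0x31501ea)) (.leaf (nat_lit 0x11516f1))) (.node 1 (.leaf (nat_lit 0x2151735)) (.leaf (nat_lit 0x3151d61)))) (.node 2 (.node 1 (.leaf (nat_lit 0x115289f)) (.leaf (nat_lit 0x3152f84))) (.node 1 (.leaf (nat_lit 0x2153931)) (.leaf (nat_lit 0x3153108))))))) (.node 16 (.node 8 (.node 4 (.node 2 (.node 1 (.leaf (nat_lit 0x154578)) (.leaf (nat_lit 0x31558eb)))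 (.node 1 (.leaf (nat_lit 0x1156419)) (.leaf (nat_lit 0x315633e)))) (.node 2 (.node 1 (.leaf (nat_lit 0x21575b1)) (.leaf (nat_lit 0x3157a14))) (.node 1 (.leaf (nat_lit 0x31589ed)) (.leaf (nat_lit 0x11599cc))))) (.node 4 (.node 2 (.node 1 (.leaf (nat_lit 0x315910a)) (.leaf (nat_lit 0x15adcb))) (.node 1 (.leaf (nat_lit 0x215ab4b)) (.leaf (nat_lit 0x315a20c)))) (.node 2 (.node 1 (.leaf (nat_lit 0x115c3f5)) (.leaf (nat_lit 0x215c96b))) (.node 1 (.leaf (nat_lit 0x215df67)) (.leaf (nat_lit 0x315d551)))))) (.node 8 (.node 4 (.node 2 (.node 1 (.leaf (nat_lit 0x15e974)) (.leaf (nat_lit 0x315e1d6))) (.node 1 (.leaf (nat_lit 0x215f902)) (.leaf (nat_lit 0x315f445)))) (.node 2 (.node 1 (.leaf (nat_lit 0x116003d)) (.leaf (nat_lit 0x1618bc))) (.node 1 (.leaf (nat_lit 0x162cb4)) (.leaf (nat_lit 0x3162354))))) (.node 4 (.node 2 (.node 1 (.leaf (nat_lit 0x1163a96))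 (.leaf (nat_lit 0x2163ade))) (.node 1 (.leaf (nat_lit 0x3163d1d)) (.leaf (nat_lit 0x1164bff)))) (.node 2 (.node 1 (.leaf (nat_lit 0x2164cfa)) (.leaf (nat_lit 0x31640c7))) (.node 1 (.leaf (nat_lit 0x11659ac)) (.leaf (nat_lit 0x2165a83))))))))))

/-- A part of `orbF`. -/
def orbF_3 : Tree := (.node 128 (.node 64 (.node 32 (.node 16 (.node 8 (.node 4 (.node 2 (.node 1 (.leaf (nat_lit 0x316572e)) (.leaf (nat_lit 0x166f58))) (.node 1 (.leaf (nat_lit 0x216619e)) (.leaf (nat_lit 0x3166610)))) (.node 2 (.node 1 (.leaf (nat_lit 0x167a8b)) (.leaf (nat_lit 0x11683d6))) (.node 1 (.leaf (nat_lit 0x2168fc8)) (.leaf (nat_lit 0x2169339))))) (.node 4 (.node 2 (.node 1 (.leaf (nat_lit 0x31691e2)) (.leaf (nat_lit 0x316ad4c))) (.node 1 (.leaf (nat_lit 0x116bf8c)) (.leaf (nat_lit 0x216b297)))) (.node 2 (.node 1 (.leaf (nat_lit 0x316b5f6)) (.leaf (nat_lit 0x16c843))) (.node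 1 (.leaf (nat_lit 0x216cce0)) (.leaf (nat_lit 0x116e36d)))))) (.node 8 (.node 4 (.node 2 (.node 1 (.leaf (nat_lit 0x216e84c)) (.leaf (nat_lit 0x216fe50))) (.node 1 (.leaf (nat_lit 0x316f620)) (.leaf (nat_lit 0x1704b5)))) (.node 2 (.node 1 (.leaf (nat_lit 0x11715f3)) (.leaf (nat_lit 0x2171941))) (.node 1 (.leaf (nat_lit 0x172dff)) (.leaf (nat_lit 0x21728ae))))) (.node 4 (.node 2 (.node 1 (.leaf (nat_lit 0x2174aad)) (.leaf (nat_lit 0x3174d0c))) (.node 1 (.leaf (nat_lit 0x1175267)) (.leaf (nat_lit 0x21755cf)))) (.node 2 (.node 1 (.leaf (nat_lit 0x317594e)) (.leaf (nat_lit 0x2176a7e))) (.node 1 (.leaf (nat_lit 0x2177310)) (.leaf (nat_lit 0x317766e))))))) (.node 16 (.node 8 (.node 4 (.node 2 (.node 1 (.leaf (nat_lit 0x178d4e)) (.leaf (nat_lit 0x2178674))) (.node 1 (.leaf (nat_lit 0x31788fd)) (.leaf (nat_lit 0x179513)))) (.node 2 (.node 1 (.leaf (nat_lit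 0x217a40e)) (.leaf (nat_lit 0x317b0a9))) (.node 1 (.leaf (nat_lit 0x117cf93)) (.leaf (nat_lit 0x317cf65))))) (.node 4 (.node 2 (.node 1 (.leaf (nat_lit 0x317d0dd)) (.leaf (nat_lit 0x317e20a))) (.node 1 (.leaf (nat_lit 0x117f93a)) (.leaf (nat_lit 0x217fd27)))) (.node 2 (.node 1 (.leaf (nat_lit 0x11809a8)) (.leaf (nat_lit 0x2180554))) (.node 1 (.leaf (nat_lit 0x2181a84)) (.leaf (nat_lit 0x3181621)))))) (.node 8 (.node 4 (.node 2 (.node 1 (.leaf (nat_lit 0x218287f)) (.leaf (nat_lit 0x11845fb))) (.node 1 (.leaf (nat_lit 0x218498c)) (.leaf (nat_lit 0x1852d9)))) (.node 2 (.node 1 (.leaf (nat_lit 0x318548b)) (.leaf (nat_lit 0x1186e09))) (.node 1 (.leaf (nat_lit 0x2186e05)) (.leaf (nat_lit 0x3186b37))))) (.node 4 (.node 2 (.node 1 (.leaf (nat_lit 0x218712f)) (.leaf (nat_lit 0x188da0))) (.node 1 (.leaf (nat_lit 0x2188ca8)) (.leaf (nat_lit 0x3188d82)))) (.node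 2 (.node 1 (.leaf (nat_lit 0x18933d)) (.leaf (nat_lit 0x18a2ef))) (.node 1 (.leaf (nat_lit 0x218a820)) (.leaf (nat_lit 0x318afb0)))))))) (.node 32 (.node 16 (.node 8 (.node 4 (.node 2 (.node 1 (.leaf (nat_lit 0x118bd51)) (.leaf (nat_lit 0x218b5b0))) (.node 1 (.leaf (nat_lit 0x318b3c5)) (.leaf (nat_lit 0x318d28b)))) (.node 2 (.node 1 (.leaf (nat_lit 0x118ee71)) (.leaf (nat_lit 0x18f966))) (.node 1 (.leaf (nat_lit 0x218ff6f)) (.leaf (nat_lit 0x318f724))))) (.node 4 (.node 2 (.node 1 (.leaf (nat_lit 0x1190a60)) (.leaf (nat_lit 0x21906ae))) (.node 1 (.leaf (nat_lit 0x31902fb)) (.leaf (nat_lit 0x2191288)))) (.node 2 (.node 1 (.leaf (nat_lit 0x319136c)) (.leaf (nat_lit 0x1192eea))) (.node 1 (.leaf (nat_lit 0x2192188)) (.leaf (nat_lit 0x3192367)))))) (.node 8 (.node 4 (.node 2 (.node 1 (.leaf (nat_lit 0x193b32)) (.leaf (nat_lit 0x21930aa))) (.node 1 (.leaf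 (nat_lit 0x31938e7)) (.leaf (nat_lit 0x194c4a)))) (.node 2 (.node 1 (.leaf (nat_lit 0x2195f2c)) (.leaf (nat_lit 0x2196dfd))) (.node 1 (.leaf (nat_lit 0x3196235)) (.leaf (nat_lit 0x31973aa))))) (.node 4 (.node 2 (.node 1 (.leaf (nat_lit 0x1198e00)) (.leaf (nat_lit 0x21989e7))) (.node 1 (.leaf (nat_lit 0x3199ce7)) (.leaf (nat_lit 0x19a5ee)))) (.node 2 (.node 1 (.leaf (nat_lit 0x219ad3c)) (.leaf (nat_lit 0x319ada3))) (.node 1 (.leaf (nat_lit 0x19be5d)) (.leaf (nat_lit 0x119c2b8))))))) (.node 16 (.node 8 (.node 4 (.node 2 (.node 1 (.leaf (nat_lit 0x219c8f4)) (.leaf (nat_lit 0x219db0d))) (.node 1 (.leaf (nat_lit 0x19e579)) (.leaf (nat_lit 0x219ef85)))) (.node 2 (.node 1 (.leaf (nat_lit 0x119fdd0)) (.leaf (nat_lit 0x219f1da))) (.node 1 (.leaf (nat_lit 0x319fa44)) (.leaf (nat_lit 0x1a0c82))))) (.node 4 (.node 2 (.node 1 (.leaf (nat_lit 0x21a0d5c)) (.leaf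 (nat_lit 0x11a2527))) (.node 1 (.leaf (nat_lit 0x21a237e)) (.leaf (nat_lit 0x21a388c)))) (.node 2 (.node 1 (.leaf (nat_lit 0x31a3389)) (.leaf (nat_lit 0x1a4dbb))) (.node 1 (.leaf (nat_lit 0x31a488e)) (.leaf (nat_lit 0x21a54b7)))))) (.node 8 (.node 4 (.node 2 (.node 1 (.leaf (nat_lit 0x31a556c)) (.leaf (nat_lit 0x1a6f06))) (.node 1 (.leaf (nat_lit 0x21a64a3)) (.leaf (nat_lit 0x31a6edd)))) (.node 2 (.node 1 (.leaf (nat_lit 0x1a7fb1)) (.leaf (nat_lit 0x21a8154))) (.node 1 (.leaf (nat_lit 0x31a80a4)) (.leaf (nat_lit 0x11a9210))))) (.node 4 (.node 2 (.node 1 (.leaf (nat_lit 0x11aaadb)) (.leaf (nat_lit 0x21aa6ff))) (.node 1 (.leaf (nat_lit 0x31aa5bb)) (.leaf (nat_lit 0x21ab6a8)))) (.node 2 (.node 1 (.leaf (nat_lit 0x31ab287)) (.leaf (nat_lit 0x1ac6f4))) (.node 1 (.leaf (nat_lit 0x21acf80)) (.leaf (nat_lit 0x31ac72a))))))))) (.node 64 (.node 32 (.node 16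 (.node 8 (.node 4 (.node 2 (.node 1 (.leaf (nat_lit 0x1ad1fa)) (.leaf (nat_lit 0x21ae4e4))) (.node 1 (.leaf (nat_lit 0x21af761)) (.leaf (nat_lit 0x31affba)))) (.node 2 (.node 1 (.leaf (nat_lit 0x1b096f)) (.leaf (nat_lit 0x21b0eec))) (.node 1 (.leaf (nat_lit 0x21b183f)) (.leaf (nat_lit 0x31b1082))))) (.node 4 (.node 2 (.node 1 (.leaf (nat_lit 0x1b2911)) (.leaf (nat_lit 0x31b2af7))) (.node 1 (.leaf (nat_lit 0x11b30ed)) (.leaf (nat_lit 0x31b3be3)))) (.node 2 (.node 1 (.leaf (nat_lit 0x11b4bb3)) (.leaf (nat_lit 0x1b5830))) (.node 1 (.leaf (nat_lit 0x21b5200)) (.leaf (nat_lit 0x31b549b)))))) (.node 8 (.node 4 (.node 2 (.node 1 (.leaf (nat_lit 0x21b6c81)) (.leaf (nat_lit 0x31b68ac))) (.node 1 (.leaf (nat_lit 0x21b7618)) (.leaf (nat_lit 0x1b8903)))) (.node 2 (.node 1 (.leaf (nat_lit 0x11b93f2)) (.leaf (nat_lit 0x21b989c))) (.node 1 (.leaf (nat_lit 0x31ba7eb))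 (.leaf (nat_lit 0x11bb580))))) (.node 4 (.node 2 (.node 1 (.leaf (nat_lit 0x21bb3b9)) (.leaf (nat_lit 0x31bbb0b))) (.node 1 (.leaf (nat_lit 0x31bcb33)) (.leaf (nat_lit 0x1bd23b)))) (.node 2 (.node 1 (.leaf (nat_lit 0x31bd478)) (.leaf (nat_lit 0x11be657))) (.node 1 (.leaf (nat_lit 0x31bed17)) (.leaf (nat_lit 0x21bf561))))))) (.node 16 (.node 8 (.node 4 (.node 2 (.node 1 (.leaf (nat_lit 0x31bfacf)) (.leaf (nat_lit 0x11c10b7))) (.node 1 (.leaf (nat_lit 0x21c1ef1)) (.leaf (nat_lit 0x21c20da)))) (.node 2 (.node 1 (.leaf (nat_lit 0x31c2eda)) (.leaf (nat_lit 0x21c414d))) (.node 1 (.leaf (nat_lit 0x31c4023)) (.leaf (nat_lit 0x11c5f33))))) (.node 4 (.node 2 (.node 1 (.leaf (nat_lit 0x1c6271)) (.leaf (nat_lit 0x1c8b70))) (.node 1 (.leaf (nat_lit 0x21c8eef)) (.leaf (nat_lit 0x11c9cf5)))) (.node 2 (.node 1 (.leaf (nat_lit 0x21c9b7b)) (.leaf (nat_lit 0x31c9077)))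 (.node 1 (.leaf (nat_lit 0x1cabcf)) (.leaf (nat_lit 0x21ca61e)))))) (.node 8 (.node 4 (.node 2 (.node 1 (.leaf (nat_lit 0x31ca67f)) (.leaf (nat_lit 0x11cb86a))) (.node 1 (.leaf (nat_lit 0x21cbc86)) (.leaf (nat_lit 0x31cb570)))) (.node 2 (.node 1 (.leaf (nat_lit 0x1cc8dc)) (.leaf (nat_lit 0x21ccdba))) (.node 1 (.leaf (nat_lit 0x31cc20d)) (.leaf (nat_lit 0x1cd8af))))) (.node 4 (.node 2 (.node 1 (.leaf (nat_lit 0x11ce2f5)) (.leaf (nat_lit 0x21cf707))) (.node 1 (.leaf (nat_lit 0x31d0c12)) (.leaf (nat_lit 0x31d19a6)))) (.node 2 (.node 1 (.leaf (nat_lit 0x1d2cae)) (.leaf (nat_lit 0x21d2826))) (.node 1 (.leaf (nat_lit 0x31d26ac)) (.leaf (nat_lit 0x11d4bb6)))))))) (.node 32 (.node 16 (.node 8 (.node 4 (.node 2 (.node 1 (.leaf (nat_lit 0x21d4b91)) (.leaf (nat_lit 0x21d5739))) (.node 1 (.leaf (nat_lit 0x31d50e1)) (.leaf (nat_lit 0x1d614b)))) (.node 2 (.node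 1 (.leaf (nat_lit 0x11d771a)) (.leaf (nat_lit 0x21d7c38))) (.node 1 (.leaf (nat_lit 0x31d7814)) (.leaf (nat_lit 0x1d8546))))) (.node 4 (.node 2 (.node 1 (.leaf (nat_lit 0x21d8ae9)) (.leaf (nat_lit 0x31d8c6e))) (.node 1 (.leaf (nat_lit 0x1d9c55)) (.leaf (nat_lit 0x1da42a)))) (.node 2 (.node 1 (.leaf (nat_lit 0x31da343)) (.leaf (nat_lit 0x31dbe76))) (.node 1 (.leaf (nat_lit 0x21dc643)) (.leaf (nat_lit 0x31dc33f)))))) (.node 8 (.node 4 (.node 2 (.node 1 (.leaf (nat_lit 0x11dd174)) (.leaf (nat_lit 0x21ddc1d))) (.node 1 (.leaf (nat_lit 0x1de335)) (.leaf (nat_lit 0x21de38f)))) (.node 2 (.node 1 (.leaf (nat_lit 0x31dee5a)) (.leaf (nat_lit 0x1df7dc))) (.node 1 (.leaf (nat_lit 0x21e0d97)) (.leaf (nat_lit 0x21e139a))))) (.node 4 (.node 2 (.node 1 (.leaf (nat_lit 0x31e2222)) (.leaf (nat_lit 0x11e38dd))) (.node 1 (.leaf (nat_lit 0x21e3790)) (.leaf (nat_lit 0x31e324b))))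 (.node 2 (.node 1 (.leaf (nat_lit 0x21e4e64)) (.leaf (nat_lit 0x21e5360))) (.node 1 (.leaf (nat_lit 0x31e5505)) (.leaf (nat_lit 0x21e6d08))))))) (.node 16 (.node 8 (.node 4 (.node 2 (.node 1 (.leaf (nat_lit 0x11e7fc9)) (.leaf (nat_lit 0x21e74d2))) (.node 1 (.leaf (nat_lit 0x31e7571)) (.leaf (nat_lit 0x1e87ef)))) (.node 2 (.node 1 (.leaf (nat_lit 0x21e8d5b)) (.leaf (nat_lit 0x31e844b))) (.node 1 (.leaf (nat_lit 0x1e92c9)) (.leaf (nat_lit 0x11eaa85))))) (.node 4 (.node 2 (.node 1 (.leaf (nat_lit 0x21ea10d)) (.leaf (nat_lit 0x21eba89))) (.node 1 (.leaf (nat_lit 0x31eb169)) (.leaf (nat_lit 0x1ec447)))) (.node 2 (.node 1 (.leaf (nat_lit 0x21ecc60)) (.leaf (nat_lit 0x31ecc3b))) (.node 1 (.leaf (nat_lit 0x11ed93c)) (.leaf (nat_lit 0x21ed3e8)))))) (.node 8 (.node 4 (.node 2 (.node 1 (.leaf (nat_lit 0x11ef315)) (.leaf (nat_lit 0x21efc4e))) (.node 1 (.leaf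 (nat_lit 0x31f0b3d)) (.leaf (nat_lit 0x1f1ecb)))) (.node 2 (.node 1 (.leaf (nat_lit 0x31f2a66)) (.leaf (nat_lit 0x21f382f))) (.node 1 (.leaf (nat_lit 0x1f40f2)) (.leaf (nat_lit 0x1f5c54))))) (.node 4 (.node 2 (.node 1 (.leaf (nat_lit 0x11f6244)) (.leaf (nat_lit 0x11f7ab7))) (.node 1 (.leaf (nat_lit 0x31f7556)) (.leaf (nat_lit 0x1f8104)))) (.node 2 (.node 1 (.leaf (nat_lit 0x31f8798)) (.leaf (nat_lit 0x21fa5d6))) (.node 1 (.leaf (nat_lit 0x31fa7ed)) (.leaf (nat_lit 0x31fbe59))))))))))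

/-- A part of `orbF`. -/
def orbF_4 : Tree := (.node 128 (.node 64 (.node 32 (.node 16 (.node 8 (.node 4 (.node 2 (.node 1 (.leaf (nat_lit 0x11fc096)) (.leaf (nat_lit 0x21fcf5e))) (.node 1 (.leaf (nat_lit 0x31fc37b)) (.leaf (nat_lit 0x21ffdc5)))) (.node 2 (.node 1 (.leaf (nat_lit 0x2007e5)) (.leaf (nat_lit 0x3200e9e))) (.node 1 (.leaf (nat_lit 0x32013b6)) (.leaf (nat_lit 0x2202b9c))))) (.node 4 (.node 2 (.node 1 (.leaf (nat_lit 0x32025fc)) (.leaf (nat_lit 0x220475a))) (.node 1 (.leaf (nat_lit 0x205dbc)) (.leaf (nat_lit 0x12063e1)))) (.node 2 (.node 1 (.leaf (nat_lit 0x2206a1d)) (.leaf (nat_lit 0x2207ccc))) (.node 1 (.leaf (nat_lit 0x2081a7)) (.leaf (nat_lit 0x209635)))))) (.node 8 (.node 4 (.node 2 (.node 1 (.leaf (nat_lit 0x220995e)) (.leaf (nat_lit 0x120a8ab))) (.node 1 (.leaf (nat_lit 0x220a398)) (.leaf (nat_lit 0x320a0ab)))) (.node 2 (.node 1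 (.leaf (nat_lit 0x120b0cd)) (.leaf (nat_lit 0x220b18b))) (.node 1 (.leaf (nat_lit 0x220cbee)) (.leaf (nat_lit 0x120d123))))) (.node 4 (.node 2 (.node 1 (.leaf (nat_lit 0x320d63d)) (.leaf (nat_lit 0x20e143))) (.node 1 (.leaf (nat_lit 0x220eefd)) (.leaf (nat_lit 0x320e686)))) (.node 2 (.node 1 (.leaf (nat_lit 0x22104d4)) (.leaf (nat_lit 0x212431))) (.node 1 (.leaf (nat_lit 0x214d2d)) (.leaf (nat_lit 0x2214cf0))))))) (.node 16 (.node 8 (.node 4 (.node 2 (.node 1 (.leaf (nat_lit 0x3214dc6)) (.leaf (nat_lit 0x22152b3))) (.node 1 (.leaf (nat_lit 0x321581b)) (.leaf (nat_lit 0x32167a7)))) (.node 2 (.node 1 (.leaf (nat_lit 0x2218718)) (.leaf (nat_lit 0x32189b8))) (.node 1 (.leaf (nat_lit 0x21923f)) (.leaf (nat_lit 0x221a8c7))))) (.node 4 (.node 2 (.node 1 (.leaf (nat_lit 0x321a49e)) (.leaf (nat_lit 0x21ba61))) (.node 1 (.leaf (nat_lit 0x321b50d)) (.leaf (nat_lit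 0x221c560)))) (.node 2 (.node 1 (.leaf (nat_lit 0x321c13e)) (.leaf (nat_lit 0x21d316))) (.node 1 (.leaf (nat_lit 0x221d45c)) (.leaf (nat_lit 0x221ed84)))))) (.node 8 (.node 4 (.node 2 (.node 1 (.leaf (nat_lit 0x321ebb9)) (.leaf (nat_lit 0x122081e))) (.node 1 (.leaf (nat_lit 0x3221581)) (.leaf (nat_lit 0x1222634)))) (.node 2 (.node 1 (.leaf (nat_lit 0x22225f0)) (.leaf (nat_lit 0x3222a50))) (.node 1 (.leaf (nat_lit 0x12237c2)) (.leaf (nat_lit 0x22235df))))) (.node 4 (.node 2 (.node 1 (.leaf (nat_lit 0x32235c0)) (.leaf (nat_lit 0x224897))) (.node 1 (.leaf (nat_lit 0x322405c)) (.leaf (nat_lit 0x1225864)))) (.node 2 (.node 1 (.leaf (nat_lit 0x2225ed0)) (.leaf (nat_lit 0x3226308))) (.node 1 (.leaf (nat_lit 0x12279ee)) (.leaf (nat_lit 0x2227aeb)))))))) (.node 32 (.node 16 (.node 8 (.node 4 (.node 2 (.node 1 (.leaf (nat_lit 0x22288d0)) (.leaf (nat_lit 0x3228fd5)))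 (.node 1 (.leaf (nat_lit 0x229cdc)) (.leaf (nat_lit 0x3229645)))) (.node 2 (.node 1 (.leaf (nat_lit 0x122aee2)) (.leaf (nat_lit 0x222afac))) (.node 1 (.leaf (nat_lit 0x322a0ca)) (.leaf (nat_lit 0x122b586))))) (.node 4 (.node 2 (.node 1 (.leaf (nat_lit 0x222bc40)) (.leaf (nat_lit 0x22c892))) (.node 1 (.leaf (nat_lit 0x22d811)) (.leaf (nat_lit 0x222e89e)))) (.node 2 (.node 1 (.leaf (nat_lit 0x322e392)) (.leaf (nat_lit 0x222f7c8))) (.node 1 (.leaf (nat_lit 0x322f16b)) (.leaf (nat_lit 0x230205)))))) (.node 8 (.node 4 (.node 2 (.node 1 (.leaf (nat_lit 0x3230576)) (.leaf (nat_lit 0x12310a6))) (.node 1 (.leaf (nat_lit 0x232c44)) (.leaf (nat_lit 0x223211c)))) (.node 2 (.node 1 (.leaf (nat_lit 0x3232165)) (.leaf (nat_lit 0x1233394))) (.node 1 (.leaf (nat_lit 0x2233f86)) (.leaf (nat_lit 0x3233844))))) (.node 4 (.node 2 (.node 1 (.leaf (nat_lit 0x2234242)) (.leaf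 (nat_lit 0x32347e7))) (.node 1 (.leaf (nat_lit 0x1235cbd)) (.leaf (nat_lit 0x2235ad1)))) (.node 2 (.node 1 (.leaf (nat_lit 0x3235379)) (.leaf (nat_lit 0x2238d4d))) (.node 1 (.leaf (nat_lit 0x2239af5)) (.leaf (nat_lit 0x3239526))))))) (.node 16 (.node 8 (.node 4 (.node 2 (.node 1 (.leaf (nat_lit 0x23ac17)) (.leaf (nat_lit 0x123b7d4))) (.node 1 (.leaf (nat_lit 0x223b614)) (.leaf (nat_lit 0x323b259)))) (.node 2 (.node 1 (.leaf (nat_lit 0x123c4ab)) (.leaf (nat_lit 0x223c782))) (.node 1 (.leaf (nat_lit 0x223d7f0)) (.leaf (nat_lit 0x23e146))))) (.node 4 (.node 2 (.node 1 (.leaf (nat_lit 0x223e0db)) (.leaf (nat_lit 0x323e7bf))) (.node 1 (.leaf (nat_lit 0x123f44f)) (.leaf (nat_lit 0x223ff53)))) (.node 2 (.node 1 (.leaf (nat_lit 0x323f969)) (.leaf (nat_lit 0x240f1f))) (.node 1 (.leaf (nat_lit 0x2241c49)) (.leaf (nat_lit 0x242208)))))) (.node 8 (.node 4 (.node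 2 (.node 1 (.leaf (nat_lit 0x2242986)) (.leaf (nat_lit 0x3243b5f))) (.node 1 (.leaf (nat_lit 0x2244cf3)) (.leaf (nat_lit 0x3244499)))) (.node 2 (.node 1 (.leaf (nat_lit 0x2247f83)) (.leaf (nat_lit 0x2248cd9))) (.node 1 (.leaf (nat_lit 0x32484a7)) (.leaf (nat_lit 0x249957))))) (.node 4 (.node 2 (.node 1 (.leaf (nat_lit 0x24a2b5)) (.leaf (nat_lit 0x324a245))) (.node 1 (.leaf (nat_lit 0x124b67b)) (.leaf (nat_lit 0x224b137)))) (.node 2 (.node 1 (.leaf (nat_lit 0x324b4c2)) (.leaf (nat_lit 0x124ced1))) (.node 1 (.leaf (nat_lit 0x224d3f1)) (.leaf (nat_lit 0x324de74))))))))) (.node 64 (.node 32 (.node 16 (.node 8 (.node 4 (.node 2 (.node 1 (.leaf (nat_lit 0x24ea9c)) (.leaf (nat_lit 0x324ea9e))) (.node 1 (.leaf (nat_lit 0x224f56b)) (.leaf (nat_lit 0x324f91d)))) (.node 2 (.node 1 (.leaf (nat_lit 0x22507ba)) (.leaf (nat_lit 0x32502a7))) (.node 1 (.leaf (nat_lit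 0x1251b57)) (.leaf (nat_lit 0x3251aa3))))) (.node 4 (.node 2 (.node 1 (.leaf (nat_lit 0x3252553)) (.leaf (nat_lit 0x12538e6))) (.node 1 (.leaf (nat_lit 0x3253bf1)) (.leaf (nat_lit 0x2254b6e)))) (.node 2 (.node 1 (.leaf (nat_lit 0x3254d19)) (.leaf (nat_lit 0x1256136))) (.node 1 (.leaf (nat_lit 0x2256d60)) (.leaf (nat_lit 0x257649)))))) (.node 8 (.node 4 (.node 2 (.node 1 (.leaf (nat_lit 0x32571bb)) (.leaf (nat_lit 0x1258930))) (.node 1 (.leaf (nat_lit 0x22583dc)) (.leaf (nat_lit 0x3258b01)))) (.node 2 (.node 1 (.leaf (nat_lit 0x2590dc)) (.leaf (nat_lit 0x2259be6))) (.node 1 (.leaf (nat_lit 0x3259d46)) (.leaf (nat_lit 0x25bc8a))))) (.node 4 (.node 2 (.node 1 (.leaf (nat_lit 0x225bb92)) (.leaf (nat_lit 0x325b946))) (.node 1 (.leaf (nat_lit 0x225cfb3)) (.leaf (nat_lit 0x325c46a)))) (.node 2 (.node 1 (.leaf (nat_lit 0x25e050)) (.leaf (nat_lit 0x225e886)))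 (.node 1 (.leaf (nat_lit 0x125fd69)) (.leaf (nat_lit 0x325fcd0))))))) (.node 16 (.node 8 (.node 4 (.node 2 (.node 1 (.leaf (nat_lit 0x260aa7)) (.leaf (nat_lit 0x2612fe))) (.node 1 (.leaf (nat_lit 0x12625ad)) (.leaf (nat_lit 0x3263c08)))) (.node 2 (.node 1 (.leaf (nat_lit 0x126582a)) (.leaf (nat_lit 0x2265e91))) (.node 1 (.leaf (nat_lit 0x326505e)) (.leaf (nat_lit 0x266b6a))))) (.node 4 (.node 2 (.node 1 (.leaf (nat_lit 0x326679d)) (.leaf (nat_lit 0x268ee1))) (.node 1 (.leaf (nat_lit 0x1269cee)) (.leaf (nat_lit 0x126adbd)))) (.node 2 (.node 1 (.leaf (nat_lit 0x226a2c0)) (.leaf (nat_lit 0x326a856))) (.node 1 (.leaf (nat_lit 0x26cd18)) (.leaf (nat_lit 0x326cb47)))))) (.node 8 (.node 4 (.node 2 (.node 1 (.leaf (nat_lit 0x326d797)) (.leaf (nat_lit 0x226ed23))) (.node 1 (.leaf (nat_lit 0x326ea67)) (.leaf (nat_lit 0x26f109)))) (.node 2 (.node 1 (.leaf (nat_lit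 0x1270a5d)) (.leaf (nat_lit 0x32708b5))) (.node 1 (.leaf (nat_lit 0x12719e3)) (.leaf (nat_lit 0x22713cc))))) (.node 4 (.node 2 (.node 1 (.leaf (nat_lit 0x2272228)) (.leaf (nat_lit 0x3272705))) (.node 1 (.leaf (nat_lit 0x3273933)) (.leaf (nat_lit 0x22749e5)))) (.node 2 (.node 1 (.leaf (nat_lit 0x3274356)) (.leaf (nat_lit 0x2759a2))) (.node 1 (.leaf (nat_lit 0x1276978)) (.leaf (nat_lit 0x2276ec7)))))))) (.node 32 (.node 16 (.node 8 (.node 4 (.node 2 (.node 1 (.leaf (nat_lit 0x227745e)) (.leaf (nat_lit 0x32781c2))) (.node 1 (.leaf (nat_lit 0x12794ec)) (.leaf (nat_lit 0x127b3bd)))) (.node 2 (.node 1 (.leaf (nat_lit 0x27c666)) (.leaf (nat_lit 0x327c5b8))) (.node 1 (.leaf (nat_lit 0x227d8ed)) (.leaf (nat_lit 0x327d1ed))))) (.node 4 (.node 2 (.node 1 (.leaf (nat_lit 0x327ed26)) (.leaf (nat_lit 0x127f0b1))) (.node 1 (.leaf (nat_lit 0x327f9fb)) (.leaf (nat_lit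 0x2808b2)))) (.node 2 (.node 1 (.leaf (nat_lit 0x22800c8)) (.leaf (nat_lit 0x328026d))) (.node 1 (.leaf (nat_lit 0x2810ad)) (.leaf (nat_lit 0x283b2d)))))) (.node 8 (.node 4 (.node 2 (.node 1 (.leaf (nat_lit 0x22834a6)) (.leaf (nat_lit 0x3283f6d))) (.node 1 (.leaf (nat_lit 0x3285aee)) (.leaf (nat_lit 0x12868aa)))) (.node 2 (.node 1 (.leaf (nat_lit 0x22860a3)) (.leaf (nat_lit 0x32864af))) (.node 1 (.leaf (nat_lit 0x1287d47)) (.leaf (nat_lit 0x22875ce))))) (.node 4 (.node 2 (.node 1 (.leaf (nat_lit 0x288765)) (.leaf (nat_lit 0x22880b5))) (.node 1 (.leaf (nat_lit 0x32889a1)) (.leaf (nat_lit 0x2289cd4)))) (.node 2 (.node 1 (.leaf (nat_lit 0x328911e)) (.leaf (nat_lit 0x128a03f))) (.node 1 (.leaf (nat_lit 0x228a2db)) (.leaf (nat_lit 0x328a585))))))) (.node 16 (.node 8 (.node 4 (.node 2 (.node 1 (.leaf (nat_lit 0x328b090)) (.leaf (nat_lit 0x128ca21))) (.node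 1 (.leaf (nat_lit 0x228d2f8)) (.leaf (nat_lit 0x328de4d)))) (.node 2 (.node 1 (.leaf (nat_lit 0x128e477)) (.leaf (nat_lit 0x228e277))) (.node 1 (.leaf (nat_lit 0x328e09f)) (.leaf (nat_lit 0x228fe97))))) (.node 4 (.node 2 (.node 1 (.leaf (nat_lit 0x328f629)) (.leaf (nat_lit 0x12900f0))) (.node 1 (.leaf (nat_lit 0x1293b5d)) (.leaf (nat_lit 0x22934fb)))) (.node 2 (.node 1 (.leaf (nat_lit 0x3293e08)) (.leaf (nat_lit 0x2294f2d))) (.node 1 (.leaf (nat_lit 0x329485f)) (.leaf (nat_lit 0x295702)))))) (.node 8 (.node 4 (.node 2 (.node 1 (.leaf (nat_lit 0x2295ca9)) (.leaf (nat_lit 0x3295d8c))) (.node 1 (.leaf (nat_lit 0x2297938)) (.leaf (nat_lit 0x32994dc)))) (.node 2 (.node 1 (.leaf (nat_lit 0x329cabd)) (.leaf (nat_lit 0x129dd95))) (.node 1 (.leaf (nat_lit 0x229d919)) (.leaf (nat_lit 0x329dfbe))))) (.node 4 (.node 2 (.node 1 (.leaf (nat_lit 0x2a0334)) (.leaf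 (nat_lit 0x12a12dc))) (.node 1 (.leaf (nat_lit 0x32a2a5e)) (.leaf (nat_lit 0x22a351d)))) (.node 2 (.node 1 (.leaf (nat_lit 0x32a32dd)) (.leaf (nat_lit 0x22a4675))) (.node 1 (.leaf (nat_lit 0x32a4907)) (.leaf (nat_lit 0x2a5f01))))))))))

/-- A part of `orbF`. -/
def orbF_5 : Tree := (.node 128 (.node 64 (.node 32 (.node 16 (.node 8 (.node 4 (.node 2 (.node 1 (.leaf (nat_lit 0x32a5ec0)) (.leaf (nat_lit 0x22a603c))) (.node 1 (.leaf (nat_lit 0x12a75ba)) (.leaf (nat_lit 0x22a7a12)))) (.node 2 (.node 1 (.leaf (nat_lit 0x22a8dec)) (.leaf (nat_lit 0x32a9c7e))) (.node 1 (.leaf (nat_lit 0x2aad16)) (.leaf (nat_lit 0x22ab9cd))))) (.node 4 (.node 2 (.node 1 (.leaf (nat_lit 0x32abf54)) (.leaf (nat_lit 0x12ac449))) (.node 1 (.leaf (nat_lit 0x22ac2e9)) (.leaf (nat_lit 0x32ac7dd)))) (.node 2 (.node 1 (.leaf (nat_lit 0x12adcbc)) (.leaf (nat_lit 0x32addd7))) (.node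 1 (.leaf (nat_lit 0x2aeeff)) (.leaf (nat_lit 0x22afc62)))))) (.node 8 (.node 4 (.node 2 (.node 1 (.leaf (nat_lit 0x32b0a63)) (.leaf (nat_lit 0x22b2ae2))) (.node 1 (.leaf (nat_lit 0x32b2482)) (.leaf (nat_lit 0x2b35bd)))) (.node 2 (.node 1 (.leaf (nat_lit 0x12b439b)) (.leaf (nat_lit 0x12b5e3b))) (.node 1 (.leaf (nat_lit 0x2b65a6)) (.leaf (nat_lit 0x22b6282))))) (.node 4 (.node 2 (.node 1 (.leaf (nat_lit 0x32b67df)) (.leaf (nat_lit 0x12b7d57))) (.node 1 (.leaf (nat_lit 0x32b7a6b)) (.leaf (nat_lit 0x12b88bd)))) (.node 2 (.node 1 (.leaf (nat_lit 0x32b84c0)) (.leaf (nat_lit 0x22b960e))) (.node 1 (.leaf (nat_lit 0x32b9a9f)) (.leaf (nat_lit 0x12ba706))))))) (.node 16 (.node 8 (.node 4 (.node 2 (.node 1 (.leaf (nat_lit 0x22ba8c5)) (.leaf (nat_lit 0x32bad45))) (.node 1 (.leaf (nat_lit 0x2bb757)) (.leaf (nat_lit 0x22bbdd1)))) (.node 2 (.node 1 (.leaf (nat_lit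 0x32bb252)) (.leaf (nat_lit 0x2bc1a8))) (.node 1 (.leaf (nat_lit 0x12bedb6)) (.leaf (nat_lit 0x2bf0df))))) (.node 4 (.node 2 (.node 1 (.leaf (nat_lit 0x22c146e)) (.leaf (nat_lit 0x32c1bec))) (.node 1 (.leaf (nat_lit 0x12c2446)) (.leaf (nat_lit 0x22c2979)))) (.node 2 (.node 1 (.leaf (nat_lit 0x32c2bd5)) (.leaf (nat_lit 0x2c3755))) (.node 1 (.leaf (nat_lit 0x32c3d9c)) (.leaf (nat_lit 0x12c4337)))))) (.node 8 (.node 4 (.node 2 (.node 1 (.leaf (nat_lit 0x22c431e)) (.leaf (nat_lit 0x32c4128))) (.node 1 (.leaf (nat_lit 0x2c5df7)) (.leaf (nat_lit 0x22c509e)))) (.node 2 (.node 1 (.leaf (nat_lit 0x32c55a7)) (.leaf (nat_lit 0x2c9ad2))) (.node 1 (.leaf (nat_lit 0x32c97f7)) (.leaf (nat_lit 0x2ca5f4))))) (.node 4 (.node 2 (.node 1 (.leaf (nat_lit 0x32ca9ef)) (.leaf (nat_lit 0x12cb6d9))) (.node 1 (.leaf (nat_lit 0x22cccea)) (.leaf (nat_lit 0x2cd8fc)))) (.node 2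 (.node 1 (.leaf (nat_lit 0x32cd871)) (.leaf (nat_lit 0x22ce725))) (.node 1 (.leaf (nat_lit 0x32ce9d4)) (.leaf (nat_lit 0x22cf3ff)))))))) (.node 32 (.node 16 (.node 8 (.node 4 (.node 2 (.node 1 (.leaf (nat_lit 0x32d1a8f)) (.leaf (nat_lit 0x22d4470))) (.node 1 (.leaf (nat_lit 0x32d4882)) (.leaf (nat_lit 0x12d5e58)))) (.node 2 (.node 1 (.leaf (nat_lit 0x22d55a1)) (.leaf (nat_lit 0x22d61c8))) (.node 1 (.leaf (nat_lit 0x2d7faf)) (.leaf (nat_lit 0x12d8e66))))) (.node 4 (.node 2 (.node 1 (.leaf (nat_lit 0x22d8720)) (.leaf (nat_lit 0x32d992c))) (.node 1 (.leaf (nat_lit 0x2da829)) (.leaf (nat_lit 0x12db5b7)))) (.node 2 (.node 1 (.leaf (nat_lit 0x32dbab6)) (.leaf (nat_lit 0x32dcba8))) (.node 1 (.leaf (nat_lit 0x12dd7d3)) (.leaf (nat_lit 0x32de6c1)))))) (.node 8 (.node 4 (.node 2 (.node 1 (.leaf (nat_lit 0x22dfafa)) (.leaf (nat_lit 0x12e0f55))) (.node 1 (.leaf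 (nat_lit 0x22e0473)) (.leaf (nat_lit 0x12e17a9)))) (.node 2 (.node 1 (.leaf (nat_lit 0x2e2d5d)) (.leaf (nat_lit 0x32e26fa))) (.node 1 (.leaf (nat_lit 0x2e4185)) (.leaf (nat_lit 0x22e4382))))) (.node 4 (.node 2 (.node 1 (.leaf (nat_lit 0x22e5b90)) (.leaf (nat_lit 0x32e5d00))) (.node 1 (.leaf (nat_lit 0x22e6976)) (.leaf (nat_lit 0x32e7283)))) (.node 2 (.node 1 (.leaf (nat_lit 0x12e8464)) (.leaf (nat_lit 0x22e8703))) (.node 1 (.leaf (nat_lit 0x22e97a6)) (.leaf (nat_lit 0x2ea977))))))) (.node 16 (.node 8 (.node 4 (.node 2 (.node 1 (.leaf (nat_lit 0x32ea075)) (.leaf (nat_lit 0x32ebbc3))) (.node 1 (.leaf (nat_lit 0x22ecfbd)) (.leaf (nat_lit 0x2edd09)))) (.node 2 (.node 1 (.leaf (nat_lit 0x22ee253)) (.leaf (nat_lit 0x32ee695))) (.node 1 (.leaf (nat_lit 0x32efd64)) (.leaf (nat_lit 0x12f05cd))))) (.node 4 (.node 2 (.node 1 (.leaf (nat_lit 0x22f0743)) (.leaf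 (nat_lit 0x32f069e))) (.node 1 (.leaf (nat_lit 0x22f1381)) (.leaf (nat_lit 0x32f1a97)))) (.node 2 (.node 1 (.leaf (nat_lit 0x2f24fa)) (.leaf (nat_lit 0x12f3a43))) (.node 1 (.leaf (nat_lit 0x32f425d)) (.leaf (nat_lit 0x12f717f)))))) (.node 8 (.node 4 (.node 2 (.node 1 (.leaf (nat_lit 0x22f76a2)) (.leaf (nat_lit 0x32f7207))) (.node 1 (.leaf (nat_lit 0x22f87db)) (.leaf (nat_lit 0x32f8ea1)))) (.node 2 (.node 1 (.leaf (nat_lit 0x2f9885)) (.leaf (nat_lit 0x22fa5bc))) (.node 1 (.leaf (nat_lit 0x22fb04f)) (.leaf (nat_lit 0x32fb738))))) (.node 4 (.node 2 (.node 1 (.leaf (nat_lit 0x2fc9db)) (.leaf (nat_lit 0x32fc9d2))) (.node 1 (.leaf (nat_lit 0x12fd2ae)) (.leaf (nat_lit 0x22fd791)))) (.node 2 (.node 1 (.leaf (nat_lit 0x2300048)) (.leaf (nat_lit 0x23019a0))) (.node 1 (.leaf (nat_lit 0x3301cb5)) (.leaf (nat_lit 0x302095))))))))) (.node 64 (.node 32 (.node 16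 (.node 8 (.node 4 (.node 2 (.node 1 (.leaf (nat_lit 0x3302db4)) (.leaf (nat_lit 0x1303b03))) (.node 1 (.leaf (nat_lit 0x23033e9)) (.leaf (nat_lit 0x130455b)))) (.node 2 (.node 1 (.leaf (nat_lit 0x305ec8)) (.leaf (nat_lit 0x23050be))) (.node 1 (.leaf (nat_lit 0x3307ab4)) (.leaf (nat_lit 0x2308f81))))) (.node 4 (.node 2 (.node 1 (.leaf (nat_lit 0x130928a)) (.leaf (nat_lit 0x330921b))) (.node 1 (.leaf (nat_lit 0x30adf3)) (.leaf (nat_lit 0x230a6f6)))) (.node 2 (.node 1 (.leaf (nat_lit 0x330aa16)) (.leaf (nat_lit 0x30b6e3))) (.node 1 (.leaf (nat_lit 0x30e1e6)) (.leaf (nat_lit 0x330e516)))))) (.node 8 (.node 4 (.node 2 (.node 1 (.leaf (nat_lit 0x230f414)) (.leaf (nat_lit 0x3113b7))) (.node 1 (.leaf (nat_lit 0x3311dca)) (.leaf (nat_lit 0x1312087)))) (.node 2 (.node 1 (.leaf (nat_lit 0x2312506)) (.leaf (nat_lit 0x23137cd))) (.node 1 (.leaf (nat_lit 0x314698))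 (.leaf (nat_lit 0x2314883))))) (.node 4 (.node 2 (.node 1 (.leaf (nat_lit 0x31792a)) (.leaf (nat_lit 0x3317f36))) (.node 1 (.leaf (nat_lit 0x3185f7)) (.leaf (nat_lit 0x3318893)))) (.node 2 (.node 1 (.leaf (nat_lit 0x131925b)) (.leaf (nat_lit 0x3319284))) (.node 1 (.leaf (nat_lit 0x231a76d)) (.leaf (nat_lit 0x331a8cf))))))) (.node 16 (.node 8 (.node 4 (.node 2 (.node 1 (.leaf (nat_lit 0x31b7cc)) (.leaf (nat_lit 0x231c269))) (.node 1 (.leaf (nat_lit 0x31da99)) (.leaf (nat_lit 0x231d996)))) (.node 2 (.node 1 (.leaf (nat_lit 0x331d828)) (.leaf (nat_lit 0x131f6d8))) (.node 1 (.leaf (nat_lit 0x332032f)) (.leaf (nat_lit 0x3321dbf))))) (.node 4 (.node 2 (.node 1 (.leaf (nat_lit 0x33222fd)) (.leaf (nat_lit 0x132334c))) (.node 1 (.leaf (nat_lit 0x232344e)) (.leaf (nat_lit 0x324171)))) (.node 2 (.node 1 (.leaf (nat_lit 0x132585b)) (.leaf (nat_lit 0x2325cc7)))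 (.node 1 (.leaf (nat_lit 0x326e1e)) (.leaf (nat_lit 0x13274b0)))))) (.node 8 (.node 4 (.node 2 (.node 1 (.leaf (nat_lit 0x13288a6)) (.leaf (nat_lit 0x23284ed))) (.node 1 (.leaf (nat_lit 0x332985c)) (.leaf (nat_lit 0x32a5ef)))) (.node 2 (.node 1 (.leaf (nat_lit 0x232ab13)) (.leaf (nat_lit 0x332af92))) (.node 1 (.leaf (nat_lit 0x32c4e3)) (.leaf (nat_lit 0x232c3c0))))) (.node 4 (.node 2 (.node 1 (.leaf (nat_lit 0x32df59)) (.leaf (nat_lit 0x232f749))) (.node 1 (.leaf (nat_lit 0x330ecd)) (.leaf (nat_lit 0x3330cd6)))) (.node 2 (.node 1 (.leaf (nat_lit 0x23311a2)) (.leaf (nat_lit 0x332611))) (.node 1 (.leaf (nat_lit 0x2333dc9)) (.leaf (nat_lit 0x2334fbf)))))))) (.node 32 (.node 16 (.node 8 (.node 4 (.node 2 (.node 1 (.leaf (nat_lit 0x3334ce9)) (.leaf (nat_lit 0x2335203))) (.node 1 (.leaf (nat_lit 0x33653b)) (.leaf (nat_lit 0x1337626)))) (.node 2 (.node 1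 (.leaf (nat_lit 0x233708e)) (.leaf (nat_lit 0x23397b0))) (.node 1 (.leaf (nat_lit 0x3339c15)) (.leaf (nat_lit 0x333aa5f))))) (.node 4 (.node 2 (.node 1 (.leaf (nat_lit 0x233b7ff)) (.leaf (nat_lit 0x233c2ac))) (.node 1 (.leaf (nat_lit 0x33ee26)) (.leaf (nat_lit 0x133f5b9)))) (.node 2 (.node 1 (.leaf (nat_lit 0x333f46b)) (.leaf (nat_lit 0x34152e))) (.node 1 (.leaf (nat_lit 0x1342f87)) (.leaf (nat_lit 0x2342719)))))) (.node 8 (.node 4 (.node 2 (.node 1 (.leaf (nat_lit 0x344f30)) (.leaf (nat_lit 0x2345778))) (.node 1 (.leaf (nat_lit 0x33457f4)) (.leaf (nat_lit 0x3346835)))) (.node 2 (.node 1 (.leaf (nat_lit 0x1347b0e)) (.leaf (nat_lit 0x2347b89))) (.node 1 (.leaf (nat_lit 0x348e4f)) (.leaf (nat_lit 0x2348bb2))))) (.node 4 (.node 2 (.node 1 (.leaf (nat_lit 0x334822b)) (.leaf (nat_lit 0x134a0d7))) (.node 1 (.leaf (nat_lit 0x234aed4)) (.leaf (nat_lit 0x234bcac))))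 (.node 2 (.node 1 (.leaf (nat_lit 0x334c467)) (.leaf (nat_lit 0x334d41a))) (.node 1 (.leaf (nat_lit 0x2350aa9)) (.leaf (nat_lit 0x3350855))))))) (.node 16 (.node 8 (.node 4 (.node 2 (.node 1 (.leaf (nat_lit 0x351b6b)) (.leaf (nat_lit 0x3351c2d))) (.node 1 (.leaf (nat_lit 0x3352bcb)) (.leaf (nat_lit 0x23537a3)))) (.node 2 (.node 1 (.leaf (nat_lit 0x35483b)) (.leaf (nat_lit 0x355704))) (.node 1 (.leaf (nat_lit 0x33551fe)) (.leaf (nat_lit 0x13569dc))))) (.node 4 (.node 2 (.node 1 (.leaf (nat_lit 0x235649d)) (.leaf (nat_lit 0x2357502))) (.node 1 (.leaf (nat_lit 0x2358d40)) (.leaf (nat_lit 0x359f73)))) (.node 2 (.node 1 (.leaf (nat_lit 0x2359a1c)) (.leaf (nat_lit 0x235b15c))) (.node 1 (.leaf (nat_lit 0x35c14f)) (.leaf (nat_lit 0x335c73b)))))) (.node 8 (.node 4 (.node 2 (.node 1 (.leaf (nat_lit 0x135d800)) (.leaf (nat_lit 0x135eee7))) (.node 1 (.leaf (nat_lit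 0x35f673)) (.leaf (nat_lit 0x235fbeb)))) (.node 2 (.node 1 (.leaf (nat_lit 0x2361aac)) (.leaf (nat_lit 0x23624aa))) (.node 1 (.leaf (nat_lit 0x3639ff)) (.leaf (nat_lit 0x23644c6))))) (.node 4 (.node 2 (.node 1 (.leaf (nat_lit 0x3364f71)) (.leaf (nat_lit 0x365651))) (.node 1 (.leaf (nat_lit 0x1366409)) (.leaf (nat_lit 0x369c87)))) (.node 2 (.node 1 (.leaf (nat_lit 0x2369227)) (.leaf (nat_lit 0x3369905))) (.node 1 (.leaf (nat_lit 0x36ab67)) (.leaf (nat_lit 0x236b187))))))))))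

/-- A part of `orbF`. -/
def orbF_6 : Tree := (.node 128 (.node 64 (.node 32 (.node 16 (.node 8 (.node 4 (.node 2 (.node 1 (.leaf (nat_lit 0x236c89d)) (.leaf (nat_lit 0x336c3a9))) (.node 1 (.leaf (nat_lit 0x236d8a5)) (.leaf (nat_lit 0x336d45b)))) (.node 2 (.node 1 (.leaf (nat_lit 0x336e29b)) (.leaf (nat_lit 0x36f435))) (.node 1 (.leaf (nat_lit 0x1370cb8)) (.leaf (nat_lit 0x2370ac9))))) (.node 4 (.node 2 (.node 1 (.leaf (nat_lit 0x23714f8)) (.leaf (nat_lit 0x3371043))) (.node 1 (.leaf (nat_lit 0x3721c5)) (.leaf (nat_lit 0x33726d6)))) (.node 2 (.node 1 (.leaf (nat_lit 0x1373f35)) (.leaf (nat_lit 0x2373ec6))) (.node 1 (.leaf (nat_lit 0x3373630)) (.leaf (nat_lit 0x13741b0)))))) (.node 8 (.node 4 (.node 2 (.node 1 (.leaf (nat_lit 0x337560a)) (.leaf (nat_lit 0x3377eeb))) (.node 1 (.leaf (nat_lit 0x2378f34)) (.leaf (nat_lit 0x3378385)))) (.node 2 (.node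 1 (.leaf (nat_lit 0x23791ce)) (.leaf (nat_lit 0x137a0bf))) (.node 1 (.leaf (nat_lit 0x237adab)) (.leaf (nat_lit 0x337a968))))) (.node 4 (.node 2 (.node 1 (.leaf (nat_lit 0x137c4c8)) (.leaf (nat_lit 0x237df05))) (.node 1 (.leaf (nat_lit 0x337d9b4)) (.leaf (nat_lit 0x337e8c8)))) (.node 2 (.node 1 (.leaf (nat_lit 0x137f204)) (.leaf (nat_lit 0x2380be7))) (.node 1 (.leaf (nat_lit 0x38191c)) (.leaf (nat_lit 0x3824c7))))))) (.node 16 (.node 8 (.node 4 (.node 2 (.node 1 (.leaf (nat_lit 0x3382c8b)) (.leaf (nat_lit 0x2383201))) (.node 1 (.leaf (nat_lit 0x1384569)) (.leaf (nat_lit 0x2384b0f)))) (.node 2 (.node 1 (.leaf (nat_lit 0x38586f)) (.leaf (nat_lit 0x238616a))) (.node 1 (.leaf (nat_lit 0x338643b)) (.leaf (nat_lit 0x23876a5))))) (.node 4 (.node 2 (.node 1 (.leaf (nat_lit 0x3387f52)) (.leaf (nat_lit 0x1388c9f))) (.node 1 (.leaf (nat_lit 0x338837a)) (.leaf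 (nat_lit 0x138905f)))) (.node 2 (.node 1 (.leaf (nat_lit 0x23895e2)) (.leaf (nat_lit 0x338aa6a))) (.node 1 (.leaf (nat_lit 0x138bc3e)) (.leaf (nat_lit 0x338cc5a)))))) (.node 8 (.node 4 (.node 2 (.node 1 (.leaf (nat_lit 0x338d6fe)) (.leaf (nat_lit 0x38eaa8))) (.node 1 (.leaf (nat_lit 0x338ea8e)) (.leaf (nat_lit 0x238f6be)))) (.node 2 (.node 1 (.leaf (nat_lit 0x338fc26)) (.leaf (nat_lit 0x13913a0))) (.node 1 (.leaf (nat_lit 0x1393327)) (.leaf (nat_lit 0x2394f8d))))) (.node 4 (.node 2 (.node 1 (.leaf (nat_lit 0x3394d6c)) (.leaf (nat_lit 0x23961ca))) (.node 1 (.leaf (nat_lit 0x33967d5)) (.leaf (nat_lit 0x3397868)))) (.node 2 (.node 1 (.leaf (nat_lit 0x1399d7f)) (.leaf (nat_lit 0x23993fe))) (.node 1 (.leaf (nat_lit 0x339ac96)) (.leaf (nat_lit 0x139bd7b)))))))) (.node 32 (.node 16 (.node 8 (.node 4 (.node 2 (.node 1 (.leaf (nat_lit 0x339b1de)) (.leaf (nat_lit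 0x239c4c4))) (.node 1 (.leaf (nat_lit 0x339d450)) (.leaf (nat_lit 0x239e26c)))) (.node 2 (.node 1 (.leaf (nat_lit 0x39f5dc)) (.leaf (nat_lit 0x23a0890))) (.node 1 (.leaf (nat_lit 0x23a169c)) (.leaf (nat_lit 0x33a335c))))) (.node 4 (.node 2 (.node 1 (.leaf (nat_lit 0x13a473d)) (.leaf (nat_lit 0x33a4193))) (.node 1 (.leaf (nat_lit 0x3a5439)) (.leaf (nat_lit 0x13a67c9)))) (.node 2 (.node 1 (.leaf (nat_lit 0x33a7fdb)) (.leaf (nat_lit 0x23a8f82))) (.node 1 (.leaf (nat_lit 0x23a9331)) (.leaf (nat_lit 0x3aafd6)))))) (.node 8 (.node 4 (.node 2 (.node 1 (.leaf (nat_lit 0x23aa0a0)) (.leaf (nat_lit 0x13adbed))) (.node 1 (.leaf (nat_lit 0x13aedc7)) (.leaf (nat_lit 0x3af065)))) (.node 2 (.node 1 (.leaf (nat_lit 0x13b04db)) (.leaf (nat_lit 0x23b0ab9))) (.node 1 (.leaf (nat_lit 0x33b0d55)) (.leaf (nat_lit 0x3b1b02))))) (.node 4 (.node 2 (.node 1 (.leaf (nat_lit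 0x23b11e5)) (.leaf (nat_lit 0x33b1383))) (.node 1 (.leaf (nat_lit 0x33b467e)) (.leaf (nat_lit 0x33b5d25)))) (.node 2 (.node 1 (.leaf (nat_lit 0x13b71a3)) (.leaf (nat_lit 0x3b8e40))) (.node 1 (.leaf (nat_lit 0x23bc483)) (.leaf (nat_lit 0x33bcba9))))))) (.node 16 (.node 8 (.node 4 (.node 2 (.node 1 (.leaf (nat_lit 0x33bd2bb)) (.leaf (nat_lit 0x23beee6))) (.node 1 (.leaf (nat_lit 0x33be9da)) (.leaf (nat_lit 0x23bfec5)))) (.node 2 (.node 1 (.leaf (nat_lit 0x33bfdcf)) (.leaf (nat_lit 0x3c099c))) (.node 1 (.leaf (nat_lit 0x23c1469)) (.leaf (nat_lit 0x33c27fd))))) (.node 4 (.node 2 (.node 1 (.leaf (nat_lit 0x3c44e6)) (.leaf (nat_lit 0x33c4c83))) (.node 1 (.leaf (nat_lit 0x33c7c88)) (.leaf (nat_lit 0x3c8b27)))) (.node 2 (.node 1 (.leaf (nat_lit 0x33c882e)) (.leaf (nat_lit 0x13ca180))) (.node 1 (.leaf (nat_lit 0x23caf6c)) (.leaf (nat_lit 0x33cbd94)))))) (.node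 8 (.node 4 (.node 2 (.node 1 (.leaf (nat_lit 0x13cc1db)) (.leaf (nat_lit 0x23ccdd5))) (.node 1 (.leaf (nat_lit 0x13cd9d7)) (.leaf (nat_lit 0x23cdd44)))) (.node 2 (.node 1 (.leaf (nat_lit 0x23cef04)) (.leaf (nat_lit 0x13cfbc0))) (.node 1 (.leaf (nat_lit 0x23cf06a)) (.leaf (nat_lit 0x33d2efc))))) (.node 4 (.node 2 (.node 1 (.leaf (nat_lit 0x3d3769)) (.leaf (nat_lit 0x33d3a01))) (.node 1 (.leaf (nat_lit 0x13d408f)) (.leaf (nat_lit 0x13d5340)))) (.node 2 (.node 1 (.leaf (nat_lit 0x23d572b)) (.leaf (nat_lit 0x3d696c))) (.node 1 (.leaf (nat_lit 0x3d7ae6)) (.leaf (nat_lit 0x23d8b35))))))))) (.node 64 (.node 32 (.node 16 (.node 8 (.node 4 (.node 2 (.node 1 (.leaf (nat_lit 0x23d931a)) (.leaf (nat_lit 0x33d91b4))) (.node 1 (.leaf (nat_lit 0x23dcfd8)) (.leaf (nat_lit 0x3dd48d)))) (.node 2 (.node 1 (.leaf (nat_lit 0x23ddc4b)) (.leaf (nat_lit 0x23de6ea))) (.node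 1 (.leaf (nat_lit 0x3df742)) (.leaf (nat_lit 0x33df7a5))))) (.node 4 (.node 2 (.node 1 (.leaf (nat_lit 0x3e053a)) (.leaf (nat_lit 0x33e0c39))) (.node 1 (.leaf (nat_lit 0x23e2bfa)) (.leaf (nat_lit 0x33e3116)))) (.node 2 (.node 1 (.leaf (nat_lit 0x33e4d50)) (.leaf (nat_lit 0x13e5024))) (.node 1 (.leaf (nat_lit 0x23e52da)) (.leaf (nat_lit 0x33e5156)))))) (.node 8 (.node 4 (.node 2 (.node 1 (.leaf (nat_lit 0x23e6ead)) (.leaf (nat_lit 0x3e742c))) (.node 1 (.leaf (nat_lit 0x23e7f02)) (.leaf (nat_lit 0x3e8e29)))) (.node 2 (.node 1 (.leaf (nat_lit 0x3e94a0)) (.leaf (nat_lit 0x33e998d))) (.node 1 (.leaf (nat_lit 0x13ead43)) (.leaf (nat_lit 0x23ea5e3))))) (.node 4 (.node 2 (.node 1 (.leaf (nat_lit 0x23ebd1b)) (.leaf (nat_lit 0x33ebed3))) (.node 1 (.leaf (nat_lit 0x23eca13)) (.leaf (nat_lit 0x33ecde8)))) (.node 2 (.node 1 (.leaf (nat_lit 0x33ed48a)) (.leaf (nat_lit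 0x23f3064))) (.node 1 (.leaf (nat_lit 0x23f5243)) (.leaf (nat_lit 0x33fb427))))))) (.node 16 (.node 8 (.node 4 (.node 2 (.node 1 (.leaf (nat_lit 0x13fc5d0)) (.leaf (nat_lit 0x33fd332))) (.node 1 (.leaf (nat_lit 0x23fe54e)) (.leaf (nat_lit 0x23ffe94)))) (.node 2 (.node 1 (.leaf (nat_lit 0x4004d1)) (.leaf (nat_lit 0x24004a1))) (.node 1 (.leaf (nat_lit 0x3400ef2)) (.leaf (nat_lit 0x34060fc))))) (.node 4 (.node 2 (.node 1 (.leaf (nat_lit 0x3407804)) (.leaf (nat_lit 0x24084c3))) (.node 1 (.leaf (nat_lit 0x34081d1)) (.leaf (nat_lit 0x140acc4)))) (.node 2 (.node 1 (.leaf (nat_lit 0x340b61d)) (.leaf (nat_lit 0x240c098))) (.node 1 (.leaf (nat_lit 0x40d99f)) (.leaf (nat_lit 0x140e122)))))) (.node 8 (.node 4 (.node 2 (.node 1 (.leaf (nat_lit 0x140f9a7)) (.leaf (nat_lit 0x240f773))) (.node 1 (.leaf (nat_lit 0x2410bea)) (.leaf (nat_lit 0x2411395)))) (.node 2 (.node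 1 (.leaf (nat_lit 0x34110fa)) (.leaf (nat_lit 0x4125f1))) (.node 1 (.leaf (nat_lit 0x24141ba)) (.leaf (nat_lit 0x415a3e))))) (.node 4 (.node 2 (.node 1 (.leaf (nat_lit 0x341674a)) (.leaf (nat_lit 0x341741c))) (.node 1 (.leaf (nat_lit 0x14184d6)) (.leaf (nat_lit 0x241818a)))) (.node 2 (.node 1 (.leaf (nat_lit 0x41a504)) (.leaf (nat_lit 0x341a4f4))) (.node 1 (.leaf (nat_lit 0x241b1e4)) (.leaf (nat_lit 0x341b37f)))))))) (.node 32 (.node 16 (.node 8 (.node 4 (.node 2 (.node 1 (.leaf (nat_lit 0x41c21d)) (.leaf (nat_lit 0x241e2fc))) (.node 1 (.leaf (nat_lit 0x41f5ea)) (.leaf (nat_lit 0x241fd0a)))) (.node 2 (.node 1 (.leaf (nat_lit 0x1420744)) (.leaf (nat_lit 0x3420ace))) (.node 1 (.leaf (nat_lit 0x2422aea)) (.leaf (nat_lit 0x3423593))))) (.node 4 (.node 2 (.node 1 (.leaf (nat_lit 0x424295)) (.leaf (nat_lit 0x3424313))) (.node 1 (.leaf (nat_lit 0x427eb3))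 (.leaf (nat_lit 0x2428926)))) (.node 2 (.node 1 (.leaf (nat_lit 0x342844d)) (.leaf (nat_lit 0x3429089))) (.node 1 (.leaf (nat_lit 0x242ad88)) (.leaf (nat_lit 0x342abb5)))))) (.node 8 (.node 4 (.node 2 (.node 1 (.leaf (nat_lit 0x142cd31)) (.leaf (nat_lit 0x242c664))) (.node 1 (.leaf (nat_lit 0x142d1d8)) (.leaf (nat_lit 0x242d77b)))) (.node 2 (.node 1 (.leaf (nat_lit 0x143098b)) (.leaf (nat_lit 0x2430cc1))) (.node 1 (.leaf (nat_lit 0x24323be)) (.leaf (nat_lit 0x343227e))))) (.node 4 (.node 2 (.node 1 (.leaf (nat_lit 0x2433161)) (.leaf (nat_lit 0x143506d))) (.node 1 (.leaf (nat_lit 0x2435b15)) (.leaf (nat_lit 0x24368a7)))) (.node 2 (.node 1 (.leaf (nat_lit 0x3436a79)) (.leaf (nat_lit 0x3437b56))) (.node 1 (.leaf (nat_lit 0x2438371)) (.leaf (nat_lit 0x343999e))))))) (.node 16 (.node 8 (.node 4 (.node 2 (.node 1 (.leaf (nat_lit 0x343ae01)) (.leaf (nat_lit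 0x143d9e9))) (.node 1 (.leaf (nat_lit 0x243da00)) (.leaf (nat_lit 0x43e8a2)))) (.node 2 (.node 1 (.leaf (nat_lit 0x243e7d2)) (.leaf (nat_lit 0x43f10f))) (.node 1 (.leaf (nat_lit 0x44061c)) (.leaf (nat_lit 0x2440093))))) (.node 4 (.node 2 (.node 1 (.leaf (nat_lit 0x34400e5)) (.leaf (nat_lit 0x3441bcd))) (.node 1 (.leaf (nat_lit 0x1442020)) (.leaf (nat_lit 0x34420d6)))) (.node 2 (.node 1 (.leaf (nat_lit 0x2443555)) (.leaf (nat_lit 0x3443524))) (.node 1 (.leaf (nat_lit 0x3447c9e)) (.leaf (nat_lit 0x2448cb0)))))) (.node 8 (.node 4 (.node 2 (.node 1 (.leaf (nat_lit 0x2449eba)) (.leaf (nat_lit 0x244af31))) (.node 1 (.leaf (nat_lit 0x44d256)) (.leaf (nat_lit 0x144e299)))) (.node 2 (.node 1 (.leaf (nat_lit 0x244e90a)) (.leaf (nat_lit 0x344f2f7))) (.node 1 (.leaf (nat_lit 0x1450041)) (.leaf (nat_lit 0x4515c4))))) (.node 4 (.node 2 (.node 1 (.leaf (nat_lit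 0x3451101)) (.leaf (nat_lit 0x2452084))) (.node 1 (.leaf (nat_lit 0x3452d6f)) (.leaf (nat_lit 0x4531be)))) (.node 2 (.node 1 (.leaf (nat_lit 0x24531ff)) (.leaf (nat_lit 0x1454fb6))) (.node 1 (.leaf (nat_lit 0x2454995)) (.leaf (nat_lit 0x345484a))))))))))

/-- A part of `orbF`. -/
def orbF_7 : Tree := (.node 128 (.node 64 (.node 32 (.node 16 (.node 8 (.node 4 (.node 2 (.node 1 (.leaf (nat_lit 0x2455e9b)) (.leaf (nat_lit 0x34551f3))) (.node 1 (.leaf (nat_lit 0x4566b6)) (.leaf (nat_lit 0x3458388)))) (.node 2 (.node 1 (.leaf (nat_lit 0x1459ee8)) (.leaf (nat_lit 0x3459b66))) (.node 1 (.leaf (nat_lit 0x245af4d)) (.leaf (nat_lit 0x245c497))))) (.node 4 (.node 2 (.node 1 (.leaf (nat_lit 0x45e346)) (.leaf (nat_lit 0x245ee65))) (.node 1 (.leaf (nat_lit 0x245ff22)) (.leaf (nat_lit 0x345f159)))) (.node 2 (.node 1 (.leaf (nat_lit 0x2460d96)) (.leaf (nat_lit 0x3461182)))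 (.node 1 (.leaf (nat_lit 0x1463ecf)) (.leaf (nat_lit 0x2464bf8)))))) (.node 8 (.node 4 (.node 2 (.node 1 (.leaf (nat_lit 0x34643c2)) (.leaf (nat_lit 0x2465d8d))) (.node 1 (.leaf (nat_lit 0x3467baa)) (.leaf (nat_lit 0x4688e3)))) (.node 2 (.node 1 (.leaf (nat_lit 0x2469e35)) (.leaf (nat_lit 0x3469059))) (.node 1 (.leaf (nat_lit 0x346a03e)) (.leaf (nat_lit 0x246ced2))))) (.node 4 (.node 2 (.node 1 (.leaf (nat_lit 0x46e86d)) (.leaf (nat_lit 0x146f127))) (.node 1 (.leaf (nat_lit 0x246f336)) (.leaf (nat_lit 0x3472063)))) (.node 2 (.node 1 (.leaf (nat_lit 0x1473330)) (.leaf (nat_lit 0x34739b0))) (.node 1 (.leaf (nat_lit 0x3475c13)) (.leaf (nat_lit 0x2477dc1))))))) (.node 16 (.node 8 (.node 4 (.node 2 (.node 1 (.leaf (nat_lit 0x3478e51)) (.leaf (nat_lit 0x1479d7c))) (.node 1 (.leaf (nat_lit 0x247a02f)) (.leaf (nat_lit 0x347a787)))) (.node 2 (.node 1 (.leaf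 (nat_lit 0x47b57c)) (.leaf (nat_lit 0x247b7f1))) (.node 1 (.leaf (nat_lit 0x347b24c)) (.leaf (nat_lit 0x14806a4))))) (.node 4 (.node 2 (.node 1 (.leaf (nat_lit 0x14819e1)) (.leaf (nat_lit 0x2482e2b))) (.node 1 (.leaf (nat_lit 0x34824a8)) (.leaf (nat_lit 0x2483448)))) (.node 2 (.node 1 (.leaf (nat_lit 0x3484c63)) (.leaf (nat_lit 0x1487046))) (.node 1 (.leaf (nat_lit 0x24879bd)) (.leaf (nat_lit 0x2488656)))))) (.node 8 (.node 4 (.node 2 (.node 1 (.leaf (nat_lit 0x34896dc)) (.leaf (nat_lit 0x148a58d))) (.node 1 (.leaf (nat_lit 0x248a75d)) (.leaf (nat_lit 0x148cf57)))) (.node 2 (.node 1 (.leaf (nat_lit 0x248c3d3)) (.leaf (nat_lit 0x48d54f))) (.node 1 (.leaf (nat_lit 0x248d2cd)) (.leaf (nat_lit 0x24915c2))))) (.node 4 (.node 2 (.node 1 (.leaf (nat_lit 0x349141e)) (.leaf (nat_lit 0x14930c9))) (.node 1 (.leaf (nat_lit 0x24949bb)) (.leaf (nat_lit 0x4956fb))))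 (.node 2 (.node 1 (.leaf (nat_lit 0x24961bc)) (.leaf (nat_lit 0x4982e0))) (.node 1 (.leaf (nat_lit 0x3498d48)) (.leaf (nat_lit 0x149b96e)))))))) (.node 32 (.node 16 (.node 8 (.node 4 (.node 2 (.node 1 (.leaf (nat_lit 0x249bf24)) (.leaf (nat_lit 0x149c4bc))) (.node 1 (.leaf (nat_lit 0x49d4a4)) (.leaf (nat_lit 0x49ed35)))) (.node 2 (.node 1 (.leaf (nat_lit 0x24a15ed)) (.leaf (nat_lit 0x24a3d5e))) (.node 1 (.leaf (nat_lit 0x4a4d41)) (.leaf (nat_lit 0x34a4160))))) (.node 4 (.node 2 (.node 1 (.leaf (nat_lit 0x14a6081)) (.leaf (nat_lit 0x34a7f48))) (.node 1 (.leaf (nat_lit 0x14a816d)) (.leaf (nat_lit 0x24a9bac)))) (.node 2 (.node 1 (.leaf (nat_lit 0x24ab878)) (.leaf (nat_lit 0x34ab192))) (.node 1 (.leaf (nat_lit 0x4acef0)) (.leaf (nat_lit 0x34ac17b)))))) (.node 8 (.node 4 (.node 2 (.node 1 (.leaf (nat_lit 0x24ad846)) (.leaf (nat_lit 0x24af5dd))) (.node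 1 (.leaf (nat_lit 0x24b1db8)) (.leaf (nat_lit 0x14b2536)))) (.node 2 (.node 1 (.leaf (nat_lit 0x24b3acb)) (.leaf (nat_lit 0x4b4a71))) (.node 1 (.leaf (nat_lit 0x14b5e77)) (.leaf (nat_lit 0x24b63bf))))) (.node 4 (.node 2 (.node 1 (.leaf (nat_lit 0x4b7a7d)) (.leaf (nat_lit 0x24b7967))) (.node 1 (.leaf (nat_lit 0x34b73b1)) (.leaf (nat_lit 0x34b8859)))) (.node 2 (.node 1 (.leaf (nat_lit 0x24bae67)) (.leaf (nat_lit 0x24bedb9))) (.node 1 (.leaf (nat_lit 0x34be972)) (.leaf (nat_lit 0x4bfd53))))))) (.node 16 (.node 8 (.node 4 (.node 2 (.node 1 (.leaf (nat_lit 0x4c0e9a)) (.leaf (nat_lit 0x14c163b))) (.node 1 (.leaf (nat_lit 0x4c2584)) (.leaf (nat_lit 0x34c2c7f)))) (.node 2 (.node 1 (.leaf (nat_lit 0x24c4a55)) (.leaf (nat_lit 0x34c4b39))) (.node 1 (.leaf (nat_lit 0x24c5bc1)) (.leaf (nat_lit 0x34c564f))))) (.node 4 (.node 2 (.node 1 (.leaf (nat_lit 0x34c72ce))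 (.leaf (nat_lit 0x24c8111))) (.node 1 (.leaf (nat_lit 0x34c9fb4)) (.leaf (nat_lit 0x14ca036)))) (.node 2 (.node 1 (.leaf (nat_lit 0x34cc59e)) (.leaf (nat_lit 0x14cd496))) (.node 1 (.leaf (nat_lit 0x24cd175)) (.leaf (nat_lit 0x24cf1d9)))))) (.node 8 (.node 4 (.node 2 (.node 1 (.leaf (nat_lit 0x34cf40a)) (.leaf (nat_lit 0x4d03cb))) (.node 1 (.leaf (nat_lit 0x34d07e1)) (.leaf (nat_lit 0x24d26ee)))) (.node 2 (.node 1 (.leaf (nat_lit 0x24d3de7)) (.leaf (nat_lit 0x14d5107))) (.node 1 (.leaf (nat_lit 0x24d5525)) (.leaf (nat_lit 0x24d668f))))) (.node 4 (.node 2 (.node 1 (.leaf (nat_lit 0x34d7e27)) (.leaf (nat_lit 0x34d881d))) (.node 1 (.leaf (nat_lit 0x14da238)) (.leaf (nat_lit 0x24da3ee)))) (.node 2 (.node 1 (.leaf (nat_lit 0x14dc22a)) (.leaf (nat_lit 0x24dc3e3))) (.node 1 (.leaf (nat_lit 0x24dd896)) (.leaf (nat_lit 0x14df90b))))))))) (.node 64 (.node 32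 (.node 16 (.node 8 (.node 4 (.node 2 (.node 1 (.leaf (nat_lit 0x34e1564)) (.leaf (nat_lit 0x34e233b))) (.node 1 (.leaf (nat_lit 0x34e406c)) (.leaf (nat_lit 0x24e514a)))) (.node 2 (.node 1 (.leaf (nat_lit 0x34e52e8)) (.leaf (nat_lit 0x14e8b81))) (.node 1 (.leaf (nat_lit 0x34e9eb1)) (.leaf (nat_lit 0x4ea32c))))) (.node 4 (.node 2 (.node 1 (.leaf (nat_lit 0x14ee0d5)) (.leaf (nat_lit 0x24ee133))) (.node 1 (.leaf (nat_lit 0x24ef2a5)) (.leaf (nat_lit 0x34ef2a8)))) (.node 2 (.node 1 (.leaf (nat_lit 0x4f0317)) (.leaf (nat_lit 0x34f0532))) (.node 1 (.leaf (nat_lit 0x14f1f20)) (.leaf (nat_lit 0x24f1f2e)))))) (.node 8 (.node 4 (.node 2 (.node 1 (.leaf (nat_lit 0x24f5049)) (.leaf (nat_lit 0x34f50cb))) (.node 1 (.leaf (nat_lit 0x34f6240)) (.leaf (nat_lit 0x14f7ede)))) (.node 2 (.node 1 (.leaf (nat_lit 0x24f7fd7)) (.leaf (nat_lit 0x24f8321))) (.node 1 (.leaf (nat_lit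 0x4f982d)) (.leaf (nat_lit 0x34f9370))))) (.node 4 (.node 2 (.node 1 (.leaf (nat_lit 0x14fae4a)) (.leaf (nat_lit 0x34fd9f9))) (.node 1 (.leaf (nat_lit 0x24fe932)) (.leaf (nat_lit 0x14ff1c3)))) (.node 2 (.node 1 (.leaf (nat_lit 0x34ffa29)) (.leaf (nat_lit 0x3500d99))) (.node 1 (.leaf (nat_lit 0x501852)) (.leaf (nat_lit 0x350221e))))))) (.node 16 (.node 8 (.node 4 (.node 2 (.node 1 (.leaf (nat_lit 0x250375b)) (.leaf (nat_lit 0x35037f5))) (.node 1 (.leaf (nat_lit 0x15064f7)) (.leaf (nat_lit 0x2508e9c)))) (.node 2 (.node 1 (.leaf (nat_lit 0x250947c)) (.leaf (nat_lit 0x150db94))) (.node 1 (.leaf (nat_lit 0x151076c)) (.leaf (nat_lit 0x251020b))))) (.node 4 (.node 2 (.node 1 (.leaf (nat_lit 0x3510428)) (.leaf (nat_lit 0x35113a8))) (.node 1 (.leaf (nat_lit 0x1512ac3)) (.leaf (nat_lit 0x1513cd5)))) (.node 2 (.node 1 (.leaf (nat_lit 0x3514052)) (.leaf (nat_lit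 0x1516bd4))) (.node 1 (.leaf (nat_lit 0x35161ef)) (.leaf (nat_lit 0x151830e)))))) (.node 8 (.node 4 (.node 2 (.node 1 (.leaf (nat_lit 0x2518d7e)) (.leaf (nat_lit 0x3519c2a))) (.node 1 (.leaf (nat_lit 0x351b3d0)) (.leaf (nat_lit 0x151cfb9)))) (.node 2 (.node 1 (.leaf (nat_lit 0x51dedb)) (.leaf (nat_lit 0x351e092))) (.node 1 (.leaf (nat_lit 0x51f550)) (.leaf (nat_lit 0x1521c72))))) (.node 4 (.node 2 (.node 1 (.leaf (nat_lit 0x25227f6)) (.leaf (nat_lit 0x3522801))) (.node 1 (.leaf (nat_lit 0x3524fb8)) (.leaf (nat_lit 0x526b3f)))) (.node 2 (.node 1 (.leaf (nat_lit 0x3526bce)) (.leaf (nat_lit 0x3528d76))) (.node 1 (.leaf (nat_lit 0x25292ab)) (.leaf (nat_lit 0x3529e0d)))))))) (.node 32 (.node 16 (.node 8 (.node 4 (.node 2 (.node 1 (.leaf (nat_lit 0x152c4ff)) (.leaf (nat_lit 0x352d975))) (.node 1 (.leaf (nat_lit 0x352e5ae)) (.leaf (nat_lit 0x252f355))))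 (.node 2 (.node 1 (.leaf (nat_lit 0x1531083)) (.leaf (nat_lit 0x35324ad))) (.node 1 (.leaf (nat_lit 0x1534dc3)) (.leaf (nat_lit 0x3535da2))))) (.node 4 (.node 2 (.node 1 (.leaf (nat_lit 0x2536131)) (.leaf (nat_lit 0x35362f9))) (.node 1 (.leaf (nat_lit 0x25388cd)) (.leaf (nat_lit 0x3539d8b)))) (.node 2 (.node 1 (.leaf (nat_lit 0x53abbe)) (.leaf (nat_lit 0x353acb6))) (.node 1 (.leaf (nat_lit 0x253ccf2)) (.leaf (nat_lit 0x53d7b5)))))) (.node 8 (.node 4 (.node 2 (.node 1 (.leaf (nat_lit 0x253e5ec)) (.leaf (nat_lit 0x53feaa))) (.node 1 (.leaf (nat_lit 0x3541bfe)) (.leaf (nat_lit 0x1546af1)))) (.node 2 (.node 1 (.leaf (nat_lit 0x2547d91)) (.leaf (nat_lit 0x3547c3d))) (.node 1 (.leaf (nat_lit 0x254a81f)) (.leaf (nat_lit 0x54e906))))) (.node 4 (.node 2 (.node 1 (.leaf (nat_lit 0x5526e6)) (.leaf (nat_lit 0x2552ebb))) (.node 1 (.leaf (nat_lit 0x2554821)) (.leaf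 (nat_lit 0x1559148)))) (.node 2 (.node 1 (.leaf (nat_lit 0x355b7c3)) (.leaf (nat_lit 0x55ce07))) (.node 1 (.leaf (nat_lit 0x55ec7b)) (.leaf (nat_lit 0x255f071))))))) (.node 16 (.node 8 (.node 4 (.node 2 (.node 1 (.leaf (nat_lit 0x355fd4f)) (.leaf (nat_lit 0x25616e5))) (.node 1 (.leaf (nat_lit 0x562c30)) (.leaf (nat_lit 0x2565577)))) (.node 2 (.node 1 (.leaf (nat_lit 0x25675fa)) (.leaf (nat_lit 0x25681f0))) (.node 1 (.leaf (nat_lit 0x35694cc)) (.leaf (nat_lit 0x256c916))))) (.node 4 (.node 2 (.node 1 (.leaf (nat_lit 0x56d032)) (.leaf (nat_lit 0x256ea64))) (.node 1 (.leaf (nat_lit 0x256f562)) (.leaf (nat_lit 0x25711df)))) (.node 2 (.node 1 (.leaf (nat_lit 0x5720cc)) (.leaf (nat_lit 0x2573080))) (.node 1 (.leaf (nat_lit 0x157476a)) (.leaf (nat_lit 0x2574221)))))) (.node 8 (.node 4 (.node 2 (.node 1 (.leaf (nat_lit 0x3576531)) (.leaf (nat_lit 0x157750c)))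 (.node 1 (.leaf (nat_lit 0x2577057)) (.leaf (nat_lit 0x2578d2c)))) (.node 2 (.node 1 (.leaf (nat_lit 0x3578665)) (.leaf (nat_lit 0x1579af8))) (.node 1 (.leaf (nat_lit 0x257a9b5)) (.leaf (nat_lit 0x357aeb9))))) (.node 4 (.node 2 (.node 1 (.leaf (nat_lit 0x157e03a)) (.leaf (nat_lit 0x257e836))) (.node 1 (.leaf (nat_lit 0x157fdaf)) (.leaf (nat_lit 0x257fa8c)))) (.node 2 (.node 1 (.leaf (nat_lit 0x3580d49)) (.leaf (nat_lit 0x2581997))) (.node 1 (.leaf (nat_lit 0x585ab0)) (.leaf (nat_lit 0x35858b9))))))))))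

/-- A part of `orbF`. -/
def orbF_8 : Tree := (.node 128 (.node 64 (.node 32 (.node 16 (.node 8 (.node 4 (.node 2 (.node 1 (.leaf (nat_lit 0x15867da)) (.leaf (nat_lit 0x587b24))) (.node 1 (.leaf (nat_lit 0x1589517)) (.leaf (nat_lit 0x358a5a3)))) (.node 2 (.node 1 (.leaf (nat_lit 0x258ccba)) (.leaf (nat_lit 0x2591270))) (.node 1 (.leaf (nat_lit 0x3591216)) (.leaf (nat_lit 0x593865))))) (.node 4 (.node 2 (.node 1 (.leaf (nat_lit 0x359521c)) (.leaf (nat_lit 0x35972eb))) (.node 1 (.leaf (nat_lit 0x2598552)) (.leaf (nat_lit 0x359832d)))) (.node 2 (.node 1 (.leaf (nat_lit 0x259a366)) (.leaf (nat_lit 0x259b7b6))) (.node 1 (.leaf (nat_lit 0x259d989)) (.leaf (nat_lit 0x159fd2f)))))) (.node 8 (.node 4 (.node 2 (.node 1 (.leaf (nat_lit 0x25a0173)) (.leaf (nat_lit 0x35a23f0))) (.node 1 (.leaf (nat_lit 0x15a4f64)) (.leaf (nat_lit 0x25a703b)))) (.node 2 (.node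 1 (.leaf (nat_lit 0x15a815f)) (.leaf (nat_lit 0x25a9bbb))) (.node 1 (.leaf (nat_lit 0x5aa639)) (.leaf (nat_lit 0x25aa9d9))))) (.node 4 (.node 2 (.node 1 (.leaf (nat_lit 0x35aabbc)) (.leaf (nat_lit 0x25ac374))) (.node 1 (.leaf (nat_lit 0x25ae1e8)) (.leaf (nat_lit 0x35af69a)))) (.node 2 (.node 1 (.leaf (nat_lit 0x5b0f21)) (.leaf (nat_lit 0x35b0990))) (.node 1 (.leaf (nat_lit 0x25b62fa)) (.leaf (nat_lit 0x5b7b00))))))) (.node 16 (.node 8 (.node 4 (.node 2 (.node 1 (.leaf (nat_lit 0x35b7b80)) (.leaf (nat_lit 0x15b899b))) (.node 1 (.leaf (nat_lit 0x5bc4d3)) (.leaf (nat_lit 0x35bc1e3)))) (.node 2 (.node 1 (.leaf (nat_lit 0x5c1b17)) (.leaf (nat_lit 0x35c1d6d))) (.node 1 (.leaf (nat_lit 0x25c3c20)) (.leaf (nat_lit 0x35c5a19))))) (.node 4 (.node 2 (.node 1 (.leaf (nat_lit 0x35c77e3)) (.leaf (nat_lit 0x5c8d07))) (.node 1 (.leaf (nat_lit 0x25c912b)) (.leaf (nat_lit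 0x35d1144)))) (.node 2 (.node 1 (.leaf (nat_lit 0x15d3ac8)) (.leaf (nat_lit 0x35d371c))) (.node 1 (.leaf (nat_lit 0x35d9078)) (.leaf (nat_lit 0x35df1b7)))))) (.node 8 (.node 4 (.node 2 (.node 1 (.leaf (nat_lit 0x15e4293)) (.leaf (nat_lit 0x25e5198))) (.node 1 (.leaf (nat_lit 0x35e6963)) (.leaf (nat_lit 0x25eaca2)))) (.node 2 (.node 1 (.leaf (nat_lit 0x35ea600)) (.leaf (nat_lit 0x5f0d8f))) (.node 1 (.leaf (nat_lit 0x35f0c92)) (.leaf (nat_lit 0x35f127f))))) (.node 4 (.node 2 (.node 1 (.leaf (nat_lit 0x25f213c)) (.leaf (nat_lit 0x25f67c0))) (.node 1 (.leaf (nat_lit 0x35f8ddd)) (.leaf (nat_lit 0x5fa75f)))) (.node 2 (.node 1 (.leaf (nat_lit 0x35fadb7)) (.leaf (nat_lit 0x35fb119))) (.node 1 (.leaf (nat_lit 0x5fc1eb)) (.leaf (nat_lit 0x35fcb96)))))))) (.node 32 (.node 16 (.node 8 (.node 4 (.node 2 (.node 1 (.leaf (nat_lit 0x25fd118)) (.leaf (nat_lit 0x15fe30a)))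 (.node 1 (.leaf (nat_lit 0x25fed14)) (.leaf (nat_lit 0x25fff07)))) (.node 2 (.node 1 (.leaf (nat_lit 0x35ffe70)) (.leaf (nat_lit 0x2602ad5))) (.node 1 (.leaf (nat_lit 0x3602396)) (.leaf (nat_lit 0x2603663))))) (.node 4 (.node 2 (.node 1 (.leaf (nat_lit 0x36036ec)) (.leaf (nat_lit 0x2605c80))) (.node 1 (.leaf (nat_lit 0x2608a76)) (.leaf (nat_lit 0x260959d)))) (.node 2 (.node 1 (.leaf (nat_lit 0x3609df0)) (.leaf (nat_lit 0x160a1f9))) (.node 1 (.leaf (nat_lit 0x260a0ac)) (.leaf (nat_lit 0x360f1f1)))))) (.node 8 (.node 4 (.node 2 (.node 1 (.leaf (nat_lit 0x2612069)) (.leaf (nat_lit 0x36129e6))) (.node 1 (.leaf (nat_lit 0x261398a)) (.leaf (nat_lit 0x61425e)))) (.node 2 (.node 1 (.leaf (nat_lit 0x16178e4)) (.leaf (nat_lit 0x2617849))) (.node 1 (.leaf (nat_lit 0x6185aa)) (.leaf (nat_lit 0x3618a9a))))) (.node 4 (.node 2 (.node 1 (.leaf (nat_lit 0x361990e))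 (.leaf (nat_lit 0x261a94f))) (.node 1 (.leaf (nat_lit 0x161e6ed)) (.leaf (nat_lit 0x161f52a)))) (.node 2 (.node 1 (.leaf (nat_lit 0x1620d2e)) (.leaf (nat_lit 0x3620c7a))) (.node 1 (.leaf (nat_lit 0x2622a04)) (.leaf (nat_lit 0x3622a90))))))) (.node 16 (.node 8 (.node 4 (.node 2 (.node 1 (.leaf (nat_lit 0x36268a1)) (.leaf (nat_lit 0x162a5a4))) (.node 1 (.leaf (nat_lit 0x362be99)) (.leaf (nat_lit 0x262d1fc)))) (.node 2 (.node 1 (.leaf (nat_lit 0x362f7a4)) (.leaf (nat_lit 0x1631697))) (.node 1 (.leaf (nat_lit 0x2631bc2)) (.leaf (nat_lit 0x3631d03))))) (.node 4 (.node 2 (.node 1 (.leaf (nat_lit 0x1632eae)) (.leaf (nat_lit 0x3632721))) (.node 1 (.leaf (nat_lit 0x6352f1)) (.leaf (nat_lit 0x637948)))) (.node 2 (.node 1 (.leaf (nat_lit 0x1638345)) (.leaf (nat_lit 0x363bdfa))) (.node 1 (.leaf (nat_lit 0x263cb0c)) (.leaf (nat_lit 0x363c229)))))) (.node 8 (.node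 4 (.node 2 (.node 1 (.leaf (nat_lit 0x363f4b2)) (.leaf (nat_lit 0x1642c0a))) (.node 1 (.leaf (nat_lit 0x26421dc)) (.leaf (nat_lit 0x1647183)))) (.node 2 (.node 1 (.leaf (nat_lit 0x264cc6f)) (.leaf (nat_lit 0x6544bb))) (.node 1 (.leaf (nat_lit 0x26549d5)) (.leaf (nat_lit 0x165bb16))))) (.node 4 (.node 2 (.node 1 (.leaf (nat_lit 0x365c85a)) (.leaf (nat_lit 0x365f45f))) (.node 1 (.leaf (nat_lit 0x16627c4)) (.leaf (nat_lit 0x1664261)))) (.node 2 (.node 1 (.leaf (nat_lit 0x166ac3c)) (.leaf (nat_lit 0x366db12))) (.node 1 (.leaf (nat_lit 0x266fe92)) (.leaf (nat_lit 0x267284d))))))))) (.node 64 (.node 32 (.node 16 (.node 8 (.node 4 (.node 2 (.node 1 (.leaf (nat_lit 0x26756f5)) (.leaf (nat_lit 0x26774fe))) (.node 1 (.leaf (nat_lit 0x67ac00)) (.leaf (nat_lit 0x2684aec)))) (.node 2 (.node 1 (.leaf (nat_lit 0x26865de)) (.leaf (nat_lit 0x3686e2a))) (.node 1 (.leaf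 (nat_lit 0x168b424)) (.leaf (nat_lit 0x6921cd))))) (.node 4 (.node 2 (.node 1 (.leaf (nat_lit 0x3695fd9)) (.leaf (nat_lit 0x3696e96))) (.node 1 (.leaf (nat_lit 0x6978ce)) (.leaf (nat_lit 0x3699bf3)))) (.node 2 (.node 1 (.leaf (nat_lit 0x169b7ea)) (.leaf (nat_lit 0x269b592))) (.node 1 (.leaf (nat_lit 0x69d77f)) (.leaf (nat_lit 0x269dd56)))))) (.node 8 (.node 4 (.node 2 (.node 1 (.leaf (nat_lit 0x69e209)) (.leaf (nat_lit 0x36a1030))) (.node 1 (.leaf (nat_lit 0x26a4950)) (.leaf (nat_lit 0x36a44ef)))) (.node 2 (.node 1 (.leaf (nat_lit 0x16a68d7)) (.leaf (nat_lit 0x36a6233))) (.node 1 (.leaf (nat_lit 0x36a880a)) (.leaf (nat_lit 0x6a9d83))))) (.node 4 (.node 2 (.node 1 (.leaf (nat_lit 0x16ae1cb)) (.leaf (nat_lit 0x36af80e))) (.node 1 (.leaf (nat_lit 0x26b0994)) (.leaf (nat_lit 0x36b3d42)))) (.node 2 (.node 1 (.leaf (nat_lit 0x26b4485)) (.leaf (nat_lit 0x36b629e)))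 (.node 1 (.leaf (nat_lit 0x26ba678)) (.leaf (nat_lit 0x36bc78e))))))) (.node 16 (.node 8 (.node 4 (.node 2 (.node 1 (.leaf (nat_lit 0x26c2da4)) (.leaf (nat_lit 0x36c32de))) (.node 1 (.leaf (nat_lit 0x6c48e5)) (.leaf (nat_lit 0x16cc538)))) (.node 2 (.node 1 (.leaf (nat_lit 0x26cce03)) (.leaf (nat_lit 0x36cd24e))) (.node 1 (.leaf (nat_lit 0x26d449a)) (.leaf (nat_lit 0x36d86f3))))) (.node 4 (.node 2 (.node 1 (.leaf (nat_lit 0x26d9795)) (.leaf (nat_lit 0x16dd4e9))) (.node 1 (.leaf (nat_lit 0x26e10d3)) (.leaf (nat_lit 0x26e8da1)))) (.node 2 (.node 1 (.leaf (nat_lit 0x36ea4b1)) (.leaf (nat_lit 0x16f5186))) (.node 1 (.leaf (nat_lit 0x16f8e8d)) (.leaf (nat_lit 0x26fa918)))))) (.node 8 (.node 4 (.node 2 (.node 1 (.leaf (nat_lit 0x36fa038)) (.leaf (nat_lit 0x26fdb3e))) (.node 1 (.leaf (nat_lit 0x16ff7e8)) (.leaf (nat_lit 0x1705a9d)))) (.node 2 (.node 1 (.leaf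 (nat_lit 0x2705c61)) (.leaf (nat_lit 0x2709a86))) (.node 1 (.leaf (nat_lit 0x270f5fe)) (.leaf (nat_lit 0x171385e))))) (.node 4 (.node 2 (.node 1 (.leaf (nat_lit 0x271929c)) (.leaf (nat_lit 0x71a211))) (.node 1 (.leaf (nat_lit 0x371a15a)) (.leaf (nat_lit 0x721858)))) (.node 2 (.node 1 (.leaf (nat_lit 0x37281d5)) (.leaf (nat_lit 0x3729a1b))) (.node 1 (.leaf (nat_lit 0x172c3fd)) (.leaf (nat_lit 0x72d924)))))))) (.node 32 (.node 16 (.node 8 (.node 4 (.node 2 (.node 1 (.leaf (nat_lit 0x272da8a)) (.leaf (nat_lit 0x372ddf2))) (.node 1 (.leaf (nat_lit 0x37303db)) (.leaf (nat_lit 0x27316b3)))) (.node 2 (.node 1 (.leaf (nat_lit 0x73367a)) (.leaf (nat_lit 0x37339fe))) (.node 1 (.leaf (nat_lit 0x173d6f8)) (.leaf (nat_lit 0x173ef5d))))) (.node 4 (.node 2 (.node 1 (.leaf (nat_lit 0x374427a)) (.leaf (nat_lit 0x27461a6))) (.node 1 (.leaf (nat_lit 0x27499b1)) (.leaf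 (nat_lit 0x374c748)))) (.node 2 (.node 1 (.leaf (nat_lit 0x174f212)) (.leaf (nat_lit 0x3752189))) (.node 1 (.leaf (nat_lit 0x175f937)) (.leaf (nat_lit 0x761a15)))))) (.node 8 (.node 4 (.node 2 (.node 1 (.leaf (nat_lit 0x3763701)) (.leaf (nat_lit 0x37650a2))) (.node 1 (.leaf (nat_lit 0x27670e7)) (.leaf (nat_lit 0x176a501)))) (.node 2 (.node 1 (.leaf (nat_lit 0x76e834)) (.leaf (nat_lit 0x1770e37))) (.node 1 (.leaf (nat_lit 0x377166c)) (.leaf (nat_lit 0x7755cc))))) (.node 4 (.node 2 (.node 1 (.leaf (nat_lit 0x777998)) (.leaf (nat_lit 0x277979f))) (.node 1 (.leaf (nat_lit 0x377ca32)) (.leaf (nat_lit 0x3782f23)))) (.node 2 (.node 1 (.leaf (nat_lit 0x2788054)) (.leaf (nat_lit 0x178babc))) (.node 1 (.leaf (nat_lit 0x278c3ba)) (.leaf (nat_lit 0x378c194))))))) (.node 16 (.node 8 (.node 4 (.node 2 (.node 1 (.leaf (nat_lit 0x278e5a0)) (.leaf (nat_lit 0x3793e53)))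 (.node 1 (.leaf (nat_lit 0x7a467d)) (.leaf (nat_lit 0x27ac3f8)))) (.node 2 (.node 1 (.leaf (nat_lit 0x27bc0e6)) (.leaf (nat_lit 0x37bd11d))) (.node 1 (.leaf (nat_lit 0x17c5d0b)) (.leaf (nat_lit 0x17c7add))))) (.node 4 (.node 2 (.node 1 (.leaf (nat_lit 0x37c79e0)) (.leaf (nat_lit 0x7d4c41))) (.node 1 (.leaf (nat_lit 0x37df2ca)) (.leaf (nat_lit 0x27e48ec)))) (.node 2 (.node 1 (.leaf (nat_lit 0x37e5939)) (.leaf (nat_lit 0x27e67e4))) (.node 1 (.leaf (nat_lit 0x37e7680)) (.leaf (nat_lit 0x27ee5af)))))) (.node 8 (.node 4 (.node 2 (.node 1 (.leaf (nat_lit 0x37f3d54)) (.leaf (nat_lit 0x37f551a))) (.node 1 (.leaf (nat_lit 0x17f7c47)) (.leaf (nat_lit 0x27fab2c)))) (.node 2 (.node 1 (.leaf (nat_lit 0x7fb6a3)) (.leaf (nat_lit 0x27fbb3c))) (.node 1 (.leaf (nat_lit 0x2803c93)) (.leaf (nat_lit 0x80573e))))) (.node 4 (.node 2 (.node 1 (.leaf (nat_lit 0x1808cbf))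 (.leaf (nat_lit 0x381240f))) (.node 1 (.leaf (nat_lit 0x383f47a)) (.leaf (nat_lit 0x38933c4)))) (.node 2 (.node 1 (.leaf (nat_lit 0x389b5f2)) (.leaf (nat_lit 0x8aa964))) (.node 1 (.leaf (nat_lit 0x38d3799)) (.leaf (nat_lit 0x28f36b5))))))))))

/-- The second suborbit. -/
def orbF : Tree := (.node 1024 (.node 512 (.node 256 orbF_0 orbF_1) (.node 256 orbF_2 orbF_3)) (.node 512 (.node 256 orbF_4 orbF_5) (.node 256 orbF_6 (.node 256 orbF_7 orbF_8))))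

/-- A part of `lev0`. -/
def lev0_0 : Tree := (.node 128 (.node 64 (.node 32 (.node 16 (.node 8 (.node 4 (.node 2 (.node 1 (.leaf (nat_lit 0xd1f)) (.leaf (nat_lit 0x1000bf4))) (.node 1 (.leaf (nat_lit 0x1c98)) (.leaf (nat_lit 0x3001b1c)))) (.node 2 (.node 1 (.leaf (nat_lit 0x300216f)) (.leaf (nat_lit 0x10038e1))) (.node 1 (.leaf (nat_lit 0x2003c51)) (.leaf (nat_lit 0x300314c))))) (.node 4 (.node 2 (.node 1 (.leaf (nat_lit 0x10040a7)) (.leaf (nat_lit 0x2004732))) (.node 1 (.leaf (nat_lit 0x3004fa3)) (.leaf (nat_lit 0x5d38)))) (.node 2 (.node 1 (.leaf (nat_lit 0x2005404)) (.leaf (nat_lit 0x3005d9b))) (.node 1 (.leaf (nat_lit 0x1007534)) (.leaf (nat_lit 0x2007654)))))) (.node 8 (.node 4 (.node 2 (.node 1 (.leaf (nat_lit 0x8c1b)) (.leaf (nat_lit 0x200806b))) (.node 1 (.leaf (nat_lit 0x3008f08)) (.leaf (nat_lit 0x100ac43)))) (.node 2 (.node 1 (.leaf (nat_lit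 0x200a475)) (.leaf (nat_lit 0x300b4bf))) (.node 1 (.leaf (nat_lit 0xcec1)) (.leaf (nat_lit 0x300c503))))) (.node 4 (.node 2 (.node 1 (.leaf (nat_lit 0x100d7fa)) (.leaf (nat_lit 0x200d4cb))) (.node 1 (.leaf (nat_lit 0x300d01c)) (.leaf (nat_lit 0xe84e)))) (.node 2 (.node 1 (.leaf (nat_lit 0x200e6e0)) (.leaf (nat_lit 0x300e669))) (.node 1 (.leaf (nat_lit 0x3010781)) (.leaf (nat_lit 0x112c6))))))) (.node 16 (.node 8 (.node 4 (.node 2 (.node 1 (.leaf (nat_lit 0x3011ac6)) (.leaf (nat_lit 0x10122ec))) (.node 1 (.leaf (nat_lit 0x2012b50)) (.leaf (nat_lit 0x3012491)))) (.node 2 (.node 1 (.leaf (nat_lit 0x13213)) (.leaf (nat_lit 0x2013d59))) (.node 1 (.leaf (nat_lit 0x30131a4)) (.leaf (nat_lit 0x1015b60))))) (.node 4 (.node 2 (.node 1 (.leaf (nat_lit 0x2015c2c)) (.leaf (nat_lit 0x30158ca))) (.node 1 (.leaf (nat_lit 0x301624f)) (.leaf (nat_lit 0x1017e49))))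 (.node 2 (.node 1 (.leaf (nat_lit 0x20176ba)) (.leaf (nat_lit 0x30170e3))) (.node 1 (.leaf (nat_lit 0x18ca4)) (.leaf (nat_lit 0x20186b9)))))) (.node 8 (.node 4 (.node 2 (.node 1 (.leaf (nat_lit 0x30188d5)) (.leaf (nat_lit 0x19741))) (.node 1 (.leaf (nat_lit 0x101a65c)) (.leaf (nat_lit 0x201a522)))) (.node 2 (.node 1 (.leaf (nat_lit 0x301b91f)) (.leaf (nat_lit 0x1c77e))) (.node 1 (.leaf (nat_lit 0x301ce87)) (.leaf (nat_lit 0x101d66d))))) (.node 4 (.node 2 (.node 1 (.leaf (nat_lit 0x201d21a)) (.leaf (nat_lit 0x301da73))) (.node 1 (.leaf (nat_lit 0x101e457)) (.leaf (nat_lit 0x201e2a6)))) (.node 2 (.node 1 (.leaf (nat_lit 0x301eda9)) (.leaf (nat_lit 0x301fa36))) (.node 1 (.leaf (nat_lit 0x10206a9)) (.leaf (nat_lit 0x2020eb0)))))))) (.node 32 (.node 16 (.node 8 (.node 4 (.node 2 (.node 1 (.leaf (nat_lit 0x30209f6)) (.leaf (nat_lit 0x2135e))) (.node 1 (.leaf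 (nat_lit 0x2021b48)) (.leaf (nat_lit 0x3021909)))) (.node 2 (.node 1 (.leaf (nat_lit 0x225e7)) (.leaf (nat_lit 0x1023736))) (.node 1 (.leaf (nat_lit 0x202359c)) (.leaf (nat_lit 0x3024958))))) (.node 4 (.node 2 (.node 1 (.leaf (nat_lit 0x2595f)) (.leaf (nat_lit 0x30255bf))) (.node 1 (.leaf (nat_lit 0x1026ece)) (.leaf (nat_lit 0x2026ed6)))) (.node 2 (.node 1 (.leaf (nat_lit 0x302671d)) (.leaf (nat_lit 0x272f3))) (.node 1 (.leaf (nat_lit 0x2027792)) (.leaf (nat_lit 0x3027879)))))) (.node 8 (.node 4 (.node 2 (.node 1 (.leaf (nat_lit 0x1029862)) (.leaf (nat_lit 0x2029ea6))) (.node 1 (.leaf (nat_lit 0x102ac0f)) (.leaf (nat_lit 0x202ae84)))) (.node 2 (.node 1 (.leaf (nat_lit 0x302a149)) (.leaf (nat_lit 0x2bf9c))) (.node 1 (.leaf (nat_lit 0x202bfa1)) (.leaf (nat_lit 0x302b519))))) (.node 4 (.node 2 (.node 1 (.leaf (nat_lit 0x102d770)) (.leaf (nat_lit 0x202d1ec)))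 (.node 1 (.leaf (nat_lit 0x202e40d)) (.leaf (nat_lit 0x302e01b)))) (.node 2 (.node 1 (.leaf (nat_lit 0x2fa07)) (.leaf (nat_lit 0x302f1b9))) (.node 1 (.leaf (nat_lit 0x10304be)) (.leaf (nat_lit 0x2030e45))))))) (.node 16 (.node 8 (.node 4 (.node 2 (.node 1 (.leaf (nat_lit 0x3030b26)) (.leaf (nat_lit 0x10311af))) (.node 1 (.leaf (nat_lit 0x2031da8)) (.leaf (nat_lit 0x323ea)))) (.node 2 (.node 1 (.leaf (nat_lit 0x2032c0c)) (.leaf (nat_lit 0x3032f7c))) (.node 1 (.leaf (nat_lit 0x1034753)) (.leaf (nat_lit 0x2034251))))) (.node 4 (.node 2 (.node 1 (.leaf (nat_lit 0x3034fa2)) (.leaf (nat_lit 0x3035323))) (.node 1 (.leaf (nat_lit 0x1036f9b)) (.leaf (nat_lit 0x2036947)))) (.node 2 (.node 1 (.leaf (nat_lit 0x303655d)) (.leaf (nat_lit 0x37727))) (.node 1 (.leaf (nat_lit 0x2037436)) (.leaf (nat_lit 0x3037f49)))))) (.node 8 (.node 4 (.node 2 (.node 1 (.leaf (nat_lit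 0x3848c)) (.leaf (nat_lit 0x1039819))) (.node 1 (.leaf (nat_lit 0x20394ae)) (.leaf (nat_lit 0x3aa4e)))) (.node 2 (.node 1 (.leaf (nat_lit 0x203a54a)) (.leaf (nat_lit 0x303ad0f))) (.node 1 (.leaf (nat_lit 0x103c647)) (.leaf (nat_lit 0x203c752))))) (.node 4 (.node 2 (.node 1 (.leaf (nat_lit 0x103da0b)) (.leaf (nat_lit 0x303dd20))) (.node 1 (.leaf (nat_lit 0x3e9ca)) (.leaf (nat_lit 0x203e827)))) (.node 2 (.node 1 (.leaf (nat_lit 0x303e9c6)) (.leaf (nat_lit 0x1040ed9))) (.node 1 (.leaf (nat_lit 0x2040319)) (.leaf (nat_lit 0x2041d63))))))))) (.node 64 (.node 32 (.node 16 (.node 8 (.node 4 (.node 2 (.node 1 (.leaf (nat_lit 0x3041529)) (.leaf (nat_lit 0x4210e))) (.node 1 (.leaf (nat_lit 0x3042344)) (.leaf (nat_lit 0x1043945)))) (.node 2 (.node 1 (.leaf (nat_lit 0x2043d12)) (.leaf (nat_lit 0x3043cbe))) (.node 1 (.leaf (nat_lit 0x104468c)) (.leaf (nat_lit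 0x20448cb))))) (.node 4 (.node 2 (.node 1 (.leaf (nat_lit 0x454c5)) (.leaf (nat_lit 0x2045ad7))) (.node 1 (.leaf (nat_lit 0x304574e)) (.leaf (nat_lit 0x1047b25)))) (.node 2 (.node 1 (.leaf (nat_lit 0x2047451)) (.leaf (nat_lit 0x304700c))) (.node 1 (.leaf (nat_lit 0x304837c)) (.leaf (nat_lit 0x10493d8)))))) (.node 8 (.node 4 (.node 2 (.node 1 (.leaf (nat_lit 0x2049d72)) (.leaf (nat_lit 0x3049c84))) (.node 1 (.leaf (nat_lit 0x4a57f)) (.leaf (nat_lit 0x204af61)))) (.node 2 (.node 1 (.leaf (nat_lit 0x304ac28)) (.leaf (nat_lit 0x104ca52))) (.node 1 (.leaf (nat_lit 0x204c405)) (.leaf (nat_lit 0x304d515))))) (.node 4 (.node 2 (.node 1 (.leaf (nat_lit 0x4eaf4)) (.leaf (nat_lit 0x304ebe1))) (.node 1 (.leaf (nat_lit 0x104fafe)) (.leaf (nat_lit 0x204f234)))) (.node 2 (.node 1 (.leaf (nat_lit 0x304f19c)) (.leaf (nat_lit 0x50b85))) (.node 1 (.leaf (nat_lit 0x2050ef9))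 (.leaf (nat_lit 0x30509ba))))))) (.node 16 (.node 8 (.node 4 (.node 2 (.node 1 (.leaf (nat_lit 0x205270b)) (.leaf (nat_lit 0x305212c))) (.node 1 (.leaf (nat_lit 0x10542b4)) (.leaf (nat_lit 0x20548f8)))) (.node 2 (.node 1 (.leaf (nat_lit 0x20550cf)) (.leaf (nat_lit 0x3055b11))) (.node 1 (.leaf (nat_lit 0x563d9)) (.leaf (nat_lit 0x3056944))))) (.node 4 (.node 2 (.node 1 (.leaf (nat_lit 0x1057307)) (.leaf (nat_lit 0x2057dcc))) (.node 1 (.leaf (nat_lit 0x3057a47)) (.leaf (nat_lit 0x58117)))) (.node 2 (.node 1 (.leaf (nat_lit 0x205834a)) (.leaf (nat_lit 0x3058c0b))) (.node 1 (.leaf (nat_lit 0x305a43a)) (.leaf (nat_lit 0x105b474)))))) (.node 8 (.node 4 (.node 2 (.node 1 (.leaf (nat_lit 0x205bfc4)) (.leaf (nat_lit 0x305b25f))) (.node 1 (.leaf (nat_lit 0x105c008)) (.leaf (nat_lit 0x305cf98)))) (.node 2 (.node 1 (.leaf (nat_lit 0x105da30)) (.leaf (nat_lit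 0x205db21))) (.node 1 (.leaf (nat_lit 0x305d6c4)) (.leaf (nat_lit 0x5e542))))) (.node 4 (.node 2 (.node 1 (.leaf (nat_lit 0x205e762)) (.leaf (nat_lit 0x305eee0))) (.node 1 (.leaf (nat_lit 0x5f9b3)) (.leaf (nat_lit 0x1060cc6)))) (.node 2 (.node 1 (.leaf (nat_lit 0x2060ad3)) (.leaf (nat_lit 0x2061a6c))) (.node 1 (.leaf (nat_lit 0x3061b5b)) (.leaf (nat_lit 0x2062e2f)))))))) (.node 32 (.node 16 (.node 8 (.node 4 (.node 2 (.node 1 (.leaf (nat_lit 0x3063e57)) (.leaf (nat_lit 0x648d4))) (.node 1 (.leaf (nat_lit 0x30644da)) (.leaf (nat_lit 0x1065196)))) (.node 2 (.node 1 (.leaf (nat_lit 0x206542e)) (.leaf (nat_lit 0x3065ef4))) (.node 1 (.leaf (nat_lit 0x2066bae)) (.leaf (nat_lit 0x3066466))))) (.node 4 (.node 2 (.node 1 (.leaf (nat_lit 0x10683d5)) (.leaf (nat_lit 0x2068031))) (.node 1 (.leaf (nat_lit 0x1069011)) (.leaf (nat_lit 0x6a776)))) (.node 2 (.node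 1 (.leaf (nat_lit 0x206aeb7)) (.leaf (nat_lit 0x306abd8))) (.node 1 (.leaf (nat_lit 0x106ca77)) (.leaf (nat_lit 0x206c764)))))) (.node 8 (.node 4 (.node 2 (.node 1 (.leaf (nat_lit 0x206d4e0)) (.leaf (nat_lit 0x306da3c))) (.node 1 (.leaf (nat_lit 0x6e42d)) (.leaf (nat_lit 0x306e89b)))) (.node 2 (.node 1 (.leaf (nat_lit 0x106fceb)) (.leaf (nat_lit 0x206fca6))) (.node 1 (.leaf (nat_lit 0x306fdd2)) (.leaf (nat_lit 0x10704dd))))) (.node 4 (.node 2 (.node 1 (.leaf (nat_lit 0x715b5)) (.leaf (nat_lit 0x2071a4b))) (.node 1 (.leaf (nat_lit 0x307101d)) (.leaf (nat_lit 0x3073825)))) (.node 2 (.node 1 (.leaf (nat_lit 0x74fc1)) (.leaf (nat_lit 0x3074197))) (.node 1 (.leaf (nat_lit 0x1075965)) (.leaf (nat_lit 0x2075bc8))))))) (.node 16 (.node 8 (.node 4 (.node 2 (.node 1 (.leaf (nat_lit 0x3075a95)) (.leaf (nat_lit 0x76756))) (.node 1 (.leaf (nat_lit 0x20763a7))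 (.leaf (nat_lit 0x30763ec)))) (.node 2 (.node 1 (.leaf (nat_lit 0x30787c7)) (.leaf (nat_lit 0x10799c9))) (.node 1 (.leaf (nat_lit 0x20793ac)) (.leaf (nat_lit 0x207a352))))) (.node 4 (.node 2 (.node 1 (.leaf (nat_lit 0x307ab49)) (.leaf (nat_lit 0x7b4ac))) (.node 1 (.leaf (nat_lit 0x307b831)) (.leaf (nat_lit 0x107c573)))) (.node 2 (.node 1 (.leaf (nat_lit 0x207ce68)) (.leaf (nat_lit 0x307c9ae))) (.node 1 (.leaf (nat_lit 0x7d486)) (.leaf (nat_lit 0x207d5c1)))))) (.node 8 (.node 4 (.node 2 (.node 1 (.leaf (nat_lit 0x307d411)) (.leaf (nat_lit 0x307f129))) (.node 1 (.leaf (nat_lit 0x1080a24)) (.leaf (nat_lit 0x20804f6)))) (.node 2 (.node 1 (.leaf (nat_lit 0x3080b3a)) (.leaf (nat_lit 0x10810d1))) (.node 1 (.leaf (nat_lit 0x308177c)) (.leaf (nat_lit 0x108219a))))) (.node 4 (.node 2 (.node 1 (.leaf (nat_lit 0x2082785)) (.leaf (nat_lit 0x3082f68))) (.node 1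 (.leaf (nat_lit 0x83ae1)) (.leaf (nat_lit 0x20834d7)))) (.node 2 (.node 1 (.leaf (nat_lit 0x30836db)) (.leaf (nat_lit 0x84fd3))) (.node 1 (.leaf (nat_lit 0x1085b1e)) (.leaf (nat_lit 0x2085c25))))))))))

/-- A part of `lev0`. -/
def lev0_1 : Tree := (.node 128 (.node 64 (.node 32 (.node 16 (.node 8 (.node 4 (.node 2 (.node 1 (.leaf (nat_lit 0x2086710)) (.leaf (nat_lit 0x3086806))) (.node 1 (.leaf (nat_lit 0x2087934)) (.leaf (nat_lit 0x30883a1)))) (.node 2 (.node 1 (.leaf (nat_lit 0x890ae)) (.leaf (nat_lit 0x3089afd))) (.node 1 (.leaf (nat_lit 0x108a11b)) (.leaf (nat_lit 0x208a322))))) (.node 4 (.node 2 (.node 1 (.leaf (nat_lit 0x308a80d)) (.leaf (nat_lit 0x208b33c))) (.node 1 (.leaf (nat_lit 0x308b746)) (.leaf (nat_lit 0x108df0c)))) (.node 2 (.node 1 (.leaf (nat_lit 0x208dc18)) (.leaf (nat_lit 0x108e0ea))) (.node 1 (.leaf (nat_lit 0x8fa6f)) (.leaf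 (nat_lit 0x208f2b7)))))) (.node 8 (.node 4 (.node 2 (.node 1 (.leaf (nat_lit 0x308f709)) (.leaf (nat_lit 0x1091e69))) (.node 1 (.leaf (nat_lit 0x2091ec3)) (.leaf (nat_lit 0x2092817)))) (.node 2 (.node 1 (.leaf (nat_lit 0x3092bb0)) (.leaf (nat_lit 0x937d9))) (.node 1 (.leaf (nat_lit 0x3093e6e)) (.leaf (nat_lit 0x1094bc9))))) (.node 4 (.node 2 (.node 1 (.leaf (nat_lit 0x2094ad4)) (.leaf (nat_lit 0x3094ea5))) (.node 1 (.leaf (nat_lit 0x95f7f)) (.leaf (nat_lit 0x209578a)))) (.node 2 (.node 1 (.leaf (nat_lit 0x3095982)) (.leaf (nat_lit 0x1097ef5))) (.node 1 (.leaf (nat_lit 0x2097690)) (.leaf (nat_lit 0x3097c94))))))) (.node 16 (.node 8 (.node 4 (.node 2 (.node 1 (.leaf (nat_lit 0x3098880)) (.leaf (nat_lit 0x1099ae5))) (.node 1 (.leaf (nat_lit 0x2099c6c)) (.leaf (nat_lit 0x3099971)))) (.node 2 (.node 1 (.leaf (nat_lit 0x9a36b)) (.leaf (nat_lit 0x209a4b8)))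 (.node 1 (.leaf (nat_lit 0x309ab5a)) (.leaf (nat_lit 0x9bba4))))) (.node 4 (.node 2 (.node 1 (.leaf (nat_lit 0x109c465)) (.leaf (nat_lit 0x209c2c3))) (.node 1 (.leaf (nat_lit 0x209d3fb)) (.leaf (nat_lit 0x309dbdb)))) (.node 2 (.node 1 (.leaf (nat_lit 0x9eea4)) (.leaf (nat_lit 0x309ead8))) (.node 1 (.leaf (nat_lit 0x109fb30)) (.leaf (nat_lit 0x209f78c)))))) (.node 8 (.node 4 (.node 2 (.node 1 (.leaf (nat_lit 0x309fe04)) (.leaf (nat_lit 0xa0bc5))) (.node 1 (.leaf (nat_lit 0x30a0ab3)) (.leaf (nat_lit 0x10a1e2e)))) (.node 2 (.node 1 (.leaf (nat_lit 0x20a1c33)) (.leaf (nat_lit 0x30a1712))) (.node 1 (.leaf (nat_lit 0x20a2ebc)) (.leaf (nat_lit 0x30a2230))))) (.node 4 (.node 2 (.node 1 (.leaf (nat_lit 0x30a4d29)) (.leaf (nat_lit 0x10a5ce3))) (.node 1 (.leaf (nat_lit 0x20a57d0)) (.leaf (nat_lit 0x30a5c8f)))) (.node 2 (.node 1 (.leaf (nat_lit 0x20a6fd2)) (.leaf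 (nat_lit 0x30a665d))) (.node 1 (.leaf (nat_lit 0x10a7c7d)) (.leaf (nat_lit 0x20a77d1)))))))) (.node 32 (.node 16 (.node 8 (.node 4 (.node 2 (.node 1 (.leaf (nat_lit 0x30a7604)) (.leaf (nat_lit 0xa82be))) (.node 1 (.leaf (nat_lit 0x20a8b31)) (.leaf (nat_lit 0xa9124)))) (.node 2 (.node 1 (.leaf (nat_lit 0x10aa8c0)) (.leaf (nat_lit 0x20aaeb5))) (.node 1 (.leaf (nat_lit 0x30ab613)) (.leaf (nat_lit 0xacf9a))))) (.node 4 (.node 2 (.node 1 (.leaf (nat_lit 0x30acb8f)) (.leaf (nat_lit 0x10ad6d5))) (.node 1 (.leaf (nat_lit 0x20ad363)) (.leaf (nat_lit 0x30ad7b3)))) (.node 2 (.node 1 (.leaf (nat_lit 0x10aef97)) (.leaf (nat_lit 0x20aeb83))) (.node 1 (.leaf (nat_lit 0x30ae62a)) (.leaf (nat_lit 0xafa37)))))) (.node 8 (.node 4 (.node 2 (.node 1 (.leaf (nat_lit 0x20afebd)) (.leaf (nat_lit 0x30afa46))) (.node 1 (.leaf (nat_lit 0xb091a)) (.leaf (nat_lit 0x10b1a02))))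 (.node 2 (.node 1 (.leaf (nat_lit 0x20b1139)) (.leaf (nat_lit 0x30b2232))) (.node 1 (.leaf (nat_lit 0x10b326e)) (.leaf (nat_lit 0x20b3914))))) (.node 4 (.node 2 (.node 1 (.leaf (nat_lit 0x30b3037)) (.leaf (nat_lit 0xb400e))) (.node 1 (.leaf (nat_lit 0x20b4006)) (.leaf (nat_lit 0x30b460f)))) (.node 2 (.node 1 (.leaf (nat_lit 0x10b6f95)) (.leaf (nat_lit 0x20b68f7))) (.node 1 (.leaf (nat_lit 0x20b72ad)) (.leaf (nat_lit 0x30b71c0))))))) (.node 16 (.node 8 (.node 4 (.node 2 (.node 1 (.leaf (nat_lit 0xb8fa0)) (.leaf (nat_lit 0x30b87bc))) (.node 1 (.leaf (nat_lit 0x10b93b5)) (.leaf (nat_lit 0x20b9e13)))) (.node 2 (.node 1 (.leaf (nat_lit 0x30b9a70)) (.leaf (nat_lit 0x10ba942))) (.node 1 (.leaf (nat_lit 0x20ba5ab)) (.leaf (nat_lit 0xbb425))))) (.node 4 (.node 2 (.node 1 (.leaf (nat_lit 0x20bb130)) (.leaf (nat_lit 0x30bb870))) (.node 1 (.leaf (nat_lit 0xbccaa))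 (.leaf (nat_lit 0xbd278)))) (.node 2 (.node 1 (.leaf (nat_lit 0x20bd24d)) (.leaf (nat_lit 0x30bdb75))) (.node 1 (.leaf (nat_lit 0x10be0fd)) (.leaf (nat_lit 0x20be350)))))) (.node 8 (.node 4 (.node 2 (.node 1 (.leaf (nat_lit 0x30bebba)) (.leaf (nat_lit 0x10c066b))) (.node 1 (.leaf (nat_lit 0x20c0112)) (.leaf (nat_lit 0x30c08d1)))) (.node 2 (.node 1 (.leaf (nat_lit 0x20c1309)) (.leaf (nat_lit 0x30c1070))) (.node 1 (.leaf (nat_lit 0x10c2715)) (.leaf (nat_lit 0x20c2a1f))))) (.node 4 (.node 2 (.node 1 (.leaf (nat_lit 0x30c2833)) (.leaf (nat_lit 0x20c3566))) (.node 1 (.leaf (nat_lit 0x30c35b2)) (.leaf (nat_lit 0xc4692)))) (.node 2 (.node 1 (.leaf (nat_lit 0x10c5523)) (.leaf (nat_lit 0x20c50c6))) (.node 1 (.leaf (nat_lit 0xc6f1b)) (.leaf (nat_lit 0x30c6c71))))))))) (.node 64 (.node 32 (.node 16 (.node 8 (.node 4 (.node 2 (.node 1 (.leaf (nat_lit 0x10c7147))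 (.leaf (nat_lit 0x20c7456))) (.node 1 (.leaf (nat_lit 0x30c7a03)) (.leaf (nat_lit 0xc8f40)))) (.node 2 (.node 1 (.leaf (nat_lit 0x20c8442)) (.leaf (nat_lit 0x30c863c))) (.node 1 (.leaf (nat_lit 0x30ca387)) (.leaf (nat_lit 0x30cb61a))))) (.node 4 (.node 2 (.node 1 (.leaf (nat_lit 0xcc6df)) (.leaf (nat_lit 0x30ccfa7))) (.node 1 (.leaf (nat_lit 0x10cd053)) (.leaf (nat_lit 0x20cd00b)))) (.node 2 (.node 1 (.leaf (nat_lit 0x30cde55)) (.leaf (nat_lit 0xce3a4))) (.node 1 (.leaf (nat_lit 0x20cef5b)) (.leaf (nat_lit 0x30ce953)))))) (.node 8 (.node 4 (.node 2 (.node 1 (.leaf (nat_lit 0x30d0624)) (.leaf (nat_lit 0x10d1402))) (.node 1 (.leaf (nat_lit 0x20d188d)) (.leaf (nat_lit 0x30d119f)))) (.node 2 (.node 1 (.leaf (nat_lit 0x30d2f14)) (.leaf (nat_lit 0x10d3441))) (.node 1 (.leaf (nat_lit 0x20d3875)) (.leaf (nat_lit 0x30d368a))))) (.node 4 (.node 2 (.node 1 (.leaf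 (nat_lit 0xd41d7)) (.leaf (nat_lit 0x20d4199))) (.node 1 (.leaf (nat_lit 0x30d404b)) (.leaf (nat_lit 0xd54d5)))) (.node 2 (.node 1 (.leaf (nat_lit 0x10d6ce2)) (.leaf (nat_lit 0x20d681c))) (.node 1 (.leaf (nat_lit 0x30d70d2)) (.leaf (nat_lit 0x20d8a53))))))) (.node 16 (.node 8 (.node 4 (.node 2 (.node 1 (.leaf (nat_lit 0x30d83a5)) (.leaf (nat_lit 0x30d9b54))) (.node 1 (.leaf (nat_lit 0x10da2b6)) (.leaf (nat_lit 0x20dacc2)))) (.node 2 (.node 1 (.leaf (nat_lit 0x30daacc)) (.leaf (nat_lit 0x10db95b))) (.node 1 (.leaf (nat_lit 0x20db588)) (.leaf (nat_lit 0x30db5ac))))) (.node 4 (.node 2 (.node 1 (.leaf (nat_lit 0x30dca48)) (.leaf (nat_lit 0x10dd164))) (.node 1 (.leaf (nat_lit 0x20ddbd2)) (.leaf (nat_lit 0x30dd377)))) (.node 2 (.node 1 (.leaf (nat_lit 0xdea7a)) (.leaf (nat_lit 0x20deb10))) (.node 1 (.leaf (nat_lit 0x30decbb)) (.leaf (nat_lit 0xdf928))))))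 (.node 8 (.node 4 (.node 2 (.node 1 (.leaf (nat_lit 0x10e0f09)) (.leaf (nat_lit 0x20e0a58))) (.node 1 (.leaf (nat_lit 0x20e14e1)) (.leaf (nat_lit 0x30e14ba)))) (.node 2 (.node 1 (.leaf (nat_lit 0xe2db3)) (.leaf (nat_lit 0x30e23e4))) (.node 1 (.leaf (nat_lit 0x10e3191)) (.leaf (nat_lit 0x20e3a0a))))) (.node 4 (.node 2 (.node 1 (.leaf (nat_lit 0x30e3737)) (.leaf (nat_lit 0x10e471e))) (.node 1 (.leaf (nat_lit 0x20e41a1)) (.leaf (nat_lit 0x30e48fb)))) (.node 2 (.node 1 (.leaf (nat_lit 0x20e51e9)) (.leaf (nat_lit 0x30e56af))) (.node 1 (.leaf (nat_lit 0x30e7ab2)) (.leaf (nat_lit 0x10e840c)))))))) (.node 32 (.node 16 (.node 8 (.node 4 (.node 2 (.node 1 (.leaf (nat_lit 0x20e8638)) (.leaf (nat_lit 0x30e89f1))) (.node 1 (.leaf (nat_lit 0x30e953e)) (.leaf (nat_lit 0x10ea708)))) (.node 2 (.node 1 (.leaf (nat_lit 0x20eacb3)) (.leaf (nat_lit 0x30ea759))) (.node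 1 (.leaf (nat_lit 0xebefa)) (.leaf (nat_lit 0x20ebcc5))))) (.node 4 (.node 2 (.node 1 (.leaf (nat_lit 0x30eb4ce)) (.leaf (nat_lit 0xec8f3))) (.node 1 (.leaf (nat_lit 0x10ed368)) (.leaf (nat_lit 0x20ed38c)))) (.node 2 (.node 1 (.leaf (nat_lit 0x30eef94)) (.leaf (nat_lit 0xef02b))) (.node 1 (.leaf (nat_lit 0x30ef79a)) (.leaf (nat_lit 0x10f083a)))))) (.node 8 (.node 4 (.node 2 (.node 1 (.leaf (nat_lit 0x20f0c0e)) (.leaf (nat_lit 0x30f09ab))) (.node 1 (.leaf (nat_lit 0x10f17bd)) (.leaf (nat_lit 0x20f1c09)))) (.node 2 (.node 1 (.leaf (nat_lit 0x30f1ac4)) (.leaf (nat_lit 0xf25ca))) (.node 1 (.leaf (nat_lit 0x20f2a9b)) (.leaf (nat_lit 0x30f228f))))) (.node 4 (.node 2 (.node 1 (.leaf (nat_lit 0x10f4fcf)) (.leaf (nat_lit 0x20f4348))) (.node 1 (.leaf (nat_lit 0x30f55a8)) (.leaf (nat_lit 0x10f6594)))) (.node 2 (.node 1 (.leaf (nat_lit 0x20f673c)) (.leaf (nat_lit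 0x30f69f7))) (.node 1 (.leaf (nat_lit 0xf7f9d)) (.leaf (nat_lit 0x20f7fa9))))))) (.node 16 (.node 8 (.node 4 (.node 2 (.node 1 (.leaf (nat_lit 0x30f734b)) (.leaf (nat_lit 0x10f96c9))) (.node 1 (.leaf (nat_lit 0x20f9786)) (.leaf (nat_lit 0x20faf2a)))) (.node 2 (.node 1 (.leaf (nat_lit 0x30fa304)) (.leaf (nat_lit 0xfb361))) (.node 1 (.leaf (nat_lit 0x30fb31b)) (.leaf (nat_lit 0x20fc872))))) (.node 4 (.node 2 (.node 1 (.leaf (nat_lit 0x30fc39c)) (.leaf (nat_lit 0x10fdcd7))) (.node 1 (.leaf (nat_lit 0x20fdc95)) (.leaf (nat_lit 0xfef4b)))) (.node 2 (.node 1 (.leaf (nat_lit 0x20fed21)) (.leaf (nat_lit 0x30fe58b))) (.node 1 (.leaf (nat_lit 0xff02a)) (.leaf (nat_lit 0x100582)))))) (.node 8 (.node 4 (.node 2 (.node 1 (.leaf (nat_lit 0x2100e61)) (.leaf (nat_lit 0x3100a06))) (.node 1 (.leaf (nat_lit 0x1101dea)) (.leaf (nat_lit 0x3101537)))) (.node 2 (.node 1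 (.leaf (nat_lit 0x1103f7d)) (.leaf (nat_lit 0x2103e6f))) (.node 1 (.leaf (nat_lit 0x3103da7)) (.leaf (nat_lit 0x2104a4c))))) (.node 4 (.node 2 (.node 1 (.leaf (nat_lit 0x3104e16)) (.leaf (nat_lit 0x1105e21))) (.node 1 (.leaf (nat_lit 0x21053c7)) (.leaf (nat_lit 0x310556a)))) (.node 2 (.node 1 (.leaf (nat_lit 0x1060bb)) (.leaf (nat_lit 0x2106bc4))) (.node 1 (.leaf (nat_lit 0x3106cdf)) (.leaf (nat_lit 0x107c11))))))))))

/-- A part of `lev0`. -/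
def lev0_2 : Tree := (.node 128 (.node 64 (.node 32 (.node 16 (.node 8 (.node 4 (.node 2 (.node 1 (.leaf (nat_lit 0x110837d)) (.leaf (nat_lit 0x21081b3))) (.node 1 (.leaf (nat_lit 0x109c79)) (.leaf (nat_lit 0x3109249)))) (.node 2 (.node 1 (.leaf (nat_lit 0x110ab1d)) (.leaf (nat_lit 0x210ab04))) (.node 1 (.leaf (nat_lit 0x310a8e8)) (.leaf (nat_lit 0x10be19))))) (.node 4 (.node 2 (.node 1 (.leaf (nat_lit 0x210bbfd)) (.leaf (nat_lit 0x310b87e))) (.node 1 (.leaf (nat_lit 0x310dc3f)) (.leaf (nat_lit 0x310e39e)))) (.node 2 (.node 1 (.leaf (nat_lit 0x10f1ae)) (.leaf (nat_lit 0x310f788))) (.node 1 (.leaf (nat_lit 0x111068b)) (.leaf (nat_lit 0x2110543)))))) (.node 8 (.node 4 (.node 2 (.node 1 (.leaf (nat_lit 0x311038d)) (.leaf (nat_lit 0x21118ba))) (.node 1 (.leaf (nat_lit 0x3111cf6)) (.leaf (nat_lit 0x31135b4)))) (.node 2 (.node 1 (.leaf (nat_lit 0x1114be4))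 (.leaf (nat_lit 0x2114114))) (.node 1 (.leaf (nat_lit 0x3114729)) (.leaf (nat_lit 0x3115422))))) (.node 4 (.node 2 (.node 1 (.leaf (nat_lit 0x1116353)) (.leaf (nat_lit 0x211619b))) (.node 1 (.leaf (nat_lit 0x311683d)) (.leaf (nat_lit 0x117f3d)))) (.node 2 (.node 1 (.leaf (nat_lit 0x2117d11)) (.leaf (nat_lit 0x3117784))) (.node 1 (.leaf (nat_lit 0x118e9f)) (.leaf (nat_lit 0x1119026))))))) (.node 16 (.node 8 (.node 4 (.node 2 (.node 1 (.leaf (nat_lit 0x2119378)) (.leaf (nat_lit 0x311aecc))) (.node 1 (.leaf (nat_lit 0x311b696)) (.leaf (nat_lit 0x111cdd9)))) (.node 2 (.node 1 (.leaf (nat_lit 0x211c88b)) (.leaf (nat_lit 0x311c687))) (.node 1 (.leaf (nat_lit 0x11dc3a)) (.leaf (nat_lit 0x211dddc))))) (.node 4 (.node 2 (.node 1 (.leaf (nat_lit 0x311d113)) (.leaf (nat_lit 0x11e12d))) (.node 1 (.leaf (nat_lit 0x111f43f)) (.leaf (nat_lit 0x211f23e)))) (.node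 2 (.node 1 (.leaf (nat_lit 0x1120e6c)) (.leaf (nat_lit 0x2120f45))) (.node 1 (.leaf (nat_lit 0x312047b)) (.leaf (nat_lit 0x121c65)))))) (.node 8 (.node 4 (.node 2 (.node 1 (.leaf (nat_lit 0x2121574)) (.leaf (nat_lit 0x31210e2))) (.node 1 (.leaf (nat_lit 0x1123421)) (.leaf (nat_lit 0x21237f9)))) (.node 2 (.node 1 (.leaf (nat_lit 0x212430b)) (.leaf (nat_lit 0x3124b43))) (.node 1 (.leaf (nat_lit 0x3125a7c)) (.leaf (nat_lit 0x1126a3d))))) (.node 4 (.node 2 (.node 1 (.leaf (nat_lit 0x2126b62)) (.leaf (nat_lit 0x31266de))) (.node 1 (.leaf (nat_lit 0x1127c53)) (.leaf (nat_lit 0x2127c8e)))) (.node 2 (.node 1 (.leaf (nat_lit 0x128b8e)) (.leaf (nat_lit 0x212810b))) (.node 1 (.leaf (nat_lit 0x3128e79)) (.leaf (nat_lit 0x312aea0)))))))) (.node 32 (.node 16 (.node 8 (.node 4 (.node 2 (.node 1 (.leaf (nat_lit 0x112bc78)) (.leaf (nat_lit 0x212b1aa))) (.node 1 (.leaf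 (nat_lit 0x312b616)) (.leaf (nat_lit 0x312cec9)))) (.node 2 (.node 1 (.leaf (nat_lit 0x112db20)) (.leaf (nat_lit 0x212d1d2))) (.node 1 (.leaf (nat_lit 0x312de41)) (.leaf (nat_lit 0x12e2cf))))) (.node 4 (.node 2 (.node 1 (.leaf (nat_lit 0x212e659)) (.leaf (nat_lit 0x312e220))) (.node 1 (.leaf (nat_lit 0x12f65a)) (.leaf (nat_lit 0x1130812)))) (.node 2 (.node 1 (.leaf (nat_lit 0x2130c07)) (.leaf (nat_lit 0x3131c5d))) (.node 1 (.leaf (nat_lit 0x113268e)) (.leaf (nat_lit 0x21325fd)))))) (.node 8 (.node 4 (.node 2 (.node 1 (.leaf (nat_lit 0x31328c3)) (.leaf (nat_lit 0x133a09))) (.node 1 (.leaf (nat_lit 0x2133cf9)) (.leaf (nat_lit 0x31332e2)))) (.node 2 (.node 1 (.leaf (nat_lit 0x1346b0)) (.leaf (nat_lit 0x11355cb))) (.node 1 (.leaf (nat_lit 0x2135813)) (.leaf (nat_lit 0x1366e8))))) (.node 4 (.node 2 (.node 1 (.leaf (nat_lit 0x3136fc3)) (.leaf (nat_lit 0x1137e18)))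 (.node 1 (.leaf (nat_lit 0x2137c64)) (.leaf (nat_lit 0x3137cd2)))) (.node 2 (.node 1 (.leaf (nat_lit 0x1138281)) (.leaf (nat_lit 0x2138def))) (.node 1 (.leaf (nat_lit 0x3138bb8)) (.leaf (nat_lit 0x139f50))))))) (.node 16 (.node 8 (.node 4 (.node 2 (.node 1 (.leaf (nat_lit 0x213993e)) (.leaf (nat_lit 0x3139abe))) (.node 1 (.leaf (nat_lit 0x113b627)) (.leaf (nat_lit 0x213bca0)))) (.node 2 (.node 1 (.leaf (nat_lit 0x313c9c8)) (.leaf (nat_lit 0x113d34d))) (.node 1 (.leaf (nat_lit 0x213d010)) (.leaf (nat_lit 0x313d71b))))) (.node 4 (.node 2 (.node 1 (.leaf (nat_lit 0x13ed79)) (.leaf (nat_lit 0x213e9fa))) (.node 1 (.leaf (nat_lit 0x313ec0d)) (.leaf (nat_lit 0x1140162)))) (.node 2 (.node 1 (.leaf (nat_lit 0x21409a4)) (.leaf (nat_lit 0x2141b69))) (.node 1 (.leaf (nat_lit 0x142b74)) (.leaf (nat_lit 0x31428b8)))))) (.node 8 (.node 4 (.node 2 (.node 1 (.leaf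 (nat_lit 0x1143459)) (.leaf (nat_lit 0x2143ac5))) (.node 1 (.leaf (nat_lit 0x144860)) (.leaf (nat_lit 0x314450e)))) (.node 2 (.node 1 (.leaf (nat_lit 0x1459d1)) (.leaf (nat_lit 0x11466c5))) (.node 1 (.leaf (nat_lit 0x2146a6d)) (.leaf (nat_lit 0x3146178))))) (.node 4 (.node 2 (.node 1 (.leaf (nat_lit 0x2147955)) (.leaf (nat_lit 0x3147760))) (.node 1 (.leaf (nat_lit 0x11483cd)) (.leaf (nat_lit 0x2148426)))) (.node 2 (.node 1 (.leaf (nat_lit 0x3148572)) (.leaf (nat_lit 0x1490ee))) (.node 1 (.leaf (nat_lit 0x2149cc9)) (.leaf (nat_lit 0x114bc9a))))))))) (.node 64 (.node 32 (.node 16 (.node 8 (.node 4 (.node 2 (.node 1 (.leaf (nat_lit 0x214b9bf)) (.leaf (nat_lit 0x14c758))) (.node 1 (.leaf (nat_lit 0x214c2e6)) (.leaf (nat_lit 0x314cb63)))) (.node 2 (.node 1 (.leaf (nat_lit 0x114e8db)) (.leaf (nat_lit 0x214e329))) (.node 1 (.leaf (nat_lit 0x214f079)) (.leaf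 (nat_lit 0x314ff4f))))) (.node 4 (.node 2 (.node 1 (.leaf (nat_lit 0x150935)) (.leaf (nat_lit 0x3150602))) (.node 1 (.leaf (nat_lit 0x3151f7a)) (.leaf (nat_lit 0x1152e54)))) (.node 2 (.node 1 (.leaf (nat_lit 0x2152f77)) (.leaf (nat_lit 0x1535b3))) (.node 1 (.leaf (nat_lit 0x2153b05)) (.leaf (nat_lit 0x154873)))))) (.node 8 (.node 4 (.node 2 (.node 1 (.leaf (nat_lit 0x11556c8)) (.leaf (nat_lit 0x3155c99))) (.node 1 (.leaf (nat_lit 0x156949)) (.leaf (nat_lit 0x215601a)))) (.node 2 (.node 1 (.leaf (nat_lit 0x3156224)) (.leaf (nat_lit 0x15797c))) (.node 1 (.leaf (nat_lit 0x1158f69)) (.leaf (nat_lit 0x21589b9))))) (.node 4 (.node 2 (.node 1 (.leaf (nat_lit 0x2159a31)) (.leaf (nat_lit 0x3159aa5))) (.node 1 (.leaf (nat_lit 0x15af0d)) (.leaf (nat_lit 0x315ae31)))) (.node 2 (.node 1 (.leaf (nat_lit 0x115b6c7)) (.leaf (nat_lit 0x215b3e7))) (.node 1 (.leaf (nat_lit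 0x315b89a)) (.leaf (nat_lit 0x15ce1c))))))) (.node 16 (.node 8 (.node 4 (.node 2 (.node 1 (.leaf (nat_lit 0x215cde4)) (.leaf (nat_lit 0x315c2a1))) (.node 1 (.leaf (nat_lit 0x15d6b2)) (.leaf (nat_lit 0x15edd3)))) (.node 2 (.node 1 (.leaf (nat_lit 0x315e7c6)) (.leaf (nat_lit 0x215f0f9))) (.node 1 (.leaf (nat_lit 0x11606cc)) (.leaf (nat_lit 0x216059a))))) (.node 4 (.node 2 (.node 1 (.leaf (nat_lit 0x316070c)) (.leaf (nat_lit 0x116127b))) (.node 1 (.leaf (nat_lit 0x2161920)) (.leaf (nat_lit 0x3161e24)))) (.node 2 (.node 1 (.leaf (nat_lit 0x162e6a)) (.leaf (nat_lit 0x316200f))) (.node 1 (.leaf (nat_lit 0x1164012)) (.leaf (nat_lit 0x2164b86)))))) (.node 8 (.node 4 (.node 2 (.node 1 (.leaf (nat_lit 0x216579c)) (.leaf (nat_lit 0x216669f))) (.node 1 (.leaf (nat_lit 0x21676b7)) (.leaf (nat_lit 0x3167646)))) (.node 2 (.node 1 (.leaf (nat_lit 0x1682bf)) (.leaf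 (nat_lit 0x3168fcc))) (.node 1 (.leaf (nat_lit 0x21696d3)) (.leaf (nat_lit 0x3169623))))) (.node 4 (.node 2 (.node 1 (.leaf (nat_lit 0x116ac8c)) (.leaf (nat_lit 0x216a3a6))) (.node 1 (.leaf (nat_lit 0x316be33)) (.leaf (nat_lit 0x16c36a)))) (.node 2 (.node 1 (.leaf (nat_lit 0x316c2e7)) (.leaf (nat_lit 0x116db68))) (.node 1 (.leaf (nat_lit 0x216dbdf)) (.leaf (nat_lit 0x316d857)))))))) (.node 32 (.node 16 (.node 8 (.node 4 (.node 2 (.node 1 (.leaf (nat_lit 0x16eae8)) (.leaf (nat_lit 0x216e5d1))) (.node 1 (.leaf (nat_lit 0x316e2a2)) (.leaf (nat_lit 0x1170007)))) (.node 2 (.node 1 (.leaf (nat_lit 0x2170575)) (.leaf (nat_lit 0x2171874))) (.node 1 (.leaf (nat_lit 0x3171b1b)) (.leaf (nat_lit 0x1723c6))))) (.node 4 (.node 2 (.node 1 (.leaf (nat_lit 0x1173ec2)) (.leaf (nat_lit 0x2173a75))) (.node 1 (.leaf (nat_lit 0x3174ba7)) (.leaf (nat_lit 0x1175001)))) (.node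 2 (.node 1 (.leaf (nat_lit 0x3175589)) (.leaf (nat_lit 0x176452))) (.node 1 (.leaf (nat_lit 0x2176783)) (.leaf (nat_lit 0x31768da)))))) (.node 8 (.node 4 (.node 2 (.node 1 (.leaf (nat_lit 0x1178c5e)) (.leaf (nat_lit 0x2178e7d))) (.node 1 (.leaf (nat_lit 0x179a26)) (.leaf (nat_lit 0x117a239)))) (.node 2 (.node 1 (.leaf (nat_lit 0x117b23a)) (.leaf (nat_lit 0x17cf42))) (.node 1 (.leaf (nat_lit 0x317c530)) (.leaf (nat_lit 0x17db61))))) (.node 4 (.node 2 (.node 1 (.leaf (nat_lit 0x317e9be)) (.leaf (nat_lit 0x117f48f))) (.node 1 (.leaf (nat_lit 0x217f2b9)) (.leaf (nat_lit 0x317fc34)))) (.node 2 (.node 1 (.leaf (nat_lit 0x1801bd)) (.leaf (nat_lit 0x2180bd1))) (.node 1 (.leaf (nat_lit 0x31802f0)) (.leaf (nat_lit 0x181641))))))) (.node 16 (.node 8 (.node 4 (.node 2 (.node 1 (.leaf (nat_lit 0x1182877)) (.leaf (nat_lit 0x318314e))) (.node 1 (.leaf (nat_lit 0x184a2d))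 (.leaf (nat_lit 0x1185c76)))) (.node 2 (.node 1 (.leaf (nat_lit 0x2185daa)) (.leaf (nat_lit 0x3185bbf))) (.node 1 (.leaf (nat_lit 0x11863b8)) (.leaf (nat_lit 0x2186ba5))))) (.node 4 (.node 2 (.node 1 (.leaf (nat_lit 0x3186b59)) (.leaf (nat_lit 0x1187d3d))) (.node 1 (.leaf (nat_lit 0x218794c)) (.leaf (nat_lit 0x3187693)))) (.node 2 (.node 1 (.leaf (nat_lit 0x3188fc7)) (.leaf (nat_lit 0x11891d0))) (.node 1 (.leaf (nat_lit 0x2189312)) (.leaf (nat_lit 0x318904a)))))) (.node 8 (.node 4 (.node 2 (.node 1 (.leaf (nat_lit 0x18a78b)) (.leaf (nat_lit 0x218a3f9))) (.node 1 (.leaf (nat_lit 0x318ae25)) (.leaf (nat_lit 0x18bf96)))) (.node 2 (.node 1 (.leaf (nat_lit 0x118c35a)) (.leaf (nat_lit 0x218cd78))) (.node 1 (.leaf (nat_lit 0x318d073)) (.leaf (nat_lit 0x18e0ec))))) (.node 4 (.node 2 (.node 1 (.leaf (nat_lit 0x318e017)) (.leaf (nat_lit 0x118f3c3))) (.node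 1 (.leaf (nat_lit 0x218f56f)) (.leaf (nat_lit 0x318f47e)))) (.node 2 (.node 1 (.leaf (nat_lit 0x1190e56)) (.leaf (nat_lit 0x2190ee3))) (.node 1 (.leaf (nat_lit 0x319032b)) (.leaf (nat_lit 0x191bdc))))))))))

/-- A part of `lev0`. -/
def lev0_3 : Tree := (.node 128 (.node 64 (.node 32 (.node 16 (.node 8 (.node 4 (.node 2 (.node 1 (.leaf (nat_lit 0x2191e60)) (.leaf (nat_lit 0x319153f))) (.node 1 (.leaf (nat_lit 0x219380b)) (.leaf (nat_lit 0x1194417)))) (.node 2 (.node 1 (.leaf (nat_lit 0x319455c)) (.leaf (nat_lit 0x195067))) (.node 1 (.leaf (nat_lit 0x21959fc)) (.leaf (nat_lit 0x1197fd0))))) (.node 4 (.node 2 (.node 1 (.leaf (nat_lit 0x219738a)) (.leaf (nat_lit 0x2198264))) (.node 1 (.leaf (nat_lit 0x3199f0b)) (.leaf (nat_lit 0x119afd1)))) (.node 2 (.node 1 (.leaf (nat_lit 0x219adda)) (.leaf (nat_lit 0x319a97d))) (.node 1 (.leaf (nat_lit 0x119bf38))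 (.leaf (nat_lit 0x219bbb4)))))) (.node 8 (.node 4 (.node 2 (.node 1 (.leaf (nat_lit 0x19c7cf)) (.leaf (nat_lit 0x219c518))) (.node 1 (.leaf (nat_lit 0x319c407)) (.leaf (nat_lit 0x119eaf2)))) (.node 2 (.node 1 (.leaf (nat_lit 0x219ed36)) (.leaf (nat_lit 0x319ed86))) (.node 1 (.leaf (nat_lit 0x319fb73)) (.leaf (nat_lit 0x11a0333))))) (.node 4 (.node 2 (.node 1 (.leaf (nat_lit 0x21a00e0)) (.leaf (nat_lit 0x31a0da6))) (.node 1 (.leaf (nat_lit 0x21a1e8b)) (.leaf (nat_lit 0x31a1e30)))) (.node 2 (.node 1 (.leaf (nat_lit 0x1a2539)) (.leaf (nat_lit 0x21a2af3))) (.node 1 (.leaf (nat_lit 0x1a36aa)) (.leaf (nat_lit 0x11a4992))))))) (.node 16 (.node 8 (.node 4 (.node 2 (.node 1 (.leaf (nat_lit 0x21a4437)) (.leaf (nat_lit 0x1a570f))) (.node 1 (.leaf (nat_lit 0x21a5f12)) (.leaf (nat_lit 0x31a5bc6)))) (.node 2 (.node 1 (.leaf (nat_lit 0x11a7e6d)) (.leaf (nat_lit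 0x21a7a4a))) (.node 1 (.leaf (nat_lit 0x11a87ca)) (.leaf (nat_lit 0x21a834f))))) (.node 4 (.node 2 (.node 1 (.leaf (nat_lit 0x31a8653)) (.leaf (nat_lit 0x1a952c))) (.node 1 (.leaf (nat_lit 0x21a9549)) (.leaf (nat_lit 0x31a9400)))) (.node 2 (.node 1 (.leaf (nat_lit 0x11ab13b)) (.leaf (nat_lit 0x21ab57e))) (.node 1 (.leaf (nat_lit 0x21acea2)) (.leaf (nat_lit 0x31acb09)))))) (.node 8 (.node 4 (.node 2 (.node 1 (.leaf (nat_lit 0x1ad7c5)) (.leaf (nat_lit 0x31ad369))) (.node 1 (.leaf (nat_lit 0x21ae494)) (.leaf (nat_lit 0x31aee46)))) (.node 2 (.node 1 (.leaf (nat_lit 0x11afeca)) (.leaf (nat_lit 0x21af9f0))) (.node 1 (.leaf (nat_lit 0x1b0b8a)) (.leaf (nat_lit 0x21b0617))))) (.node 4 (.node 2 (.node 1 (.leaf (nat_lit 0x31b035b)) (.leaf (nat_lit 0x31b2a0e))) (.node 1 (.leaf (nat_lit 0x11b3dad)) (.leaf (nat_lit 0x21b386e)))) (.node 2 (.node 1 (.leaf (nat_lit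 0x31b36cf)) (.leaf (nat_lit 0x31b4c77))) (.node 1 (.leaf (nat_lit 0x11b5921)) (.leaf (nat_lit 0x21b5faa)))))))) (.node 32 (.node 16 (.node 8 (.node 4 (.node 2 (.node 1 (.leaf (nat_lit 0x31b5717)) (.leaf (nat_lit 0x1b6559))) (.node 1 (.leaf (nat_lit 0x21b68de)) (.leaf (nat_lit 0x31b6158)))) (.node 2 (.node 1 (.leaf (nat_lit 0x1b73d7)) (.leaf (nat_lit 0x11b8512))) (.node 1 (.leaf (nat_lit 0x21b82d7)) (.leaf (nat_lit 0x1b9e7c))))) (.node 4 (.node 2 (.node 1 (.leaf (nat_lit 0x21b9723)) (.leaf (nat_lit 0x31b9751))) (.node 1 (.leaf (nat_lit 0x1baa22)) (.leaf (nat_lit 0x11bb51e)))) (.node 2 (.node 1 (.leaf (nat_lit 0x21bbf8b)) (.leaf (nat_lit 0x1bc5e4))) (.node 1 (.leaf (nat_lit 0x31bc3c9)) (.leaf (nat_lit 0x11bd92f)))))) (.node 8 (.node 4 (.node 2 (.node 1 (.leaf (nat_lit 0x21bdb9f)) (.leaf (nat_lit 0x31bd4fd))) (.node 1 (.leaf (nat_lit 0x11be775)) (.leaf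 (nat_lit 0x21beb18)))) (.node 2 (.node 1 (.leaf (nat_lit 0x31bec4d)) (.leaf (nat_lit 0x1bf4b9))) (.node 1 (.leaf (nat_lit 0x21bfa5b)) (.leaf (nat_lit 0x31bfe06))))) (.node 4 (.node 2 (.node 1 (.leaf (nat_lit 0x11c128d)) (.leaf (nat_lit 0x21c14f5))) (.node 1 (.leaf (nat_lit 0x21c2e81)) (.leaf (nat_lit 0x31c2a74)))) (.node 2 (.node 1 (.leaf (nat_lit 0x21c33c8)) (.leaf (nat_lit 0x11c590d))) (.node 1 (.leaf (nat_lit 0x21c5824)) (.leaf (nat_lit 0x21c6ac1))))))) (.node 16 (.node 8 (.node 4 (.node 2 (.node 1 (.leaf (nat_lit 0x31c61f2)) (.leaf (nat_lit 0x1c71ad))) (.node 1 (.leaf (nat_lit 0x31c777d)) (.leaf (nat_lit 0x11c82ed)))) (.node 2 (.node 1 (.leaf (nat_lit 0x21c8380)) (.leaf (nat_lit 0x31c8c04))) (.node 1 (.leaf (nat_lit 0x21c9612)) (.leaf (nat_lit 0x1ca0de))))) (.node 4 (.node 2 (.node 1 (.leaf (nat_lit 0x21cab2b)) (.leaf (nat_lit 0x1cb900))) (.node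 1 (.leaf (nat_lit 0x11cc548)) (.leaf (nat_lit 0x21ccabb)))) (.node 2 (.node 1 (.leaf (nat_lit 0x31ccd04)) (.leaf (nat_lit 0x31cdf1a))) (.node 1 (.leaf (nat_lit 0x11ce461)) (.leaf (nat_lit 0x21cec2f)))))) (.node 8 (.node 4 (.node 2 (.node 1 (.leaf (nat_lit 0x31ce841)) (.leaf (nat_lit 0x1cfe2d))) (.node 1 (.leaf (nat_lit 0x21cf3ed)) (.leaf (nat_lit 0x31cf3d1)))) (.node 2 (.node 1 (.leaf (nat_lit 0x11d1f0f)) (.leaf (nat_lit 0x21d1d9e))) (.node 1 (.leaf (nat_lit 0x1d27cb)) (.leaf (nat_lit 0x21d25be))))) (.node 4 (.node 2 (.node 1 (.leaf (nat_lit 0x31d2495)) (.leaf (nat_lit 0x11d4f62))) (.node 1 (.leaf (nat_lit 0x21d4f60)) (.leaf (nat_lit 0x1d6110)))) (.node 2 (.node 1 (.leaf (nat_lit 0x31d68fa)) (.leaf (nat_lit 0x11d7929))) (.node 1 (.leaf (nat_lit 0x21d7f9e)) (.leaf (nat_lit 0x1d8de3))))))))) (.node 64 (.node 32 (.node 16 (.node 8 (.node 4 (.node 2 (.node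 1 (.leaf (nat_lit 0x21d8cdd)) (.leaf (nat_lit 0x31d8a3b))) (.node 1 (.leaf (nat_lit 0x11da603)) (.leaf (nat_lit 0x31dabf5)))) (.node 2 (.node 1 (.leaf (nat_lit 0x1dbc2e)) (.leaf (nat_lit 0x21db713))) (.node 1 (.leaf (nat_lit 0x31dbc1e)) (.leaf (nat_lit 0x11dd2f4))))) (.node 4 (.node 2 (.node 1 (.leaf (nat_lit 0x21dd5db)) (.leaf (nat_lit 0x21deba1))) (.node 1 (.leaf (nat_lit 0x31de074)) (.leaf (nat_lit 0x1dfc42)))) (.node 2 (.node 1 (.leaf (nat_lit 0x31df0a1)) (.leaf (nat_lit 0x11e0105))) (.node 1 (.leaf (nat_lit 0x21e0c05)) (.leaf (nat_lit 0x31e01f4)))))) (.node 8 (.node 4 (.node 2 (.node 1 (.leaf (nat_lit 0x1e10c3)) (.leaf (nat_lit 0x21e1960))) (.node 1 (.leaf (nat_lit 0x31e12e5)) (.leaf (nat_lit 0x1e2035)))) (.node 2 (.node 1 (.leaf (nat_lit 0x21e43b2)) (.leaf (nat_lit 0x11e5644))) (.node 1 (.leaf (nat_lit 0x21e56d4)) (.leaf (nat_lit 0x31e5e22)))))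 (.node 4 (.node 2 (.node 1 (.leaf (nat_lit 0x11e656e)) (.leaf (nat_lit 0x21e63d2))) (.node 1 (.leaf (nat_lit 0x1e7747)) (.leaf (nat_lit 0x11e8cce)))) (.node 2 (.node 1 (.leaf (nat_lit 0x21e979b)) (.leaf (nat_lit 0x31e94f3))) (.node 1 (.leaf (nat_lit 0x21ea324)) (.leaf (nat_lit 0x21eb314))))))) (.node 16 (.node 8 (.node 4 (.node 2 (.node 1 (.leaf (nat_lit 0x31ebc5c)) (.leaf (nat_lit 0x1ec4c9))) (.node 1 (.leaf (nat_lit 0x31ec58e)) (.leaf (nat_lit 0x11ed06f)))) (.node 2 (.node 1 (.leaf (nat_lit 0x21ed922)) (.leaf (nat_lit 0x11eef46))) (.node 1 (.leaf (nat_lit 0x21ee6d2)) (.leaf (nat_lit 0x31ef87d))))) (.node 4 (.node 2 (.node 1 (.leaf (nat_lit 0x1f03e2)) (.leaf (nat_lit 0x31f054c))) (.node 1 (.leaf (nat_lit 0x11f1c8d)) (.leaf (nat_lit 0x21f10c1)))) (.node 2 (.node 1 (.leaf (nat_lit 0x1f2492)) (.leaf (nat_lit 0x31f28f9))) (.node 1 (.leaf (nat_lit 0x11f3f43))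 (.leaf (nat_lit 0x21f3838)))))) (.node 8 (.node 4 (.node 2 (.node 1 (.leaf (nat_lit 0x1f407a)) (.leaf (nat_lit 0x21f4ce1))) (.node 1 (.leaf (nat_lit 0x31f4151)) (.leaf (nat_lit 0x1f5094)))) (.node 2 (.node 1 (.leaf (nat_lit 0x11f64b3)) (.leaf (nat_lit 0x21f6881))) (.node 1 (.leaf (nat_lit 0x31f7b45)) (.leaf (nat_lit 0x11f8013))))) (.node 4 (.node 2 (.node 1 (.leaf (nat_lit 0x31f8328)) (.leaf (nat_lit 0x1f9272))) (.node 1 (.leaf (nat_lit 0x21f946d)) (.leaf (nat_lit 0x31f9662)))) (.node 2 (.node 1 (.leaf (nat_lit 0x11fbf0a)) (.leaf (nat_lit 0x21fb622))) (.node 1 (.leaf (nat_lit 0x21fc223)) (.leaf (nat_lit 0x31fc927)))))))) (.node 32 (.node 16 (.node 8 (.node 4 (.node 2 (.node 1 (.leaf (nat_lit 0x31fd4b4)) (.leaf (nat_lit 0x11fefa5))) (.node 1 (.leaf (nat_lit 0x21fed2b)) (.leaf (nat_lit 0x11ffb87)))) (.node 2 (.node 1 (.leaf (nat_lit 0x220053c)) (.leaf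 (nat_lit 0x201be5))) (.node 1 (.leaf (nat_lit 0x3202e2c)) (.leaf (nat_lit 0x1203f6a))))) (.node 4 (.node 2 (.node 1 (.leaf (nat_lit 0x2203bda)) (.leaf (nat_lit 0x3203ccf))) (.node 1 (.leaf (nat_lit 0x204500)) (.leaf (nat_lit 0x220435f)))) (.node 2 (.node 1 (.leaf (nat_lit 0x3204b29)) (.leaf (nat_lit 0x205aa4))) (.node 1 (.leaf (nat_lit 0x1206510)) (.leaf (nat_lit 0x3207a45)))))) (.node 8 (.node 4 (.node 2 (.node 1 (.leaf (nat_lit 0x208b2a)) (.leaf (nat_lit 0x1209375))) (.node 1 (.leaf (nat_lit 0x120af4a)) (.leaf (nat_lit 0x220a06e)))) (.node 2 (.node 1 (.leaf (nat_lit 0x320a6bf)) (.leaf (nat_lit 0x120bc57))) (.node 1 (.leaf (nat_lit 0x220b443)) (.leaf (nat_lit 0x320b544))))) (.node 4 (.node 2 (.node 1 (.leaf (nat_lit 0x320c3e0)) (.leaf (nat_lit 0x120d74c))) (.node 1 (.leaf (nat_lit 0x320d9ce)) (.leaf (nat_lit 0x20edb2)))) (.node 2 (.node 1 (.leaf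 (nat_lit 0x220e8be)) (.leaf (nat_lit 0x320e9f4))) (.node 1 (.leaf (nat_lit 0x20f652)) (.leaf (nat_lit 0x1210b42))))))) (.node 16 (.node 8 (.node 4 (.node 2 (.node 1 (.leaf (nat_lit 0x221079e)) (.leaf (nat_lit 0x3211e86))) (.node 1 (.leaf (nat_lit 0x1212535)) (.leaf (nat_lit 0x2212051)))) (.node 2 (.node 1 (.leaf (nat_lit 0x3212c02)) (.leaf (nat_lit 0x1213040))) (.node 1 (.leaf (nat_lit 0x221308b)) (.leaf (nat_lit 0x3213587))))) (.node 4 (.node 2 (.node 1 (.leaf (nat_lit 0x21421f)) (.leaf (nat_lit 0x2214d01))) (.node 1 (.leaf (nat_lit 0x32148bf)) (.leaf (nat_lit 0x12166bb)))) (.node 2 (.node 1 (.leaf (nat_lit 0x1217aa0)) (.leaf (nat_lit 0x3217c85))) (.node 1 (.leaf (nat_lit 0x218d7a)) (.leaf (nat_lit 0x22183ca)))))) (.node 8 (.node 4 (.node 2 (.node 1 (.leaf (nat_lit 0x121a9aa)) (.leaf (nat_lit 0x221aebe))) (.node 1 (.leaf (nat_lit 0x221b984)) (.leaf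 (nat_lit 0x321b528)))) (.node 2 (.node 1 (.leaf (nat_lit 0x21c558)) (.leaf (nat_lit 0x321cc32))) (.node 1 (.leaf (nat_lit 0x221d6e9)) (.leaf (nat_lit 0x321da2f))))) (.node 4 (.node 2 (.node 1 (.leaf (nat_lit 0x221ec4c)) (.leaf (nat_lit 0x21fce4))) (.node 1 (.leaf (nat_lit 0x221f47d)) (.leaf (nat_lit 0x321f135)))) (.node 2 (.node 1 (.leaf (nat_lit 0x1221e78)) (.leaf (nat_lit 0x222190c))) (.node 1 (.leaf (nat_lit 0x32218d2)) (.leaf (nat_lit 0x222242f))))))))))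

/-- A part of `lev0`. -/
def lev0_4 : Tree := (.node 128 (.node 64 (.node 32 (.node 16 (.node 8 (.node 4 (.node 2 (.node 1 (.leaf (nat_lit 0x322219d)) (.leaf (nat_lit 0x223f28))) (.node 1 (.leaf (nat_lit 0x22239cf)) (.leaf (nat_lit 0x3223349)))) (.node 2 (.node 1 (.leaf (nat_lit 0x224f6b)) (.leaf (nat_lit 0x1225cc3))) (.node 1 (.leaf (nat_lit 0x2225c03)) (.leaf (nat_lit 0x3226d15))))) (.node 4 (.node 2 (.node 1 (.leaf (nat_lit 0x227840)) (.leaf (nat_lit 0x1228f75))) (.node 1 (.leaf (nat_lit 0x322809c)) (.leaf (nat_lit 0x1229401)))) (.node 2 (.node 1 (.leaf (nat_lit 0x22a3a2)) (.leaf (nat_lit 0x222a44a))) (.node 1 (.leaf (nat_lit 0x322a0ff)) (.leaf (nat_lit 0x22bfa6)))))) (.node 8 (.node 4 (.node 2 (.node 1 (.leaf (nat_lit 0x22c40b)) (.leaf (nat_lit 0x222c20f))) (.node 1 (.leaf (nat_lit 0x322cf3e)) (.leaf (nat_lit 0x222e2b2)))) (.node 2 (.node 1 (.leaf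 (nat_lit 0x222f179)) (.leaf (nat_lit 0x322f722))) (.node 1 (.leaf (nat_lit 0x2307b2)) (.leaf (nat_lit 0x3231255))))) (.node 4 (.node 2 (.node 1 (.leaf (nat_lit 0x2232351)) (.leaf (nat_lit 0x3232218))) (.node 1 (.leaf (nat_lit 0x2234f3b)) (.leaf (nat_lit 0x3234f3a)))) (.node 2 (.node 1 (.leaf (nat_lit 0x1236490)) (.leaf (nat_lit 0x22361c7))) (.node 1 (.leaf (nat_lit 0x32365c7)) (.leaf (nat_lit 0x223774b))))))) (.node 16 (.node 8 (.node 4 (.node 2 (.node 1 (.leaf (nat_lit 0x3237aff)) (.leaf (nat_lit 0x1239138))) (.node 1 (.leaf (nat_lit 0x223923d)) (.leaf (nat_lit 0x223a195)))) (.node 2 (.node 1 (.leaf (nat_lit 0x223b406)) (.leaf (nat_lit 0x223cc24))) (.node 1 (.leaf (nat_lit 0x323ca56)) (.leaf (nat_lit 0x23df0e))))) (.node 4 (.node 2 (.node 1 (.leaf (nat_lit 0x323def6)) (.leaf (nat_lit 0x123e318))) (.node 1 (.leaf (nat_lit 0x223e6a0)) (.leaf (nat_lit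 0x123f4c1)))) (.node 2 (.node 1 (.leaf (nat_lit 0x223fc1c)) (.leaf (nat_lit 0x24056d))) (.node 1 (.leaf (nat_lit 0x2240a87)) (.leaf (nat_lit 0x3240d74)))))) (.node 8 (.node 4 (.node 2 (.node 1 (.leaf (nat_lit 0x241c75)) (.leaf (nat_lit 0x1242d9f))) (.node 1 (.leaf (nat_lit 0x244257)) (.leaf (nat_lit 0x3244716)))) (.node 2 (.node 1 (.leaf (nat_lit 0x1246889)) (.leaf (nat_lit 0x2246d81))) (.node 1 (.leaf (nat_lit 0x2247f27)) (.leaf (nat_lit 0x32479f3))))) (.node 4 (.node 2 (.node 1 (.leaf (nat_lit 0x248a80)) (.leaf (nat_lit 0x3249b4a))) (.node 1 (.leaf (nat_lit 0x224a15e)) (.leaf (nat_lit 0x24b694)))) (.node 2 (.node 1 (.leaf (nat_lit 0x224b839)) (.leaf (nat_lit 0x324b0f7))) (.node 1 (.leaf (nat_lit 0x124d78d)) (.leaf (nat_lit 0x324dc50)))))))) (.node 32 (.node 16 (.node 8 (.node 4 (.node 2 (.node 1 (.leaf (nat_lit 0x24e5d3)) (.leaf (nat_lit 0x224eb8c)))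 (.node 1 (.leaf (nat_lit 0x324ea39)) (.leaf (nat_lit 0x125041d)))) (.node 2 (.node 1 (.leaf (nat_lit 0x2250018)) (.leaf (nat_lit 0x32516c6))) (.node 1 (.leaf (nat_lit 0x252e23)) (.leaf (nat_lit 0x3252ca5))))) (.node 4 (.node 2 (.node 1 (.leaf (nat_lit 0x22541ab)) (.leaf (nat_lit 0x2556fc))) (.node 1 (.leaf (nat_lit 0x22550f6)) (.leaf (nat_lit 0x3255b28)))) (.node 2 (.node 1 (.leaf (nat_lit 0x32579d0)) (.leaf (nat_lit 0x2258632))) (.node 1 (.leaf (nat_lit 0x3258f3c)) (.leaf (nat_lit 0x225932a)))))) (.node 8 (.node 4 (.node 2 (.node 1 (.leaf (nat_lit 0x25a8ee)) (.leaf (nat_lit 0x25c88f))) (.node 1 (.leaf (nat_lit 0x225c1f5)) (.leaf (nat_lit 0x225e4e2)))) (.node 2 (.node 1 (.leaf (nat_lit 0x1261061)) (.leaf (nat_lit 0x22616b1))) (.node 1 (.leaf (nat_lit 0x262943)) (.leaf (nat_lit 0x32628f1))))) (.node 4 (.node 2 (.node 1 (.leaf (nat_lit 0x2634cd)) (.leaf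 (nat_lit 0x1264ed5))) (.node 1 (.leaf (nat_lit 0x3264733)) (.leaf (nat_lit 0x2265415)))) (.node 2 (.node 1 (.leaf (nat_lit 0x1267dd8)) (.leaf (nat_lit 0x2267711))) (.node 1 (.leaf (nat_lit 0x326885d)) (.leaf (nat_lit 0x269e3d))))))) (.node 16 (.node 8 (.node 4 (.node 2 (.node 1 (.leaf (nat_lit 0x226a045)) (.leaf (nat_lit 0x326a016))) (.node 1 (.leaf (nat_lit 0x226b985)) (.leaf (nat_lit 0x326b2d1)))) (.node 2 (.node 1 (.leaf (nat_lit 0x126e6cb)) (.leaf (nat_lit 0x226e993))) (.node 1 (.leaf (nat_lit 0x326e8d8)) (.leaf (nat_lit 0x126f7ac))))) (.node 4 (.node 2 (.node 1 (.leaf (nat_lit 0x2270f16)) (.leaf (nat_lit 0x327041b))) (.node 1 (.leaf (nat_lit 0x22719c7)) (.leaf (nat_lit 0x2272423)))) (.node 2 (.node 1 (.leaf (nat_lit 0x3273afc)) (.leaf (nat_lit 0x275b72))) (.node 1 (.leaf (nat_lit 0x2275e88)) (.leaf (nat_lit 0x3275bb1)))))) (.node 8 (.node 4 (.node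 2 (.node 1 (.leaf (nat_lit 0x1277e3c)) (.leaf (nat_lit 0x2277ad6))) (.node 1 (.leaf (nat_lit 0x3278650)) (.leaf (nat_lit 0x27a4fc)))) (.node 2 (.node 1 (.leaf (nat_lit 0x227acab)) (.leaf (nat_lit 0x127c09b))) (.node 1 (.leaf (nat_lit 0x227c397)) (.leaf (nat_lit 0x227d15b))))) (.node 4 (.node 2 (.node 1 (.leaf (nat_lit 0x27f62e)) (.leaf (nat_lit 0x227f95d))) (.node 1 (.leaf (nat_lit 0x327fbde)) (.leaf (nat_lit 0x2809f8)))) (.node 2 (.node 1 (.leaf (nat_lit 0x32817bb)) (.leaf (nat_lit 0x32823ce))) (.node 1 (.leaf (nat_lit 0x1283cc8)) (.leaf (nat_lit 0x2283805))))))))) (.node 64 (.node 32 (.node 16 (.node 8 (.node 4 (.node 2 (.node 1 (.leaf (nat_lit 0x284f76)) (.leaf (nat_lit 0x285ba3))) (.node 1 (.leaf (nat_lit 0x1287de5)) (.leaf (nat_lit 0x2287254)))) (.node 2 (.node 1 (.leaf (nat_lit 0x328729a)) (.leaf (nat_lit 0x2288661))) (.node 1 (.leaf (nat_lit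 0x3288ea7)) (.leaf (nat_lit 0x228a1c6))))) (.node 4 (.node 2 (.node 1 (.leaf (nat_lit 0x228b754)) (.leaf (nat_lit 0x328b774))) (.node 1 (.leaf (nat_lit 0x28c9df)) (.leaf (nat_lit 0x228cb9e)))) (.node 2 (.node 1 (.leaf (nat_lit 0x228d26a)) (.leaf (nat_lit 0x28e18e))) (.node 1 (.leaf (nat_lit 0x128faa1)) (.leaf (nat_lit 0x32908d3)))))) (.node 8 (.node 4 (.node 2 (.node 1 (.leaf (nat_lit 0x129164a)) (.leaf (nat_lit 0x22915e5))) (.node 1 (.leaf (nat_lit 0x3292320)) (.leaf (nat_lit 0x293567)))) (.node 2 (.node 1 (.leaf (nat_lit 0x3293a25)) (.leaf (nat_lit 0x2294a1e))) (.node 1 (.leaf (nat_lit 0x129570d)) (.leaf (nat_lit 0x2295a82))))) (.node 4 (.node 2 (.node 1 (.leaf (nat_lit 0x296668)) (.leaf (nat_lit 0x2296d0e))) (.node 1 (.leaf (nat_lit 0x3296c29)) (.leaf (nat_lit 0x297b78)))) (.node 2 (.node 1 (.leaf (nat_lit 0x2298f15)) (.leaf (nat_lit 0x2299ce6)))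 (.node 1 (.leaf (nat_lit 0x3299eb4)) (.leaf (nat_lit 0x229a50a))))))) (.node 16 (.node 8 (.node 4 (.node 2 (.node 1 (.leaf (nat_lit 0x329a3da)) (.leaf (nat_lit 0x129bf41))) (.node 1 (.leaf (nat_lit 0x229bcef)) (.leaf (nat_lit 0x329bd3f)))) (.node 2 (.node 1 (.leaf (nat_lit 0x229c190)) (.leaf (nat_lit 0x29dd39))) (.node 1 (.leaf (nat_lit 0x129efa4)) (.leaf (nat_lit 0x229ec9c))))) (.node 4 (.node 2 (.node 1 (.leaf (nat_lit 0x229ffce)) (.leaf (nat_lit 0x329f8f2))) (.node 1 (.leaf (nat_lit 0x12a1597)) (.leaf (nat_lit 0x22a1be9)))) (.node 2 (.node 1 (.leaf (nat_lit 0x12a2b2f)) (.leaf (nat_lit 0x22a38fe))) (.node 1 (.leaf (nat_lit 0x32a397f)) (.leaf (nat_lit 0x32a44e5)))))) (.node 8 (.node 4 (.node 2 (.node 1 (.leaf (nat_lit 0x22a6d7d)) (.leaf (nat_lit 0x22a7e32))) (.node 1 (.leaf (nat_lit 0x32a707f)) (.leaf (nat_lit 0x12a8214)))) (.node 2 (.node 1 (.leaf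 (nat_lit 0x22a8aae)) (.leaf (nat_lit 0x32a8605))) (.node 1 (.leaf (nat_lit 0x2a9002)) (.leaf (nat_lit 0x22a9f51))))) (.node 4 (.node 2 (.node 1 (.leaf (nat_lit 0x32a92cc)) (.leaf (nat_lit 0x22ac5e1))) (.node 1 (.leaf (nat_lit 0x32aec9d)) (.leaf (nat_lit 0x2b0c10)))) (.node 2 (.node 1 (.leaf (nat_lit 0x22b0ac7)) (.leaf (nat_lit 0x32b12f6))) (.node 1 (.leaf (nat_lit 0x22b35da)) (.leaf (nat_lit 0x12b46a6)))))))) (.node 32 (.node 16 (.node 8 (.node 4 (.node 2 (.node 1 (.leaf (nat_lit 0x32b4e3f)) (.leaf (nat_lit 0x32b5b7a))) (.node 1 (.leaf (nat_lit 0x2b613d)) (.leaf (nat_lit 0x12b7eb6)))) (.node 2 (.node 1 (.leaf (nat_lit 0x22b75c5)) (.leaf (nat_lit 0x22b846c))) (.node 1 (.leaf (nat_lit 0x32b844c)) (.leaf (nat_lit 0x2b9493))))) (.node 4 (.node 2 (.node 1 (.leaf (nat_lit 0x22b92b1)) (.leaf (nat_lit 0x32b9ef7))) (.node 1 (.leaf (nat_lit 0x22ba7ce)) (.leaf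 (nat_lit 0x32ba9d6)))) (.node 2 (.node 1 (.leaf (nat_lit 0x32bbbd6)) (.leaf (nat_lit 0x22bcba2))) (.node 1 (.leaf (nat_lit 0x32bc274)) (.leaf (nat_lit 0x12bf3a3)))))) (.node 8 (.node 4 (.node 2 (.node 1 (.leaf (nat_lit 0x22bfe62)) (.leaf (nat_lit 0x32c06b4))) (.node 1 (.leaf (nat_lit 0x2c1ae0)) (.leaf (nat_lit 0x22c2888)))) (.node 2 (.node 1 (.leaf (nat_lit 0x32c28b4)) (.leaf (nat_lit 0x22c355e))) (.node 1 (.leaf (nat_lit 0x32c33eb)) (.leaf (nat_lit 0x2c57ad))))) (.node 4 (.node 2 (.node 1 (.leaf (nat_lit 0x32c650f)) (.leaf (nat_lit 0x12c77f8))) (.node 1 (.leaf (nat_lit 0x2c8a72)) (.leaf (nat_lit 0x32c838e)))) (.node 2 (.node 1 (.leaf (nat_lit 0x12cacb9)) (.leaf (nat_lit 0x2cb980))) (.node 1 (.leaf (nat_lit 0x12cc097)) (.leaf (nat_lit 0x22cc66f))))))) (.node 16 (.node 8 (.node 4 (.node 2 (.node 1 (.leaf (nat_lit 0x22cdf10)) (.leaf (nat_lit 0x32cd9f5)))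 (.node 1 (.leaf (nat_lit 0x2cecb7)) (.leaf (nat_lit 0x32cf325)))) (.node 2 (.node 1 (.leaf (nat_lit 0x2d09b7)) (.leaf (nat_lit 0x2d1590))) (.node 1 (.leaf (nat_lit 0x12d29b2)) (.leaf (nat_lit 0x22d20fb))))) (.node 4 (.node 2 (.node 1 (.leaf (nat_lit 0x2d313f)) (.leaf (nat_lit 0x32d32ba))) (.node 1 (.leaf (nat_lit 0x32d418d)) (.leaf (nat_lit 0x22d5292)))) (.node 2 (.node 1 (.leaf (nat_lit 0x32d5509)) (.leaf (nat_lit 0x12d698e))) (.node 1 (.leaf (nat_lit 0x12d7db1)) (.leaf (nat_lit 0x12d82e4)))))) (.node 8 (.node 4 (.node 2 (.node 1 (.leaf (nat_lit 0x22d80f8)) (.leaf (nat_lit 0x22d9740))) (.node 1 (.leaf (nat_lit 0x12db76f)) (.leaf (nat_lit 0x22dc6d0)))) (.node 2 (.node 1 (.leaf (nat_lit 0x32dcbb7)) (.leaf (nat_lit 0x12de0bc))) (.node 1 (.leaf (nat_lit 0x22debc7)) (.leaf (nat_lit 0x22df699))))) (.node 4 (.node 2 (.node 1 (.leaf (nat_lit 0x12e1dfb))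 (.leaf (nat_lit 0x22e16a7))) (.node 1 (.leaf (nat_lit 0x32e100d)) (.leaf (nat_lit 0x22e364e)))) (.node 2 (.node 1 (.leaf (nat_lit 0x22e655f)) (.leaf (nat_lit 0x32e62e1))) (.node 1 (.leaf (nat_lit 0x2e7481)) (.leaf (nat_lit 0x12e8898))))))))))

/-- A part of `lev0`. -/
def lev0_5 : Tree := (.node 128 (.node 64 (.node 32 (.node 16 (.node 8 (.node 4 (.node 2 (.node 1 (.leaf (nat_lit 0x2e9c19)) (.leaf (nat_lit 0x22e9085))) (.node 1 (.leaf (nat_lit 0x12ebe82)) (.leaf (nat_lit 0x32ec0c4)))) (.node 2 (.node 1 (.leaf (nat_lit 0x2edd37)) (.leaf (nat_lit 0x22ed82b))) (.node 1 (.leaf (nat_lit 0x12ef5e8)) (.leaf (nat_lit 0x22ef153))))) (.node 4 (.node 2 (.node 1 (.leaf (nat_lit 0x32f0003)) (.leaf (nat_lit 0x2f1f79))) (.node 1 (.leaf (nat_lit 0x32f1047)) (.leaf (nat_lit 0x32f2908)))) (.node 2 (.node 1 (.leaf (nat_lit 0x2f4508)) (.leaf (nat_lit 0x22f6fa8))) (.node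 1 (.leaf (nat_lit 0x32f6d05)) (.leaf (nat_lit 0x32f7823)))))) (.node 8 (.node 4 (.node 2 (.node 1 (.leaf (nat_lit 0x12f8a2a)) (.leaf (nat_lit 0x32f86d1))) (.node 1 (.leaf (nat_lit 0x22f9d1a)) (.leaf (nat_lit 0x32f9b34)))) (.node 2 (.node 1 (.leaf (nat_lit 0x12fb5e0)) (.leaf (nat_lit 0x22fbb77))) (.node 1 (.leaf (nat_lit 0x22fca10)) (.leaf (nat_lit 0x32fc4cf))))) (.node 4 (.node 2 (.node 1 (.leaf (nat_lit 0x12fe2b0)) (.leaf (nat_lit 0x22fe43e))) (.node 1 (.leaf (nat_lit 0x32ff72d)) (.leaf (nat_lit 0x300076)))) (.node 2 (.node 1 (.leaf (nat_lit 0x2301a34)) (.leaf (nat_lit 0x3301265))) (.node 1 (.leaf (nat_lit 0x3064eb)) (.leaf (nat_lit 0x307f39))))))) (.node 16 (.node 8 (.node 4 (.node 2 (.node 1 (.leaf (nat_lit 0x23071f8)) (.leaf (nat_lit 0x230ad87))) (.node 1 (.leaf (nat_lit 0x330af7b)) (.leaf (nat_lit 0x330b01e)))) (.node 2 (.node 1 (.leaf (nat_lit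 0x130d93d)) (.leaf (nat_lit 0x230dca7))) (.node 1 (.leaf (nat_lit 0x230e22c)) (.leaf (nat_lit 0x330ed10))))) (.node 4 (.node 2 (.node 1 (.leaf (nat_lit 0x230f71f)) (.leaf (nat_lit 0x2310d1e))) (.node 1 (.leaf (nat_lit 0x311d9a)) (.leaf (nat_lit 0x1312f19)))) (.node 2 (.node 1 (.leaf (nat_lit 0x2312912)) (.leaf (nat_lit 0x3312d62))) (.node 1 (.leaf (nat_lit 0x1315155)) (.leaf (nat_lit 0x2315121)))))) (.node 8 (.node 4 (.node 2 (.node 1 (.leaf (nat_lit 0x131686c)) (.leaf (nat_lit 0x23164b6))) (.node 1 (.leaf (nat_lit 0x3316170)) (.leaf (nat_lit 0x2317176)))) (.node 2 (.node 1 (.leaf (nat_lit 0x2319015)) (.leaf (nat_lit 0x231ba88))) (.node 1 (.leaf (nat_lit 0x31d286)) (.leaf (nat_lit 0x131e172))))) (.node 4 (.node 2 (.node 1 (.leaf (nat_lit 0x231f268)) (.leaf (nat_lit 0x2323e83))) (.node 1 (.leaf (nat_lit 0x324a42)) (.leaf (nat_lit 0x2324e7a)))) (.node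 2 (.node 1 (.leaf (nat_lit 0x23267b8)) (.leaf (nat_lit 0x1328408))) (.node 1 (.leaf (nat_lit 0x2328e0f)) (.leaf (nat_lit 0x3329cfd)))))))) (.node 32 (.node 16 (.node 8 (.node 4 (.node 2 (.node 1 (.leaf (nat_lit 0x132b2a3)) (.leaf (nat_lit 0x332bca1))) (.node 1 (.leaf (nat_lit 0x32c7d8)) (.leaf (nat_lit 0x232cfc0)))) (.node 2 (.node 1 (.leaf (nat_lit 0x232ea2e)) (.leaf (nat_lit 0x332e7be))) (.node 1 (.leaf (nat_lit 0x332f541)) (.leaf (nat_lit 0x1330bbd))))) (.node 4 (.node 2 (.node 1 (.leaf (nat_lit 0x1331a94)) (.leaf (nat_lit 0x23318f0))) (.node 1 (.leaf (nat_lit 0x333188a)) (.leaf (nat_lit 0x3322c7)))) (.node 2 (.node 1 (.leaf (nat_lit 0x23344f1)) (.leaf (nat_lit 0x2336f11))) (.node 1 (.leaf (nat_lit 0x33363b0)) (.leaf (nat_lit 0x337c35)))))) (.node 8 (.node 4 (.node 2 (.node 1 (.leaf (nat_lit 0x33385ff)) (.leaf (nat_lit 0x2339f18))) (.node 1 (.leaf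 (nat_lit 0x33af47)) (.leaf (nat_lit 0x233a767)))) (.node 2 (.node 1 (.leaf (nat_lit 0x333a899)) (.leaf (nat_lit 0x133cb2e))) (.node 1 (.leaf (nat_lit 0x233ce43)) (.leaf (nat_lit 0x133da0c))))) (.node 4 (.node 2 (.node 1 (.leaf (nat_lit 0x33eaba)) (.leaf (nat_lit 0x233ed73))) (.node 1 (.leaf (nat_lit 0x333e009)) (.leaf (nat_lit 0x1340cde)))) (.node 2 (.node 1 (.leaf (nat_lit 0x2340b8d)) (.leaf (nat_lit 0x3342472))) (.node 1 (.leaf (nat_lit 0x2343802)) (.leaf (nat_lit 0x3343cda))))))) (.node 16 (.node 8 (.node 4 (.node 2 (.node 1 (.leaf (nat_lit 0x134412e)) (.leaf (nat_lit 0x2344b1f))) (.node 1 (.leaf (nat_lit 0x345777)) (.leaf (nat_lit 0x1349c7c)))) (.node 2 (.node 1 (.leaf (nat_lit 0x234987a)) (.leaf (nat_lit 0x134a750))) (.node 1 (.leaf (nat_lit 0x234a728)) (.leaf (nat_lit 0x34bea3))))) (.node 4 (.node 2 (.node 1 (.leaf (nat_lit 0x334b0e8)) (.leaf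 (nat_lit 0x334d150))) (.node 1 (.leaf (nat_lit 0x134e100)) (.leaf (nat_lit 0x234ec22)))) (.node 2 (.node 1 (.leaf (nat_lit 0x334eaaa)) (.leaf (nat_lit 0x234f74f))) (.node 1 (.leaf (nat_lit 0x334fd66)) (.leaf (nat_lit 0x350a2c)))))) (.node 8 (.node 4 (.node 2 (.node 1 (.leaf (nat_lit 0x2352c56)) (.leaf (nat_lit 0x13545e6))) (.node 1 (.leaf (nat_lit 0x3355a27)) (.leaf (nat_lit 0x3356fc2)))) (.node 2 (.node 1 (.leaf (nat_lit 0x3357e4b)) (.leaf (nat_lit 0x3585c3))) (.node 1 (.leaf (nat_lit 0x23586c0)) (.leaf (nat_lit 0x3596f9))))) (.node 4 (.node 2 (.node 1 (.leaf (nat_lit 0x135b667)) (.leaf (nat_lit 0x235b04c))) (.node 1 (.leaf (nat_lit 0x35cde0)) (.leaf (nat_lit 0x235d521)))) (.node 2 (.node 1 (.leaf (nat_lit 0x2360cf7)) (.leaf (nat_lit 0x33613ab))) (.node 1 (.leaf (nat_lit 0x1362f99)) (.leaf (nat_lit 0x3362f88))))))))) (.node 64 (.node 32 (.node 16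 (.node 8 (.node 4 (.node 2 (.node 1 (.leaf (nat_lit 0x336307c)) (.leaf (nat_lit 0x3647a1))) (.node 1 (.leaf (nat_lit 0x1365b8b)) (.leaf (nat_lit 0x2365810)))) (.node 2 (.node 1 (.leaf (nat_lit 0x2366a38)) (.leaf (nat_lit 0x3686da))) (.node 1 (.leaf (nat_lit 0x33683e5)) (.leaf (nat_lit 0x1369808))))) (.node 4 (.node 2 (.node 1 (.leaf (nat_lit 0x36a91e)) (.leaf (nat_lit 0x236a863))) (.node 1 (.leaf (nat_lit 0x336a0b3)) (.leaf (nat_lit 0x136cddf)))) (.node 2 (.node 1 (.leaf (nat_lit 0x236c97e)) (.leaf (nat_lit 0x136dcca))) (.node 1 (.leaf (nat_lit 0x236e53d)) (.leaf (nat_lit 0x336e3fc)))))) (.node 8 (.node 4 (.node 2 (.node 1 (.leaf (nat_lit 0x1370726)) (.leaf (nat_lit 0x3371b9a))) (.node 1 (.leaf (nat_lit 0x3724bd)) (.leaf (nat_lit 0x3372e0e)))) (.node 2 (.node 1 (.leaf (nat_lit 0x374789)) (.leaf (nat_lit 0x3376f1d))) (.node 1 (.leaf (nat_lit 0x1378867))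 (.leaf (nat_lit 0x2378ced))))) (.node 4 (.node 2 (.node 1 (.leaf (nat_lit 0x3378e6b)) (.leaf (nat_lit 0x37936e))) (.node 1 (.leaf (nat_lit 0x237984f)) (.leaf (nat_lit 0x3379429)))) (.node 2 (.node 1 (.leaf (nat_lit 0x237b487)) (.leaf (nat_lit 0x37eccb))) (.node 1 (.leaf (nat_lit 0x237fa35)) (.leaf (nat_lit 0x380be0))))))) (.node 16 (.node 8 (.node 4 (.node 2 (.node 1 (.leaf (nat_lit 0x3382005)) (.leaf (nat_lit 0x138393b))) (.node 1 (.leaf (nat_lit 0x2383b4d)) (.leaf (nat_lit 0x23842bc)))) (.node 2 (.node 1 (.leaf (nat_lit 0x33857b1)) (.leaf (nat_lit 0x338670a))) (.node 1 (.leaf (nat_lit 0x387f78)) (.leaf (nat_lit 0x2387ab5))))) (.node 4 (.node 2 (.node 1 (.leaf (nat_lit 0x338717d)) (.leaf (nat_lit 0x388efb))) (.node 1 (.leaf (nat_lit 0x2389d1c)) (.leaf (nat_lit 0x238a869)))) (.node 2 (.node 1 (.leaf (nat_lit 0x338ab64)) (.leaf (nat_lit 0x238b68d)))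 (.node 1 (.leaf (nat_lit 0x338be80)) (.leaf (nat_lit 0x138fdae)))))) (.node 8 (.node 4 (.node 2 (.node 1 (.leaf (nat_lit 0x2390540)) (.leaf (nat_lit 0x3390ab8))) (.node 1 (.leaf (nat_lit 0x3918e0)) (.leaf (nat_lit 0x1392af6)))) (.node 2 (.node 1 (.leaf (nat_lit 0x3392a0f)) (.leaf (nat_lit 0x1393e7e))) (.node 1 (.leaf (nat_lit 0x39498f)) (.leaf (nat_lit 0x3395b51))))) (.node 4 (.node 2 (.node 1 (.leaf (nat_lit 0x2396608)) (.leaf (nat_lit 0x2398f17))) (.node 1 (.leaf (nat_lit 0x339b0c2)) (.leaf (nat_lit 0x39c595)))) (.node 2 (.node 1 (.leaf (nat_lit 0x239cc70)) (.leaf (nat_lit 0x339daaf))) (.node 1 (.leaf (nat_lit 0x339f8df)) (.leaf (nat_lit 0x23a0a59)))))))) (.node 32 (.node 16 (.node 8 (.node 4 (.node 2 (.node 1 (.leaf (nat_lit 0x13a12bd)) (.leaf (nat_lit 0x13a2f74))) (.node 1 (.leaf (nat_lit 0x33a2c23)) (.leaf (nat_lit 0x3a352d)))) (.node 2 (.node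 1 (.leaf (nat_lit 0x33a36ca)) (.leaf (nat_lit 0x23a5901))) (.node 1 (.leaf (nat_lit 0x33a5b46)) (.leaf (nat_lit 0x23a761f))))) (.node 4 (.node 2 (.node 1 (.leaf (nat_lit 0x33a83f4)) (.leaf (nat_lit 0x13a9b55))) (.node 1 (.leaf (nat_lit 0x33a993f)) (.leaf (nat_lit 0x3aa809)))) (.node 2 (.node 1 (.leaf (nat_lit 0x23aa07d)) (.leaf (nat_lit 0x33aae89))) (.node 1 (.leaf (nat_lit 0x23acf7e)) (.leaf (nat_lit 0x23adce5)))))) (.node 8 (.node 4 (.node 2 (.node 1 (.leaf (nat_lit 0x33ad52f)) (.leaf (nat_lit 0x23ae039))) (.node 1 (.leaf (nat_lit 0x33b0bfc)) (.leaf (nat_lit 0x33b1eaf)))) (.node 2 (.node 1 (.leaf (nat_lit 0x13b226f)) (.leaf (nat_lit 0x23b2684))) (.node 1 (.leaf (nat_lit 0x13b3876)) (.leaf (nat_lit 0x23b4f2b))))) (.node 4 (.node 2 (.node 1 (.leaf (nat_lit 0x33b4ac0)) (.leaf (nat_lit 0x23b8f8a))) (.node 1 (.leaf (nat_lit 0x3bae47)) (.leaf (nat_lit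 0x33bb438)))) (.node 2 (.node 1 (.leaf (nat_lit 0x23bcf5a)) (.leaf (nat_lit 0x33bce10))) (.node 1 (.leaf (nat_lit 0x3bdbe8)) (.leaf (nat_lit 0x13bf9fd))))))) (.node 16 (.node 8 (.node 4 (.node 2 (.node 1 (.leaf (nat_lit 0x33c38f5)) (.leaf (nat_lit 0x3c4771))) (.node 1 (.leaf (nat_lit 0x33c4390)) (.leaf (nat_lit 0x13c6f89)))) (.node 2 (.node 1 (.leaf (nat_lit 0x23c6b08)) (.leaf (nat_lit 0x3c728e))) (.node 1 (.leaf (nat_lit 0x23cabf6)) (.leaf (nat_lit 0x3cbbd0))))) (.node 4 (.node 2 (.node 1 (.leaf (nat_lit 0x23cc10c)) (.leaf (nat_lit 0x33cc952))) (.node 1 (.leaf (nat_lit 0x23cd54b)) (.leaf (nat_lit 0x3ce1c4)))) (.node 2 (.node 1 (.leaf (nat_lit 0x33ce54d)) (.leaf (nat_lit 0x23cf086))) (.node 1 (.leaf (nat_lit 0x3d112a)) (.leaf (nat_lit 0x3d250b)))))) (.node 8 (.node 4 (.node 2 (.node 1 (.leaf (nat_lit 0x23d2a08)) (.leaf (nat_lit 0x3d31b2))) (.node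 1 (.leaf (nat_lit 0x13d4d75)) (.leaf (nat_lit 0x3d5e42)))) (.node 2 (.node 1 (.leaf (nat_lit 0x33d54df)) (.leaf (nat_lit 0x13d7bad))) (.node 1 (.leaf (nat_lit 0x3d99cb)) (.leaf (nat_lit 0x13da731))))) (.node 4 (.node 2 (.node 1 (.leaf (nat_lit 0x23dad67)) (.leaf (nat_lit 0x33db019))) (.node 1 (.leaf (nat_lit 0x3dc7d6)) (.leaf (nat_lit 0x33dc688)))) (.node 2 (.node 1 (.leaf (nat_lit 0x13dd9a5)) (.leaf (nat_lit 0x23ddc06))) (.node 1 (.leaf (nat_lit 0x13de1f7)) (.leaf (nat_lit 0x3df95c))))))))))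

/-- A part of `lev0`. -/
def lev0_6 : Tree := (.node 109 (.node 54 (.node 27 (.node 13 (.node 6 (.node 3 (.node 1 (.leaf (nat_lit 0x33e1a49)) (.node 1 (.leaf (nat_lit 0x23e258a)) (.leaf (nat_lit 0x13e42af)))) (.node 1 (.leaf (nat_lit 0x33e5e44)) (.node 1 (.leaf (nat_lit 0x13e7cfc)) (.leaf (nat_lit 0x33e8cd3))))) (.node 3 (.node 1 (.leaf (nat_lit 0x23ea5a9)) (.node 1 (.leaf (nat_lit 0x33eca2b)) (.leaf (nat_lit 0x23f076e)))) (.node 2 (.node 1 (.leaf (nat_lit 0x33f20a8)) (.leaf (nat_lit 0x33f47aa))) (.node 1 (.leaf (nat_lit 0x13f5ba0)) (.leaf (nat_lit 0x3f692e)))))) (.node 7 (.node 3 (.node 1 (.leaf (nat_lit 0x3fc43c)) (.node 1 (.leaf (nat_lit 0x33fc94d)) (.leaf (nat_lit 0x23fe05a)))) (.node 2 (.node 1 (.leaf (nat_lit 0x140039f)) (.leaf (nat_lit 0x2400347))) (.node 1 (.leaf (nat_lit 0x140362d)) (.leaf (nat_lit 0x14048b6))))) (.node 3 (.node 1 (.leaf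 (nat_lit 0x405184)) (.node 1 (.leaf (nat_lit 0x140a11f)) (.leaf (nat_lit 0x340ba5a)))) (.node 2 (.node 1 (.leaf (nat_lit 0x3410c2b)) (.leaf (nat_lit 0x141257a))) (.node 1 (.leaf (nat_lit 0x2415125)) (.leaf (nat_lit 0x24168e9))))))) (.node 13 (.node 6 (.node 3 (.node 1 (.leaf (nat_lit 0x1417959)) (.node 1 (.leaf (nat_lit 0x141bddb)) (.leaf (nat_lit 0x241c458)))) (.node 1 (.leaf (nat_lit 0x341fd3a)) (.node 1 (.leaf (nat_lit 0x2421e63)) (.leaf (nat_lit 0x2423b9b))))) (.node 3 (.node 1 (.leaf (nat_lit 0x34259af)) (.node 1 (.leaf (nat_lit 0x2426479)) (.leaf (nat_lit 0x2427014)))) (.node 2 (.node 1 (.leaf (nat_lit 0x242972c)) (.leaf (nat_lit 0x242b132))) (.node 1 (.leaf (nat_lit 0x342b514)) (.leaf (nat_lit 0x342eb7c)))))) (.node 7 (.node 3 (.node 1 (.leaf (nat_lit 0x242f432)) (.node 1 (.leaf (nat_lit 0x3433815)) (.leaf (nat_lit 0x14375c9)))) (.node 2 (.node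 1 (.leaf (nat_lit 0x2437e20)) (.leaf (nat_lit 0x2438689))) (.node 1 (.leaf (nat_lit 0x243dd0d)) (.leaf (nat_lit 0x143ffab))))) (.node 3 (.node 1 (.leaf (nat_lit 0x243fb1a)) (.node 1 (.leaf (nat_lit 0x2446359)) (.leaf (nat_lit 0x3446a4d)))) (.node 2 (.node 1 (.leaf (nat_lit 0x24485e9)) (.leaf (nat_lit 0x144b57b))) (.node 1 (.leaf (nat_lit 0x144cbf7)) (.leaf (nat_lit 0x144e5c8)))))))) (.node 27 (.node 13 (.node 6 (.node 3 (.node 1 (.leaf (nat_lit 0x344fa0d)) (.node 1 (.leaf (nat_lit 0x2454399)) (.leaf (nat_lit 0x3457abf)))) (.node 1 (.leaf (nat_lit 0x3459f3f)) (.node 1 (.leaf (nat_lit 0x245a917)) (.leaf (nat_lit 0x245c609))))) (.node 3 (.node 1 (.leaf (nat_lit 0x345c09a)) (.node 1 (.leaf (nat_lit 0x345eae4)) (.leaf (nat_lit 0x245fbd9)))) (.node 2 (.node 1 (.leaf (nat_lit 0x246462f)) (.leaf (nat_lit 0x3464e7b))) (.node 1 (.leaf (nat_lit 0x46860d)) (.leaf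 (nat_lit 0x2468c9b)))))) (.node 7 (.node 3 (.node 1 (.leaf (nat_lit 0x24696e1)) (.node 1 (.leaf (nat_lit 0x3469e11)) (.leaf (nat_lit 0x346d3b4)))) (.node 2 (.node 1 (.leaf (nat_lit 0x474547)) (.leaf (nat_lit 0x3474f9f))) (.node 1 (.leaf (nat_lit 0x475ef8)) (.leaf (nat_lit 0x2475072))))) (.node 3 (.node 1 (.leaf (nat_lit 0x476a11)) (.node 1 (.leaf (nat_lit 0x2478480)) (.leaf (nat_lit 0x479a23)))) (.node 2 (.node 1 (.leaf (nat_lit 0x147be85)) (.leaf (nat_lit 0x147c2ee))) (.node 1 (.leaf (nat_lit 0x347da3f)) (.leaf (nat_lit 0x14819b6))))))) (.node 14 (.node 7 (.node 3 (.node 1 (.leaf (nat_lit 0x2482004)) (.node 1 (.leaf (nat_lit 0x2485403)) (.leaf (nat_lit 0x14862c5)))) (.node 2 (.node 1 (.leaf (nat_lit 0x2488237)) (.leaf (nat_lit 0x2489cad))) (.node 1 (.leaf (nat_lit 0x3489a41)) (.leaf (nat_lit 0x248a3e6))))) (.node 3 (.node 1 (.leaf (nat_lit 0x348bdee))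 (.node 1 (.leaf (nat_lit 0x2493306)) (.leaf (nat_lit 0x34932d8)))) (.node 2 (.node 1 (.leaf (nat_lit 0x49563e)) (.leaf (nat_lit 0x2496861))) (.node 1 (.leaf (nat_lit 0x2498b58)) (.leaf (nat_lit 0x4994e8)))))) (.node 7 (.node 3 (.node 1 (.leaf (nat_lit 0x49dea9)) (.node 1 (.leaf (nat_lit 0x34a0285)) (.leaf (nat_lit 0x4a1763)))) (.node 2 (.node 1 (.leaf (nat_lit 0x14a3338)) (.leaf (nat_lit 0x24a38c2))) (.node 1 (.leaf (nat_lit 0x34a4e1d)) (.leaf (nat_lit 0x24a573a))))) (.node 3 (.node 1 (.leaf (nat_lit 0x24a6b7f)) (.node 1 (.leaf (nat_lit 0x24a92ea)) (.leaf (nat_lit 0x4abb36)))) (.node 2 (.node 1 (.leaf (nat_lit 0x34ac7a0)) (.leaf (nat_lit 0x34ae43d))) (.node 1 (.leaf (nat_lit 0x4b3430)) (.leaf (nat_lit 0x24b90c0))))))))) (.node 55 (.node 27 (.node 13 (.node 6 (.node 3 (.node 1 (.leaf (nat_lit 0x4bc658)) (.node 1 (.leaf (nat_lit 0x34bf088)) (.leaf (nat_lit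 0x34c0a3a)))) (.node 1 (.leaf (nat_lit 0x34c5c6d)) (.node 1 (.leaf (nat_lit 0x24cb8ff)) (.leaf (nat_lit 0x34cc262))))) (.node 3 (.node 1 (.leaf (nat_lit 0x24ce440)) (.node 1 (.leaf (nat_lit 0x24cf803)) (.leaf (nat_lit 0x34cf822)))) (.node 2 (.node 1 (.leaf (nat_lit 0x4d3a51)) (.leaf (nat_lit 0x14d6660))) (.node 1 (.leaf (nat_lit 0x24d67af)) (.leaf (nat_lit 0x24d7970)))))) (.node 7 (.node 3 (.node 1 (.leaf (nat_lit 0x14d8deb)) (.node 1 (.leaf (nat_lit 0x14db682)) (.leaf (nat_lit 0x24de00a)))) (.node 2 (.node 1 (.leaf (nat_lit 0x34de91b)) (.leaf (nat_lit 0x14e3f63))) (.node 1 (.leaf (nat_lit 0x24e4e17)) (.leaf (nat_lit 0x34e7913))))) (.node 3 (.node 1 (.leaf (nat_lit 0x34eaea8)) (.node 1 (.leaf (nat_lit 0x24efc1a)) (.leaf (nat_lit 0x4f2730)))) (.node 2 (.node 1 (.leaf (nat_lit 0x24f5866)) (.leaf (nat_lit 0x24f7126))) (.node 1 (.leaf (nat_lit 0x24f8e12))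 (.leaf (nat_lit 0x24fac5f))))))) (.node 14 (.node 7 (.node 3 (.node 1 (.leaf (nat_lit 0x4fcd3e)) (.node 1 (.leaf (nat_lit 0x34fce8a)) (.leaf (nat_lit 0x5050b9)))) (.node 2 (.node 1 (.leaf (nat_lit 0x350575e)) (.leaf (nat_lit 0x150e4e7))) (.node 1 (.leaf (nat_lit 0x250ebd3)) (.leaf (nat_lit 0x2511b7e))))) (.node 3 (.node 1 (.leaf (nat_lit 0x3512a54)) (.node 1 (.leaf (nat_lit 0x2517d80)) (.leaf (nat_lit 0x2518280)))) (.node 2 (.node 1 (.leaf (nat_lit 0x251a637)) (.leaf (nat_lit 0x51cfcd))) (.node 1 (.leaf (nat_lit 0x3520ec4)) (.leaf (nat_lit 0x25220b2)))))) (.node 7 (.node 3 (.node 1 (.leaf (nat_lit 0x526305)) (.node 1 (.leaf (nat_lit 0x2526df9)) (.leaf (nat_lit 0x3526ad9)))) (.node 2 (.node 1 (.leaf (nat_lit 0x152d59f)) (.leaf (nat_lit 0x252ead0))) (.node 1 (.leaf (nat_lit 0x253231d)) (.leaf (nat_lit 0x253ae7f))))) (.node 3 (.node 1 (.leaf (nat_lit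 0x53bf4e)) (.node 1 (.leaf (nat_lit 0x53e8d9)) (.leaf (nat_lit 0x35402c8)))) (.node 2 (.node 1 (.leaf (nat_lit 0x5436bc)) (.leaf (nat_lit 0x25450c5))) (.node 1 (.leaf (nat_lit 0x25480d9)) (.leaf (nat_lit 0x3548219)))))))) (.node 27 (.node 13 (.node 6 (.node 3 (.node 1 (.leaf (nat_lit 0x154e714)) (.node 1 (.leaf (nat_lit 0x3555a4f)) (.leaf (nat_lit 0x255b22f)))) (.node 1 (.leaf (nat_lit 0x355bfc5)) (.node 1 (.leaf (nat_lit 0x255df26)) (.leaf (nat_lit 0x25650af))))) (.node 3 (.node 1 (.leaf (nat_lit 0x2566ba6)) (.node 1 (.leaf (nat_lit 0x57c0d0)) (.leaf (nat_lit 0x2582f13)))) (.node 2 (.node 1 (.leaf (nat_lit 0x35898ef)) (.leaf (nat_lit 0x258a954))) (.node 1 (.leaf (nat_lit 0x258bb65)) (.leaf (nat_lit 0x158ff29)))))) (.node 7 (.node 3 (.node 1 (.leaf (nat_lit 0x590d58)) (.node 1 (.leaf (nat_lit 0x359225a)) (.leaf (nat_lit 0x2596060)))) (.node 2 (.node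 1 (.leaf (nat_lit 0x3596bd7)) (.leaf (nat_lit 0x25a30d8))) (.node 1 (.leaf (nat_lit 0x5a7eb8)) (.leaf (nat_lit 0x15a9aef))))) (.node 3 (.node 1 (.leaf (nat_lit 0x35af062)) (.node 1 (.leaf (nat_lit 0x25b00e9)) (.leaf (nat_lit 0x35b19f2)))) (.node 2 (.node 1 (.leaf (nat_lit 0x15b247f)) (.leaf (nat_lit 0x25b2eab))) (.node 1 (.leaf (nat_lit 0x35b5a6e)) (.leaf (nat_lit 0x5bc8c1))))))) (.node 14 (.node 7 (.node 3 (.node 1 (.leaf (nat_lit 0x35c0326)) (.node 1 (.leaf (nat_lit 0x15c8b19)) (.leaf (nat_lit 0x35c8b3b)))) (.node 2 (.node 1 (.leaf (nat_lit 0x15cadcd)) (.leaf (nat_lit 0x35cbaab))) (.node 1 (.leaf (nat_lit 0x25d0a40)) (.leaf (nat_lit 0x5d111a))))) (.node 3 (.node 1 (.leaf (nat_lit 0x35d1fc6)) (.node 1 (.leaf (nat_lit 0x5e329d)) (.leaf (nat_lit 0x15f17d7)))) (.node 2 (.node 1 (.leaf (nat_lit 0x5f52a9)) (.leaf (nat_lit 0x25f7eb2))) (.node 1 (.leaf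 (nat_lit 0x25f9d06)) (.leaf (nat_lit 0x601177)))))) (.node 7 (.node 3 (.node 1 (.leaf (nat_lit 0x3604bdd)) (.node 1 (.leaf (nat_lit 0x608460)) (.leaf (nat_lit 0x360e055)))) (.node 2 (.node 1 (.leaf (nat_lit 0x3616c74)) (.leaf (nat_lit 0x36526c3))) (.node 1 (.leaf (nat_lit 0x2656f1c)) (.leaf (nat_lit 0x3662c52))))) (.node 3 (.node 1 (.leaf (nat_lit 0x26728cc)) (.node 1 (.leaf (nat_lit 0x26a97ab)) (.leaf (nat_lit 0x36c070e)))) (.node 2 (.node 1 (.leaf (nat_lit 0x26c1ebf)) (.leaf (nat_lit 0x36c8365))) (.node 1 (.leaf (nat_lit 0x26d6793)) (.leaf (nat_lit 0x6d9a98))))))))))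

/-- A level of the chain. -/
def lev0 : Tree := (.node 768 (.node 256 lev0_0 (.node 256 lev0_1 lev0_2)) (.node 512 (.node 256 lev0_3 lev0_4) (.node 256 lev0_5 lev0_6)))

/-- A part of `lev1`. -/
def lev1_0 : Tree := (.node 128 (.node 64 (.node 32 (.node 16 (.node 8 (.node 4 (.node 2 (.node 1 (.leaf (nat_lit 0x1)) (.leaf (nat_lit 0x13f))) (.node 1 (.leaf (nat_lit 0x1000480)) (.leaf (nat_lit 0x1d9f)))) (.node 2 (.node 1 (.leaf (nat_lit 0x10015a9)) (.leaf (nat_lit 0x2045))) (.node 1 (.leaf (nat_lit 0x1002151)) (.leaf (nat_lit 0x3767))))) (.node 4 (.node 2 (.node 1 (.leaf (nat_lit 0x1003b87)) (.leaf (nat_lit 0x4d3a))) (.node 1 (.leaf (nat_lit 0x10045cb)) (.leaf (nat_lit 0x5223)))) (.node 2 (.node 1 (.leaf (nat_lit 0x1005cdf)) (.leaf (nat_lit 0x64df))) (.node 1 (.leaf (nat_lit 0x1006b2f)) (.leaf (nat_lit 0x72e4)))))) (.node 8 (.node 4 (.node 2 (.node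 1 (.leaf (nat_lit 0x100782b)) (.leaf (nat_lit 0x8775))) (.node 1 (.leaf (nat_lit 0x1008f16)) (.leaf (nat_lit 0x9d37)))) (.node 2 (.node 1 (.leaf (nat_lit 0x1009d1e)) (.leaf (nat_lit 0xa2e2))) (.node 1 (.leaf (nat_lit 0x100a9fd)) (.leaf (nat_lit 0xb11f))))) (.node 4 (.node 2 (.node 1 (.leaf (nat_lit 0x100b8de)) (.leaf (nat_lit 0xc047))) (.node 1 (.leaf (nat_lit 0x100cbad)) (.leaf (nat_lit 0xd2cf)))) (.node 2 (.node 1 (.leaf (nat_lit 0x100da98)) (.leaf (nat_lit 0xe2a2))) (.node 1 (.leaf (nat_lit 0x100e365)) (.leaf (nat_lit 0xf97f))))))) (.node 16 (.node 8 (.node 4 (.node 2 (.node 1 (.leaf (nat_lit 0x100f7d8)) (.leaf (nat_lit 0x1011b))) (.node 1 (.leaf (nat_lit 0x1010fce)) (.leaf (nat_lit 0x11062)))) (.node 2 (.node 1 (.leaf (nat_lit 0x101109a)) (.leaf (nat_lit 0x12c53))) (.node 1 (.leaf (nat_lit 0x1012658)) (.leaf (nat_lit 0x1343d))))) (.node 4 (.node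 2 (.node 1 (.leaf (nat_lit 0x1013541)) (.leaf (nat_lit 0x14ea9))) (.node 1 (.leaf (nat_lit 0x10148c1)) (.leaf (nat_lit 0x15945)))) (.node 2 (.node 1 (.leaf (nat_lit 0x1015e17)) (.leaf (nat_lit 0x16f3a))) (.node 1 (.leaf (nat_lit 0x1016f39)) (.leaf (nat_lit 0x10178e0)))))) (.node 8 (.node 4 (.node 2 (.node 1 (.leaf (nat_lit 0x18715)) (.leaf (nat_lit 0x101831b))) (.node 1 (.leaf (nat_lit 0x19603)) (.leaf (nat_lit 0x1019c5e)))) (.node 2 (.node 1 (.leaf (nat_lit 0x1ab43)) (.leaf (nat_lit 0x101aaaf))) (.node 1 (.leaf (nat_lit 0x1b7c5)) (.leaf (nat_lit 0x101b067))))) (.node 4 (.node 2 (.node 1 (.leaf (nat_lit 0x1cf10)) (.leaf (nat_lit 0x1d432))) (.node 1 (.leaf (nat_lit 0x101da3f)) (.leaf (nat_lit 0x1e6de)))) (.node 2 (.node 1 (.leaf (nat_lit 0x101e920)) (.leaf (nat_lit 0x1f627))) (.node 1 (.leaf (nat_lit 0x101f684)) (.leaf (nat_lit 0x20c52)))))))) (.node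 32 (.node 16 (.node 8 (.node 4 (.node 2 (.node 1 (.leaf (nat_lit 0x10208bf)) (.leaf (nat_lit 0x219b6))) (.node 1 (.leaf (nat_lit 0x2263e)) (.leaf (nat_lit 0x1022007)))) (.node 2 (.node 1 (.leaf (nat_lit 0x238f1)) (.leaf (nat_lit 0x1023014))) (.node 1 (.leaf (nat_lit 0x24bdc)) (.leaf (nat_lit 0x10242bd))))) (.node 4 (.node 2 (.node 1 (.leaf (nat_lit 0x25e78)) (.leaf (nat_lit 0x1025110))) (.node 1 (.leaf (nat_lit 0x26a37)) (.leaf (nat_lit 0x1026e23)))) (.node 2 (.node 1 (.leaf (nat_lit 0x1027cad)) (.leaf (nat_lit 0x2821f))) (.node 1 (.leaf (nat_lit 0x10283a3)) (.leaf (nat_lit 0x2940b)))))) (.node 8 (.node 4 (.node 2 (.node 1 (.leaf (nat_lit 0x102922f)) (.leaf (nat_lit 0x2a5ca))) (.node 1 (.leaf (nat_lit 0x102a281)) (.leaf (nat_lit 0x2bb65)))) (.node 2 (.node 1 (.leaf (nat_lit 0x102b1f5)) (.leaf (nat_lit 0x102ccde))) (.node 1 (.leaf (nat_lit 0x2d07a))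 (.leaf (nat_lit 0x102dce2))))) (.node 4 (.node 2 (.node 1 (.leaf (nat_lit 0x2e254)) (.leaf (nat_lit 0x102e2d8))) (.node 1 (.leaf (nat_lit 0x2f58e)) (.leaf (nat_lit 0x102feaf)))) (.node 2 (.node 1 (.leaf (nat_lit 0x30888)) (.leaf (nat_lit 0x10302b0))) (.node 1 (.leaf (nat_lit 0x319cb)) (.leaf (nat_lit 0x1031072))))))) (.node 16 (.node 8 (.node 4 (.node 2 (.node 1 (.leaf (nat_lit 0x32c8c)) (.leaf (nat_lit 0x1032660))) (.node 1 (.leaf (nat_lit 0x1033fc5)) (.leaf (nat_lit 0x34ccb)))) (.node 2 (.node 1 (.leaf (nat_lit 0x10348b4)) (.leaf (nat_lit 0x35465))) (.node 1 (.leaf (nat_lit 0x1035a24)) (.leaf (nat_lit 0x1036716))))) (.node 4 (.node 2 (.node 1 (.leaf (nat_lit 0x37a4f)) (.leaf (nat_lit 0x10377ab))) (.node 1 (.leaf (nat_lit 0x3875e)) (.leaf (nat_lit 0x10381f2)))) (.node 2 (.node 1 (.leaf (nat_lit 0x39be4)) (.leaf (nat_lit 0x1039cda))) (.node 1 (.leaf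 (nat_lit 0x3a1f7)) (.leaf (nat_lit 0x103ae0e)))))) (.node 8 (.node 4 (.node 2 (.node 1 (.leaf (nat_lit 0x3b326)) (.leaf (nat_lit 0x103b162))) (.node 1 (.leaf (nat_lit 0x3ca5a)) (.leaf (nat_lit 0x103cabf)))) (.node 2 (.node 1 (.leaf (nat_lit 0x3d5be)) (.leaf (nat_lit 0x103d494))) (.node 1 (.leaf (nat_lit 0x3e6bc)) (.leaf (nat_lit 0x103ec9a))))) (.node 4 (.node 2 (.node 1 (.leaf (nat_lit 0x3ff2a)) (.leaf (nat_lit 0x103f6db))) (.node 1 (.leaf (nat_lit 0x40bb1)) (.leaf (nat_lit 0x10409f2)))) (.node 2 (.node 1 (.leaf (nat_lit 0x1041a5b)) (.leaf (nat_lit 0x42179))) (.node 1 (.leaf (nat_lit 0x434d7)) (.leaf (nat_lit 0x1043f9d))))))))) (.node 64 (.node 32 (.node 16 (.node 8 (.node 4 (.node 2 (.node 1 (.leaf (nat_lit 0x1044f0f)) (.leaf (nat_lit 0x451d7))) (.node 1 (.leaf (nat_lit 0x1045df9)) (.leaf (nat_lit 0x46dae)))) (.node 2 (.node 1 (.leaf (nat_lit 0x1046662))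 (.leaf (nat_lit 0x47318))) (.node 1 (.leaf (nat_lit 0x1047540)) (.leaf (nat_lit 0x48fc0))))) (.node 4 (.node 2 (.node 1 (.leaf (nat_lit 0x10482af)) (.leaf (nat_lit 0x1049ac7))) (.node 1 (.leaf (nat_lit 0x4aba0)) (.leaf (nat_lit 0x104aea2)))) (.node 2 (.node 1 (.leaf (nat_lit 0x4b3b2)) (.leaf (nat_lit 0x104bf3d))) (.node 1 (.leaf (nat_lit 0x4c6c5)) (.leaf (nat_lit 0x104ce46)))))) (.node 8 (.node 4 (.node 2 (.node 1 (.leaf (nat_lit 0x4db28)) (.leaf (nat_lit 0x104d913))) (.node 1 (.leaf (nat_lit 0x4e574)) (.leaf (nat_lit 0x104e368)))) (.node 2 (.node 1 (.leaf (nat_lit 0x4f2c7)) (.leaf (nat_lit 0x104f5e0))) (.node 1 (.leaf (nat_lit 0x5079c)) (.leaf (nat_lit 0x1050c70))))) (.node 4 (.node 2 (.node 1 (.leaf (nat_lit 0x51d66)) (.leaf (nat_lit 0x1051cdd))) (.node 1 (.leaf (nat_lit 0x5210c)) (.leaf (nat_lit 0x1052e18)))) (.node 2 (.node 1 (.leaf (nat_lit 0x1053f3f))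 (.leaf (nat_lit 0x54cca))) (.node 1 (.leaf (nat_lit 0x1054f95)) (.leaf (nat_lit 0x55bc4))))))) (.node 16 (.node 8 (.node 4 (.node 2 (.node 1 (.leaf (nat_lit 0x1055a27)) (.leaf (nat_lit 0x56bde))) (.node 1 (.leaf (nat_lit 0x105607f)) (.leaf (nat_lit 0x57783)))) (.node 2 (.node 1 (.leaf (nat_lit 0x10573da)) (.leaf (nat_lit 0x5830b))) (.node 1 (.leaf (nat_lit 0x1058867)) (.leaf (nat_lit 0x5952d))))) (.node 4 (.node 2 (.node 1 (.leaf (nat_lit 0x1059fd1)) (.leaf (nat_lit 0x5af0d))) (.node 1 (.leaf (nat_lit 0x105a3b5)) (.leaf (nat_lit 0x5bb7c)))) (.node 2 (.node 1 (.leaf (nat_lit 0x105b722)) (.leaf (nat_lit 0x105c4b3))) (.node 1 (.leaf (nat_lit 0x5d93e)) (.leaf (nat_lit 0x105d960)))))) (.node 8 (.node 4 (.node 2 (.node 1 (.leaf (nat_lit 0x5e92e)) (.leaf (nat_lit 0x105e040))) (.node 1 (.leaf (nat_lit 0x5f195)) (.leaf (nat_lit 0x105f32a)))) (.node 2 (.node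 1 (.leaf (nat_lit 0x10608ef)) (.leaf (nat_lit 0x61c65))) (.node 1 (.leaf (nat_lit 0x1061f63)) (.leaf (nat_lit 0x1062460))))) (.node 4 (.node 2 (.node 1 (.leaf (nat_lit 0x6339c)) (.leaf (nat_lit 0x65b64))) (.node 1 (.leaf (nat_lit 0x10656d4)) (.leaf (nat_lit 0x66e22)))) (.node 2 (.node 1 (.leaf (nat_lit 0x10660f7)) (.leaf (nat_lit 0x67740))) (.node 1 (.leaf (nat_lit 0x1067f97)) (.leaf (nat_lit 0x68ea8)))))))) (.node 32 (.node 16 (.node 8 (.node 4 (.node 2 (.node 1 (.leaf (nat_lit 0x1068747)) (.leaf (nat_lit 0x695c8))) (.node 1 (.leaf (nat_lit 0x1069a0d)) (.leaf (nat_lit 0x106a1c7)))) (.node 2 (.node 1 (.leaf (nat_lit 0x6b218)) (.leaf (nat_lit 0x106b5e1))) (.node 1 (.leaf (nat_lit 0x6d2ba)) (.leaf (nat_lit 0x106de24))))) (.node 4 (.node 2 (.node 1 (.leaf (nat_lit 0x6edfb)) (.leaf (nat_lit 0x6fcfd))) (.node 1 (.leaf (nat_lit 0x106f0a8)) (.leaf (nat_lit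 0x71b10)))) (.node 2 (.node 1 (.leaf (nat_lit 0x10712ad)) (.leaf (nat_lit 0x72863))) (.node 1 (.leaf (nat_lit 0x10729a5)) (.leaf (nat_lit 0x10736fc)))))) (.node 8 (.node 4 (.node 2 (.node 1 (.leaf (nat_lit 0x754c1)) (.leaf (nat_lit 0x10752f4))) (.node 1 (.leaf (nat_lit 0x76257)) (.leaf (nat_lit 0x107644c)))) (.node 2 (.node 1 (.leaf (nat_lit 0x1077425)) (.leaf (nat_lit 0x78eb6))) (.node 1 (.leaf (nat_lit 0x107855f)) (.leaf (nat_lit 0x1079430))))) (.node 4 (.node 2 (.node 1 (.leaf (nat_lit 0x7a50b)) (.leaf (nat_lit 0x7b097))) (.node 1 (.leaf (nat_lit 0x107ba25)) (.leaf (nat_lit 0x7c8d8)))) (.node 2 (.node 1 (.leaf (nat_lit 0x107c016)) (.leaf (nat_lit 0x107db9a))) (.node 1 (.leaf (nat_lit 0x7e708)) (.leaf (nat_lit 0x7ff13))))))) (.node 16 (.node 8 (.node 4 (.node 2 (.node 1 (.leaf (nat_lit 0x107f70f)) (.leaf (nat_lit 0x80401))) (.node 1 (.leaf (nat_lit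 0x1080617)) (.leaf (nat_lit 0x814bd)))) (.node 2 (.node 1 (.leaf (nat_lit 0x108168e)) (.leaf (nat_lit 0x8241b))) (.node 1 (.leaf (nat_lit 0x1082b1b)) (.leaf (nat_lit 0x83514))))) (.node 4 (.node 2 (.node 1 (.leaf (nat_lit 0x842d1)) (.leaf (nat_lit 0x1084db1))) (.node 1 (.leaf (nat_lit 0x85d3e)) (.leaf (nat_lit 0x1085f4f)))) (.node 2 (.node 1 (.leaf (nat_lit 0x1086004)) (.leaf (nat_lit 0x889fa))) (.node 1 (.leaf (nat_lit 0x1088a08)) (.leaf (nat_lit 0x8909b)))))) (.node 8 (.node 4 (.node 2 (.node 1 (.leaf (nat_lit 0x1089822)) (.leaf (nat_lit 0x8a17d))) (.node 1 (.leaf (nat_lit 0x108ae2e)) (.leaf (nat_lit 0x8b6cb)))) (.node 2 (.node 1 (.leaf (nat_lit 0x108b479)) (.leaf (nat_lit 0x8c771))) (.node 1 (.leaf (nat_lit 0x108c72d)) (.leaf (nat_lit 0x8dc04))))) (.node 4 (.node 2 (.node 1 (.leaf (nat_lit 0x108d0b9)) (.leaf (nat_lit 0x8e039))) (.node 1 (.leaf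 (nat_lit 0x8f088)) (.leaf (nat_lit 0x108f15b)))) (.node 2 (.node 1 (.leaf (nat_lit 0x10903ab)) (.leaf (nat_lit 0x91402))) (.node 1 (.leaf (nat_lit 0x1091b4a)) (.leaf (nat_lit 0x92c76))))))))))

/-- A part of `lev1`. -/
def lev1_1 : Tree := (.node 128 (.node 64 (.node 32 (.node 16 (.node 8 (.node 4 (.node 2 (.node 1 (.leaf (nat_lit 0x937f8)) (.leaf (nat_lit 0x1093ddc))) (.node 1 (.leaf (nat_lit 0x953c8)) (.leaf (nat_lit 0x10957a1)))) (.node 2 (.node 1 (.leaf (nat_lit 0x967d7)) (.leaf (nat_lit 0x1096b8a))) (.node 1 (.leaf (nat_lit 0x97726)) (.leaf (nat_lit 0x109793d))))) (.node 4 (.node 2 (.node 1 (.leaf (nat_lit 0x98338)) (.leaf (nat_lit 0x1098935))) (.node 1 (.leaf (nat_lit 0x1099623)) (.leaf (nat_lit 0x9a0af)))) (.node 2 (.node 1 (.leaf (nat_lit 0x109acd3)) (.leaf (nat_lit 0x9b8df))) (.node 1 (.leaf (nat_lit 0x109bf46)) (.leaf (nat_lit 0x9c417))))))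 (.node 8 (.node 4 (.node 2 (.node 1 (.leaf (nat_lit 0x109c190)) (.leaf (nat_lit 0x9d268))) (.node 1 (.leaf (nat_lit 0x109da2b)) (.leaf (nat_lit 0x109e3eb)))) (.node 2 (.node 1 (.leaf (nat_lit 0x9f901)) (.leaf (nat_lit 0x109faba))) (.node 1 (.leaf (nat_lit 0xa0ae0)) (.leaf (nat_lit 0x10a0e79))))) (.node 4 (.node 2 (.node 1 (.leaf (nat_lit 0x10a125a)) (.leaf (nat_lit 0xa266b))) (.node 1 (.leaf (nat_lit 0x10a2fc6)) (.leaf (nat_lit 0xa371e)))) (.node 2 (.node 1 (.leaf (nat_lit 0xa4e54)) (.leaf (nat_lit 0x10a4f88))) (.node 1 (.leaf (nat_lit 0xa5646)) (.leaf (nat_lit 0xa6472))))))) (.node 16 (.node 8 (.node 4 (.node 2 (.node 1 (.leaf (nat_lit 0x10a68fa)) (.leaf (nat_lit 0xa73f9))) (.node 1 (.leaf (nat_lit 0x10a74e7)) (.leaf (nat_lit 0xa887a)))) (.node 2 (.node 1 (.leaf (nat_lit 0x10a8eb2)) (.leaf (nat_lit 0xa9f41))) (.node 1 (.leaf (nat_lit 0xaa559)) (.leaf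 (nat_lit 0x10aa70e))))) (.node 4 (.node 2 (.node 1 (.leaf (nat_lit 0xab5d3)) (.leaf (nat_lit 0x10ab20f))) (.node 1 (.leaf (nat_lit 0xac2be)) (.leaf (nat_lit 0x10ac510)))) (.node 2 (.node 1 (.leaf (nat_lit 0xad176)) (.leaf (nat_lit 0x10ade20))) (.node 1 (.leaf (nat_lit 0xaebf7)) (.leaf (nat_lit 0x10aea46)))))) (.node 8 (.node 4 (.node 2 (.node 1 (.leaf (nat_lit 0xaf408)) (.leaf (nat_lit 0x10af3c3))) (.node 1 (.leaf (nat_lit 0xb0e8a)) (.leaf (nat_lit 0x10b04fc)))) (.node 2 (.node 1 (.leaf (nat_lit 0x10b143c)) (.leaf (nat_lit 0xb2870))) (.node 1 (.leaf (nat_lit 0x10b212a)) (.leaf (nat_lit 0xb33cd))))) (.node 4 (.node 2 (.node 1 (.leaf (nat_lit 0x10b3c2e)) (.leaf (nat_lit 0xb4f9e))) (.node 1 (.leaf (nat_lit 0x10b455e)) (.leaf (nat_lit 0xb5deb)))) (.node 2 (.node 1 (.leaf (nat_lit 0xb6f27)) (.leaf (nat_lit 0x10b7079))) (.node 1 (.leaf (nat_lit 0x10b86a0))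 (.leaf (nat_lit 0xb9053)))))))) (.node 32 (.node 16 (.node 8 (.node 4 (.node 2 (.node 1 (.leaf (nat_lit 0x10b9265)) (.leaf (nat_lit 0x10ba1ad))) (.node 1 (.leaf (nat_lit 0xbb6d3)) (.leaf (nat_lit 0x10bb810)))) (.node 2 (.node 1 (.leaf (nat_lit 0xbc668)) (.leaf (nat_lit 0x10bca80))) (.node 1 (.leaf (nat_lit 0xbd191)) (.leaf (nat_lit 0x10beca5))))) (.node 4 (.node 2 (.node 1 (.leaf (nat_lit 0xbf11a)) (.leaf (nat_lit 0xc0949))) (.node 1 (.leaf (nat_lit 0xc13ed)) (.leaf (nat_lit 0x10c212e)))) (.node 2 (.node 1 (.leaf (nat_lit 0x10c3407)) (.leaf (nat_lit 0xc4429))) (.node 1 (.leaf (nat_lit 0x10c410b)) (.leaf (nat_lit 0xc577d)))))) (.node 8 (.node 4 (.node 2 (.node 1 (.leaf (nat_lit 0x10c5f89)) (.leaf (nat_lit 0xc6b30))) (.node 1 (.leaf (nat_lit 0xc7e2d)) (.leaf (nat_lit 0x10c72bf)))) (.node 2 (.node 1 (.leaf (nat_lit 0xc891b)) (.leaf (nat_lit 0xc9cc9)))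 (.node 1 (.leaf (nat_lit 0x10c9c74)) (.leaf (nat_lit 0xca53c))))) (.node 4 (.node 2 (.node 1 (.leaf (nat_lit 0x10ca637)) (.leaf (nat_lit 0xcbaf2))) (.node 1 (.leaf (nat_lit 0x10cb70a)) (.leaf (nat_lit 0xccc9d)))) (.node 2 (.node 1 (.leaf (nat_lit 0x10cc28f)) (.leaf (nat_lit 0xcd26e))) (.node 1 (.leaf (nat_lit 0x10ce135)) (.leaf (nat_lit 0xd01f8))))))) (.node 16 (.node 8 (.node 4 (.node 2 (.node 1 (.leaf (nat_lit 0x10d0ad9)) (.leaf (nat_lit 0xd1415))) (.node 1 (.leaf (nat_lit 0x10d1e44)) (.leaf (nat_lit 0xd2399)))) (.node 2 (.node 1 (.leaf (nat_lit 0x10d3ddb)) (.leaf (nat_lit 0x10d4cef))) (.node 1 (.leaf (nat_lit 0x10d5219)) (.leaf (nat_lit 0xd6ae5))))) (.node 4 (.node 2 (.node 1 (.leaf (nat_lit 0x10d64b4)) (.leaf (nat_lit 0xd7e12))) (.node 1 (.leaf (nat_lit 0x10d70a1)) (.leaf (nat_lit 0xd8ced)))) (.node 2 (.node 1 (.leaf (nat_lit 0x10d8d1c)) (.leaf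 (nat_lit 0xd9805))) (.node 1 (.leaf (nat_lit 0x10d993b)) (.leaf (nat_lit 0xda929)))))) (.node 8 (.node 4 (.node 2 (.node 1 (.leaf (nat_lit 0x10da1c0)) (.leaf (nat_lit 0xdb839))) (.node 1 (.leaf (nat_lit 0x10dbe7a)) (.leaf (nat_lit 0xdc0d9)))) (.node 2 (.node 1 (.leaf (nat_lit 0x10dcdd9)) (.leaf (nat_lit 0xdd984))) (.node 1 (.leaf (nat_lit 0x10dd353)) (.leaf (nat_lit 0xdeb9b))))) (.node 4 (.node 2 (.node 1 (.leaf (nat_lit 0x10de8f5)) (.leaf (nat_lit 0xdf3a2))) (.node 1 (.leaf (nat_lit 0x10df285)) (.leaf (nat_lit 0xe05c7)))) (.node 2 (.node 1 (.leaf (nat_lit 0x10e0351)) (.leaf (nat_lit 0xe1196))) (.node 1 (.leaf (nat_lit 0xe2fcf)) (.leaf (nat_lit 0x10e2fd0))))))))) (.node 64 (.node 32 (.node 16 (.node 8 (.node 4 (.node 2 (.node 1 (.leaf (nat_lit 0xe3ec4)) (.leaf (nat_lit 0x10e3758))) (.node 1 (.leaf (nat_lit 0x10e4f15)) (.leaf (nat_lit 0xe5a2f)))) (.node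 2 (.node 1 (.leaf (nat_lit 0x10e5423)) (.leaf (nat_lit 0xe686c))) (.node 1 (.leaf (nat_lit 0x10e6694)) (.leaf (nat_lit 0x10e7f38))))) (.node 4 (.node 2 (.node 1 (.leaf (nat_lit 0x10e8aff)) (.leaf (nat_lit 0xe90b3))) (.node 1 (.leaf (nat_lit 0x10e9c32)) (.leaf (nat_lit 0xeaa35)))) (.node 2 (.node 1 (.leaf (nat_lit 0x10ebf0a)) (.leaf (nat_lit 0xecbf6))) (.node 1 (.leaf (nat_lit 0x10ecd74)) (.leaf (nat_lit 0x10ed34b)))))) (.node 8 (.node 4 (.node 2 (.node 1 (.leaf (nat_lit 0xee164)) (.leaf (nat_lit 0x10efb86))) (.node 1 (.leaf (nat_lit 0x10f0809)) (.leaf (nat_lit 0x10f1f2b)))) (.node 2 (.node 1 (.leaf (nat_lit 0xf2a6e)) (.leaf (nat_lit 0xf3aae))) (.node 1 (.leaf (nat_lit 0x10f3e80)) (.leaf (nat_lit 0xf4ed5))))) (.node 4 (.node 2 (.node 1 (.leaf (nat_lit 0x10f4325)) (.leaf (nat_lit 0xf536b))) (.node 1 (.leaf (nat_lit 0x10f53b4)) (.leaf (nat_lit 0x10f60e8))))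 (.node 2 (.node 1 (.leaf (nat_lit 0xf7be9)) (.leaf (nat_lit 0x10f7605))) (.node 1 (.leaf (nat_lit 0xf8eb4)) (.leaf (nat_lit 0x10f8dd3))))))) (.node 16 (.node 8 (.node 4 (.node 2 (.node 1 (.leaf (nat_lit 0xf998f)) (.leaf (nat_lit 0x10f97cb))) (.node 1 (.leaf (nat_lit 0xfa07d)) (.leaf (nat_lit 0xfb060)))) (.node 2 (.node 1 (.leaf (nat_lit 0xfc56d)) (.leaf (nat_lit 0x10fc777))) (.node 1 (.leaf (nat_lit 0xfdd80)) (.leaf (nat_lit 0x10fd40c))))) (.node 4 (.node 2 (.node 1 (.leaf (nat_lit 0xfef47)) (.leaf (nat_lit 0x10fe566))) (.node 1 (.leaf (nat_lit 0x10ff869)) (.leaf (nat_lit 0x100afe)))) (.node 2 (.node 1 (.leaf (nat_lit 0x1100b2b)) (.leaf (nat_lit 0x1101ca1))) (.node 1 (.leaf (nat_lit 0x1022b6)) (.leaf (nat_lit 0x1102f50)))))) (.node 8 (.node 4 (.node 2 (.node 1 (.leaf (nat_lit 0x10359a)) (.leaf (nat_lit 0x1103272))) (.node 1 (.leaf (nat_lit 0x104548))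 (.leaf (nat_lit 0x105074)))) (.node 2 (.node 1 (.leaf (nat_lit 0x11057ac)) (.leaf (nat_lit 0x10674f))) (.node 1 (.leaf (nat_lit 0x1106e7e)) (.leaf (nat_lit 0x107959))))) (.node 4 (.node 2 (.node 1 (.leaf (nat_lit 0x1107dad)) (.leaf (nat_lit 0x1097a0))) (.node 1 (.leaf (nat_lit 0x1109500)) (.leaf (nat_lit 0x10a97d)))) (.node 2 (.node 1 (.leaf (nat_lit 0x110aaab)) (.leaf (nat_lit 0x110b04b))) (.node 1 (.leaf (nat_lit 0x10d8c0)) (.leaf (nat_lit 0x110d8da)))))))) (.node 32 (.node 16 (.node 8 (.node 4 (.node 2 (.node 1 (.leaf (nat_lit 0x10e6bb)) (.leaf (nat_lit 0x110e34d))) (.node 1 (.leaf (nat_lit 0x110f954)) (.leaf (nat_lit 0x11018e)))) (.node 2 (.node 1 (.leaf (nat_lit 0x1110ceb)) (.leaf (nat_lit 0x112452))) (.node 1 (.leaf (nat_lit 0x1112f4e)) (.leaf (nat_lit 0x1113bd7))))) (.node 4 (.node 2 (.node 1 (.leaf (nat_lit 0x11473a)) (.leaf (nat_lit 0x1162a1)))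 (.node 1 (.leaf (nat_lit 0x1116a02)) (.leaf (nat_lit 0x1118508)))) (.node 2 (.node 1 (.leaf (nat_lit 0x111a762)) (.leaf (nat_lit 0x11b0c5))) (.node 1 (.leaf (nat_lit 0x111b0bc)) (.leaf (nat_lit 0x11c92f)))))) (.node 8 (.node 4 (.node 2 (.node 1 (.leaf (nat_lit 0x111ce85)) (.leaf (nat_lit 0x11d78d))) (.node 1 (.leaf (nat_lit 0x111d438)) (.leaf (nat_lit 0x111e48f)))) (.node 2 (.node 1 (.leaf (nat_lit 0x111f0fb)) (.leaf (nat_lit 0x1201f4))) (.node 1 (.leaf (nat_lit 0x1120608)) (.leaf (nat_lit 0x121a30))))) (.node 4 (.node 2 (.node 1 (.leaf (nat_lit 0x122e88)) (.leaf (nat_lit 0x11224f3))) (.node 1 (.leaf (nat_lit 0x123a94)) (.leaf (nat_lit 0x1123dd8)))) (.node 2 (.node 1 (.leaf (nat_lit 0x12464a)) (.leaf (nat_lit 0x1125b36))) (.node 1 (.leaf (nat_lit 0x127cd7)) (.leaf (nat_lit 0x12857b))))))) (.node 16 (.node 8 (.node 4 (.node 2 (.node 1 (.leaf (nat_lit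 0x1128a7c)) (.leaf (nat_lit 0x1129e6a))) (.node 1 (.leaf (nat_lit 0x12aa26)) (.leaf (nat_lit 0x112a2ea)))) (.node 2 (.node 1 (.leaf (nat_lit 0x112bbc9)) (.leaf (nat_lit 0x112c4eb))) (.node 1 (.leaf (nat_lit 0x12d528)) (.leaf (nat_lit 0x112d644))))) (.node 4 (.node 2 (.node 1 (.leaf (nat_lit 0x12e0e2)) (.leaf (nat_lit 0x12f898))) (.node 1 (.leaf (nat_lit 0x112fe42)) (.leaf (nat_lit 0x1308b6)))) (.node 2 (.node 1 (.leaf (nat_lit 0x1130125)) (.leaf (nat_lit 0x131ce6))) (.node 1 (.leaf (nat_lit 0x11315b2)) (.leaf (nat_lit 0x1133bd0)))))) (.node 8 (.node 4 (.node 2 (.node 1 (.leaf (nat_lit 0x134d0d)) (.leaf (nat_lit 0x1134a3b))) (.node 1 (.leaf (nat_lit 0x135c78)) (.leaf (nat_lit 0x1137b05)))) (.node 2 (.node 1 (.leaf (nat_lit 0x138bbd)) (.leaf (nat_lit 0x13974b))) (.node 1 (.leaf (nat_lit 0x1139d75)) (.leaf (nat_lit 0x113a38e))))) (.node 4 (.node 2 (.node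 1 (.leaf (nat_lit 0x13bde3)) (.leaf (nat_lit 0x113b9aa))) (.node 1 (.leaf (nat_lit 0x13c50a)) (.leaf (nat_lit 0x113c866)))) (.node 2 (.node 1 (.leaf (nat_lit 0x13de47)) (.leaf (nat_lit 0x13ec42))) (.node 1 (.leaf (nat_lit 0x113e4be)) (.leaf (nat_lit 0x113f01e))))))))))

/-- A part of `lev1`. -/
def lev1_2 : Tree := (.node 128 (.node 64 (.node 32 (.node 16 (.node 8 (.node 4 (.node 2 (.node 1 (.leaf (nat_lit 0x14095c)) (.leaf (nat_lit 0x11404b8))) (.node 1 (.leaf (nat_lit 0x141e7f)) (.leaf (nat_lit 0x142eca)))) (.node 2 (.node 1 (.leaf (nat_lit 0x1142b1d)) (.leaf (nat_lit 0x14362e))) (.node 1 (.leaf (nat_lit 0x144239)) (.leaf (nat_lit 0x1144c7c))))) (.node 4 (.node 2 (.node 1 (.leaf (nat_lit 0x1458c2)) (.leaf (nat_lit 0x146aa1))) (.node 1 (.leaf (nat_lit 0x1146495)) (.leaf (nat_lit 0x1478f2)))) (.node 2 (.node 1 (.leaf (nat_lit 0x11496ca)) (.leaf (nat_lit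 0x14ab55))) (.node 1 (.leaf (nat_lit 0x14bce3)) (.leaf (nat_lit 0x114ba10)))))) (.node 8 (.node 4 (.node 2 (.node 1 (.leaf (nat_lit 0x114c1bd)) (.leaf (nat_lit 0x14d06f))) (.node 1 (.leaf (nat_lit 0x114e061)) (.leaf (nat_lit 0x14f421)))) (.node 2 (.node 1 (.leaf (nat_lit 0x1500f6)) (.leaf (nat_lit 0x11500c0))) (.node 1 (.leaf (nat_lit 0x151872)) (.leaf (nat_lit 0x115179b))))) (.node 4 (.node 2 (.node 1 (.leaf (nat_lit 0x152361)) (.leaf (nat_lit 0x153539))) (.node 1 (.leaf (nat_lit 0x1153a7a)) (.leaf (nat_lit 0x1154f28)))) (.node 2 (.node 1 (.leaf (nat_lit 0x1155fc2)) (.leaf (nat_lit 0x1156b51))) (.node 1 (.leaf (nat_lit 0x11579b2)) (.leaf (nat_lit 0x1585b3))))))) (.node 16 (.node 8 (.node 4 (.node 2 (.node 1 (.leaf (nat_lit 0x11587b2)) (.leaf (nat_lit 0x15a8e9))) (.node 1 (.leaf (nat_lit 0x15b400)) (.leaf (nat_lit 0x115d172)))) (.node 2 (.node 1 (.leaf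 (nat_lit 0x15eabe)) (.leaf (nat_lit 0x15fa34))) (.node 1 (.leaf (nat_lit 0x115f4c9)) (.leaf (nat_lit 0x160012))))) (.node 4 (.node 2 (.node 1 (.leaf (nat_lit 0x1160ea7)) (.leaf (nat_lit 0x161474))) (.node 1 (.leaf (nat_lit 0x1162661)) (.leaf (nat_lit 0x1163713)))) (.node 2 (.node 1 (.leaf (nat_lit 0x164bc6)) (.leaf (nat_lit 0x1164912))) (.node 1 (.leaf (nat_lit 0x165f3e)) (.leaf (nat_lit 0x1165d06)))))) (.node 8 (.node 4 (.node 2 (.node 1 (.leaf (nat_lit 0x166ae8)) (.leaf (nat_lit 0x1166943))) (.node 1 (.leaf (nat_lit 0x16700a)) (.leaf (nat_lit 0x1167e3c)))) (.node 2 (.node 1 (.leaf (nat_lit 0x1168985)) (.leaf (nat_lit 0x169e6c))) (.node 1 (.leaf (nat_lit 0x16a37d)) (.leaf (nat_lit 0x116a333))))) (.node 4 (.node 2 (.node 1 (.leaf (nat_lit 0x116bcc6)) (.leaf (nat_lit 0x16c5da))) (.node 1 (.leaf (nat_lit 0x116ca59)) (.leaf (nat_lit 0x16df7d)))) (.node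 2 (.node 1 (.leaf (nat_lit 0x116db1e)) (.leaf (nat_lit 0x170f62))) (.node 1 (.leaf (nat_lit 0x1170280)) (.leaf (nat_lit 0x171ddf)))))))) (.node 32 (.node 16 (.node 8 (.node 4 (.node 2 (.node 1 (.leaf (nat_lit 0x11717b8)) (.leaf (nat_lit 0x172877))) (.node 1 (.leaf (nat_lit 0x1738b8)) (.leaf (nat_lit 0x1174c23)))) (.node 2 (.node 1 (.leaf (nat_lit 0x1176013)) (.leaf (nat_lit 0x1177220))) (.node 1 (.leaf (nat_lit 0x1179ab5)) (.leaf (nat_lit 0x117ab20))))) (.node 4 (.node 2 (.node 1 (.leaf (nat_lit 0x17bf42)) (.leaf (nat_lit 0x17cf69))) (.node 1 (.leaf (nat_lit 0x117c993)) (.leaf (nat_lit 0x117d78b)))) (.node 2 (.node 1 (.leaf (nat_lit 0x17ef12)) (.leaf (nat_lit 0x117ee11))) (.node 1 (.leaf (nat_lit 0x17f723)) (.leaf (nat_lit 0x117fc1e)))))) (.node 8 (.node 4 (.node 2 (.node 1 (.leaf (nat_lit 0x1180547)) (.leaf (nat_lit 0x1181567))) (.node 1 (.leaf (nat_lit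 0x18262f)) (.leaf (nat_lit 0x183a2a)))) (.node 2 (.node 1 (.leaf (nat_lit 0x1183ef8)) (.leaf (nat_lit 0x1184ce4))) (.node 1 (.leaf (nat_lit 0x185ad0)) (.leaf (nat_lit 0x1185793))))) (.node 4 (.node 2 (.node 1 (.leaf (nat_lit 0x1864e8)) (.leaf (nat_lit 0x1186dea))) (.node 1 (.leaf (nat_lit 0x1187908)) (.leaf (nat_lit 0x188a54)))) (.node 2 (.node 1 (.leaf (nat_lit 0x189874)) (.leaf (nat_lit 0x18ac06))) (.node 1 (.leaf (nat_lit 0x18c659)) (.leaf (nat_lit 0x118c41d))))))) (.node 16 (.node 8 (.node 4 (.node 2 (.node 1 (.leaf (nat_lit 0x18d009)) (.leaf (nat_lit 0x118daef))) (.node 1 (.leaf (nat_lit 0x18e130)) (.leaf (nat_lit 0x18f889)))) (.node 2 (.node 1 (.leaf (nat_lit 0x118f5c3)) (.leaf (nat_lit 0x19029a))) (.node 1 (.leaf (nat_lit 0x1190cf7)) (.leaf (nat_lit 0x1191e7c))))) (.node 4 (.node 2 (.node 1 (.leaf (nat_lit 0x192970)) (.leaf (nat_lit 0x1192ae4)))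 (.node 1 (.leaf (nat_lit 0x193523)) (.leaf (nat_lit 0x11935c5)))) (.node 2 (.node 1 (.leaf (nat_lit 0x194754)) (.leaf (nat_lit 0x19557a))) (.node 1 (.leaf (nat_lit 0x196390)) (.leaf (nat_lit 0x1196292)))))) (.node 8 (.node 4 (.node 2 (.node 1 (.leaf (nat_lit 0x198980)) (.leaf (nat_lit 0x119853d))) (.node 1 (.leaf (nat_lit 0x19a763)) (.leaf (nat_lit 0x19bfcc)))) (.node 2 (.node 1 (.leaf (nat_lit 0x119cc7d)) (.leaf (nat_lit 0x19dcfc))) (.node 1 (.leaf (nat_lit 0x119de25)) (.leaf (nat_lit 0x19ef29))))) (.node 4 (.node 2 (.node 1 (.leaf (nat_lit 0x119e64e)) (.leaf (nat_lit 0x19f518))) (.node 1 (.leaf (nat_lit 0x11a0803)) (.leaf (nat_lit 0x1a17ad)))) (.node 2 (.node 1 (.leaf (nat_lit 0x11a1774)) (.leaf (nat_lit 0x1a27b1))) (.node 1 (.leaf (nat_lit 0x11a23d1)) (.leaf (nat_lit 0x1a3688))))))))) (.node 64 (.node 32 (.node 16 (.node 8 (.node 4 (.node 2 (.node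 1 (.leaf (nat_lit 0x11a30d8)) (.leaf (nat_lit 0x11a4f1c))) (.node 1 (.leaf (nat_lit 0x1a5eb8)) (.leaf (nat_lit 0x1a6bfc)))) (.node 2 (.node 1 (.leaf (nat_lit 0x11a6026)) (.leaf (nat_lit 0x1a79af))) (.node 1 (.leaf (nat_lit 0x11a7a1e)) (.leaf (nat_lit 0x1a8076))))) (.node 4 (.node 2 (.node 1 (.leaf (nat_lit 0x11a8594)) (.leaf (nat_lit 0x1a946c))) (.node 1 (.leaf (nat_lit 0x11a9876)) (.leaf (nat_lit 0x1aac3a)))) (.node 2 (.node 1 (.leaf (nat_lit 0x11aa403)) (.leaf (nat_lit 0x11ab7cf))) (.node 1 (.leaf (nat_lit 0x1ac8db)) (.leaf (nat_lit 0x11acc24)))))) (.node 8 (.node 4 (.node 2 (.node 1 (.leaf (nat_lit 0x1add21)) (.leaf (nat_lit 0x11adb8b))) (.node 1 (.leaf (nat_lit 0x1ae84f)) (.leaf (nat_lit 0x11aeb7a)))) (.node 2 (.node 1 (.leaf (nat_lit 0x1af689)) (.leaf (nat_lit 0x11af74c))) (.node 1 (.leaf (nat_lit 0x1b0b8e)) (.leaf (nat_lit 0x1b1e3d))))) (.node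 4 (.node 2 (.node 1 (.leaf (nat_lit 0x11b1b31)) (.leaf (nat_lit 0x1b5461))) (.node 1 (.leaf (nat_lit 0x1b7ef6)) (.leaf (nat_lit 0x11b7f11)))) (.node 2 (.node 1 (.leaf (nat_lit 0x1b8521)) (.leaf (nat_lit 0x11b8184))) (.node 1 (.leaf (nat_lit 0x11b92c8)) (.leaf (nat_lit 0x1ba09c))))))) (.node 16 (.node 8 (.node 4 (.node 2 (.node 1 (.leaf (nat_lit 0x1bbe3f)) (.leaf (nat_lit 0x11bbaa0))) (.node 1 (.leaf (nat_lit 0x11bccab)) (.leaf (nat_lit 0x1bd6b4)))) (.node 2 (.node 1 (.leaf (nat_lit 0x11beefa)) (.leaf (nat_lit 0x1c0c56))) (.node 1 (.leaf (nat_lit 0x1c147d)) (.leaf (nat_lit 0x11c1de5))))) (.node 4 (.node 2 (.node 1 (.leaf (nat_lit 0x1c2992)) (.leaf (nat_lit 0x1c3ac1))) (.node 1 (.leaf (nat_lit 0x1c494d)) (.leaf (nat_lit 0x1c5de0)))) (.node 2 (.node 1 (.leaf (nat_lit 0x11c50ee)) (.leaf (nat_lit 0x1c629d))) (.node 1 (.leaf (nat_lit 0x11c72ee)) (.leaf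 (nat_lit 0x11c9c9b)))))) (.node 8 (.node 4 (.node 2 (.node 1 (.leaf (nat_lit 0x11ca1d0)) (.leaf (nat_lit 0x1cb1c6))) (.node 1 (.leaf (nat_lit 0x11cc5d1)) (.leaf (nat_lit 0x11cd487)))) (.node 2 (.node 1 (.leaf (nat_lit 0x11ce359)) (.leaf (nat_lit 0x11d30fd))) (.node 1 (.leaf (nat_lit 0x1d4751)) (.leaf (nat_lit 0x1d660d))))) (.node 4 (.node 2 (.node 1 (.leaf (nat_lit 0x11d6380)) (.leaf (nat_lit 0x11d7a39))) (.node 1 (.leaf (nat_lit 0x11d8815)) (.leaf (nat_lit 0x1d9307)))) (.node 2 (.node 1 (.leaf (nat_lit 0x1db53f)) (.leaf (nat_lit 0x11dc2a3))) (.node 1 (.leaf (nat_lit 0x11ddfcd)) (.leaf (nat_lit 0x1dea56)))))))) (.node 32 (.node 16 (.node 8 (.node 4 (.node 2 (.node 1 (.leaf (nat_lit 0x1e001a)) (.leaf (nat_lit 0x11e1492))) (.node 1 (.leaf (nat_lit 0x11e26c3)) (.leaf (nat_lit 0x1e3cc3)))) (.node 2 (.node 1 (.leaf (nat_lit 0x1e4c2b)) (.leaf (nat_lit 0x11e4d0e)))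 (.node 1 (.leaf (nat_lit 0x1e5922)) (.leaf (nat_lit 0x1e7d58))))) (.node 4 (.node 2 (.node 1 (.leaf (nat_lit 0x11e72a9)) (.leaf (nat_lit 0x11e8e63))) (.node 1 (.leaf (nat_lit 0x1e9e1d)) (.leaf (nat_lit 0x11eae82)))) (.node 2 (.node 1 (.leaf (nat_lit 0x1ebef5)) (.leaf (nat_lit 0x11ebb74))) (.node 1 (.leaf (nat_lit 0x1edf09)) (.leaf (nat_lit 0x11ed5ff)))))) (.node 8 (.node 4 (.node 2 (.node 1 (.leaf (nat_lit 0x11ee177)) (.leaf (nat_lit 0x1eff78))) (.node 1 (.leaf (nat_lit 0x11f0375)) (.leaf (nat_lit 0x11f33b8)))) (.node 2 (.node 1 (.leaf (nat_lit 0x11f46b7)) (.leaf (nat_lit 0x1f654d))) (.node 1 (.leaf (nat_lit 0x1f790d)) (.leaf (nat_lit 0x11f7e7b))))) (.node 4 (.node 2 (.node 1 (.leaf (nat_lit 0x1f9cf9)) (.leaf (nat_lit 0x11f9cb9))) (.node 1 (.leaf (nat_lit 0x1fa314)) (.leaf (nat_lit 0x11fb535)))) (.node 2 (.node 1 (.leaf (nat_lit 0x1fc36e)) (.leaf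 (nat_lit 0x11fc85d))) (.node 1 (.leaf (nat_lit 0x1fd214)) (.leaf (nat_lit 0x11fe2bc))))))) (.node 16 (.node 8 (.node 4 (.node 2 (.node 1 (.leaf (nat_lit 0x200a3a)) (.leaf (nat_lit 0x120395b))) (.node 1 (.leaf (nat_lit 0x120470d)) (.leaf (nat_lit 0x2073fc)))) (.node 2 (.node 1 (.leaf (nat_lit 0x2086a6)) (.leaf (nat_lit 0x1209d62))) (.node 1 (.leaf (nat_lit 0x20a1c4)) (.leaf (nat_lit 0x120ad9a))))) (.node 4 (.node 2 (.node 1 (.leaf (nat_lit 0x20bce1)) (.leaf (nat_lit 0x120b306))) (.node 1 (.leaf (nat_lit 0x20cdb2)) (.leaf (nat_lit 0x20e530)))) (.node 2 (.node 1 (.leaf (nat_lit 0x120e320)) (.leaf (nat_lit 0x120f52f))) (.node 1 (.leaf (nat_lit 0x1210155)) (.leaf (nat_lit 0x1212459)))))) (.node 8 (.node 4 (.node 2 (.node 1 (.leaf (nat_lit 0x21428d)) (.leaf (nat_lit 0x1214113))) (.node 1 (.leaf (nat_lit 0x21568b)) (.leaf (nat_lit 0x21858b)))) (.node 2 (.node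 1 (.leaf (nat_lit 0x12196c6)) (.leaf (nat_lit 0x121abd9))) (.node 1 (.leaf (nat_lit 0x121cd73)) (.leaf (nat_lit 0x121ec1a))))) (.node 4 (.node 2 (.node 1 (.leaf (nat_lit 0x21f7af)) (.leaf (nat_lit 0x121fb34))) (.node 1 (.leaf (nat_lit 0x220b58)) (.leaf (nat_lit 0x12236d5)))) (.node 2 (.node 1 (.leaf (nat_lit 0x1224840)) (.leaf (nat_lit 0x122551e))) (.node 1 (.leaf (nat_lit 0x1226609)) (.leaf (nat_lit 0x227dda))))))))))

/-- A part of `lev1`. -/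
def lev1_3 : Tree := (.node 128 (.node 64 (.node 32 (.node 16 (.node 8 (.node 4 (.node 2 (.node 1 (.leaf (nat_lit 0x22a595)) (.leaf (nat_lit 0x22bc57))) (.node 1 (.leaf (nat_lit 0x122b8d3)) (.leaf (nat_lit 0x22cb5a)))) (.node 2 (.node 1 (.leaf (nat_lit 0x22d76e)) (.leaf (nat_lit 0x122d965))) (.node 1 (.leaf (nat_lit 0x22eb09)) (.leaf (nat_lit 0x22f4cf))))) (.node 4 (.node 2 (.node 1 (.leaf (nat_lit 0x122f3e5)) (.leaf (nat_lit 0x1230e13))) (.node 1 (.leaf (nat_lit 0x2313ce)) (.leaf (nat_lit 0x12319f5)))) (.node 2 (.node 1 (.leaf (nat_lit 0x1232aa5)) (.leaf (nat_lit 0x233d87))) (.node 1 (.leaf (nat_lit 0x1233f5a)) (.leaf (nat_lit 0x234d39)))))) (.node 8 (.node 4 (.node 2 (.node 1 (.leaf (nat_lit 0x2369fc)) (.leaf (nat_lit 0x1237e32))) (.node 1 (.leaf (nat_lit 0x2386e9)) (.leaf (nat_lit 0x239a72)))) (.node 2 (.node 1 (.leaf (nat_lit 0x23a13b)) (.leaf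 (nat_lit 0x123a369))) (.node 1 (.leaf (nat_lit 0x23c4e5)) (.leaf (nat_lit 0x123c50e))))) (.node 4 (.node 2 (.node 1 (.leaf (nat_lit 0x23d085)) (.leaf (nat_lit 0x123f6d0))) (.node 1 (.leaf (nat_lit 0x240e56)) (.leaf (nat_lit 0x1240542)))) (.node 2 (.node 1 (.leaf (nat_lit 0x2417aa)) (.leaf (nat_lit 0x1241e89))) (.node 1 (.leaf (nat_lit 0x24262d)) (.leaf (nat_lit 0x12430ff))))))) (.node 16 (.node 8 (.node 4 (.node 2 (.node 1 (.leaf (nat_lit 0x24495d)) (.leaf (nat_lit 0x12443ca))) (.node 1 (.leaf (nat_lit 0x1246a0f)) (.leaf (nat_lit 0x247bb7)))) (.node 2 (.node 1 (.leaf (nat_lit 0x124800e)) (.leaf (nat_lit 0x2498fe))) (.node 1 (.leaf (nat_lit 0x1249b68)) (.leaf (nat_lit 0x24b286))))) (.node 4 (.node 2 (.node 1 (.leaf (nat_lit 0x124b9b7)) (.leaf (nat_lit 0x124c255))) (.node 1 (.leaf (nat_lit 0x24fca7)) (.leaf (nat_lit 0x25060f)))) (.node 2 (.node 1 (.leaf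 (nat_lit 0x1250e06)) (.leaf (nat_lit 0x251730))) (.node 1 (.leaf (nat_lit 0x125219a)) (.leaf (nat_lit 0x12547bc)))))) (.node 8 (.node 4 (.node 2 (.node 1 (.leaf (nat_lit 0x12562e6)) (.leaf (nat_lit 0x257dcd))) (.node 1 (.leaf (nat_lit 0x258ba1)) (.leaf (nat_lit 0x1259927)))) (.node 2 (.node 1 (.leaf (nat_lit 0x25aa70)) (.leaf (nat_lit 0x25b8f0))) (.node 1 (.leaf (nat_lit 0x125b7c6)) (.leaf (nat_lit 0x25ee21))))) (.node 4 (.node 2 (.node 1 (.leaf (nat_lit 0x25f199)) (.leaf (nat_lit 0x26026f))) (.node 1 (.leaf (nat_lit 0x2616c9)) (.leaf (nat_lit 0x1261d7d)))) (.node 2 (.node 1 (.leaf (nat_lit 0x26243f)) (.leaf (nat_lit 0x12627be))) (.node 1 (.leaf (nat_lit 0x1264c8d)) (.leaf (nat_lit 0x26826a)))))))) (.node 32 (.node 16 (.node 8 (.node 4 (.node 2 (.node 1 (.leaf (nat_lit 0x269af3)) (.leaf (nat_lit 0x1269d3f))) (.node 1 (.leaf (nat_lit 0x126a88a)) (.leaf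 (nat_lit 0x26b860)))) (.node 2 (.node 1 (.leaf (nat_lit 0x26c549)) (.leaf (nat_lit 0x126cf7b))) (.node 1 (.leaf (nat_lit 0x126e6b1)) (.leaf (nat_lit 0x27068d))))) (.node 4 (.node 2 (.node 1 (.leaf (nat_lit 0x1270f0b)) (.leaf (nat_lit 0x271147))) (.node 1 (.leaf (nat_lit 0x272952)) (.leaf (nat_lit 0x127223d)))) (.node 2 (.node 1 (.leaf (nat_lit 0x127339f)) (.leaf (nat_lit 0x12747bb))) (.node 1 (.leaf (nat_lit 0x1275f74)) (.leaf (nat_lit 0x278784)))))) (.node 8 (.node 4 (.node 2 (.node 1 (.leaf (nat_lit 0x127a100)) (.leaf (nat_lit 0x27b789))) (.node 1 (.leaf (nat_lit 0x127ca42)) (.leaf (nat_lit 0x127d304)))) (.node 2 (.node 1 (.leaf (nat_lit 0x27e35a)) (.leaf (nat_lit 0x127eafc))) (.node 1 (.leaf (nat_lit 0x27fbe0)) (.leaf (nat_lit 0x12806da))))) (.node 4 (.node 2 (.node 1 (.leaf (nat_lit 0x2810e9)) (.leaf (nat_lit 0x282a31))) (.node 1 (.leaf (nat_lit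 0x28446d)) (.leaf (nat_lit 0x28522c)))) (.node 2 (.node 1 (.leaf (nat_lit 0x1285a87)) (.leaf (nat_lit 0x28676f))) (.node 1 (.leaf (nat_lit 0x287ea3)) (.leaf (nat_lit 0x289e4b))))))) (.node 16 (.node 8 (.node 4 (.node 2 (.node 1 (.leaf (nat_lit 0x1289264)) (.leaf (nat_lit 0x128b52c))) (.node 1 (.leaf (nat_lit 0x28ce31)) (.leaf (nat_lit 0x128cc19)))) (.node 2 (.node 1 (.leaf (nat_lit 0x28ef1d)) (.leaf (nat_lit 0x128efa9))) (.node 1 (.leaf (nat_lit 0x290e6d)) (.leaf (nat_lit 0x2910c3))))) (.node 4 (.node 2 (.node 1 (.leaf (nat_lit 0x1292e10)) (.leaf (nat_lit 0x12930f9))) (.node 1 (.leaf (nat_lit 0x2952e5)) (.leaf (nat_lit 0x1296de4)))) (.node 2 (.node 1 (.leaf (nat_lit 0x1297cb7)) (.leaf (nat_lit 0x1299d7a))) (.node 1 (.leaf (nat_lit 0x129a0b2)) (.leaf (nat_lit 0x29cfab)))))) (.node 8 (.node 4 (.node 2 (.node 1 (.leaf (nat_lit 0x29dbc7)) (.leaf (nat_lit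 0x129d005))) (.node 1 (.leaf (nat_lit 0x29e72c)) (.leaf (nat_lit 0x129eb63)))) (.node 2 (.node 1 (.leaf (nat_lit 0x29f305)) (.leaf (nat_lit 0x12a04b9))) (.node 1 (.leaf (nat_lit 0x12a2e6b)) (.leaf (nat_lit 0x12a328e))))) (.node 4 (.node 2 (.node 1 (.leaf (nat_lit 0x2a4b62)) (.leaf (nat_lit 0x2a5cbb))) (.node 1 (.leaf (nat_lit 0x2a65e6)) (.leaf (nat_lit 0x12a656e)))) (.node 2 (.node 1 (.leaf (nat_lit 0x2a8006)) (.leaf (nat_lit 0x12a82f0))) (.node 1 (.leaf (nat_lit 0x12aab72)) (.leaf (nat_lit 0x12abb29))))))))) (.node 64 (.node 32 (.node 16 (.node 8 (.node 4 (.node 2 (.node 1 (.leaf (nat_lit 0x2acfa0)) (.leaf (nat_lit 0x12ac44a))) (.node 1 (.leaf (nat_lit 0x2ad6cc)) (.leaf (nat_lit 0x12aff17)))) (.node 2 (.node 1 (.leaf (nat_lit 0x12b2a2e)) (.leaf (nat_lit 0x2b3c10))) (.node 1 (.leaf (nat_lit 0x2b40de)) (.leaf (nat_lit 0x12b491e))))) (.node 4 (.node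 2 (.node 1 (.leaf (nat_lit 0x12b600f)) (.leaf (nat_lit 0x12b9a3d))) (.node 1 (.leaf (nat_lit 0x2c0d3d)) (.leaf (nat_lit 0x12c20bb)))) (.node 2 (.node 1 (.leaf (nat_lit 0x12c5f6a)) (.leaf (nat_lit 0x2c83d2))) (.node 1 (.leaf (nat_lit 0x12c8558)) (.leaf (nat_lit 0x12cc4f1)))))) (.node 8 (.node 4 (.node 2 (.node 1 (.leaf (nat_lit 0x12ce667)) (.leaf (nat_lit 0x2cf70c))) (.node 1 (.leaf (nat_lit 0x2d0d10)) (.leaf (nat_lit 0x2d1a23)))) (.node 2 (.node 1 (.leaf (nat_lit 0x2d3c9c)) (.leaf (nat_lit 0x12d3899))) (.node 1 (.leaf (nat_lit 0x12d77bd)) (.leaf (nat_lit 0x2dc47f))))) (.node 4 (.node 2 (.node 1 (.leaf (nat_lit 0x2dd812)) (.leaf (nat_lit 0x12dfe1c))) (.node 1 (.leaf (nat_lit 0x12e5bd1)) (.leaf (nat_lit 0x2e6ab8)))) (.node 2 (.node 1 (.leaf (nat_lit 0x12e718d)) (.leaf (nat_lit 0x12ea942))) (.node 1 (.leaf (nat_lit 0x2edeab)) (.leaf (nat_lit 0x2eed11)))))))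 (.node 16 (.node 8 (.node 4 (.node 2 (.node 1 (.leaf (nat_lit 0x12f2ee0)) (.leaf (nat_lit 0x2f4ac0))) (.node 1 (.leaf (nat_lit 0x12f4c05)) (.leaf (nat_lit 0x12f735f)))) (.node 2 (.node 1 (.leaf (nat_lit 0x2fe731)) (.leaf (nat_lit 0x2fff4b))) (.node 1 (.leaf (nat_lit 0x300f0e)) (.leaf (nat_lit 0x3025e8))))) (.node 4 (.node 2 (.node 1 (.leaf (nat_lit 0x1302b69)) (.leaf (nat_lit 0x304c5c))) (.node 1 (.leaf (nat_lit 0x3050d0)) (.leaf (nat_lit 0x1305602)))) (.node 2 (.node 1 (.leaf (nat_lit 0x30758a)) (.leaf (nat_lit 0x13086e1))) (.node 1 (.leaf (nat_lit 0x309138)) (.leaf (nat_lit 0x1309224)))))) (.node 8 (.node 4 (.node 2 (.node 1 (.leaf (nat_lit 0x30a802)) (.leaf (nat_lit 0x30ca9b))) (.node 1 (.leaf (nat_lit 0x30e019)) (.leaf (nat_lit 0x130fa09)))) (.node 2 (.node 1 (.leaf (nat_lit 0x131050f)) (.leaf (nat_lit 0x31113d))) (.node 1 (.leaf (nat_lit 0x3139f3))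 (.leaf (nat_lit 0x314cc5))))) (.node 4 (.node 2 (.node 1 (.leaf (nat_lit 0x1315750)) (.leaf (nat_lit 0x316f4a))) (.node 1 (.leaf (nat_lit 0x1317a4d)) (.leaf (nat_lit 0x318b19)))) (.node 2 (.node 1 (.leaf (nat_lit 0x319003)) (.leaf (nat_lit 0x31c573))) (.node 1 (.leaf (nat_lit 0x131cf7a)) (.leaf (nat_lit 0x31d88f)))))))) (.node 32 (.node 16 (.node 8 (.node 4 (.node 2 (.node 1 (.leaf (nat_lit 0x31f8f9)) (.leaf (nat_lit 0x131f237))) (.node 1 (.leaf (nat_lit 0x320b2e)) (.leaf (nat_lit 0x322d79)))) (.node 2 (.node 1 (.leaf (nat_lit 0x1323c29)) (.leaf (nat_lit 0x324a41))) (.node 1 (.leaf (nat_lit 0x3266c0)) (.leaf (nat_lit 0x3279f4))))) (.node 4 (.node 2 (.node 1 (.leaf (nat_lit 0x132783a)) (.leaf (nat_lit 0x328bdd))) (.node 1 (.leaf (nat_lit 0x1328d01)) (.leaf (nat_lit 0x1329b8c)))) (.node 2 (.node 1 (.leaf (nat_lit 0x32a509)) (.leaf (nat_lit 0x132a597)))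 (.node 1 (.leaf (nat_lit 0x132b132)) (.leaf (nat_lit 0x132cf43)))))) (.node 8 (.node 4 (.node 2 (.node 1 (.leaf (nat_lit 0x32dc6d)) (.leaf (nat_lit 0x132d8be))) (.node 1 (.leaf (nat_lit 0x331d1a)) (.leaf (nat_lit 0x1331c0d)))) (.node 2 (.node 1 (.leaf (nat_lit 0x3335c9)) (.leaf (nat_lit 0x334f79))) (.node 1 (.leaf (nat_lit 0x133835b)) (.leaf (nat_lit 0x1339158))))) (.node 4 (.node 2 (.node 1 (.leaf (nat_lit 0x133a861)) (.leaf (nat_lit 0x341d15))) (.node 1 (.leaf (nat_lit 0x345a40)) (.leaf (nat_lit 0x3466c7)))) (.node 2 (.node 1 (.leaf (nat_lit 0x3494ce)) (.leaf (nat_lit 0x1349f7e))) (.node 1 (.leaf (nat_lit 0x34a7ca)) (.leaf (nat_lit 0x34ece5))))))) (.node 16 (.node 8 (.node 4 (.node 2 (.node 1 (.leaf (nat_lit 0x3523b0)) (.leaf (nat_lit 0x353714))) (.node 1 (.leaf (nat_lit 0x1359921)) (.leaf (nat_lit 0x1360f26)))) (.node 2 (.node 1 (.leaf (nat_lit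 0x362055)) (.leaf (nat_lit 0x366e60))) (.node 1 (.leaf (nat_lit 0x13672e1)) (.leaf (nat_lit 0x1368e83))))) (.node 4 (.node 2 (.node 1 (.leaf (nat_lit 0x136bf9f)) (.leaf (nat_lit 0x36cf76))) (.node 1 (.leaf (nat_lit 0x136febd)) (.leaf (nat_lit 0x1380a51)))) (.node 2 (.node 1 (.leaf (nat_lit 0x385c35)) (.leaf (nat_lit 0x13887d6))) (.node 1 (.leaf (nat_lit 0x138fb46)) (.leaf (nat_lit 0x139559f)))))) (.node 8 (.node 4 (.node 2 (.node 1 (.leaf (nat_lit 0x39c2c5)) (.leaf (nat_lit 0x13a523a))) (.node 1 (.leaf (nat_lit 0x13a6808)) (.leaf (nat_lit 0x13a9349)))) (.node 2 (.node 1 (.leaf (nat_lit 0x3ab89a)) (.leaf (nat_lit 0x13aba0c))) (.node 1 (.leaf (nat_lit 0x3b7441)) (.leaf (nat_lit 0x3b9d2b))))) (.node 4 (.node 2 (.node 1 (.leaf (nat_lit 0x13baf3b)) (.leaf (nat_lit 0x13bd512))) (.node 1 (.leaf (nat_lit 0x3c1ec2)) (.leaf (nat_lit 0x13c43e7)))) (.node 2 (.node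 1 (.leaf (nat_lit 0x3c6b42)) (.leaf (nat_lit 0x3ce6c8))) (.node 1 (.leaf (nat_lit 0x3d89cf)) (.leaf (nat_lit 0x13ebae1))))))))))

/-- A level of the chain. -/
def lev1 : Tree := (.node 512 (.node 256 lev1_0 lev1_1) (.node 256 lev1_2 lev1_3))

/-- A level of the chain. -/
def lev2 : Tree := (.node 2 (.node 1 (.leaf (nat_lit 0xc51)) (.leaf (nat_lit 0x16f))) (.node 1 (.leaf (nat_lit 0x1654)) (.node 1 (.leaf (nat_lit 0x1001c98)) (.leaf (nat_lit 0x214c)))))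

/-- A level of the chain. -/
def lev3 : Tree := (.node 2 (.node 1 (.leaf (nat_lit 0xeb0)) (.leaf (nat_lit 0xb50))) (.node 1 (.leaf (nat_lit 0x1d72)) (.leaf (nat_lit 0x2ed6))))

/-- A part of `ulev0`. -/
def ulev0_0 : Tree := (.node 128 (.node 64 (.node 32 (.node 16 (.node 8 (.node 4 (.node 2 (.node 1 (.leaf (nat_lit 0x21f)) (.leaf (nat_lit 0xbe4))) (.node 1 (.leaf (nat_lit 0x1000f3d)) (.leaf (nat_lit 0x20009cb)))) (.node 2 (.node 1 (.leaf (nat_lit 0x3000cd3)) (.leaf (nat_lit 0x1001bb0))) (.node 1 (.leaf (nat_lit 0x2001d01)) (.leaf (nat_lit 0x30018bf))))) (.node 4 (.node 2 (.node 1 (.leaf (nat_lit 0x2bc9)) (.leaf (nat_lit 0x2002984))) (.node 1 (.leaf (nat_lit 0x3002528)) (.leaf (nat_lit 0x374c)))) (.node 2 (.node 1 (.leaf (nat_lit 0x200343c)) (.leaf (nat_lit 0x300320f))) (.node 1 (.leaf (nat_lit 0x1004c85)) (.leaf (nat_lit 0x2004aef)))))) (.node 8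 (.node 4 (.node 2 (.node 1 (.leaf (nat_lit 0x5c28)) (.leaf (nat_lit 0x2005114))) (.node 1 (.leaf (nat_lit 0x3005729)) (.leaf (nat_lit 0x6993)))) (.node 2 (.node 1 (.leaf (nat_lit 0x2006cfc)) (.leaf (nat_lit 0x3006943))) (.node 1 (.leaf (nat_lit 0x1007423)) (.leaf (nat_lit 0x20075a9))))) (.node 4 (.node 2 (.node 1 (.leaf (nat_lit 0x2008d11)) (.leaf (nat_lit 0x3008784))) (.node 1 (.leaf (nat_lit 0x9ca1)) (.leaf (nat_lit 0x2009f28)))) (.node 2 (.node 1 (.leaf (nat_lit 0x30090a8)) (.leaf (nat_lit 0x100af9e))) (.node 1 (.leaf (nat_lit 0x200a758)) (.leaf (nat_lit 0x300a608))))))) (.node 16 (.node 8 (.node 4 (.node 2 (.node 1 (.leaf (nat_lit 0x100b788)) (.leaf (nat_lit 0x200b401))) (.node 1 (.leaf (nat_lit 0x300bb8b)) (.leaf (nat_lit 0xce78)))) (.node 2 (.node 1 (.leaf (nat_lit 0x200c2ee)) (.leaf (nat_lit 0x300c57a))) (.node 1 (.leaf (nat_lit 0x100df45))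 (.leaf (nat_lit 0x300de6c))))) (.node 4 (.node 2 (.node 1 (.leaf (nat_lit 0xe83d)) (.leaf (nat_lit 0x200eefb))) (.node 1 (.leaf (nat_lit 0x300eb08)) (.leaf (nat_lit 0xf055)))) (.node 2 (.node 1 (.leaf (nat_lit 0x2010ad4)) (.leaf (nat_lit 0x3010ea5))) (.node 1 (.leaf (nat_lit 0x11d36)) (.leaf (nat_lit 0x2011587)))))) (.node 8 (.node 4 (.node 2 (.node 1 (.leaf (nat_lit 0x3011d63)) (.leaf (nat_lit 0x10126bb))) (.node 1 (.leaf (nat_lit 0x2012873)) (.leaf (nat_lit 0x301208b)))) (.node 2 (.node 1 (.leaf (nat_lit 0x101362f)) (.leaf (nat_lit 0x201309c))) (.node 1 (.leaf (nat_lit 0x3013627)) (.leaf (nat_lit 0x14684))))) (.node 4 (.node 2 (.node 1 (.leaf (nat_lit 0x20149b6)) (.leaf (nat_lit 0x3014bdd))) (.node 1 (.leaf (nat_lit 0x1015860)) (.leaf (nat_lit 0x30152a3)))) (.node 2 (.node 1 (.leaf (nat_lit 0x169aa)) (.leaf (nat_lit 0x2016789))) (.node 1 (.leaf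 (nat_lit 0x3016d0d)) (.leaf (nat_lit 0x17ddf)))))))) (.node 32 (.node 16 (.node 8 (.node 4 (.node 2 (.node 1 (.leaf (nat_lit 0x18558)) (.leaf (nat_lit 0x3018c32))) (.node 1 (.leaf (nat_lit 0x1019696)) (.leaf (nat_lit 0x20196e9)))) (.node 2 (.node 1 (.leaf (nat_lit 0x3019a2f)) (.leaf (nat_lit 0x101a3e0))) (.node 1 (.leaf (nat_lit 0x201a913)) (.leaf (nat_lit 0x301a72c))))) (.node 4 (.node 2 (.node 1 (.leaf (nat_lit 0x1bdd9)) (.leaf (nat_lit 0x201b7bb))) (.node 1 (.leaf (nat_lit 0x301b74f)) (.leaf (nat_lit 0x101c650)))) (.node 2 (.node 1 (.leaf (nat_lit 0x201c942)) (.leaf (nat_lit 0x301c52c))) (.node 1 (.leaf (nat_lit 0x1dccb)) (.leaf (nat_lit 0x201da09)))))) (.node 8 (.node 4 (.node 2 (.node 1 (.leaf (nat_lit 0x301d84f)) (.leaf (nat_lit 0x1ef97))) (.node 1 (.leaf (nat_lit 0x101f8e9)) (.leaf (nat_lit 0x201fd66)))) (.node 2 (.node 1 (.leaf (nat_lit 0x202012d))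 (.leaf (nat_lit 0x30209ce))) (.node 1 (.leaf (nat_lit 0x218f9)) (.leaf (nat_lit 0x202137d))))) (.node 4 (.node 2 (.node 1 (.leaf (nat_lit 0x3021a5a)) (.leaf (nat_lit 0x1022c04))) (.node 1 (.leaf (nat_lit 0x2022f13)) (.leaf (nat_lit 0x302240b)))) (.node 2 (.node 1 (.leaf (nat_lit 0x1023ecc)) (.leaf (nat_lit 0x2023b46))) (.node 1 (.leaf (nat_lit 0x302394d)) (.leaf (nat_lit 0x24901))))))) (.node 16 (.node 8 (.node 4 (.node 2 (.node 1 (.leaf (nat_lit 0x1025f3e)) (.leaf (nat_lit 0x26363))) (.node 1 (.leaf (nat_lit 0x3026a07)) (.leaf (nat_lit 0x1027880)))) (.node 2 (.node 1 (.leaf (nat_lit 0x2028ebe)) (.leaf (nat_lit 0x3028051))) (.node 1 (.leaf (nat_lit 0x295db)) (.leaf (nat_lit 0x30298d9))))) (.node 4 (.node 2 (.node 1 (.leaf (nat_lit 0x102a815)) (.leaf (nat_lit 0x202a037))) (.node 1 (.leaf (nat_lit 0x302a7d9)) (.leaf (nat_lit 0x102beb8)))) (.node 2 (.node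 1 (.leaf (nat_lit 0x2ce9f)) (.leaf (nat_lit 0x302c8ba))) (.node 1 (.leaf (nat_lit 0x102d026)) (.leaf (nat_lit 0x202d378)))))) (.node 8 (.node 4 (.node 2 (.node 1 (.leaf (nat_lit 0x302d19b)) (.leaf (nat_lit 0x102ec29))) (.node 1 (.leaf (nat_lit 0x202ecd2)) (.leaf (nat_lit 0x302ea0b)))) (.node 2 (.node 1 (.leaf (nat_lit 0x2fb59)) (.leaf (nat_lit 0x202fba3))) (.node 1 (.leaf (nat_lit 0x302f4f6)) (.leaf (nat_lit 0x10309ca))))) (.node 4 (.node 2 (.node 1 (.leaf (nat_lit 0x203057f)) (.leaf (nat_lit 0x3030129))) (.node 1 (.leaf (nat_lit 0x31ac0)) (.leaf (nat_lit 0x2031aa1)))) (.node 2 (.node 1 (.leaf (nat_lit 0x3031f39)) (.leaf (nat_lit 0x32139))) (.node 1 (.leaf (nat_lit 0x1033b43)) (.leaf (nat_lit 0x2033b3a))))))))) (.node 64 (.node 32 (.node 16 (.node 8 (.node 4 (.node 2 (.node 1 (.leaf (nat_lit 0x203411f)) (.leaf (nat_lit 0x30348be))) (.node 1 (.leaf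 (nat_lit 0x358de)) (.leaf (nat_lit 0x203550f)))) (.node 2 (.node 1 (.leaf (nat_lit 0x3035e3c)) (.leaf (nat_lit 0x1036c8f))) (.node 1 (.leaf (nat_lit 0x20363d1)) (.leaf (nat_lit 0x30368f1))))) (.node 4 (.node 2 (.node 1 (.leaf (nat_lit 0x10377a0)) (.leaf (nat_lit 0x2037fcd))) (.node 1 (.leaf (nat_lit 0x3037b65)) (.leaf (nat_lit 0x38de5)))) (.node 2 (.node 1 (.leaf (nat_lit 0x10392c8)) (.leaf (nat_lit 0x3a8c0))) (.node 1 (.leaf (nat_lit 0x303a839)) (.leaf (nat_lit 0x103b400)))))) (.node 8 (.node 4 (.node 2 (.node 1 (.leaf (nat_lit 0x203c76e)) (.leaf (nat_lit 0x303ca10))) (.node 1 (.leaf (nat_lit 0x3df0f)) (.leaf (nat_lit 0x303d6d0)))) (.node 2 (.node 1 (.leaf (nat_lit 0x103e4eb)) (.leaf (nat_lit 0x203ea26))) (.node 1 (.leaf (nat_lit 0x303e549)) (.leaf (nat_lit 0x103fd04))))) (.node 4 (.node 2 (.node 1 (.leaf (nat_lit 0x10402c7)) (.leaf (nat_lit 0x2040495)))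 (.node 1 (.leaf (nat_lit 0x30407aa)) (.leaf (nat_lit 0x1041ba0)))) (.node 2 (.node 1 (.leaf (nat_lit 0x20416cc)) (.leaf (nat_lit 0x3041368))) (.node 1 (.leaf (nat_lit 0x42b45)) (.leaf (nat_lit 0x204242f))))))) (.node 16 (.node 8 (.node 4 (.node 2 (.node 1 (.leaf (nat_lit 0x304219d)) (.leaf (nat_lit 0x4392e))) (.node 1 (.leaf (nat_lit 0x1044bdf)) (.leaf (nat_lit 0x20444cf)))) (.node 2 (.node 1 (.leaf (nat_lit 0x2045a2c)) (.leaf (nat_lit 0x3045490))) (.node 1 (.leaf (nat_lit 0x4662d)) (.leaf (nat_lit 0x204664a))))) (.node 4 (.node 2 (.node 1 (.leaf (nat_lit 0x10476a0)) (.leaf (nat_lit 0x20471bd))) (.node 1 (.leaf (nat_lit 0x3047164)) (.leaf (nat_lit 0x1048982)))) (.node 2 (.node 1 (.leaf (nat_lit 0x20489cf)) (.leaf (nat_lit 0x3048349))) (.node 1 (.leaf (nat_lit 0x49b63)) (.leaf (nat_lit 0x3049361)))))) (.node 8 (.node 4 (.node 2 (.node 1 (.leaf (nat_lit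 0x104ab9f)) (.leaf (nat_lit 0x204acfd))) (.node 1 (.leaf (nat_lit 0x304a79c)) (.leaf (nat_lit 0x4be86)))) (.node 2 (.node 1 (.leaf (nat_lit 0x204b9b3)) (.leaf (nat_lit 0x304bc4c))) (.node 1 (.leaf (nat_lit 0x104def6)) (.leaf (nat_lit 0x204d929))))) (.node 4 (.node 2 (.node 1 (.leaf (nat_lit 0x204e1f7)) (.leaf (nat_lit 0x304e254))) (.node 1 (.leaf (nat_lit 0x4fe2e)) (.leaf (nat_lit 0x304f6c6)))) (.node 2 (.node 1 (.leaf (nat_lit 0x1050f60)) (.leaf (nat_lit 0x2050a24))) (.node 1 (.leaf (nat_lit 0x3050921)) (.leaf (nat_lit 0x105143a)))))))) (.node 32 (.node 16 (.node 8 (.node 4 (.node 2 (.node 1 (.leaf (nat_lit 0x20512e6)) (.leaf (nat_lit 0x528fe))) (.node 1 (.leaf (nat_lit 0x2052b51)) (.leaf (nat_lit 0x3052644)))) (.node 2 (.node 1 (.leaf (nat_lit 0x53e12)) (.leaf (nat_lit 0x54690))) (.node 1 (.leaf (nat_lit 0x205480d)) (.leaf (nat_lit 0x30543d8)))))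 (.node 4 (.node 2 (.node 1 (.leaf (nat_lit 0x1055731)) (.leaf (nat_lit 0x2055d67))) (.node 1 (.leaf (nat_lit 0x3055322)) (.leaf (nat_lit 0x1056840)))) (.node 2 (.node 1 (.leaf (nat_lit 0x2056ce5)) (.leaf (nat_lit 0x305652f))) (.node 1 (.leaf (nat_lit 0x57751)) (.leaf (nat_lit 0x205753c)))))) (.node 8 (.node 4 (.node 2 (.node 1 (.leaf (nat_lit 0x305770f)) (.leaf (nat_lit 0x1058170))) (.node 1 (.leaf (nat_lit 0x2058c2b)) (.leaf (nat_lit 0x3058c74)))) (.node 2 (.node 1 (.leaf (nat_lit 0x59cc9)) (.leaf (nat_lit 0x2059810))) (.node 1 (.leaf (nat_lit 0x3059417)) (.leaf (nat_lit 0x5a876))))) (.node 4 (.node 2 (.node 1 (.leaf (nat_lit 0x105bc65)) (.leaf (nat_lit 0x205b12a))) (.node 1 (.leaf (nat_lit 0x205c90c)) (.leaf (nat_lit 0x305c8d2)))) (.node 2 (.node 1 (.leaf (nat_lit 0x5d326)) (.leaf (nat_lit 0x205d4e7))) (.node 1 (.leaf (nat_lit 0x305df46)) (.leaf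 (nat_lit 0x105ebd3))))))) (.node 16 (.node 8 (.node 4 (.node 2 (.node 1 (.leaf (nat_lit 0x105f6d2)) (.leaf (nat_lit 0x205f54d))) (.node 1 (.leaf (nat_lit 0x2061572)) (.leaf (nat_lit 0x30616b9)))) (.node 2 (.node 1 (.leaf (nat_lit 0x1062008)) (.leaf (nat_lit 0x2062af4))) (.node 1 (.leaf (nat_lit 0x3062f98)) (.leaf (nat_lit 0x63be1))))) (.node 4 (.node 2 (.node 1 (.leaf (nat_lit 0x306347b)) (.leaf (nat_lit 0x6457e))) (.node 1 (.leaf (nat_lit 0x3064cce)) (.leaf (nat_lit 0x106558a)))) (.node 2 (.node 1 (.leaf (nat_lit 0x2065a49)) (.leaf (nat_lit 0x3065f61))) (.node 1 (.leaf (nat_lit 0x1066ab5)) (.leaf (nat_lit 0x20669be)))))) (.node 8 (.node 4 (.node 2 (.node 1 (.leaf (nat_lit 0x3066e0f)) (.leaf (nat_lit 0x1067a59))) (.node 1 (.leaf (nat_lit 0x2067422)) (.leaf (nat_lit 0x30679b9)))) (.node 2 (.node 1 (.leaf (nat_lit 0x68bd9)) (.leaf (nat_lit 0x2068f69)))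 (.node 1 (.leaf (nat_lit 0x3068487)) (.leaf (nat_lit 0x696c4))))) (.node 4 (.node 2 (.node 1 (.leaf (nat_lit 0x106abc5)) (.leaf (nat_lit 0x206ac79))) (.node 1 (.leaf (nat_lit 0x106c494)) (.leaf (nat_lit 0x306c955)))) (.node 2 (.node 1 (.leaf (nat_lit 0x106dec3)) (.leaf (nat_lit 0x206dece))) (.node 1 (.leaf (nat_lit 0x6ece4)) (.leaf (nat_lit 0x206e47d))))))))))

/-- A part of `ulev0`. -/
def ulev0_1 : Tree := (.node 128 (.node 64 (.node 32 (.node 16 (.node 8 (.node 4 (.node 2 (.node 1 (.leaf (nat_lit 0x306e135)) (.leaf (nat_lit 0x6fa58))) (.node 1 (.leaf (nat_lit 0x10703ca)) (.leaf (nat_lit 0x2070c02)))) (.node 2 (.node 1 (.leaf (nat_lit 0x2071716)) (.leaf (nat_lit 0x30717d6))) (.node 1 (.leaf (nat_lit 0x72fa5)) (.leaf (nat_lit 0x2072be5))))) (.node 4 (.node 2 (.node 1 (.leaf (nat_lit 0x3072632)) (.leaf (nat_lit 0x1073a36))) (.node 1 (.leaf (nat_lit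 0x20734dd)) (.leaf (nat_lit 0x30737c7)))) (.node 2 (.node 1 (.leaf (nat_lit 0x1074898)) (.leaf (nat_lit 0x20749d1))) (.node 1 (.leaf (nat_lit 0x3074350)) (.leaf (nat_lit 0x75329)))))) (.node 8 (.node 4 (.node 2 (.node 1 (.leaf (nat_lit 0x3075348)) (.leaf (nat_lit 0x1076a9b))) (.node 1 (.leaf (nat_lit 0x2076ac4)) (.leaf (nat_lit 0x3076817)))) (.node 2 (.node 1 (.leaf (nat_lit 0x776a9)) (.leaf (nat_lit 0x2077352))) (.node 1 (.leaf (nat_lit 0x3077b49)) (.leaf (nat_lit 0x10797bd))))) (.node 4 (.node 2 (.node 1 (.leaf (nat_lit 0x2079c09)) (.leaf (nat_lit 0x207a97d))) (.node 1 (.leaf (nat_lit 0x307afd0)) (.leaf (nat_lit 0x7ba0d)))) (.node 2 (.node 1 (.leaf (nat_lit 0x307b26a)) (.leaf (nat_lit 0x107c6b4))) (.node 1 (.leaf (nat_lit 0x207c62e)) (.leaf (nat_lit 0x307c100))))))) (.node 16 (.node 8 (.node 4 (.node 2 (.node 1 (.leaf (nat_lit 0x107db05)) (.leaf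 (nat_lit 0x207d624))) (.node 1 (.leaf (nat_lit 0x7eb5a)) (.leaf (nat_lit 0x207efcf)))) (.node 2 (.node 1 (.leaf (nat_lit 0x307e040)) (.leaf (nat_lit 0x7fcbe))) (.node 1 (.leaf (nat_lit 0x8012e)) (.leaf (nat_lit 0x2080deb))))) (.node 4 (.node 2 (.node 1 (.leaf (nat_lit 0x3080c06)) (.leaf (nat_lit 0x1081543))) (.node 1 (.leaf (nat_lit 0x3081688)) (.leaf (nat_lit 0x1082a0a)))) (.node 2 (.node 1 (.leaf (nat_lit 0x2082cde)) (.leaf (nat_lit 0x3082472))) (.node 1 (.leaf (nat_lit 0x83479)) (.leaf (nat_lit 0x2083b74)))))) (.node 8 (.node 4 (.node 2 (.node 1 (.leaf (nat_lit 0x3083726)) (.leaf (nat_lit 0x1084178))) (.node 1 (.leaf (nat_lit 0x2084abf)) (.leaf (nat_lit 0x3084ef5)))) (.node 2 (.node 1 (.leaf (nat_lit 0x85a47)) (.leaf (nat_lit 0x2085ca0))) (.node 1 (.leaf (nat_lit 0x3085def)) (.leaf (nat_lit 0x86b9a))))) (.node 4 (.node 2 (.node 1 (.leaf (nat_lit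 0x10871ab)) (.leaf (nat_lit 0x2087e0e))) (.node 1 (.leaf (nat_lit 0x2088730)) (.leaf (nat_lit 0x308826f)))) (.node 2 (.node 1 (.leaf (nat_lit 0x89a34)) (.leaf (nat_lit 0x2089eaf))) (.node 1 (.leaf (nat_lit 0x3089004)) (.leaf (nat_lit 0x108a97e)))))))) (.node 32 (.node 16 (.node 8 (.node 4 (.node 2 (.node 1 (.leaf (nat_lit 0x208af7d)) (.leaf (nat_lit 0x108bf4f))) (.node 1 (.leaf (nat_lit 0x208d1c0)) (.leaf (nat_lit 0x308d50e)))) (.node 2 (.node 1 (.leaf (nat_lit 0x108ec07)) (.leaf (nat_lit 0x90460))) (.node 1 (.leaf (nat_lit 0x3090d80)) (.leaf (nat_lit 0x1091ee3))))) (.node 4 (.node 2 (.node 1 (.leaf (nat_lit 0x2091a02)) (.leaf (nat_lit 0x3091d7d))) (.node 1 (.leaf (nat_lit 0x10929ab)) (.leaf (nat_lit 0x209213f)))) (.node 2 (.node 1 (.leaf (nat_lit 0x3092ed5)) (.leaf (nat_lit 0x10938fa))) (.node 1 (.leaf (nat_lit 0x2093318)) (.leaf (nat_lit 0x30930fb))))))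 (.node 8 (.node 4 (.node 2 (.node 1 (.leaf (nat_lit 0x949fc)) (.leaf (nat_lit 0x20949b2))) (.node 1 (.leaf (nat_lit 0x309440c)) (.leaf (nat_lit 0x95566)))) (.node 2 (.node 1 (.leaf (nat_lit 0x1096bd2)) (.leaf (nat_lit 0x2096812))) (.node 1 (.leaf (nat_lit 0x2098867)) (.leaf (nat_lit 0x30986bc))))) (.node 4 (.node 2 (.node 1 (.leaf (nat_lit 0x99f1d)) (.leaf (nat_lit 0x2099ced))) (.node 1 (.leaf (nat_lit 0x3099e6b)) (.leaf (nat_lit 0x109ac22)))) (.node 2 (.node 1 (.leaf (nat_lit 0x209a5cb)) (.leaf (nat_lit 0x309a0de))) (.node 1 (.leaf (nat_lit 0x9b952)) (.leaf (nat_lit 0x209bfa0))))))) (.node 16 (.node 8 (.node 4 (.node 2 (.node 1 (.leaf (nat_lit 0x309b46d)) (.leaf (nat_lit 0x109d9ae))) (.node 1 (.leaf (nat_lit 0x209db2b)) (.leaf (nat_lit 0x209e652)))) (.node 2 (.node 1 (.leaf (nat_lit 0x309e612)) (.leaf (nat_lit 0x9ffa8))) (.node 1 (.leaf (nat_lit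 0x309fa52)) (.leaf (nat_lit 0x10a039f))))) (.node 4 (.node 2 (.node 1 (.leaf (nat_lit 0x20a0347)) (.leaf (nat_lit 0x30a0e68))) (.node 1 (.leaf (nat_lit 0x10a15c7)) (.leaf (nat_lit 0x20a1aff)))) (.node 2 (.node 1 (.leaf (nat_lit 0xa2e81)) (.leaf (nat_lit 0x20a2274))) (.node 1 (.leaf (nat_lit 0x30a21af)) (.leaf (nat_lit 0xa39a5)))))) (.node 8 (.node 4 (.node 2 (.node 1 (.leaf (nat_lit 0x20a4c99)) (.leaf (nat_lit 0x10a5a7c))) (.node 1 (.leaf (nat_lit 0x20a5458)) (.leaf (nat_lit 0x30a5c11)))) (.node 2 (.node 1 (.leaf (nat_lit 0x20a61f4)) (.leaf (nat_lit 0xa7afc))) (.node 1 (.leaf (nat_lit 0x20a7bb7)) (.leaf (nat_lit 0xa87b1))))) (.node 4 (.node 2 (.node 1 (.leaf (nat_lit 0x20a888f)) (.leaf (nat_lit 0x30a8d73))) (.node 1 (.leaf (nat_lit 0xa9147)) (.leaf (nat_lit 0x10aa197)))) (.node 2 (.node 1 (.leaf (nat_lit 0x20ab88b)) (.leaf (nat_lit 0x30ab687))) (.node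 1 (.leaf (nat_lit 0xacf7b)) (.leaf (nat_lit 0x30acce3))))))))) (.node 64 (.node 32 (.node 16 (.node 8 (.node 4 (.node 2 (.node 1 (.leaf (nat_lit 0x20addae)) (.leaf (nat_lit 0x30adc10))) (.node 1 (.leaf (nat_lit 0x10aecc8)) (.leaf (nat_lit 0x20ae805)))) (.node 2 (.node 1 (.leaf (nat_lit 0x30ae4d7)) (.leaf (nat_lit 0x20af6d4))) (.node 1 (.leaf (nat_lit 0x30afe22)) (.leaf (nat_lit 0x20b0aaa))))) (.node 4 (.node 2 (.node 1 (.leaf (nat_lit 0x30b070b)) (.leaf (nat_lit 0x10b25ab))) (.node 1 (.leaf (nat_lit 0x20b2ac7)) (.leaf (nat_lit 0x20b33c6)))) (.node 2 (.node 1 (.leaf (nat_lit 0xb4e45)) (.leaf (nat_lit 0x30b4f9a))) (.node 1 (.leaf (nat_lit 0x10b588a)) (.leaf (nat_lit 0x20b52f6)))))) (.node 8 (.node 4 (.node 2 (.node 1 (.leaf (nat_lit 0xb67ca)) (.leaf (nat_lit 0x20b628f))) (.node 1 (.leaf (nat_lit 0xb7dfb)) (.leaf (nat_lit 0xb8009)))) (.node 2 (.node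 1 (.leaf (nat_lit 0x20b8bfc)) (.leaf (nat_lit 0x30b9aba))) (.node 1 (.leaf (nat_lit 0x10ba12c)) (.leaf (nat_lit 0x20bacf9))))) (.node 4 (.node 2 (.node 1 (.leaf (nat_lit 0x30ba2e2)) (.leaf (nat_lit 0x10bb5ff))) (.node 1 (.leaf (nat_lit 0xbc43e)) (.leaf (nat_lit 0x20bc529)))) (.node 2 (.node 1 (.leaf (nat_lit 0xbd5ca)) (.leaf (nat_lit 0x10be3e4))) (.node 1 (.leaf (nat_lit 0x20bfb83)) (.leaf (nat_lit 0x30bf62a))))))) (.node 16 (.node 8 (.node 4 (.node 2 (.node 1 (.leaf (nat_lit 0xc0dda)) (.leaf (nat_lit 0x20c06db))) (.node 1 (.leaf (nat_lit 0x30c03ce)) (.leaf (nat_lit 0x20c1fab)))) (.node 2 (.node 1 (.leaf (nat_lit 0x30c1cd7)) (.leaf (nat_lit 0xc24f3))) (.node 1 (.leaf (nat_lit 0x30c2959)) (.leaf (nat_lit 0x20c37b2))))) (.node 4 (.node 2 (.node 1 (.leaf (nat_lit 0x10c46a7)) (.leaf (nat_lit 0x20c47be))) (.node 1 (.leaf (nat_lit 0x10c5ddc)) (.leaf (nat_lit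 0x30c5a6f)))) (.node 2 (.node 1 (.leaf (nat_lit 0xc6da7)) (.leaf (nat_lit 0x20c61b3))) (.node 1 (.leaf (nat_lit 0x30c63c7)) (.leaf (nat_lit 0x10c75bf)))))) (.node 8 (.node 4 (.node 2 (.node 1 (.leaf (nat_lit 0x20c72b7)) (.leaf (nat_lit 0x30c7709))) (.node 1 (.leaf (nat_lit 0xc893d)) (.leaf (nat_lit 0x20c8eb2)))) (.node 2 (.node 1 (.leaf (nat_lit 0x30c86cb)) (.leaf (nat_lit 0xc9121))) (.node 1 (.leaf (nat_lit 0x10cabc4)) (.leaf (nat_lit 0x20ca56a))))) (.node 4 (.node 2 (.node 1 (.leaf (nat_lit 0x20cb4bd)) (.leaf (nat_lit 0x30cb7ad))) (.node 1 (.leaf (nat_lit 0xcc7b8)) (.leaf (nat_lit 0x20cca41)))) (.node 2 (.node 1 (.leaf (nat_lit 0x30cc237)) (.leaf (nat_lit 0x10cd540))) (.node 1 (.leaf (nat_lit 0x20cda40)) (.leaf (nat_lit 0x30cdcad)))))))) (.node 32 (.node 16 (.node 8 (.node 4 (.node 2 (.node 1 (.leaf (nat_lit 0x10cec7c)) (.leaf (nat_lit 0x20ce87a)))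 (.node 1 (.leaf (nat_lit 0x30ce95b)) (.leaf (nat_lit 0xcf771)))) (.node 2 (.node 1 (.leaf (nat_lit 0x30cf390)) (.leaf (nat_lit 0x10d0a7a))) (.node 1 (.leaf (nat_lit 0x20d0492)) (.leaf (nat_lit 0x30d0333))))) (.node 4 (.node 2 (.node 1 (.leaf (nat_lit 0x20d131d)) (.leaf (nat_lit 0x30d1112))) (.node 1 (.leaf (nat_lit 0x10d3d3e)) (.leaf (nat_lit 0x20d30b9)))) (.node 2 (.node 1 (.leaf (nat_lit 0x20d409b)) (.leaf (nat_lit 0x30d4ac1))) (.node 1 (.leaf (nat_lit 0xd5ce1)) (.leaf (nat_lit 0x30d5d9f)))))) (.node 8 (.node 4 (.node 2 (.node 1 (.leaf (nat_lit 0x10d6f14)) (.leaf (nat_lit 0x20d653f))) (.node 1 (.leaf (nat_lit 0x30d6573)) (.leaf (nat_lit 0x10d7094)))) (.node 2 (.node 1 (.leaf (nat_lit 0x20d7ce2)) (.leaf (nat_lit 0xd8ae5))) (.node 1 (.leaf (nat_lit 0x20d8179)) (.leaf (nat_lit 0x30d8722))))) (.node 4 (.node 2 (.node 1 (.leaf (nat_lit 0xd9375)) (.leaf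 (nat_lit 0xdac2f))) (.node 1 (.leaf (nat_lit 0x20dad05)) (.leaf (nat_lit 0x30da486)))) (.node 2 (.node 1 (.leaf (nat_lit 0x10db0b3)) (.leaf (nat_lit 0x20db05a))) (.node 1 (.leaf (nat_lit 0x10dca4f)) (.leaf (nat_lit 0x20dce23))))))) (.node 16 (.node 8 (.node 4 (.node 2 (.node 1 (.leaf (nat_lit 0x30dc2bd)) (.leaf (nat_lit 0xddb58))) (.node 1 (.leaf (nat_lit 0x30dd510)) (.leaf (nat_lit 0x10de02a)))) (.node 2 (.node 1 (.leaf (nat_lit 0x30df881)) (.leaf (nat_lit 0x20e02cc))) (.node 1 (.leaf (nat_lit 0x30e0a82)) (.leaf (nat_lit 0x20e2397))))) (.node 4 (.node 2 (.node 1 (.leaf (nat_lit 0x10e34cb)) (.leaf (nat_lit 0x20e3770))) (.node 1 (.leaf (nat_lit 0x30e31b9)) (.leaf (nat_lit 0x20e44ac)))) (.node 2 (.node 1 (.leaf (nat_lit 0x30e4232)) (.leaf (nat_lit 0xe5792))) (.node 1 (.leaf (nat_lit 0x10e626e)) (.leaf (nat_lit 0x20e6914)))))) (.node 8 (.node 4 (.node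 2 (.node 1 (.leaf (nat_lit 0x20e7c6c)) (.leaf (nat_lit 0x30e7971))) (.node 1 (.leaf (nat_lit 0x10e8224)) (.leaf (nat_lit 0x20e82b2)))) (.node 2 (.node 1 (.leaf (nat_lit 0x30e83d7)) (.leaf (nat_lit 0x10e9fc0))) (.node 1 (.leaf (nat_lit 0x20e9d0f)) (.leaf (nat_lit 0x10ea39c))))) (.node 4 (.node 2 (.node 1 (.leaf (nat_lit 0x20eae6e)) (.leaf (nat_lit 0x30ea0c2))) (.node 1 (.leaf (nat_lit 0xeb177)) (.leaf (nat_lit 0x20eb088)))) (.node 2 (.node 1 (.leaf (nat_lit 0x30eb1f5)) (.leaf (nat_lit 0x10eded6))) (.node 1 (.leaf (nat_lit 0x20ede69)) (.leaf (nat_lit 0x20ee2e4))))))))))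

/-- A part of `ulev0`. -/
def ulev0_2 : Tree := (.node 128 (.node 64 (.node 32 (.node 16 (.node 8 (.node 4 (.node 2 (.node 1 (.leaf (nat_lit 0xefc71)) (.leaf (nat_lit 0x20ef0f8))) (.node 1 (.leaf (nat_lit 0x30ef15e)) (.leaf (nat_lit 0x10f02d8)))) (.node 2 (.node 1 (.leaf (nat_lit 0x20f077c)) (.leaf (nat_lit 0x30f0b78))) (.node 1 (.leaf (nat_lit 0xf1b4a)) (.leaf (nat_lit 0x20f1aa0))))) (.node 4 (.node 2 (.node 1 (.leaf (nat_lit 0x30f1292)) (.leaf (nat_lit 0x10f3d0e))) (.node 1 (.leaf (nat_lit 0x20f3e2c)) (.leaf (nat_lit 0x30f464e)))) (.node 2 (.node 1 (.leaf (nat_lit 0xf5668)) (.leaf (nat_lit 0x10f6429))) (.node 1 (.leaf (nat_lit 0x30f6b20)) (.leaf (nat_lit 0x10f7f95)))))) (.node 8 (.node 4 (.node 2 (.node 1 (.leaf (nat_lit 0x20f78f7)) (.leaf (nat_lit 0x20f81ae))) (.node 1 (.leaf (nat_lit 0x30f8c5d)) (.leaf (nat_lit 0xf933c)))) (.node 2 (.node 1 (.leaf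 (nat_lit 0x10fb0ec)) (.leaf (nat_lit 0xfc764))) (.node 1 (.leaf (nat_lit 0x20fc1a4)) (.leaf (nat_lit 0x30fc59c))))) (.node 4 (.node 2 (.node 1 (.leaf (nat_lit 0x30fe3c3)) (.leaf (nat_lit 0xff908))) (.node 1 (.leaf (nat_lit 0x30ff214)) (.leaf (nat_lit 0x1100a31)))) (.node 2 (.node 1 (.leaf (nat_lit 0x210070a)) (.leaf (nat_lit 0x3100408))) (.node 1 (.leaf (nat_lit 0x1101617)) (.leaf (nat_lit 0x2101ad8))))))) (.node 16 (.node 8 (.node 4 (.node 2 (.node 1 (.leaf (nat_lit 0x102a3d)) (.leaf (nat_lit 0x21022af))) (.node 1 (.leaf (nat_lit 0x1049fd)) (.leaf (nat_lit 0x2104ca5)))) (.node 2 (.node 1 (.leaf (nat_lit 0x2105110)) (.leaf (nat_lit 0x310541d))) (.node 1 (.leaf (nat_lit 0x1106cdf)) (.leaf (nat_lit 0x210607c))))) (.node 4 (.node 2 (.node 1 (.leaf (nat_lit 0x21070d2)) (.leaf (nat_lit 0x3107be8))) (.node 1 (.leaf (nat_lit 0x21088fb)) (.leaf (nat_lit 0x31082b4))))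 (.node 2 (.node 1 (.leaf (nat_lit 0x109ac6)) (.leaf (nat_lit 0x210948c))) (.node 1 (.leaf (nat_lit 0x3109d20)) (.leaf (nat_lit 0x10afd2)))))) (.node 8 (.node 4 (.node 2 (.node 1 (.leaf (nat_lit 0x110b71e)) (.leaf (nat_lit 0x210b1a1))) (.node 1 (.leaf (nat_lit 0x210ce6a)) (.leaf (nat_lit 0x310cf0a)))) (.node 2 (.node 1 (.leaf (nat_lit 0x10deb5)) (.leaf (nat_lit 0x210d2e7))) (.node 1 (.leaf (nat_lit 0x310d575)) (.leaf (nat_lit 0x110e5d1))))) (.node 4 (.node 2 (.node 1 (.leaf (nat_lit 0x210e857)) (.leaf (nat_lit 0x310e011))) (.node 1 (.leaf (nat_lit 0x110fa46)) (.leaf (nat_lit 0x210f01b)))) (.node 2 (.node 1 (.leaf (nat_lit 0x310f80b)) (.leaf (nat_lit 0x1110cdd))) (.node 1 (.leaf (nat_lit 0x21105b4)) (.leaf (nat_lit 0x2111f62)))))))) (.node 32 (.node 16 (.node 8 (.node 4 (.node 2 (.node 1 (.leaf (nat_lit 0x1113776)) (.leaf (nat_lit 0x211335e))) (.node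 1 (.leaf (nat_lit 0x2114827)) (.leaf (nat_lit 0x31149c6)))) (.node 2 (.node 1 (.leaf (nat_lit 0x115b25)) (.leaf (nat_lit 0x3115ab2))) (.node 1 (.leaf (nat_lit 0x2116638)) (.leaf (nat_lit 0x31169f1))))) (.node 4 (.node 2 (.node 1 (.leaf (nat_lit 0x1177cb)) (.leaf (nat_lit 0x21175be))) (.node 1 (.leaf (nat_lit 0x118785)) (.leaf (nat_lit 0x2119ca7)))) (.node 2 (.node 1 (.leaf (nat_lit 0x3119d87)) (.leaf (nat_lit 0x111a68a))) (.node 1 (.leaf (nat_lit 0x211a1f8)) (.leaf (nat_lit 0x311a7ac)))))) (.node 8 (.node 4 (.node 2 (.node 1 (.leaf (nat_lit 0x111b18e)) (.leaf (nat_lit 0x211bbe0))) (.node 1 (.leaf (nat_lit 0x311b667)) (.leaf (nat_lit 0x111c6b7)))) (.node 2 (.node 1 (.leaf (nat_lit 0x311c480)) (.leaf (nat_lit 0x11d2a2))) (.node 1 (.leaf (nat_lit 0x311d5c9)) (.leaf (nat_lit 0x11ec9a))))) (.node 4 (.node 2 (.node 1 (.leaf (nat_lit 0x111f3c9)) (.leaf (nat_lit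 0x2120e56))) (.node 1 (.leaf (nat_lit 0x121c3f)) (.leaf (nat_lit 0x312132b)))) (.node 2 (.node 1 (.leaf (nat_lit 0x2122b62)) (.leaf (nat_lit 0x31226de))) (.node 1 (.leaf (nat_lit 0x123de3)) (.leaf (nat_lit 0x3123a3b))))))) (.node 16 (.node 8 (.node 4 (.node 2 (.node 1 (.leaf (nat_lit 0x3124e44)) (.leaf (nat_lit 0x1125b1e))) (.node 1 (.leaf (nat_lit 0x2125c25)) (.leaf (nat_lit 0x2126c5c)))) (.node 2 (.node 1 (.leaf (nat_lit 0x3126e82)) (.leaf (nat_lit 0x1128508))) (.node 1 (.leaf (nat_lit 0x3129ad7)) (.leaf (nat_lit 0x112a18d))))) (.node 4 (.node 2 (.node 1 (.leaf (nat_lit 0x212a17d)) (.leaf (nat_lit 0x212b717))) (.node 1 (.leaf (nat_lit 0x212c22f)) (.leaf (nat_lit 0x312cfc5)))) (.node 2 (.node 1 (.leaf (nat_lit 0x212df26)) (.leaf (nat_lit 0x312dc3a))) (.node 1 (.leaf (nat_lit 0x112e7ce)) (.leaf (nat_lit 0x212eb2e)))))) (.node 8 (.node 4 (.node 2 (.node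 1 (.leaf (nat_lit 0x312ed58)) (.leaf (nat_lit 0x12fb31))) (.node 1 (.leaf (nat_lit 0x312f8d8)) (.leaf (nat_lit 0x1130841)))) (.node 2 (.node 1 (.leaf (nat_lit 0x2130113)) (.leaf (nat_lit 0x313066b))) (.node 1 (.leaf (nat_lit 0x1317b3)) (.leaf (nat_lit 0x2131ad6))))) (.node 4 (.node 2 (.node 1 (.leaf (nat_lit 0x31310e0)) (.leaf (nat_lit 0x1133515))) (.node 1 (.leaf (nat_lit 0x31347d1)) (.leaf (nat_lit 0x1354cd)))) (.node 2 (.node 1 (.leaf (nat_lit 0x31354e2)) (.leaf (nat_lit 0x2136544))) (.node 1 (.leaf (nat_lit 0x3136f9c)) (.leaf (nat_lit 0x11372d1))))))))) (.node 64 (.node 32 (.node 16 (.node 8 (.node 4 (.node 2 (.node 1 (.leaf (nat_lit 0x21385e9)) (.leaf (nat_lit 0x31386b0))) (.node 1 (.leaf (nat_lit 0x13925a)) (.leaf (nat_lit 0x13a76f)))) (.node 2 (.node 1 (.leaf (nat_lit 0x213a694)) (.leaf (nat_lit 0x113b151))) (.node 1 (.leaf (nat_lit 0x313bbc7))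 (.leaf (nat_lit 0x213c77d))))) (.node 4 (.node 2 (.node 1 (.leaf (nat_lit 0x313c280)) (.leaf (nat_lit 0x213f3a1))) (.node 1 (.leaf (nat_lit 0x14007a)) (.leaf (nat_lit 0x314129a)))) (.node 2 (.node 1 (.leaf (nat_lit 0x142ee0)) (.leaf (nat_lit 0x21420f9))) (.node 1 (.leaf (nat_lit 0x3142196)) (.leaf (nat_lit 0x1143e13)))))) (.node 8 (.node 4 (.node 2 (.node 1 (.leaf (nat_lit 0x21437c6)) (.leaf (nat_lit 0x3144d81))) (.node 1 (.leaf (nat_lit 0x2145d3a)) (.leaf (nat_lit 0x3145eab)))) (.node 2 (.node 1 (.leaf (nat_lit 0x1146440)) (.leaf (nat_lit 0x2146b68))) (.node 1 (.leaf (nat_lit 0x147875)) (.leaf (nat_lit 0x214725f))))) (.node 4 (.node 2 (.node 1 (.leaf (nat_lit 0x3147727)) (.leaf (nat_lit 0x1485b3))) (.node 1 (.leaf (nat_lit 0x114959a)) (.leaf (nat_lit 0x21493e5)))) (.node 2 (.node 1 (.leaf (nat_lit 0x214ad9e)) (.leaf (nat_lit 0x14b239))) (.node 1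 (.leaf (nat_lit 0x214b19a)) (.leaf (nat_lit 0x314b399))))))) (.node 16 (.node 8 (.node 4 (.node 2 (.node 1 (.leaf (nat_lit 0x114c9c8)) (.leaf (nat_lit 0x214c172))) (.node 1 (.leaf (nat_lit 0x314cf3f)) (.leaf (nat_lit 0x14daf2)))) (.node 2 (.node 1 (.leaf (nat_lit 0x214de79)) (.leaf (nat_lit 0x114f43d))) (.node 1 (.leaf (nat_lit 0x214f0f7)) (.leaf (nat_lit 0x21505e0))))) (.node 4 (.node 2 (.node 1 (.leaf (nat_lit 0x31504b9)) (.leaf (nat_lit 0x15123a))) (.node 1 (.leaf (nat_lit 0x2152a5b)) (.leaf (nat_lit 0x3152e06)))) (.node 2 (.node 1 (.leaf (nat_lit 0x115342e)) (.leaf (nat_lit 0x2153c5e))) (.node 1 (.leaf (nat_lit 0x2154e04)) (.leaf (nat_lit 0x3154457)))))) (.node 8 (.node 4 (.node 2 (.node 1 (.leaf (nat_lit 0x156740)) (.leaf (nat_lit 0x2156060))) (.node 1 (.leaf (nat_lit 0x3156bd7)) (.leaf (nat_lit 0x2157219)))) (.node 2 (.node 1 (.leaf (nat_lit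 0x1158443)) (.leaf (nat_lit 0x215843f))) (.node 1 (.leaf (nat_lit 0x3158195)) (.leaf (nat_lit 0x15932a))))) (.node 4 (.node 2 (.node 1 (.leaf (nat_lit 0x2159b28)) (.leaf (nat_lit 0x315a0f6))) (.node 1 (.leaf (nat_lit 0x15b086)) (.leaf (nat_lit 0x215b712)))) (.node 2 (.node 1 (.leaf (nat_lit 0x315b9c9)) (.leaf (nat_lit 0x15c6fc))) (.node 1 (.leaf (nat_lit 0x115d5c3)) (.leaf (nat_lit 0x215e285)))))))) (.node 32 (.node 16 (.node 8 (.node 4 (.node 2 (.node 1 (.leaf (nat_lit 0x315ee47)) (.leaf (nat_lit 0x15f762))) (.node 1 (.leaf (nat_lit 0x315f70c)) (.leaf (nat_lit 0x2160b42)))) (.node 2 (.node 1 (.leaf (nat_lit 0x3160500)) (.leaf (nat_lit 0x216138c))) (.node 1 (.leaf (nat_lit 0x3161cb3)) (.leaf (nat_lit 0x1626da))))) (.node 4 (.node 2 (.node 1 (.leaf (nat_lit 0x2163328)) (.leaf (nat_lit 0x31630ae))) (.node 1 (.leaf (nat_lit 0x11646d3)) (.leaf (nat_lit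 0x2164a38)))) (.node 2 (.node 1 (.leaf (nat_lit 0x31648f3)) (.leaf (nat_lit 0x3165f7f))) (.node 1 (.leaf (nat_lit 0x116671d)) (.leaf (nat_lit 0x216678a)))))) (.node 8 (.node 4 (.node 2 (.node 1 (.leaf (nat_lit 0x167cef)) (.leaf (nat_lit 0x2167062))) (.node 1 (.leaf (nat_lit 0x316700e)) (.leaf (nat_lit 0x168dee)))) (.node 2 (.node 1 (.leaf (nat_lit 0x1169cc5)) (.leaf (nat_lit 0x2169759))) (.node 1 (.leaf (nat_lit 0x216abd0)) (.leaf (nat_lit 0x316a1d7))))) (.node 4 (.node 2 (.node 1 (.leaf (nat_lit 0x316b747)) (.leaf (nat_lit 0x216cc50))) (.node 1 (.leaf (nat_lit 0x16d262)) (.leaf (nat_lit 0x316dba5)))) (.node 2 (.node 1 (.leaf (nat_lit 0x116e741)) (.leaf (nat_lit 0x216ea6c))) (.node 1 (.leaf (nat_lit 0x316eb5b)) (.leaf (nat_lit 0x116f9f4))))))) (.node 16 (.node 8 (.node 4 (.node 2 (.node 1 (.leaf (nat_lit 0x170bba)) (.leaf (nat_lit 0x21705e5))) (.node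 1 (.leaf (nat_lit 0x21711c7)) (.leaf (nat_lit 0x172711)))) (.node 2 (.node 1 (.leaf (nat_lit 0x1173b87)) (.leaf (nat_lit 0x2173a74))) (.node 1 (.leaf (nat_lit 0x174b64)) (.leaf (nat_lit 0x2174061))))) (.node 4 (.node 2 (.node 1 (.leaf (nat_lit 0x317486c)) (.leaf (nat_lit 0x1175c24))) (.node 1 (.leaf (nat_lit 0x2175927)) (.leaf (nat_lit 0x1762f0)))) (.node 2 (.node 1 (.leaf (nat_lit 0x21777f8)) (.leaf (nat_lit 0x3177306))) (.node 1 (.leaf (nat_lit 0x178281)) (.leaf (nat_lit 0x3178ae0)))))) (.node 8 (.node 4 (.node 2 (.node 1 (.leaf (nat_lit 0x1179faa)) (.leaf (nat_lit 0x2179465))) (.node 1 (.leaf (nat_lit 0x117a466)) (.leaf (nat_lit 0x217abd1)))) (.node 2 (.node 1 (.leaf (nat_lit 0x17ba48)) (.leaf (nat_lit 0x317b377))) (.node 1 (.leaf (nat_lit 0x17cf6b)) (.leaf (nat_lit 0x117dcc3))))) (.node 4 (.node 2 (.node 1 (.leaf (nat_lit 0x217dc03)) (.leaf (nat_lit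 0x117e50a))) (.node 1 (.leaf (nat_lit 0x217e0b2)) (.leaf (nat_lit 0x317ef50)))) (.node 2 (.node 1 (.leaf (nat_lit 0x117fb11)) (.leaf (nat_lit 0x217f93e))) (.node 1 (.leaf (nat_lit 0x317fabe)) (.leaf (nat_lit 0x180a87))))))))))

/-- A part of `ulev0`. -/
def ulev0_3 : Tree := (.node 128 (.node 64 (.node 32 (.node 16 (.node 8 (.node 4 (.node 2 (.node 1 (.leaf (nat_lit 0x1181ef8)) (.leaf (nat_lit 0x2181a42))) (.node 1 (.leaf (nat_lit 0x2182aa4)) (.leaf (nat_lit 0x318254b)))) (.node 2 (.node 1 (.leaf (nat_lit 0x2183a3f)) (.leaf (nat_lit 0x3183872))) (.node 1 (.leaf (nat_lit 0x1184d12)) (.leaf (nat_lit 0x21846c9))))) (.node 4 (.node 2 (.node 1 (.leaf (nat_lit 0x318431b)) (.leaf (nat_lit 0x1186590))) (.node 1 (.leaf (nat_lit 0x218692f)) (.leaf (nat_lit 0x3187c33)))) (.node 2 (.node 1 (.leaf (nat_lit 0x1188e84)) (.leaf (nat_lit 0x3188ab3))) (.node 1 (.leaf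 (nat_lit 0x218969f)) (.leaf (nat_lit 0x18a658)))))) (.node 8 (.node 4 (.node 2 (.node 1 (.leaf (nat_lit 0x318c34a)) (.leaf (nat_lit 0x118d02b))) (.node 1 (.leaf (nat_lit 0x318d760)) (.leaf (nat_lit 0x18e8c2)))) (.node 2 (.node 1 (.leaf (nat_lit 0x218ee46)) (.leaf (nat_lit 0x318e13b))) (.node 1 (.leaf (nat_lit 0x191c76)) (.leaf (nat_lit 0x119214e))))) (.node 4 (.node 2 (.node 1 (.leaf (nat_lit 0x1195223)) (.leaf (nat_lit 0x2195a37))) (.node 1 (.leaf (nat_lit 0x11981d2)) (.leaf (nat_lit 0x2198f09)))) (.node 2 (.node 1 (.leaf (nat_lit 0x199132)) (.leaf (nat_lit 0x3199f89))) (.node 1 (.leaf (nat_lit 0x219aa3c)) (.leaf (nat_lit 0x19b909))))))) (.node 16 (.node 8 (.node 4 (.node 2 (.node 1 (.leaf (nat_lit 0x119cae1)) (.leaf (nat_lit 0x219cd79))) (.node 1 (.leaf (nat_lit 0x19dc77)) (.leaf (nat_lit 0x19eb21)))) (.node 2 (.node 1 (.leaf (nat_lit 0x219e19f))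 (.leaf (nat_lit 0x319eca4))) (.node 1 (.leaf (nat_lit 0x119f8db)) (.leaf (nat_lit 0x319f88d))))) (.node 4 (.node 2 (.node 1 (.leaf (nat_lit 0x11a0f0d)) (.leaf (nat_lit 0x1a1304))) (.node 1 (.leaf (nat_lit 0x11a24b4)) (.leaf (nat_lit 0x21a3e4b)))) (.node 2 (.node 1 (.leaf (nat_lit 0x31a35e6)) (.leaf (nat_lit 0x11a4fd3))) (.node 1 (.leaf (nat_lit 0x21a479b)) (.leaf (nat_lit 0x21a551e)))))) (.node 8 (.node 4 (.node 2 (.node 1 (.leaf (nat_lit 0x31a5aaf)) (.leaf (nat_lit 0x11a6255))) (.node 1 (.leaf (nat_lit 0x1a7574)) (.leaf (nat_lit 0x21a89df)))) (.node 2 (.node 1 (.leaf (nat_lit 0x31a83fb)) (.leaf (nat_lit 0x1a9005))) (.node 1 (.leaf (nat_lit 0x21a90c5)) (.leaf (nat_lit 0x31a9ea2))))) (.node 4 (.node 2 (.node 1 (.leaf (nat_lit 0x31aa874)) (.leaf (nat_lit 0x11ab4e0))) (.node 1 (.leaf (nat_lit 0x21ab2f3)) (.leaf (nat_lit 0x31ab39e)))) (.node 2 (.node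 1 (.leaf (nat_lit 0x11ac4b3)) (.leaf (nat_lit 0x31acabb))) (.node 1 (.leaf (nat_lit 0x31ad622)) (.leaf (nat_lit 0x21ae38d)))))))) (.node 32 (.node 16 (.node 8 (.node 4 (.node 2 (.node 1 (.leaf (nat_lit 0x31ae736)) (.leaf (nat_lit 0x1af37c))) (.node 1 (.leaf (nat_lit 0x21afd72)) (.leaf (nat_lit 0x31afc84)))) (.node 2 (.node 1 (.leaf (nat_lit 0x11b168b)) (.leaf (nat_lit 0x21b2184))) (.node 1 (.leaf (nat_lit 0x31b2459)) (.leaf (nat_lit 0x1b3e20))))) (.node 4 (.node 2 (.node 1 (.leaf (nat_lit 0x31b4e7b)) (.leaf (nat_lit 0x11b5ad0))) (.node 1 (.leaf (nat_lit 0x1b83ed)) (.leaf (nat_lit 0x21b9970)))) (.node 2 (.node 1 (.leaf (nat_lit 0x11ba34f)) (.leaf (nat_lit 0x31ba2c5))) (.node 1 (.leaf (nat_lit 0x21bbf1c)) (.leaf (nat_lit 0x31bbc2e)))))) (.node 8 (.node 4 (.node 2 (.node 1 (.leaf (nat_lit 0x11bcb9e)) (.leaf (nat_lit 0x21bcdea))) (.node 1 (.leaf (nat_lit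 0x31bc2a9)) (.leaf (nat_lit 0x21bd0e9)))) (.node 2 (.node 1 (.leaf (nat_lit 0x31bd0c3)) (.leaf (nat_lit 0x1be70e))) (.node 1 (.leaf (nat_lit 0x11bf481)) (.leaf (nat_lit 0x21bf019))))) (.node 4 (.node 2 (.node 1 (.leaf (nat_lit 0x21c1425)) (.leaf (nat_lit 0x11c2825))) (.node 1 (.leaf (nat_lit 0x21c2f12)) (.leaf (nat_lit 0x31c2bc6)))) (.node 2 (.node 1 (.leaf (nat_lit 0x11c3a4d)) (.leaf (nat_lit 0x21c34c9))) (.node 1 (.leaf (nat_lit 0x31c3cb9)) (.leaf (nat_lit 0x11c40ff))))))) (.node 16 (.node 8 (.node 4 (.node 2 (.node 1 (.leaf (nat_lit 0x21c4e7c)) (.leaf (nat_lit 0x31c4f7e))) (.node 1 (.leaf (nat_lit 0x1c5965)) (.leaf (nat_lit 0x31c5b09)))) (.node 2 (.node 1 (.leaf (nat_lit 0x11c73a5)) (.leaf (nat_lit 0x21c7176))) (.node 1 (.leaf (nat_lit 0x31c8a75)) (.leaf (nat_lit 0x31c9a53))))) (.node 4 (.node 2 (.node 1 (.leaf (nat_lit 0x1ca55f)) (.leaf (nat_lit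 0x21ca265))) (.node 1 (.leaf (nat_lit 0x31ca2b0)) (.leaf (nat_lit 0x1cb82b)))) (.node 2 (.node 1 (.leaf (nat_lit 0x21cc072)) (.leaf (nat_lit 0x31cccf7))) (.node 1 (.leaf (nat_lit 0x11cd067)) (.leaf (nat_lit 0x21cd0ee)))))) (.node 8 (.node 4 (.node 2 (.node 1 (.leaf (nat_lit 0x31cdefa)) (.leaf (nat_lit 0x11cee6f))) (.node 1 (.leaf (nat_lit 0x11cf616)) (.leaf (nat_lit 0x21cf4ce)))) (.node 2 (.node 1 (.leaf (nat_lit 0x1d089b)) (.leaf (nat_lit 0x21d065a))) (.node 1 (.leaf (nat_lit 0x31d055c)) (.leaf (nat_lit 0x1d172d))))) (.node 4 (.node 2 (.node 1 (.leaf (nat_lit 0x21d3dd2)) (.leaf (nat_lit 0x31d3a77))) (.node 1 (.leaf (nat_lit 0x1d47cf)) (.leaf (nat_lit 0x21d4518)))) (.node 2 (.node 1 (.leaf (nat_lit 0x31d4407)) (.leaf (nat_lit 0x31d50e2))) (.node 1 (.leaf (nat_lit 0x1d601e)) (.leaf (nat_lit 0x31d606f))))))))) (.node 64 (.node 32 (.node 16 (.node 8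 (.node 4 (.node 2 (.node 1 (.leaf (nat_lit 0x11d7bb1)) (.leaf (nat_lit 0x21d7125))) (.node 1 (.leaf (nat_lit 0x31d744a)) (.leaf (nat_lit 0x11d887e)))) (.node 2 (.node 1 (.leaf (nat_lit 0x21d870d)) (.leaf (nat_lit 0x11d953d))) (.node 1 (.leaf (nat_lit 0x31d9ed9)) (.leaf (nat_lit 0x1da47e))))) (.node 4 (.node 2 (.node 1 (.leaf (nat_lit 0x11db4e1)) (.leaf (nat_lit 0x31dbf94))) (.node 1 (.leaf (nat_lit 0x21dc954)) (.leaf (nat_lit 0x31dc863)))) (.node 2 (.node 1 (.leaf (nat_lit 0x1dd015)) (.leaf (nat_lit 0x21dec9d))) (.node 1 (.leaf (nat_lit 0x21df359)) (.leaf (nat_lit 0x21e059f)))))) (.node 8 (.node 4 (.node 2 (.node 1 (.leaf (nat_lit 0x11e1fce)) (.leaf (nat_lit 0x31e11c4))) (.node 1 (.leaf (nat_lit 0x11e28e8)) (.leaf (nat_lit 0x31e3035)))) (.node 2 (.node 1 (.leaf (nat_lit 0x11e4f2b)) (.leaf (nat_lit 0x21e4073))) (.node 1 (.leaf (nat_lit 0x31e5f0c))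 (.leaf (nat_lit 0x11e6861))))) (.node 4 (.node 2 (.node 1 (.leaf (nat_lit 0x21e698e)) (.leaf (nat_lit 0x31e6b04))) (.node 1 (.leaf (nat_lit 0x1e7a11)) (.leaf (nat_lit 0x21e7c0b)))) (.node 2 (.node 1 (.leaf (nat_lit 0x31e7ad3)) (.leaf (nat_lit 0x21e80e3))) (.node 1 (.leaf (nat_lit 0x31e86e0)) (.leaf (nat_lit 0x1e9117))))))) (.node 16 (.node 8 (.node 4 (.node 2 (.node 1 (.leaf (nat_lit 0x11eaa30)) (.leaf (nat_lit 0x31eb53e))) (.node 1 (.leaf (nat_lit 0x11ec6c8)) (.leaf (nat_lit 0x11edc2c)))) (.node 2 (.node 1 (.leaf (nat_lit 0x21ed647)) (.leaf (nat_lit 0x1ee949))) (.node 1 (.leaf (nat_lit 0x21ee01a)) (.leaf (nat_lit 0x1ef97c))))) (.node 4 (.node 2 (.node 1 (.leaf (nat_lit 0x1f07d0)) (.leaf (nat_lit 0x21f0737))) (.node 1 (.leaf (nat_lit 0x31f0b60)) (.leaf (nat_lit 0x11f1421)))) (.node 2 (.node 1 (.leaf (nat_lit 0x21f17f9)) (.leaf (nat_lit 0x1f2320)))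 (.node 1 (.leaf (nat_lit 0x21f2a1e)) (.leaf (nat_lit 0x1f3f99)))))) (.node 8 (.node 4 (.node 2 (.node 1 (.leaf (nat_lit 0x21f4b1f)) (.leaf (nat_lit 0x21f6bc8))) (.node 1 (.leaf (nat_lit 0x31f6a95)) (.leaf (nat_lit 0x21f7353)))) (.node 2 (.node 1 (.leaf (nat_lit 0x31f73d2)) (.leaf (nat_lit 0x11f98b4))) (.node 1 (.leaf (nat_lit 0x21f9cf6)) (.leaf (nat_lit 0x1fb44c))))) (.node 4 (.node 2 (.node 1 (.leaf (nat_lit 0x31fb3a3)) (.leaf (nat_lit 0x21fcbad))) (.node 1 (.leaf (nat_lit 0x31fc888)) (.leaf (nat_lit 0x31fd06b)))) (.node 2 (.node 1 (.leaf (nat_lit 0x1ffe63)) (.leaf (nat_lit 0x21ffc1a))) (.node 1 (.leaf (nat_lit 0x120048f)) (.leaf (nat_lit 0x22002b9)))))))) (.node 32 (.node 16 (.node 8 (.node 4 (.node 2 (.node 1 (.leaf (nat_lit 0x3200c34)) (.leaf (nat_lit 0x20156f))) (.node 1 (.leaf (nat_lit 0x22019f7)) (.leaf (nat_lit 0x320142d)))) (.node 2 (.node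 1 (.leaf (nat_lit 0x320273c)) (.leaf (nat_lit 0x203a25))) (.node 1 (.leaf (nat_lit 0x2203594)) (.leaf (nat_lit 0x204344))))) (.node 4 (.node 2 (.node 1 (.leaf (nat_lit 0x3206889)) (.leaf (nat_lit 0x207b69))) (.node 1 (.leaf (nat_lit 0x3207a2b)) (.leaf (nat_lit 0x1208d10)))) (.node 2 (.node 1 (.leaf (nat_lit 0x2208f4b)) (.leaf (nat_lit 0x32082cf))) (.node 1 (.leaf (nat_lit 0x2094e8)) (.leaf (nat_lit 0x20a249)))))) (.node 8 (.node 4 (.node 2 (.node 1 (.leaf (nat_lit 0x120bdaa)) (.leaf (nat_lit 0x220bae4))) (.node 1 (.leaf (nat_lit 0x320b257)) (.leaf (nat_lit 0x120ce1c)))) (.node 2 (.node 1 (.leaf (nat_lit 0x20d713)) (.leaf (nat_lit 0x220fde4))) (.node 1 (.leaf (nat_lit 0x320f2a1)) (.leaf (nat_lit 0x2106b2))))) (.node 4 (.node 2 (.node 1 (.leaf (nat_lit 0x22108d5)) (.leaf (nat_lit 0x32109bf))) (.node 1 (.leaf (nat_lit 0x121278d)) (.leaf (nat_lit 0x1213451))))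 (.node 2 (.node 1 (.leaf (nat_lit 0x214f5b)) (.leaf (nat_lit 0x3214823))) (.node 1 (.leaf (nat_lit 0x2215669)) (.leaf (nat_lit 0x3215522))))))) (.node 16 (.node 8 (.node 4 (.node 2 (.node 1 (.leaf (nat_lit 0x216958)) (.leaf (nat_lit 0x3217319))) (.node 1 (.leaf (nat_lit 0x1218953)) (.leaf (nat_lit 0x2218d1a)))) (.node 2 (.node 1 (.leaf (nat_lit 0x3218b34)) (.leaf (nat_lit 0x1219c35))) (.node 1 (.leaf (nat_lit 0x3219430)) (.leaf (nat_lit 0x221a60d))))) (.node 4 (.node 2 (.node 1 (.leaf (nat_lit 0x321a78b)) (.leaf (nat_lit 0x21bf0b))) (.node 1 (.leaf (nat_lit 0x221bf15)) (.leaf (nat_lit 0x21c774)))) (.node 2 (.node 1 (.leaf (nat_lit 0x121d653)) (.leaf (nat_lit 0x21fec9))) (.node 1 (.leaf (nat_lit 0x321fe41)) (.leaf (nat_lit 0x222074b)))))) (.node 8 (.node 4 (.node 2 (.node 1 (.leaf (nat_lit 0x12258c3)) (.leaf (nat_lit 0x222535b))) (.node 1 (.leaf (nat_lit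 0x2226d2b)) (.leaf (nat_lit 0x227b7f)))) (.node 2 (.node 1 (.leaf (nat_lit 0x2227bdb)) (.leaf (nat_lit 0x3227c5f))) (.node 1 (.leaf (nat_lit 0x3228d86)) (.leaf (nat_lit 0x12298f5))))) (.node 4 (.node 2 (.node 1 (.leaf (nat_lit 0x2229230)) (.leaf (nat_lit 0x3229f8b))) (.node 1 (.leaf (nat_lit 0x122b149)) (.leaf (nat_lit 0x222bebc)))) (.node 2 (.node 1 (.leaf (nat_lit 0x222ceb0)) (.leaf (nat_lit 0x322c9f6))) (.node 1 (.leaf (nat_lit 0x22d21a)) (.leaf (nat_lit 0x322dec1))))))))))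

/-- A part of `ulev0`. -/
def ulev0_4 : Tree := (.node 128 (.node 64 (.node 32 (.node 16 (.node 8 (.node 4 (.node 2 (.node 1 (.leaf (nat_lit 0x222e3ac)) (.leaf (nat_lit 0x222f6df))) (.node 1 (.leaf (nat_lit 0x2230723)) (.leaf (nat_lit 0x231a22)))) (.node 2 (.node 1 (.leaf (nat_lit 0x2323b5)) (.leaf (nat_lit 0x22325e1))) (.node 1 (.leaf (nat_lit 0x323256e)) (.leaf (nat_lit 0x2233f5a))))) (.node 4 (.node 2 (.node 1 (.leaf (nat_lit 0x3233e10)) (.leaf (nat_lit 0x2234b54))) (.node 1 (.leaf (nat_lit 0x32349a4)) (.leaf (nat_lit 0x235bd6)))) (.node 2 (.node 1 (.leaf (nat_lit 0x2235ba2)) (.leaf (nat_lit 0x123655e))) (.node 1 (.leaf (nat_lit 0x2236387)) (.leaf (nat_lit 0x3236e62)))))) (.node 8 (.node 4 (.node 2 (.node 1 (.leaf (nat_lit 0x3237f0e)) (.leaf (nat_lit 0x2389d6))) (.node 1 (.leaf (nat_lit 0x1239323)) (.leaf (nat_lit 0x223a474)))) (.node 2 (.node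 1 (.leaf (nat_lit 0x323af7a)) (.leaf (nat_lit 0x223bfc4))) (.node 1 (.leaf (nat_lit 0x323df3b)) (.leaf (nat_lit 0x23f36e))))) (.node 4 (.node 2 (.node 1 (.leaf (nat_lit 0x240f9b)) (.leaf (nat_lit 0x2240a4e))) (.node 1 (.leaf (nat_lit 0x324061a)) (.leaf (nat_lit 0x2412ec)))) (.node 2 (.node 1 (.leaf (nat_lit 0x3242831)) (.leaf (nat_lit 0x3244746))) (.node 1 (.leaf (nat_lit 0x1245775)) (.leaf (nat_lit 0x2245b18))))))) (.node 16 (.node 8 (.node 4 (.node 2 (.node 1 (.leaf (nat_lit 0x3245c4d)) (.leaf (nat_lit 0x124728d))) (.node 1 (.leaf (nat_lit 0x22474f5)) (.leaf (nat_lit 0x249bde)))) (.node 2 (.node 1 (.leaf (nat_lit 0x124afa9)) (.leaf (nat_lit 0x224bec4))) (.node 1 (.leaf (nat_lit 0x324cceb)) (.leaf (nat_lit 0x224d38a))))) (.node 4 (.node 2 (.node 1 (.leaf (nat_lit 0x124f8b8)) (.leaf (nat_lit 0x3251e18))) (.node 1 (.leaf (nat_lit 0x22528d3)) (.leaf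 (nat_lit 0x32525c8)))) (.node 2 (.node 1 (.leaf (nat_lit 0x25390d)) (.leaf (nat_lit 0x3253bdc))) (.node 1 (.leaf (nat_lit 0x12569f3)) (.leaf (nat_lit 0x3256db1)))))) (.node 8 (.node 4 (.node 2 (.node 1 (.leaf (nat_lit 0x225795d)) (.leaf (nat_lit 0x258150))) (.node 1 (.leaf (nat_lit 0x259f10)) (.leaf (nat_lit 0x125af4a)))) (.node 2 (.node 1 (.leaf (nat_lit 0x225a06e)) (.leaf (nat_lit 0x325a6bf))) (.node 1 (.leaf (nat_lit 0x325c351)) (.leaf (nat_lit 0x125d138))))) (.node 4 (.node 2 (.node 1 (.leaf (nat_lit 0x225d23d)) (.leaf (nat_lit 0x225ea35))) (.node 1 (.leaf (nat_lit 0x325ecca)) (.leaf (nat_lit 0x125f802)))) (.node 2 (.node 1 (.leaf (nat_lit 0x225f36b)) (.leaf (nat_lit 0x1260ad9))) (.node 1 (.leaf (nat_lit 0x2260f3a)) (.leaf (nat_lit 0x2261d21)))))))) (.node 32 (.node 16 (.node 8 (.node 4 (.node 2 (.node 1 (.leaf (nat_lit 0x326158b)) (.leaf (nat_lit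 0x226279a))) (.node 1 (.leaf (nat_lit 0x3262786)) (.leaf (nat_lit 0x1264693)))) (.node 2 (.node 1 (.leaf (nat_lit 0x22648df)) (.leaf (nat_lit 0x26535a))) (.node 1 (.leaf (nat_lit 0x3265452)) (.leaf (nat_lit 0x3266afd))))) (.node 4 (.node 2 (.node 1 (.leaf (nat_lit 0x3267ea8)) (.leaf (nat_lit 0x268754))) (.node 1 (.leaf (nat_lit 0x269c8e)) (.leaf (nat_lit 0x2269b8d)))) (.node 2 (.node 1 (.leaf (nat_lit 0x3269234)) (.leaf (nat_lit 0x26a3fc))) (.node 1 (.leaf (nat_lit 0x226a191)) (.leaf (nat_lit 0x326a68e)))))) (.node 8 (.node 4 (.node 2 (.node 1 (.leaf (nat_lit 0x226bd15)) (.leaf (nat_lit 0x26c0af))) (.node 1 (.leaf (nat_lit 0x226dae8)) (.leaf (nat_lit 0x226e6cf)))) (.node 2 (.node 1 (.leaf (nat_lit 0x326ee19)) (.leaf (nat_lit 0x26f922))) (.node 1 (.leaf (nat_lit 0x226f85d)) (.leaf (nat_lit 0x1270595))))) (.node 4 (.node 2 (.node 1 (.leaf (nat_lit 0x2270b8e))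 (.leaf (nat_lit 0x3270012))) (.node 1 (.leaf (nat_lit 0x1271dcc)) (.leaf (nat_lit 0x2271162)))) (.node 2 (.node 1 (.leaf (nat_lit 0x2272b1b)) (.leaf (nat_lit 0x327283a))) (.node 1 (.leaf (nat_lit 0x273c95)) (.leaf (nat_lit 0x2273f75))))))) (.node 16 (.node 8 (.node 4 (.node 2 (.node 1 (.leaf (nat_lit 0x1275e57)) (.leaf (nat_lit 0x3276426))) (.node 1 (.leaf (nat_lit 0x279879)) (.leaf (nat_lit 0x3279c94)))) (.node 2 (.node 1 (.leaf (nat_lit 0x127a9fa)) (.leaf (nat_lit 0x227aacc))) (.node 1 (.leaf (nat_lit 0x327ae49)) (.leaf (nat_lit 0x327ba4a))))) (.node 4 (.node 2 (.node 1 (.leaf (nat_lit 0x127cce6)) (.leaf (nat_lit 0x327c6f9))) (.node 1 (.leaf (nat_lit 0x127e40d)) (.leaf (nat_lit 0x227e0cf)))) (.node 2 (.node 1 (.leaf (nat_lit 0x32815e4)) (.leaf (nat_lit 0x2283b2f))) (.node 1 (.leaf (nat_lit 0x1286866)) (.leaf (nat_lit 0x2873ab)))))) (.node 8 (.node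 4 (.node 2 (.node 1 (.leaf (nat_lit 0x3287f88)) (.leaf (nat_lit 0x2288402))) (.node 1 (.leaf (nat_lit 0x28974e)) (.leaf (nat_lit 0x128a0bb)))) (.node 2 (.node 1 (.leaf (nat_lit 0x128bf8a)) (.leaf (nat_lit 0x328b079))) (.node 1 (.leaf (nat_lit 0x328ca70)) (.leaf (nat_lit 0x228d4e5))))) (.node 4 (.node 2 (.node 1 (.leaf (nat_lit 0x128ef7c)) (.leaf (nat_lit 0x328e5b2))) (.node 1 (.leaf (nat_lit 0x228fe24)) (.leaf (nat_lit 0x29097f)))) (.node 2 (.node 1 (.leaf (nat_lit 0x1291220)) (.leaf (nat_lit 0x22919ba))) (.node 1 (.leaf (nat_lit 0x22928e0)) (.leaf (nat_lit 0x294a88))))))))) (.node 64 (.node 32 (.node 16 (.node 8 (.node 4 (.node 2 (.node 1 (.leaf (nat_lit 0x2294b75)) (.leaf (nat_lit 0x329666d))) (.node 1 (.leaf (nat_lit 0x297b26)) (.leaf (nat_lit 0x229ae32)))) (.node 2 (.node 1 (.leaf (nat_lit 0x329a07f)) (.leaf (nat_lit 0x29b415))) (.node 1 (.leaf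 (nat_lit 0x29cf51)) (.leaf (nat_lit 0x329d2ba))))) (.node 4 (.node 2 (.node 1 (.leaf (nat_lit 0x29ef9d)) (.leaf (nat_lit 0x329e34b))) (.node 1 (.leaf (nat_lit 0x129f6b1)) (.leaf (nat_lit 0x329f98f)))) (.node 2 (.node 1 (.leaf (nat_lit 0x22a06aa)) (.leaf (nat_lit 0x32a0733))) (.node 1 (.leaf (nat_lit 0x2a168d)) (.leaf (nat_lit 0x12a24b6)))))) (.node 8 (.node 4 (.node 2 (.node 1 (.leaf (nat_lit 0x22a2ec2)) (.leaf (nat_lit 0x2a4a56))) (.node 1 (.leaf (nat_lit 0x22a5fc2)) (.leaf (nat_lit 0x22a73b4)))) (.node 2 (.node 1 (.leaf (nat_lit 0x32a70bc)) (.leaf (nat_lit 0x32a8a27))) (.node 1 (.leaf (nat_lit 0x12a9692)) (.leaf (nat_lit 0x22a9dd8))))) (.node 4 (.node 2 (.node 1 (.leaf (nat_lit 0x12abfc3)) (.leaf (nat_lit 0x22ac833))) (.node 1 (.leaf (nat_lit 0x32aceb7)) (.leaf (nat_lit 0x2ad9b7)))) (.node 2 (.node 1 (.leaf (nat_lit 0x22ad00f)) (.leaf (nat_lit 0x32ad3a2)))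 (.node 1 (.leaf (nat_lit 0x12af781)) (.leaf (nat_lit 0x22af54a))))))) (.node 16 (.node 8 (.node 4 (.node 2 (.node 1 (.leaf (nat_lit 0x22b03da)) (.leaf (nat_lit 0x32b010c))) (.node 1 (.leaf (nat_lit 0x2b1432)) (.leaf (nat_lit 0x22b157b)))) (.node 2 (.node 1 (.leaf (nat_lit 0x32b1a94)) (.leaf (nat_lit 0x32b247f))) (.node 1 (.leaf (nat_lit 0x22b6b9b)) (.leaf (nat_lit 0x12b7c64))))) (.node 4 (.node 2 (.node 1 (.leaf (nat_lit 0x2b8767)) (.leaf (nat_lit 0x12b9813))) (.node 1 (.leaf (nat_lit 0x32bb5fd)) (.leaf (nat_lit 0x22bc1e9)))) (.node 2 (.node 1 (.leaf (nat_lit 0x32bc6af)) (.leaf (nat_lit 0x12bdf76))) (.node 1 (.leaf (nat_lit 0x22bd7d8)) (.leaf (nat_lit 0x32beb8c)))))) (.node 8 (.node 4 (.node 2 (.node 1 (.leaf (nat_lit 0x2bfd3f)) (.leaf (nat_lit 0x22bfa6e))) (.node 1 (.leaf (nat_lit 0x32bfaf3)) (.leaf (nat_lit 0x22c0fd1)))) (.node 2 (.node 1 (.leaf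 (nat_lit 0x32c0b1d)) (.leaf (nat_lit 0x32c17bc))) (.node 1 (.leaf (nat_lit 0x22c2aae)) (.leaf (nat_lit 0x32c2605))))) (.node 4 (.node 2 (.node 1 (.leaf (nat_lit 0x2c395c)) (.leaf (nat_lit 0x12c42e1))) (.node 1 (.leaf (nat_lit 0x22c4bf6)) (.leaf (nat_lit 0x2c5900)))) (.node 2 (.node 1 (.leaf (nat_lit 0x32c5824)) (.leaf (nat_lit 0x12c63c8))) (.node 1 (.leaf (nat_lit 0x12c74df)) (.leaf (nat_lit 0x12c98d4)))))))) (.node 32 (.node 16 (.node 8 (.node 4 (.node 2 (.node 1 (.leaf (nat_lit 0x22c9a4c)) (.leaf (nat_lit 0x32c9e16))) (.node 1 (.leaf (nat_lit 0x2ca13d)) (.leaf (nat_lit 0x22cab7a)))) (.node 2 (.node 1 (.leaf (nat_lit 0x32cacab)) (.leaf (nat_lit 0x12cc870))) (.node 1 (.leaf (nat_lit 0x22cd3a4)) (.leaf (nat_lit 0x2ce00c))))) (.node 4 (.node 2 (.node 1 (.leaf (nat_lit 0x22ce405)) (.leaf (nat_lit 0x2d1b7c))) (.node 1 (.leaf (nat_lit 0x32d1e7f)) (.leaf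 (nat_lit 0x32d2aa5)))) (.node 2 (.node 1 (.leaf (nat_lit 0x12d39f2)) (.leaf (nat_lit 0x22d3a06))) (.node 1 (.leaf (nat_lit 0x2d41ad)) (.leaf (nat_lit 0x2d635f)))))) (.node 8 (.node 4 (.node 2 (.node 1 (.leaf (nat_lit 0x32d68b6)) (.leaf (nat_lit 0x22d7264))) (.node 1 (.leaf (nat_lit 0x32d74b8)) (.leaf (nat_lit 0x22d9b1a)))) (.node 2 (.node 1 (.leaf (nat_lit 0x22da8cc)) (.leaf (nat_lit 0x32db24d))) (.node 1 (.leaf (nat_lit 0x22dcda8)) (.leaf (nat_lit 0x32dc77e))))) (.node 4 (.node 2 (.node 1 (.leaf (nat_lit 0x2dd278)) (.leaf (nat_lit 0x12de0fd))) (.node 1 (.leaf (nat_lit 0x32df2f4)) (.leaf (nat_lit 0x12e0007)))) (.node 2 (.node 1 (.leaf (nat_lit 0x2e1917)) (.leaf (nat_lit 0x32e104c))) (.node 1 (.leaf (nat_lit 0x32e2afe)) (.leaf (nat_lit 0x12e3609))))))) (.node 16 (.node 8 (.node 4 (.node 2 (.node 1 (.leaf (nat_lit 0x22e35a8)) (.leaf (nat_lit 0x12e6c75)))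 (.node 1 (.leaf (nat_lit 0x22e6d75)) (.leaf (nat_lit 0x32e6ba1)))) (.node 2 (.node 1 (.leaf (nat_lit 0x2e7f38)) (.leaf (nat_lit 0x32e74f1))) (.node 1 (.leaf (nat_lit 0x12e8b73)) (.leaf (nat_lit 0x32e99af))))) (.node 4 (.node 2 (.node 1 (.leaf (nat_lit 0x12ed403)) (.leaf (nat_lit 0x22ed003))) (.node 1 (.leaf (nat_lit 0x12eed29)) (.leaf (nat_lit 0x32ef10b)))) (.node 2 (.node 1 (.leaf (nat_lit 0x2f0f18)) (.leaf (nat_lit 0x22f019c))) (.node 1 (.leaf (nat_lit 0x22f2456)) (.leaf (nat_lit 0x32f2a03)))))) (.node 8 (.node 4 (.node 2 (.node 1 (.leaf (nat_lit 0x32f578c)) (.leaf (nat_lit 0x22f7602))) (.node 1 (.leaf (nat_lit 0x32f92b6)) (.leaf (nat_lit 0x22fa04b)))) (.node 2 (.node 1 (.leaf (nat_lit 0x12fb2be)) (.leaf (nat_lit 0x22fbd7a))) (.node 1 (.leaf (nat_lit 0x32fb199)) (.leaf (nat_lit 0x2fc519))))) (.node 4 (.node 2 (.node 1 (.leaf (nat_lit 0x12ff1aa))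 (.leaf (nat_lit 0x2300b8a))) (.node 1 (.leaf (nat_lit 0x33000d0)) (.leaf (nat_lit 0x301e6d)))) (.node 2 (.node 1 (.leaf (nat_lit 0x3302b2a)) (.leaf (nat_lit 0x2303af6))) (.node 1 (.leaf (nat_lit 0x23042e5)) (.leaf (nat_lit 0x3305960))))))))))

/-- A part of `ulev0`. -/
def ulev0_5 : Tree := (.node 128 (.node 64 (.node 32 (.node 16 (.node 8 (.node 4 (.node 2 (.node 1 (.leaf (nat_lit 0x2306f68)) (.leaf (nat_lit 0x33065c1))) (.node 1 (.leaf (nat_lit 0x309e7d)) (.leaf (nat_lit 0x30aa2e)))) (.node 2 (.node 1 (.leaf (nat_lit 0x330c2c6)) (.leaf (nat_lit 0x230f541))) (.node 1 (.leaf (nat_lit 0x13101ec)) (.leaf (nat_lit 0x23107fa))))) (.node 4 (.node 2 (.node 1 (.leaf (nat_lit 0x3310b8f)) (.leaf (nat_lit 0x3311f1a))) (.node 1 (.leaf (nat_lit 0x1312cbb)) (.leaf (nat_lit 0x231360f)))) (.node 2 (.node 1 (.leaf (nat_lit 0x33148f0)) (.leaf (nat_lit 0x3315b10)))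 (.node 1 (.leaf (nat_lit 0x131663c)) (.leaf (nat_lit 0x331700d)))))) (.node 8 (.node 4 (.node 2 (.node 1 (.leaf (nat_lit 0x318a0c)) (.leaf (nat_lit 0x2318542))) (.node 1 (.leaf (nat_lit 0x31ac1c)) (.leaf (nat_lit 0x331a862)))) (.node 2 (.node 1 (.leaf (nat_lit 0x231c763)) (.leaf (nat_lit 0x331c29d))) (.node 1 (.leaf (nat_lit 0x31ef49)) (.leaf (nat_lit 0x131f945))))) (.node 4 (.node 2 (.node 1 (.leaf (nat_lit 0x2320f2a)) (.leaf (nat_lit 0x321c7d))) (.node 1 (.leaf (nat_lit 0x2322ba4)) (.leaf (nat_lit 0x1323006)))) (.node 2 (.node 1 (.leaf (nat_lit 0x1327e60)) (.leaf (nat_lit 0x23293b2))) (.node 1 (.leaf (nat_lit 0x332ac78)) (.leaf (nat_lit 0x232bdd3))))))) (.node 16 (.node 8 (.node 4 (.node 2 (.node 1 (.leaf (nat_lit 0x332cc70)) (.leaf (nat_lit 0x32fea3))) (.node 1 (.leaf (nat_lit 0x332f0e8)) (.leaf (nat_lit 0x1330fa6)))) (.node 2 (.node 1 (.leaf (nat_lit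 0x3331512)) (.leaf (nat_lit 0x333f77))) (.node 1 (.leaf (nat_lit 0x23333e6)) (.leaf (nat_lit 0x2334f40))))) (.node 4 (.node 2 (.node 1 (.leaf (nat_lit 0x3334ea0)) (.leaf (nat_lit 0x2335305))) (.node 1 (.leaf (nat_lit 0x3335603)) (.leaf (nat_lit 0x3390ea)))) (.node 2 (.node 1 (.leaf (nat_lit 0x133bc57)) (.leaf (nat_lit 0x333d4c5))) (.node 1 (.leaf (nat_lit 0x333e79e)) (.leaf (nat_lit 0x1340491)))))) (.node 8 (.node 4 (.node 2 (.node 1 (.leaf (nat_lit 0x23415e7)) (.leaf (nat_lit 0x33418cb))) (.node 1 (.leaf (nat_lit 0x3342c43)) (.leaf (nat_lit 0x3343b50)))) (.node 2 (.node 1 (.leaf (nat_lit 0x344db2)) (.leaf (nat_lit 0x2345a54))) (.node 1 (.leaf (nat_lit 0x3345de0)) (.leaf (nat_lit 0x1346124))))) (.node 4 (.node 2 (.node 1 (.leaf (nat_lit 0x2346f16)) (.leaf (nat_lit 0x334641b))) (.node 1 (.leaf (nat_lit 0x2347509)) (.leaf (nat_lit 0x134ac0e)))) (.node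 2 (.node 1 (.leaf (nat_lit 0x34ba08)) (.leaf (nat_lit 0x334c10e))) (.node 1 (.leaf (nat_lit 0x134dea7)) (.leaf (nat_lit 0x34e7d7)))))))) (.node 32 (.node 16 (.node 8 (.node 4 (.node 2 (.node 1 (.leaf (nat_lit 0x334ed06)) (.leaf (nat_lit 0x234f2bc))) (.node 1 (.leaf (nat_lit 0x334fe54)) (.leaf (nat_lit 0x2350806)))) (.node 2 (.node 1 (.leaf (nat_lit 0x2352f78)) (.leaf (nat_lit 0x353dcd))) (.node 1 (.leaf (nat_lit 0x3354ab8)) (.leaf (nat_lit 0x1355b3b))))) (.node 4 (.node 2 (.node 1 (.leaf (nat_lit 0x2355793)) (.leaf (nat_lit 0x335636a))) (.node 1 (.leaf (nat_lit 0x358cc6)) (.leaf (nat_lit 0x3358646)))) (.node 2 (.node 1 (.leaf (nat_lit 0x2359588)) (.leaf (nat_lit 0x33595ac))) (.node 1 (.leaf (nat_lit 0x135b539)) (.leaf (nat_lit 0x235be83)))))) (.node 8 (.node 4 (.node 2 (.node 1 (.leaf (nat_lit 0x235dd62)) (.leaf (nat_lit 0x335da2a))) (.node 1 (.leaf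 (nat_lit 0x135eba7)) (.leaf (nat_lit 0x235ee25)))) (.node 2 (.node 1 (.leaf (nat_lit 0x335e912)) (.leaf (nat_lit 0x23614fc))) (.node 1 (.leaf (nat_lit 0x36401d)) (.leaf (nat_lit 0x3364da6))))) (.node 4 (.node 2 (.node 1 (.leaf (nat_lit 0x36575e)) (.leaf (nat_lit 0x13660a1))) (.node 1 (.leaf (nat_lit 0x1367582)) (.leaf (nat_lit 0x23673ea)))) (.node 2 (.node 1 (.leaf (nat_lit 0x3368e8a)) (.leaf (nat_lit 0x336a380))) (.node 1 (.leaf (nat_lit 0x136b312)) (.leaf (nat_lit 0x236b523))))))) (.node 16 (.node 8 (.node 4 (.node 2 (.node 1 (.leaf (nat_lit 0x36c660)) (.leaf (nat_lit 0x236c6d5))) (.node 1 (.leaf (nat_lit 0x136d045)) (.leaf (nat_lit 0x236d1f2)))) (.node 2 (.node 1 (.leaf (nat_lit 0x336d15b)) (.leaf (nat_lit 0x36e441))) (.node 1 (.leaf (nat_lit 0x236eb72)) (.leaf (nat_lit 0x23722ed))))) (.node 4 (.node 2 (.node 1 (.leaf (nat_lit 0x3375fc1)) (.leaf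 (nat_lit 0x1377a80))) (.node 1 (.leaf (nat_lit 0x2377637)) (.leaf (nat_lit 0x237881c)))) (.node 2 (.node 1 (.leaf (nat_lit 0x137955d)) (.leaf (nat_lit 0x237ad1e))) (.node 1 (.leaf (nat_lit 0x37bd9a)) (.leaf (nat_lit 0x337b3f9)))))) (.node 8 (.node 4 (.node 2 (.node 1 (.leaf (nat_lit 0x137cf19)) (.leaf (nat_lit 0x137d2d7))) (.node 1 (.leaf (nat_lit 0x137ea45)) (.leaf (nat_lit 0x337e52d)))) (.node 2 (.node 1 (.leaf (nat_lit 0x237f777)) (.leaf (nat_lit 0x337f6ca))) (.node 1 (.leaf (nat_lit 0x23809f5)) (.leaf (nat_lit 0x138223e))))) (.node 4 (.node 2 (.node 1 (.leaf (nat_lit 0x338327b)) (.leaf (nat_lit 0x384661))) (.node 1 (.leaf (nat_lit 0x3384130)) (.leaf (nat_lit 0x3386411)))) (.node 2 (.node 1 (.leaf (nat_lit 0x2387b77)) (.leaf (nat_lit 0x3388a0e))) (.node 1 (.leaf (nat_lit 0x1389548)) (.leaf (nat_lit 0x38af63))))))))) (.node 64 (.node 32 (.node 16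 (.node 8 (.node 4 (.node 2 (.node 1 (.leaf (nat_lit 0x338b8ef)) (.leaf (nat_lit 0x138c2ea))) (.node 1 (.leaf (nat_lit 0x238c613)) (.leaf (nat_lit 0x238de3d)))) (.node 2 (.node 1 (.leaf (nat_lit 0x338ea51)) (.leaf (nat_lit 0x38f803))) (.node 1 (.leaf (nat_lit 0x339073a)) (.leaf (nat_lit 0x3392bda))))) (.node 4 (.node 2 (.node 1 (.leaf (nat_lit 0x1393e7e)) (.leaf (nat_lit 0x339491e))) (.node 1 (.leaf (nat_lit 0x2396bfd)) (.leaf (nat_lit 0x2397530)))) (.node 2 (.node 1 (.leaf (nat_lit 0x2399ccf)) (.leaf (nat_lit 0x339acaa))) (.node 1 (.leaf (nat_lit 0x139e654)) (.leaf (nat_lit 0x239e8e1)))))) (.node 8 (.node 4 (.node 2 (.node 1 (.leaf (nat_lit 0x339ee87)) (.leaf (nat_lit 0x239f5b5))) (.node 1 (.leaf (nat_lit 0x3a230b)) (.leaf (nat_lit 0x23a3da9)))) (.node 2 (.node 1 (.leaf (nat_lit 0x33a3c1b)) (.leaf (nat_lit 0x3a4756))) (.node 1 (.leaf (nat_lit 0x23a43a7))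 (.leaf (nat_lit 0x33a43ec))))) (.node 4 (.node 2 (.node 1 (.leaf (nat_lit 0x3a6567)) (.leaf (nat_lit 0x23a8bb8))) (.node 1 (.leaf (nat_lit 0x13aa4bf)) (.leaf (nat_lit 0x3ab662)))) (.node 2 (.node 1 (.leaf (nat_lit 0x33ab218)) (.leaf (nat_lit 0x3ae63e))) (.node 1 (.leaf (nat_lit 0x3b1928)) (.leaf (nat_lit 0x33b1ef9))))))) (.node 16 (.node 8 (.node 4 (.node 2 (.node 1 (.leaf (nat_lit 0x13b4f17)) (.leaf (nat_lit 0x23b4a0f))) (.node 1 (.leaf (nat_lit 0x23b5535)) (.leaf (nat_lit 0x33b5014)))) (.node 2 (.node 1 (.leaf (nat_lit 0x23b76c7)) (.leaf (nat_lit 0x33b7338))) (.node 1 (.leaf (nat_lit 0x33b8822)) (.leaf (nat_lit 0x13bb732))))) (.node 4 (.node 2 (.node 1 (.leaf (nat_lit 0x3bde11)) (.leaf (nat_lit 0x23bfbbf))) (.node 1 (.leaf (nat_lit 0x33bf753)) (.leaf (nat_lit 0x23c16d1)))) (.node 2 (.node 1 (.leaf (nat_lit 0x33c1436)) (.leaf (nat_lit 0x23c3f1b)))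 (.node 1 (.leaf (nat_lit 0x33c6c1e)) (.leaf (nat_lit 0x33c8b30)))))) (.node 8 (.node 4 (.node 2 (.node 1 (.leaf (nat_lit 0x23c9e2d)) (.leaf (nat_lit 0x33c9985))) (.node 1 (.leaf (nat_lit 0x13caa39)) (.leaf (nat_lit 0x33ca314)))) (.node 2 (.node 1 (.leaf (nat_lit 0x33cba72)) (.leaf (nat_lit 0x13cd56d))) (.node 1 (.leaf (nat_lit 0x23cdf27)) (.leaf (nat_lit 0x13cff6a))))) (.node 4 (.node 2 (.node 1 (.leaf (nat_lit 0x23d0ef7)) (.leaf (nat_lit 0x33d0bae))) (.node 1 (.leaf (nat_lit 0x3d1016)) (.leaf (nat_lit 0x13d2b86)))) (.node 2 (.node 1 (.leaf (nat_lit 0x33d38f2)) (.leaf (nat_lit 0x23d54be))) (.node 1 (.leaf (nat_lit 0x13d6597)) (.leaf (nat_lit 0x23d6be9)))))))) (.node 32 (.node 16 (.node 8 (.node 4 (.node 2 (.node 1 (.leaf (nat_lit 0x33d79f8)) (.leaf (nat_lit 0x33da272))) (.node 1 (.leaf (nat_lit 0x33db213)) (.leaf (nat_lit 0x33dc017)))) (.node 2 (.node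 1 (.leaf (nat_lit 0x33ddbb4)) (.leaf (nat_lit 0x3de91f))) (.node 1 (.leaf (nat_lit 0x33dea73)) (.leaf (nat_lit 0x13dfc0c))))) (.node 4 (.node 2 (.node 1 (.leaf (nat_lit 0x23e1f08)) (.leaf (nat_lit 0x3e3f9f))) (.node 1 (.leaf (nat_lit 0x23e4f41)) (.leaf (nat_lit 0x13e6002)))) (.node 2 (.node 1 (.leaf (nat_lit 0x33e6053)) (.leaf (nat_lit 0x13e8c19))) (.node 1 (.leaf (nat_lit 0x13edc05)) (.leaf (nat_lit 0x33ed9f0)))))) (.node 8 (.node 4 (.node 2 (.node 1 (.leaf (nat_lit 0x23f0018)) (.leaf (nat_lit 0x3f13b0))) (.node 1 (.leaf (nat_lit 0x13f3c9c)) (.leaf (nat_lit 0x23f34ba)))) (.node 2 (.node 1 (.leaf (nat_lit 0x13f6155)) (.leaf (nat_lit 0x23fa8f8))) (.node 1 (.leaf (nat_lit 0x3fb6e8)) (.leaf (nat_lit 0x33fc0a7))))) (.node 4 (.node 2 (.node 1 (.leaf (nat_lit 0x33fe404)) (.leaf (nat_lit 0x33ff24f))) (.node 1 (.leaf (nat_lit 0x24010d1)) (.leaf (nat_lit 0x3401fc7))))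 (.node 2 (.node 1 (.leaf (nat_lit 0x402623)) (.leaf (nat_lit 0x3402d37))) (.node 1 (.leaf (nat_lit 0x1403750)) (.leaf (nat_lit 0x2403728))))))) (.node 16 (.node 8 (.node 4 (.node 2 (.node 1 (.leaf (nat_lit 0x24050c0)) (.leaf (nat_lit 0x340611b))) (.node 1 (.leaf (nat_lit 0x1408b4d)) (.leaf (nat_lit 0x2408d74)))) (.node 2 (.node 1 (.leaf (nat_lit 0x2409e8b)) (.leaf (nat_lit 0x3409e30))) (.node 1 (.leaf (nat_lit 0x340a437)) (.leaf (nat_lit 0x40c86e))))) (.node 4 (.node 2 (.node 1 (.leaf (nat_lit 0x240d3b8)) (.leaf (nat_lit 0x340d461))) (.node 1 (.leaf (nat_lit 0x24118ff)) (.leaf (nat_lit 0x2413ebd)))) (.node 2 (.node 1 (.leaf (nat_lit 0x24141c6)) (.leaf (nat_lit 0x3414708))) (.node 1 (.leaf (nat_lit 0x41591a)) (.leaf (nat_lit 0x1416158)))))) (.node 8 (.node 4 (.node 2 (.node 1 (.leaf (nat_lit 0x3418bd8)) (.leaf (nat_lit 0x141ad3d))) (.node 1 (.leaf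 (nat_lit 0x241a94c)) (.leaf (nat_lit 0x241bb48)))) (.node 2 (.node 1 (.leaf (nat_lit 0x241ec56)) (.leaf (nat_lit 0x24216c0))) (.node 1 (.leaf (nat_lit 0x34215da)) (.leaf (nat_lit 0x1423c42))))) (.node 4 (.node 2 (.node 1 (.leaf (nat_lit 0x2423286)) (.leaf (nat_lit 0x142bf3c))) (.node 1 (.leaf (nat_lit 0x242c521)) (.leaf (nat_lit 0x142fb61)))) (.node 2 (.node 1 (.leaf (nat_lit 0x430a23)) (.leaf (nat_lit 0x3430dad))) (.node 1 (.leaf (nat_lit 0x143250b)) (.leaf (nat_lit 0x243228e))))))))))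

/-- A part of `ulev0`. -/
def ulev0_6 : Tree := (.node 109 (.node 54 (.node 27 (.node 13 (.node 6 (.node 3 (.node 1 (.leaf (nat_lit 0x3433039)) (.node 1 (.leaf (nat_lit 0x4341b2)) (.leaf (nat_lit 0x2434537)))) (.node 1 (.leaf (nat_lit 0x3434e61)) (.node 1 (.leaf (nat_lit 0x3439df9)) (.leaf (nat_lit 0x243dddb))))) (.node 3 (.node 1 (.leaf (nat_lit 0x343f58e)) (.node 1 (.leaf (nat_lit 0x443e55)) (.leaf (nat_lit 0x24458da)))) (.node 2 (.node 1 (.leaf (nat_lit 0x3445715)) (.leaf (nat_lit 0x1446980))) (.node 1 (.leaf (nat_lit 0x1447e21)) (.leaf (nat_lit 0x34488c1)))))) (.node 7 (.node 3 (.node 1 (.leaf (nat_lit 0x244a406)) (.node 1 (.leaf (nat_lit 0x44bb7e)) (.leaf (nat_lit 0x344b2c3)))) (.node 2 (.node 1 (.leaf (nat_lit 0x144df29)) (.leaf (nat_lit 0x244d714))) (.node 1 (.leaf (nat_lit 0x344d5d3)) (.leaf (nat_lit 0x44e559))))) (.node 3 (.node 1 (.leaf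 (nat_lit 0x24517ab)) (.node 1 (.leaf (nat_lit 0x2453e43)) (.leaf (nat_lit 0x2455c23)))) (.node 2 (.node 1 (.leaf (nat_lit 0x456c0d)) (.leaf (nat_lit 0x34572ad))) (.node 1 (.leaf (nat_lit 0x245a604)) (.leaf (nat_lit 0x345aa4b))))))) (.node 13 (.node 6 (.node 3 (.node 1 (.leaf (nat_lit 0x245e324)) (.node 1 (.leaf (nat_lit 0x34608d1)) (.leaf (nat_lit 0x2464992)))) (.node 1 (.leaf (nat_lit 0x1466503)) (.node 1 (.leaf (nat_lit 0x2466fa1)) (.leaf (nat_lit 0x1467e7a))))) (.node 3 (.node 1 (.leaf (nat_lit 0x468ea9)) (.node 1 (.leaf (nat_lit 0x46ac0f)) (.leaf (nat_lit 0x346f689)))) (.node 2 (.node 1 (.leaf (nat_lit 0x147061f)) (.leaf (nat_lit 0x3476920))) (.node 1 (.leaf (nat_lit 0x3478ef4)) (.leaf (nat_lit 0x480e33)))))) (.node 7 (.node 3 (.node 1 (.leaf (nat_lit 0x48307d)) (.node 1 (.leaf (nat_lit 0x3483809)) (.leaf (nat_lit 0x1484641)))) (.node 2 (.node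 1 (.leaf (nat_lit 0x2484b36)) (.leaf (nat_lit 0x1485010))) (.node 1 (.leaf (nat_lit 0x2485d39)) (.leaf (nat_lit 0x3488074))))) (.node 3 (.node 1 (.leaf (nat_lit 0x1489105)) (.node 1 (.leaf (nat_lit 0x48a085)) (.leaf (nat_lit 0x148b0c4)))) (.node 2 (.node 1 (.leaf (nat_lit 0x248b38e)) (.leaf (nat_lit 0x48ccc2))) (.node 1 (.leaf (nat_lit 0x348c3d9)) (.leaf (nat_lit 0x348d8ee)))))))) (.node 27 (.node 13 (.node 6 (.node 3 (.node 1 (.leaf (nat_lit 0x248ecb7)) (.node 1 (.leaf (nat_lit 0x249671b)) (.leaf (nat_lit 0x349709a)))) (.node 1 (.leaf (nat_lit 0x4989d0)) (.node 1 (.leaf (nat_lit 0x499589)) (.leaf (nat_lit 0x349900b))))) (.node 3 (.node 1 (.leaf (nat_lit 0x149a947)) (.node 1 (.leaf (nat_lit 0x249a65c)) (.leaf (nat_lit 0x349afa7)))) (.node 2 (.node 1 (.leaf (nat_lit 0x249be17)) (.leaf (nat_lit 0x249e2a6))) (.node 1 (.leaf (nat_lit 0x4a0e31)) (.leaf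 (nat_lit 0x24a0e85)))))) (.node 7 (.node 3 (.node 1 (.leaf (nat_lit 0x24a293b)) (.node 1 (.leaf (nat_lit 0x14a4369)) (.leaf (nat_lit 0x24a40d9)))) (.node 2 (.node 1 (.leaf (nat_lit 0x4a6869)) (.leaf (nat_lit 0x24a889a))) (.node 1 (.leaf (nat_lit 0x4a9d78)) (.leaf (nat_lit 0x24aa4fd))))) (.node 3 (.node 1 (.leaf (nat_lit 0x34ae7c5)) (.node 1 (.leaf (nat_lit 0x24afcda)) (.leaf (nat_lit 0x24b2b29)))) (.node 2 (.node 1 (.leaf (nat_lit 0x4b3c53)) (.leaf (nat_lit 0x14bb808))) (.node 1 (.leaf (nat_lit 0x24bb54c)) (.leaf (nat_lit 0x34bb838))))))) (.node 14 (.node 7 (.node 3 (.node 1 (.leaf (nat_lit 0x24bf309)) (.node 1 (.leaf (nat_lit 0x34bf070)) (.leaf (nat_lit 0x14c1013)))) (.node 2 (.node 1 (.leaf (nat_lit 0x34c2547)) (.leaf (nat_lit 0x4c3a3a))) (.node 1 (.leaf (nat_lit 0x24c7c18)) (.leaf (nat_lit 0x4c84ae))))) (.node 3 (.node 1 (.leaf (nat_lit 0x14caf11))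 (.node 1 (.leaf (nat_lit 0x24caeb4)) (.leaf (nat_lit 0x24ccc8d)))) (.node 2 (.node 1 (.leaf (nat_lit 0x4cd87d)) (.leaf (nat_lit 0x24cd0c1))) (.node 1 (.leaf (nat_lit 0x24ce076)) (.leaf (nat_lit 0x14d5e2f)))))) (.node 7 (.node 3 (.node 1 (.leaf (nat_lit 0x34db3eb)) (.node 1 (.leaf (nat_lit 0x24dc65d)) (.leaf (nat_lit 0x34dc682)))) (.node 2 (.node 1 (.leaf (nat_lit 0x34e0bf5)) (.leaf (nat_lit 0x34e1710))) (.node 1 (.leaf (nat_lit 0x24e3d1c)) (.leaf (nat_lit 0x14e44d5))))) (.node 3 (.node 1 (.leaf (nat_lit 0x24e422c)) (.node 1 (.leaf (nat_lit 0x4e8047)) (.leaf (nat_lit 0x24e8f79)))) (.node 2 (.node 1 (.leaf (nat_lit 0x34e86c3)) (.leaf (nat_lit 0x34ee442))) (.node 1 (.leaf (nat_lit 0x14ef877)) (.leaf (nat_lit 0x14f0659))))))))) (.node 55 (.node 27 (.node 13 (.node 6 (.node 3 (.node 1 (.leaf (nat_lit 0x4f4307)) (.node 1 (.leaf (nat_lit 0x14f6ca6)) (.leaf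 (nat_lit 0x24fa4c1)))) (.node 1 (.leaf (nat_lit 0x34fabf7)) (.node 1 (.leaf (nat_lit 0x2506d9b)) (.leaf (nat_lit 0x15083cd))))) (.node 3 (.node 1 (.leaf (nat_lit 0x250b3e7)) (.node 1 (.leaf (nat_lit 0x3512b85)) (.leaf (nat_lit 0x15138ca)))) (.node 2 (.node 1 (.leaf (nat_lit 0x51834d)) (.leaf (nat_lit 0x1519944))) (.node 1 (.leaf (nat_lit 0x351adb3)) (.leaf (nat_lit 0x3521f74)))))) (.node 7 (.node 3 (.node 1 (.leaf (nat_lit 0x5273d5)) (.node 1 (.leaf (nat_lit 0x252b68c)) (.leaf (nat_lit 0x52ce42)))) (.node 2 (.node 1 (.leaf (nat_lit 0x353095f)) (.leaf (nat_lit 0x2531934))) (.node 1 (.leaf (nat_lit 0x1532fa3)) (.leaf (nat_lit 0x2532d59))))) (.node 3 (.node 1 (.leaf (nat_lit 0x15365c5)) (.node 1 (.leaf (nat_lit 0x3536c9b)) (.leaf (nat_lit 0x2537ac5)))) (.node 2 (.node 1 (.leaf (nat_lit 0x25396e1)) (.leaf (nat_lit 0x253cf43))) (.node 1 (.leaf (nat_lit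 0x353e935)) (.leaf (nat_lit 0x353f365))))))) (.node 14 (.node 7 (.node 3 (.node 1 (.leaf (nat_lit 0x35400d8)) (.node 1 (.leaf (nat_lit 0x154593f)) (.leaf (nat_lit 0x2546e89)))) (.node 2 (.node 1 (.leaf (nat_lit 0x2547ebf)) (.leaf (nat_lit 0x548a98))) (.node 1 (.leaf (nat_lit 0x2548b19)) (.leaf (nat_lit 0x54f46c))))) (.node 3 (.node 1 (.leaf (nat_lit 0x550268)) (.node 1 (.leaf (nat_lit 0x35505e8)) (.leaf (nat_lit 0x3551097)))) (.node 2 (.node 1 (.leaf (nat_lit 0x2552f96)) (.leaf (nat_lit 0x559e80))) (.node 1 (.leaf (nat_lit 0x3559eca)) (.leaf (nat_lit 0x355c7a1)))))) (.node 7 (.node 3 (.node 1 (.leaf (nat_lit 0x55ff42)) (.node 1 (.leaf (nat_lit 0x255ffcc)) (.leaf (nat_lit 0x256011a)))) (.node 2 (.node 1 (.leaf (nat_lit 0x5666c5)) (.leaf (nat_lit 0x56ae1d))) (.node 1 (.leaf (nat_lit 0x256ee3f)) (.leaf (nat_lit 0x35792bf))))) (.node 3 (.node 1 (.leaf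 (nat_lit 0x357dfa4)) (.node 1 (.leaf (nat_lit 0x157f325)) (.leaf (nat_lit 0x2582a6d)))) (.node 2 (.node 1 (.leaf (nat_lit 0x158dc8c)) (.leaf (nat_lit 0x258d3a6))) (.node 1 (.leaf (nat_lit 0x258eb1c)) (.leaf (nat_lit 0x58fd38)))))))) (.node 27 (.node 13 (.node 6 (.node 3 (.node 1 (.leaf (nat_lit 0x591819)) (.node 1 (.leaf (nat_lit 0x2593752)) (.leaf (nat_lit 0x359b438)))) (.node 1 (.leaf (nat_lit 0x359eea4)) (.node 1 (.leaf (nat_lit 0x159fea6)) (.leaf (nat_lit 0x25a36a6))))) (.node 3 (.node 1 (.leaf (nat_lit 0x25a4190)) (.node 1 (.leaf (nat_lit 0x35a5c52)) (.leaf (nat_lit 0x5a7c51)))) (.node 2 (.node 1 (.leaf (nat_lit 0x35a7c98)) (.leaf (nat_lit 0x35a92b1))) (.node 1 (.leaf (nat_lit 0x5b8699)) (.leaf (nat_lit 0x15b9251)))))) (.node 7 (.node 3 (.node 1 (.leaf (nat_lit 0x15c284e)) (.node 1 (.leaf (nat_lit 0x25c471f)) (.leaf (nat_lit 0x35c5fa2)))) (.node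 2 (.node 1 (.leaf (nat_lit 0x35c74da)) (.leaf (nat_lit 0x5d0153))) (.node 1 (.leaf (nat_lit 0x15d716f)) (.leaf (nat_lit 0x25d8534))))) (.node 3 (.node 1 (.leaf (nat_lit 0x15dceb6)) (.node 1 (.leaf (nat_lit 0x35dc1d0)) (.leaf (nat_lit 0x25dfba6)))) (.node 2 (.node 1 (.leaf (nat_lit 0x5f5c6d)) (.leaf (nat_lit 0x25f8899))) (.node 1 (.leaf (nat_lit 0x5fa7af)) (.leaf (nat_lit 0x5fb0c6))))))) (.node 14 (.node 7 (.node 3 (.node 1 (.leaf (nat_lit 0x35fcf47)) (.node 1 (.leaf (nat_lit 0x3600fc6)) (.leaf (nat_lit 0x36013e2)))) (.node 2 (.node 1 (.leaf (nat_lit 0x2609783)) (.leaf (nat_lit 0x60a001))) (.node 1 (.leaf (nat_lit 0x61191b)) (.leaf (nat_lit 0x261e6ba))))) (.node 3 (.node 1 (.leaf (nat_lit 0x620f4e)) (.node 1 (.leaf (nat_lit 0x3626a1f)) (.leaf (nat_lit 0x3629aab)))) (.node 2 (.node 1 (.leaf (nat_lit 0x362aa2d)) (.leaf (nat_lit 0x63104a))) (.node 1 (.leaf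 (nat_lit 0x2636bbd)) (.leaf (nat_lit 0x263a66f)))))) (.node 7 (.node 3 (.node 1 (.leaf (nat_lit 0x263c01c)) (.node 1 (.leaf (nat_lit 0x64b514)) (.leaf (nat_lit 0x264eb55)))) (.node 2 (.node 1 (.leaf (nat_lit 0x64f3f4)) (.leaf (nat_lit 0x366700a))) (.node 1 (.leaf (nat_lit 0x166a031)) (.leaf (nat_lit 0x67f14c))))) (.node 3 (.node 1 (.leaf (nat_lit 0x267f475)) (.node 1 (.leaf (nat_lit 0x16829c7)) (.leaf (nat_lit 0x2699e88)))) (.node 2 (.node 1 (.leaf (nat_lit 0x6a1493)) (.leaf (nat_lit 0x36acbf4))) (.node 1 (.leaf (nat_lit 0x26af126)) (.leaf (nat_lit 0x16d8d1f))))))))))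

/-- A level of the second chain. -/
def ulev0 : Tree := (.node 768 (.node 256 ulev0_0 (.node 256 ulev0_1 ulev0_2)) (.node 512 (.node 256 ulev0_3 ulev0_4) (.node 256 ulev0_5 ulev0_6)))

/-- A part of `ulev1`. -/
def ulev1_0 : Tree := (.node 128 (.node 64 (.node 32 (.node 16 (.node 8 (.node 4 (.node 2 (.node 1 (.leaf (nat_lit 0x1f)) (.leaf (nat_lit 0xfb3))) (.node 1 (.leaf (nat_lit 0x10004e9)) (.leaf (nat_lit 0x2000910)))) (.node 2 (.node 1 (.leaf (nat_lit 0x104e)) (.leaf (nat_lit 0x1001ce0))) (.node 1 (.leaf (nat_lit 0x2001f56)) (.leaf (nat_lit 0x2185))))) (.node 4 (.node 2 (.node 1 (.leaf (nat_lit 0x20027b9)) (.leaf (nat_lit 0x39d2))) (.node 1 (.leaf (nat_lit 0x1003156)) (.leaf (nat_lit 0x2003ed7)))) (.node 2 (.node 1 (.leaf (nat_lit 0x4edc)) (.leaf (nat_lit 0x10040b0))) (.node 1 (.leaf (nat_lit 0x20041fc)) (.leaf (nat_lit 0x5211)))))) (.node 8 (.node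 4 (.node 2 (.node 1 (.leaf (nat_lit 0x2005a78)) (.leaf (nat_lit 0x6ecb))) (.node 1 (.leaf (nat_lit 0x1006dff)) (.leaf (nat_lit 0x2006447)))) (.node 2 (.node 1 (.leaf (nat_lit 0x7dc7)) (.leaf (nat_lit 0x10078ce))) (.node 1 (.leaf (nat_lit 0x2007db9)) (.leaf (nat_lit 0x8e5a))))) (.node 4 (.node 2 (.node 1 (.leaf (nat_lit 0x1008977)) (.leaf (nat_lit 0x2008b17))) (.node 1 (.leaf (nat_lit 0x9f84)) (.leaf (nat_lit 0x2009267)))) (.node 2 (.node 1 (.leaf (nat_lit 0xa17c)) (.leaf (nat_lit 0x200a718))) (.node 1 (.leaf (nat_lit 0xbe8c)) (.leaf (nat_lit 0x100bb24))))))) (.node 16 (.node 8 (.node 4 (.node 2 (.node 1 (.leaf (nat_lit 0x200bccd)) (.leaf (nat_lit 0xc596))) (.node 1 (.leaf (nat_lit 0x100c643)) (.leaf (nat_lit 0x200c855)))) (.node 2 (.node 1 (.leaf (nat_lit 0x200d4ee)) (.leaf (nat_lit 0xe330))) (.node 1 (.leaf (nat_lit 0x100e248)) (.leaf (nat_lit 0x200e16b)))))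 (.node 4 (.node 2 (.node 1 (.leaf (nat_lit 0xfb4c)) (.leaf (nat_lit 0x100f238))) (.node 1 (.leaf (nat_lit 0x200fe59)) (.leaf (nat_lit 0x10d02)))) (.node 2 (.node 1 (.leaf (nat_lit 0x1010c68)) (.leaf (nat_lit 0x2010bca))) (.node 1 (.leaf (nat_lit 0x11b0f)) (.leaf (nat_lit 0x1011d93)))))) (.node 8 (.node 4 (.node 2 (.node 1 (.leaf (nat_lit 0x20119d9)) (.leaf (nat_lit 0x12ace))) (.node 1 (.leaf (nat_lit 0x2012b94)) (.leaf (nat_lit 0x13dd7)))) (.node 2 (.node 1 (.leaf (nat_lit 0x1013e9c)) (.leaf (nat_lit 0x2013b03))) (.node 1 (.leaf (nat_lit 0x1441f)) (.leaf (nat_lit 0x1014b33))))) (.node 4 (.node 2 (.node 1 (.leaf (nat_lit 0x201449a)) (.leaf (nat_lit 0x1563f))) (.node 1 (.leaf (nat_lit 0x2015054)) (.leaf (nat_lit 0x16103)))) (.node 2 (.node 1 (.leaf (nat_lit 0x101605e)) (.leaf (nat_lit 0x20162da))) (.node 1 (.leaf (nat_lit 0x175eb)) (.leaf (nat_lit 0x180a4))))))))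 (.node 32 (.node 16 (.node 8 (.node 4 (.node 2 (.node 1 (.leaf (nat_lit 0x2018b3d)) (.leaf (nat_lit 0x19163))) (.node 1 (.leaf (nat_lit 0x1019caf)) (.leaf (nat_lit 0x2019978)))) (.node 2 (.node 1 (.leaf (nat_lit 0x1a13e)) (.leaf (nat_lit 0x101a7b0))) (.node 1 (.leaf (nat_lit 0x201a28c)) (.leaf (nat_lit 0x1b4ab))))) (.node 4 (.node 2 (.node 1 (.leaf (nat_lit 0x101b0fe)) (.leaf (nat_lit 0x201b07e))) (.node 1 (.leaf (nat_lit 0x1cc4b)) (.leaf (nat_lit 0x101c516)))) (.node 2 (.node 1 (.leaf (nat_lit 0x201c49d)) (.leaf (nat_lit 0x1df55))) (.node 1 (.leaf (nat_lit 0x101d175)) (.leaf (nat_lit 0x201d6c2)))))) (.node 8 (.node 4 (.node 2 (.node 1 (.leaf (nat_lit 0x1eb23)) (.leaf (nat_lit 0x101ed53))) (.node 1 (.leaf (nat_lit 0x201eca9)) (.leaf (nat_lit 0x1f766)))) (.node 2 (.node 1 (.leaf (nat_lit 0x201f850)) (.leaf (nat_lit 0x20801))) (.node 1 (.leaf (nat_lit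 0x21303)) (.leaf (nat_lit 0x1021cbd))))) (.node 4 (.node 2 (.node 1 (.leaf (nat_lit 0x20218fc)) (.leaf (nat_lit 0x228cd))) (.node 1 (.leaf (nat_lit 0x2022033)) (.leaf (nat_lit 0x23782)))) (.node 2 (.node 1 (.leaf (nat_lit 0x1023203)) (.leaf (nat_lit 0x2023dbb))) (.node 1 (.leaf (nat_lit 0x248c8)) (.leaf (nat_lit 0x2024e07))))))) (.node 16 (.node 8 (.node 4 (.node 2 (.node 1 (.leaf (nat_lit 0x25a9d)) (.leaf (nat_lit 0x10253f5))) (.node 1 (.leaf (nat_lit 0x2025c91)) (.leaf (nat_lit 0x26096)))) (.node 2 (.node 1 (.leaf (nat_lit 0x2026772)) (.leaf (nat_lit 0x27e5c))) (.node 1 (.leaf (nat_lit 0x1027b06)) (.leaf (nat_lit 0x20277e2))))) (.node 4 (.node 2 (.node 1 (.leaf (nat_lit 0x28dd1)) (.leaf (nat_lit 0x10287a2))) (.node 1 (.leaf (nat_lit 0x2028245)) (.leaf (nat_lit 0x29cb2)))) (.node 2 (.node 1 (.leaf (nat_lit 0x202951d)) (.leaf (nat_lit 0x2a7c9))) (.node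 1 (.leaf (nat_lit 0x102aeba)) (.leaf (nat_lit 0x202a517)))))) (.node 8 (.node 4 (.node 2 (.node 1 (.leaf (nat_lit 0x2b3ae)) (.leaf (nat_lit 0x102bb07))) (.node 1 (.leaf (nat_lit 0x2ccfb)) (.leaf (nat_lit 0x202c0b6)))) (.node 2 (.node 1 (.leaf (nat_lit 0x2d9c3)) (.leaf (nat_lit 0x102d84c))) (.node 1 (.leaf (nat_lit 0x202de48)) (.leaf (nat_lit 0x2e1b4))))) (.node 4 (.node 2 (.node 1 (.leaf (nat_lit 0x102e6fe)) (.leaf (nat_lit 0x202e12f))) (.node 1 (.leaf (nat_lit 0x2f895)) (.leaf (nat_lit 0x202f444)))) (.node 2 (.node 1 (.leaf (nat_lit 0x30b81)) (.leaf (nat_lit 0x10301f6))) (.node 1 (.leaf (nat_lit 0x2030738)) (.leaf (nat_lit 0x31757))))))))) (.node 64 (.node 32 (.node 16 (.node 8 (.node 4 (.node 2 (.node 1 (.leaf (nat_lit 0x1031972)) (.leaf (nat_lit 0x3203d))) (.node 1 (.leaf (nat_lit 0x10328ac)) (.leaf (nat_lit 0x20322b5)))) (.node 2 (.node 1 (.leaf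 (nat_lit 0x3353a)) (.leaf (nat_lit 0x103371a))) (.node 1 (.leaf (nat_lit 0x2033fbb)) (.leaf (nat_lit 0x34907))))) (.node 4 (.node 2 (.node 1 (.leaf (nat_lit 0x20345ed)) (.leaf (nat_lit 0x3548b))) (.node 1 (.leaf (nat_lit 0x1035339)) (.leaf (nat_lit 0x2035025)))) (.node 2 (.node 1 (.leaf (nat_lit 0x36f23)) (.leaf (nat_lit 0x10365b7))) (.node 1 (.leaf (nat_lit 0x20361ed)) (.leaf (nat_lit 0x37ae9)))))) (.node 8 (.node 4 (.node 2 (.node 1 (.leaf (nat_lit 0x20373bd)) (.leaf (nat_lit 0x381dc))) (.node 1 (.leaf (nat_lit 0x1038db6)) (.leaf (nat_lit 0x2038794)))) (.node 2 (.node 1 (.leaf (nat_lit 0x1039f6e)) (.leaf (nat_lit 0x2039829))) (.node 1 (.leaf (nat_lit 0x3a744)) (.leaf (nat_lit 0x103aac2))))) (.node 4 (.node 2 (.node 1 (.leaf (nat_lit 0x203a27f)) (.leaf (nat_lit 0x3b99d))) (.node 1 (.leaf (nat_lit 0x103b721)) (.leaf (nat_lit 0x203b85c)))) (.node 2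 (.node 1 (.leaf (nat_lit 0x203ca01)) (.leaf (nat_lit 0x3d883))) (.node 1 (.leaf (nat_lit 0x103d851)) (.leaf (nat_lit 0x203d23b))))))) (.node 16 (.node 8 (.node 4 (.node 2 (.node 1 (.leaf (nat_lit 0x3e165)) (.leaf (nat_lit 0x103e3c2))) (.node 1 (.leaf (nat_lit 0x203e896)) (.leaf (nat_lit 0x103fe4c)))) (.node 2 (.node 1 (.leaf (nat_lit 0x203f1b8)) (.leaf (nat_lit 0x409ac))) (.node 1 (.leaf (nat_lit 0x411fe)) (.leaf (nat_lit 0x104181d))))) (.node 4 (.node 2 (.node 1 (.leaf (nat_lit 0x2041533)) (.leaf (nat_lit 0x42244))) (.node 1 (.leaf (nat_lit 0x20421da)) (.leaf (nat_lit 0x43871)))) (.node 2 (.node 1 (.leaf (nat_lit 0x44c96)) (.leaf (nat_lit 0x104420e))) (.node 1 (.leaf (nat_lit 0x20448bc)) (.leaf (nat_lit 0x456e7)))))) (.node 8 (.node 4 (.node 2 (.node 1 (.leaf (nat_lit 0x2045b12)) (.leaf (nat_lit 0x104682f))) (.node 1 (.leaf (nat_lit 0x2046e76)) (.leaf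 (nat_lit 0x4789d)))) (.node 2 (.node 1 (.leaf (nat_lit 0x1047cd8)) (.leaf (nat_lit 0x2047dac))) (.node 1 (.leaf (nat_lit 0x48976)) (.leaf (nat_lit 0x20489ff))))) (.node 4 (.node 2 (.node 1 (.leaf (nat_lit 0x49f34)) (.leaf (nat_lit 0x1049210))) (.node 1 (.leaf (nat_lit 0x2049201)) (.leaf (nat_lit 0x4a463)))) (.node 2 (.node 1 (.leaf (nat_lit 0x104ac13)) (.leaf (nat_lit 0x204aed8))) (.node 1 (.leaf (nat_lit 0x4b188)) (.leaf (nat_lit 0x204b64d)))))))) (.node 32 (.node 16 (.node 8 (.node 4 (.node 2 (.node 1 (.leaf (nat_lit 0x4c4ed)) (.leaf (nat_lit 0x104c0b7))) (.node 1 (.leaf (nat_lit 0x204cfb4)) (.leaf (nat_lit 0x4da16)))) (.node 2 (.node 1 (.leaf (nat_lit 0x104da7d)) (.leaf (nat_lit 0x4e6fb))) (.node 1 (.leaf (nat_lit 0x204efbd)) (.leaf (nat_lit 0x4fbec))))) (.node 4 (.node 2 (.node 1 (.leaf (nat_lit 0x204f96f)) (.leaf (nat_lit 0x50282))) (.node 1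 (.leaf (nat_lit 0x20507f3)) (.leaf (nat_lit 0x514de)))) (.node 2 (.node 1 (.leaf (nat_lit 0x205115a)) (.leaf (nat_lit 0x1052a5d))) (.node 1 (.leaf (nat_lit 0x2052f2f)) (.leaf (nat_lit 0x532e0)))))) (.node 8 (.node 4 (.node 2 (.node 1 (.leaf (nat_lit 0x2053e3e)) (.leaf (nat_lit 0x54a7f))) (.node 1 (.leaf (nat_lit 0x10543ff)) (.leaf (nat_lit 0x2054be2)))) (.node 2 (.node 1 (.leaf (nat_lit 0x55c01)) (.leaf (nat_lit 0x105581e))) (.node 1 (.leaf (nat_lit 0x2055e14)) (.leaf (nat_lit 0x5682e))))) (.node 4 (.node 2 (.node 1 (.leaf (nat_lit 0x1056cfe)) (.leaf (nat_lit 0x2056204))) (.node 1 (.leaf (nat_lit 0x5721c)) (.leaf (nat_lit 0x20575ae)))) (.node 2 (.node 1 (.leaf (nat_lit 0x5893c)) (.leaf (nat_lit 0x1058470))) (.node 1 (.leaf (nat_lit 0x2058d23)) (.leaf (nat_lit 0x5952b))))))) (.node 16 (.node 8 (.node 4 (.node 2 (.node 1 (.leaf (nat_lit 0x2059023))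 (.leaf (nat_lit 0x105a445))) (.node 1 (.leaf (nat_lit 0x205a554)) (.leaf (nat_lit 0x5b295)))) (.node 2 (.node 1 (.leaf (nat_lit 0x105bdf8)) (.leaf (nat_lit 0x205b0f5))) (.node 1 (.leaf (nat_lit 0x5c04f)) (.leaf (nat_lit 0x205ca05))))) (.node 4 (.node 2 (.node 1 (.leaf (nat_lit 0x5d8aa)) (.leaf (nat_lit 0x205d0e5))) (.node 1 (.leaf (nat_lit 0x105ea66)) (.leaf (nat_lit 0x5f433)))) (.node 2 (.node 1 (.leaf (nat_lit 0x105f145)) (.leaf (nat_lit 0x60462))) (.node 1 (.leaf (nat_lit 0x106079f)) (.leaf (nat_lit 0x2060346)))))) (.node 8 (.node 4 (.node 2 (.node 1 (.leaf (nat_lit 0x61bc0)) (.leaf (nat_lit 0x6237e))) (.node 1 (.leaf (nat_lit 0x1062497)) (.leaf (nat_lit 0x206261c)))) (.node 2 (.node 1 (.leaf (nat_lit 0x633bf)) (.leaf (nat_lit 0x64127))) (.node 1 (.leaf (nat_lit 0x106419e)) (.leaf (nat_lit 0x206431e))))) (.node 4 (.node 2 (.node 1 (.leaf (nat_lit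 0x65cea)) (.leaf (nat_lit 0x1065c12))) (.node 1 (.leaf (nat_lit 0x2065fcb)) (.leaf (nat_lit 0x66dcb)))) (.node 2 (.node 1 (.leaf (nat_lit 0x2066c39)) (.leaf (nat_lit 0x6702d))) (.node 1 (.leaf (nat_lit 0x206723f)) (.leaf (nat_lit 0x68b01))))))))))

/-- A part of `ulev1`. -/
def ulev1_1 : Tree := (.node 128 (.node 64 (.node 32 (.node 16 (.node 8 (.node 4 (.node 2 (.node 1 (.leaf (nat_lit 0x1068d71)) (.leaf (nat_lit 0x695b9))) (.node 1 (.leaf (nat_lit 0x6a0a5)) (.leaf (nat_lit 0x106a260)))) (.node 2 (.node 1 (.leaf (nat_lit 0x206a7e8)) (.leaf (nat_lit 0x106b6fd))) (.node 1 (.leaf (nat_lit 0x206b5d2)) (.leaf (nat_lit 0x6caf7))))) (.node 4 (.node 2 (.node 1 (.leaf (nat_lit 0x106cadb)) (.leaf (nat_lit 0x206c317))) (.node 1 (.leaf (nat_lit 0x206dc4e)) (.leaf (nat_lit 0x206e379)))) (.node 2 (.node 1 (.leaf (nat_lit 0x6f4b7)) (.leaf (nat_lit 0x106f4c0)))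 (.node 1 (.leaf (nat_lit 0x206f231)) (.leaf (nat_lit 0x7008c)))))) (.node 8 (.node 4 (.node 2 (.node 1 (.leaf (nat_lit 0x107018a)) (.leaf (nat_lit 0x2070be6))) (.node 1 (.leaf (nat_lit 0x7130e)) (.leaf (nat_lit 0x2071186)))) (.node 2 (.node 1 (.leaf (nat_lit 0x72e28)) (.leaf (nat_lit 0x73818))) (.node 1 (.leaf (nat_lit 0x1073680)) (.leaf (nat_lit 0x2073de8))))) (.node 4 (.node 2 (.node 1 (.leaf (nat_lit 0x74c5a)) (.leaf (nat_lit 0x1074618))) (.node 1 (.leaf (nat_lit 0x2074dd6)) (.leaf (nat_lit 0x75891)))) (.node 2 (.node 1 (.leaf (nat_lit 0x20757d4)) (.leaf (nat_lit 0x7655a))) (.node 1 (.leaf (nat_lit 0x2076154)) (.leaf (nat_lit 0x77f2c))))))) (.node 16 (.node 8 (.node 4 (.node 2 (.node 1 (.leaf (nat_lit 0x1077d45)) (.leaf (nat_lit 0x20775fb))) (.node 1 (.leaf (nat_lit 0x78698)) (.leaf (nat_lit 0x20783dd)))) (.node 2 (.node 1 (.leaf (nat_lit 0x79648))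 (.leaf (nat_lit 0x107926c))) (.node 1 (.leaf (nat_lit 0x2079997)) (.leaf (nat_lit 0x7ad41))))) (.node 4 (.node 2 (.node 1 (.leaf (nat_lit 0x107a9c1)) (.leaf (nat_lit 0x207a080))) (.node 1 (.leaf (nat_lit 0x7bd88)) (.leaf (nat_lit 0x7c670)))) (.node 2 (.node 1 (.leaf (nat_lit 0x107c6ab)) (.leaf (nat_lit 0x207c420))) (.node 1 (.leaf (nat_lit 0x7d0b5)) (.leaf (nat_lit 0x207de5d)))))) (.node 8 (.node 4 (.node 2 (.node 1 (.leaf (nat_lit 0x7ee26)) (.leaf (nat_lit 0x7f9f9))) (.node 1 (.leaf (nat_lit 0x107ff70)) (.leaf (nat_lit 0x207fbfa)))) (.node 2 (.node 1 (.leaf (nat_lit 0x80cb4)) (.leaf (nat_lit 0x81983))) (.node 1 (.leaf (nat_lit 0x10817e6)) (.leaf (nat_lit 0x2082eec))))) (.node 4 (.node 2 (.node 1 (.leaf (nat_lit 0x83345)) (.leaf (nat_lit 0x1083799))) (.node 1 (.leaf (nat_lit 0x8477b)) (.leaf (nat_lit 0x1084a92)))) (.node 2 (.node 1 (.leaf (nat_lit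 0x208447a)) (.leaf (nat_lit 0x85868))) (.node 1 (.leaf (nat_lit 0x2085e09)) (.leaf (nat_lit 0x86298)))))))) (.node 32 (.node 16 (.node 8 (.node 4 (.node 2 (.node 1 (.leaf (nat_lit 0x10864f2)) (.leaf (nat_lit 0x20860ce))) (.node 1 (.leaf (nat_lit 0x87d8a)) (.leaf (nat_lit 0x885a3)))) (.node 2 (.node 1 (.leaf (nat_lit 0x1088d8c)) (.leaf (nat_lit 0x89d97))) (.node 1 (.leaf (nat_lit 0x1089c92)) (.leaf (nat_lit 0x8a40f))))) (.node 4 (.node 2 (.node 1 (.leaf (nat_lit 0x208ab0b)) (.leaf (nat_lit 0x208b02f))) (.node 1 (.leaf (nat_lit 0x208c8d0)) (.leaf (nat_lit 0x208d8c7)))) (.node 2 (.node 1 (.leaf (nat_lit 0x208e691)) (.leaf (nat_lit 0x8fdb4))) (.node 1 (.leaf (nat_lit 0x108f768)) (.leaf (nat_lit 0x208f50d)))))) (.node 8 (.node 4 (.node 2 (.node 1 (.leaf (nat_lit 0x90dca)) (.leaf (nat_lit 0x2090705))) (.node 1 (.leaf (nat_lit 0x9160c)) (.leaf (nat_lit 0x109124e))))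 (.node 2 (.node 1 (.leaf (nat_lit 0x92ede)) (.leaf (nat_lit 0x2092526))) (.node 1 (.leaf (nat_lit 0x933aa)) (.leaf (nat_lit 0x109375f))))) (.node 4 (.node 2 (.node 1 (.leaf (nat_lit 0x2093b91)) (.leaf (nat_lit 0x94c58))) (.node 1 (.leaf (nat_lit 0x9521e)) (.leaf (nat_lit 0x1095e8e)))) (.node 2 (.node 1 (.leaf (nat_lit 0x20956d8)) (.leaf (nat_lit 0x9637f))) (.node 1 (.leaf (nat_lit 0x97c6a)) (.leaf (nat_lit 0x20971be))))))) (.node 16 (.node 8 (.node 4 (.node 2 (.node 1 (.leaf (nat_lit 0x98611)) (.leaf (nat_lit 0x1098df6))) (.node 1 (.leaf (nat_lit 0x20989d8)) (.leaf (nat_lit 0x9935d)))) (.node 2 (.node 1 (.leaf (nat_lit 0x1099098)) (.leaf (nat_lit 0x20990bd))) (.node 1 (.leaf (nat_lit 0x9aae6)) (.leaf (nat_lit 0x209aa68))))) (.node 4 (.node 2 (.node 1 (.leaf (nat_lit 0x9b4b2)) (.leaf (nat_lit 0x9c22b))) (.node 1 (.leaf (nat_lit 0x109c1f9)) (.leaf (nat_lit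 0x209c1f3)))) (.node 2 (.node 1 (.leaf (nat_lit 0x9d1d9)) (.leaf (nat_lit 0x109d081))) (.node 1 (.leaf (nat_lit 0x9e233)) (.leaf (nat_lit 0x209ebe3)))))) (.node 8 (.node 4 (.node 2 (.node 1 (.leaf (nat_lit 0x9f300)) (.leaf (nat_lit 0x109f4db))) (.node 1 (.leaf (nat_lit 0x209f91d)) (.leaf (nat_lit 0xa0252)))) (.node 2 (.node 1 (.leaf (nat_lit 0x20a0aea)) (.leaf (nat_lit 0x20a1217))) (.node 1 (.leaf (nat_lit 0xa2f06)) (.leaf (nat_lit 0x10a266e))))) (.node 4 (.node 2 (.node 1 (.leaf (nat_lit 0x20a26a1)) (.leaf (nat_lit 0xa38f6))) (.node 1 (.leaf (nat_lit 0x20a3832)) (.leaf (nat_lit 0xa409e)))) (.node 2 (.node 1 (.leaf (nat_lit 0x20a43b9)) (.leaf (nat_lit 0xa50ba))) (.node 1 (.leaf (nat_lit 0x20a68c4)) (.leaf (nat_lit 0xa73b1))))))))) (.node 64 (.node 32 (.node 16 (.node 8 (.node 4 (.node 2 (.node 1 (.leaf (nat_lit 0x10a87f4)) (.leaf (nat_lit 0x20a83ef)))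 (.node 1 (.leaf (nat_lit 0xa958d)) (.leaf (nat_lit 0xaa056)))) (.node 2 (.node 1 (.leaf (nat_lit 0x10aa87b)) (.leaf (nat_lit 0x20aa2a5))) (.node 1 (.leaf (nat_lit 0x10ab902)) (.leaf (nat_lit 0x20ab6b8))))) (.node 4 (.node 2 (.node 1 (.leaf (nat_lit 0xacab6)) (.leaf (nat_lit 0x10accc0))) (.node 1 (.leaf (nat_lit 0x20ac844)) (.leaf (nat_lit 0xadeaa)))) (.node 2 (.node 1 (.leaf (nat_lit 0x20ada00)) (.leaf (nat_lit 0xaeaad))) (.node 1 (.leaf (nat_lit 0x20aef33)) (.leaf (nat_lit 0x10af194)))))) (.node 8 (.node 4 (.node 2 (.node 1 (.leaf (nat_lit 0x20af478)) (.leaf (nat_lit 0xb05dc))) (.node 1 (.leaf (nat_lit 0x10b02f2)) (.leaf (nat_lit 0x20b168f)))) (.node 2 (.node 1 (.leaf (nat_lit 0xb2202)) (.leaf (nat_lit 0x10b2471))) (.node 1 (.leaf (nat_lit 0x20b21ff)) (.leaf (nat_lit 0xb33ad))))) (.node 4 (.node 2 (.node 1 (.leaf (nat_lit 0x20b352e)) (.leaf (nat_lit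 0xb4aa6))) (.node 1 (.leaf (nat_lit 0x20b4078)) (.leaf (nat_lit 0x10b5ed0)))) (.node 2 (.node 1 (.leaf (nat_lit 0x20b53a8)) (.leaf (nat_lit 0xb6ab7))) (.node 1 (.leaf (nat_lit 0x20b64a4)) (.leaf (nat_lit 0xb76e2))))))) (.node 16 (.node 8 (.node 4 (.node 2 (.node 1 (.leaf (nat_lit 0x20b7464)) (.leaf (nat_lit 0x20b898a))) (.node 1 (.leaf (nat_lit 0xb9e2a)) (.leaf (nat_lit 0x20b91a8)))) (.node 2 (.node 1 (.leaf (nat_lit 0xbaa5e)) (.leaf (nat_lit 0x10badce))) (.node 1 (.leaf (nat_lit 0xbb396)) (.leaf (nat_lit 0x10bb7ef))))) (.node 4 (.node 2 (.node 1 (.leaf (nat_lit 0x20bb5d5)) (.leaf (nat_lit 0xbc2d5))) (.node 1 (.leaf (nat_lit 0x20bcf44)) (.leaf (nat_lit 0xbde74)))) (.node 2 (.node 1 (.leaf (nat_lit 0x10bdc8b)) (.leaf (nat_lit 0x20bd884))) (.node 1 (.leaf (nat_lit 0x10be215)) (.leaf (nat_lit 0x20be4d4)))))) (.node 8 (.node 4 (.node 2 (.node 1 (.leaf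 (nat_lit 0xbffb8)) (.leaf (nat_lit 0x20bf063))) (.node 1 (.leaf (nat_lit 0xc036c)) (.leaf (nat_lit 0x20c09d7)))) (.node 2 (.node 1 (.leaf (nat_lit 0x20c1aa2)) (.leaf (nat_lit 0x10c2ca3))) (.node 1 (.leaf (nat_lit 0x20c2816)) (.leaf (nat_lit 0xc39ef))))) (.node 4 (.node 2 (.node 1 (.leaf (nat_lit 0x10c3bbc)) (.leaf (nat_lit 0x20c3f24))) (.node 1 (.leaf (nat_lit 0xc4bf1)) (.leaf (nat_lit 0x20c4afa)))) (.node 2 (.node 1 (.leaf (nat_lit 0xc5b92)) (.leaf (nat_lit 0x10c5c3b))) (.node 1 (.leaf (nat_lit 0xc6aa3)) (.leaf (nat_lit 0xc71bc)))))))) (.node 32 (.node 16 (.node 8 (.node 4 (.node 2 (.node 1 (.leaf (nat_lit 0x10c7536)) (.leaf (nat_lit 0x20c7569))) (.node 1 (.leaf (nat_lit 0xc8562)) (.leaf (nat_lit 0x20c8745)))) (.node 2 (.node 1 (.leaf (nat_lit 0x10c99b8)) (.leaf (nat_lit 0x20c9f1f))) (.node 1 (.leaf (nat_lit 0xca414)) (.leaf (nat_lit 0x10ca12b)))))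 (.node 4 (.node 2 (.node 1 (.leaf (nat_lit 0x20ca75d)) (.leaf (nat_lit 0xcb885))) (.node 1 (.leaf (nat_lit 0x10cb826)) (.leaf (nat_lit 0x20cbcb6)))) (.node 2 (.node 1 (.leaf (nat_lit 0xcc0ed)) (.leaf (nat_lit 0x10cc9e2))) (.node 1 (.leaf (nat_lit 0xcd469)) (.leaf (nat_lit 0x20cd76a)))))) (.node 8 (.node 4 (.node 2 (.node 1 (.leaf (nat_lit 0xce308)) (.leaf (nat_lit 0x10cea21))) (.node 1 (.leaf (nat_lit 0x20ce5b0)) (.leaf (nat_lit 0x10cf386)))) (.node 2 (.node 1 (.leaf (nat_lit 0x20cf8cf)) (.leaf (nat_lit 0xd02cd))) (.node 1 (.leaf (nat_lit 0x20d0adf)) (.leaf (nat_lit 0xd1200))))) (.node 4 (.node 2 (.node 1 (.leaf (nat_lit 0x10d1675)) (.leaf (nat_lit 0xd20ad))) (.node 1 (.leaf (nat_lit 0x20d2f59)) (.leaf (nat_lit 0x10d3021)))) (.node 2 (.node 1 (.leaf (nat_lit 0x20d3a81)) (.leaf (nat_lit 0x20d4925))) (.node 1 (.leaf (nat_lit 0xd5043)) (.leaf (nat_lit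 0x20d52c9))))))) (.node 16 (.node 8 (.node 4 (.node 2 (.node 1 (.leaf (nat_lit 0x10d6d5b)) (.leaf (nat_lit 0x20d63a9))) (.node 1 (.leaf (nat_lit 0xd7593)) (.leaf (nat_lit 0x10d7d7b)))) (.node 2 (.node 1 (.leaf (nat_lit 0x20d720b)) (.leaf (nat_lit 0xd8d4b))) (.node 1 (.leaf (nat_lit 0x10d9d2e)) (.leaf (nat_lit 0x20d9c14))))) (.node 4 (.node 2 (.node 1 (.leaf (nat_lit 0x10da39d)) (.leaf (nat_lit 0x20dad8d))) (.node 1 (.leaf (nat_lit 0xdbd47)) (.leaf (nat_lit 0x10dbe0a)))) (.node 2 (.node 1 (.leaf (nat_lit 0x20db03a)) (.leaf (nat_lit 0x10dc373))) (.node 1 (.leaf (nat_lit 0x20dd7ea)) (.leaf (nat_lit 0xde21b)))))) (.node 8 (.node 4 (.node 2 (.node 1 (.leaf (nat_lit 0x20de152)) (.leaf (nat_lit 0xdf0e7))) (.node 1 (.leaf (nat_lit 0x10df7b4)) (.leaf (nat_lit 0x20dfdc5)))) (.node 2 (.node 1 (.leaf (nat_lit 0xe0e9d)) (.leaf (nat_lit 0x10e0c45))) (.node 1 (.leaf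 (nat_lit 0x20e0994)) (.leaf (nat_lit 0x20e1235))))) (.node 4 (.node 2 (.node 1 (.leaf (nat_lit 0x20e2f8e)) (.leaf (nat_lit 0xe3e2b))) (.node 1 (.leaf (nat_lit 0x20e3b98)) (.leaf (nat_lit 0xe4956)))) (.node 2 (.node 1 (.leaf (nat_lit 0xe5171)) (.leaf (nat_lit 0x20e56ae))) (.node 1 (.leaf (nat_lit 0xe61d1)) (.leaf (nat_lit 0x20e6936))))))))))

/-- A part of `ulev1`. -/
def ulev1_2 : Tree := (.node 128 (.node 64 (.node 32 (.node 16 (.node 8 (.node 4 (.node 2 (.node 1 (.leaf (nat_lit 0xe7efd)) (.leaf (nat_lit 0x10e7180))) (.node 1 (.leaf (nat_lit 0xe848d)) (.leaf (nat_lit 0x10e8865)))) (.node 2 (.node 1 (.leaf (nat_lit 0x20e837a)) (.leaf (nat_lit 0x10e98b3))) (.node 1 (.leaf (nat_lit 0xeb8a3)) (.leaf (nat_lit 0x10eb40e))))) (.node 4 (.node 2 (.node 1 (.leaf (nat_lit 0xec67c)) (.leaf (nat_lit 0x20ecec0))) (.node 1 (.leaf (nat_lit 0xedb3f)) (.leaf (nat_lit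 0x10ed2c2)))) (.node 2 (.node 1 (.leaf (nat_lit 0x20ed5c4)) (.leaf (nat_lit 0xeeb6d))) (.node 1 (.leaf (nat_lit 0x20ee1ea)) (.leaf (nat_lit 0xefae3)))))) (.node 8 (.node 4 (.node 2 (.node 1 (.leaf (nat_lit 0x10ef45e)) (.leaf (nat_lit 0xf05f0))) (.node 1 (.leaf (nat_lit 0x10f0057)) (.leaf (nat_lit 0x20f0266)))) (.node 2 (.node 1 (.leaf (nat_lit 0xf1a13)) (.leaf (nat_lit 0x20f1a12))) (.node 1 (.leaf (nat_lit 0xf2d6e)) (.leaf (nat_lit 0x20f2830))))) (.node 4 (.node 2 (.node 1 (.leaf (nat_lit 0xf3084)) (.leaf (nat_lit 0x10f38eb))) (.node 1 (.leaf (nat_lit 0x20f3677)) (.leaf (nat_lit 0xf4242)))) (.node 2 (.node 1 (.leaf (nat_lit 0x10f4fd9)) (.leaf (nat_lit 0x20f471c))) (.node 1 (.leaf (nat_lit 0xf590f)) (.leaf (nat_lit 0x10f5e1b))))))) (.node 16 (.node 8 (.node 4 (.node 2 (.node 1 (.leaf (nat_lit 0xf649f)) (.leaf (nat_lit 0x20f631c))) (.node 1 (.leaf (nat_lit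 0xf7962)) (.leaf (nat_lit 0x20f86a5)))) (.node 2 (.node 1 (.leaf (nat_lit 0xf955b)) (.leaf (nat_lit 0x20f9ec7))) (.node 1 (.leaf (nat_lit 0x10fa027)) (.leaf (nat_lit 0x20fa284))))) (.node 4 (.node 2 (.node 1 (.leaf (nat_lit 0xfbd91)) (.leaf (nat_lit 0x10fb3f1))) (.node 1 (.leaf (nat_lit 0x20fb3c1)) (.leaf (nat_lit 0xfce37)))) (.node 2 (.node 1 (.leaf (nat_lit 0xfdc7e)) (.leaf (nat_lit 0x10fd261))) (.node 1 (.leaf (nat_lit 0xfe160)) (.leaf (nat_lit 0x20fe991)))))) (.node 8 (.node 4 (.node 2 (.node 1 (.leaf (nat_lit 0xff477)) (.leaf (nat_lit 0x20ff75c))) (.node 1 (.leaf (nat_lit 0x100e3a)) (.leaf (nat_lit 0x2100d2f)))) (.node 2 (.node 1 (.leaf (nat_lit 0x1027e9)) (.leaf (nat_lit 0x21027d3))) (.node 1 (.leaf (nat_lit 0x1038a6)) (.leaf (nat_lit 0x210361d))))) (.node 4 (.node 2 (.node 1 (.leaf (nat_lit 0x104d44)) (.leaf (nat_lit 0x1104a84))) (.node 1 (.leaf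 (nat_lit 0x2104358)) (.leaf (nat_lit 0x105410)))) (.node 2 (.node 1 (.leaf (nat_lit 0x2105250)) (.leaf (nat_lit 0x10692d))) (.node 1 (.leaf (nat_lit 0x1107a8c)) (.leaf (nat_lit 0x108bab)))))))) (.node 32 (.node 16 (.node 8 (.node 4 (.node 2 (.node 1 (.leaf (nat_lit 0x2108489)) (.leaf (nat_lit 0x109938))) (.node 1 (.leaf (nat_lit 0x11094f8)) (.leaf (nat_lit 0x10a82a)))) (.node 2 (.node 1 (.leaf (nat_lit 0x110a506)) (.leaf (nat_lit 0x210abe7))) (.node 1 (.leaf (nat_lit 0x10bb6a)) (.leaf (nat_lit 0x110bb4e))))) (.node 4 (.node 2 (.node 1 (.leaf (nat_lit 0x210b6f7)) (.leaf (nat_lit 0x10c92b))) (.node 1 (.leaf (nat_lit 0x110c7cc)) (.leaf (nat_lit 0x210c8c9)))) (.node 2 (.node 1 (.leaf (nat_lit 0x10de99)) (.leaf (nat_lit 0x10e241))) (.node 1 (.leaf (nat_lit 0x110edcf)) (.leaf (nat_lit 0x210e1e0)))))) (.node 8 (.node 4 (.node 2 (.node 1 (.leaf (nat_lit 0x10fc2a))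 (.leaf (nat_lit 0x210f628))) (.node 1 (.leaf (nat_lit 0x1100da)) (.leaf (nat_lit 0x21107ec)))) (.node 2 (.node 1 (.leaf (nat_lit 0x1114a0)) (.leaf (nat_lit 0x2111a8a))) (.node 1 (.leaf (nat_lit 0x112d65)) (.leaf (nat_lit 0x11341e))))) (.node 4 (.node 2 (.node 1 (.leaf (nat_lit 0x11416e)) (.leaf (nat_lit 0x1114f03))) (.node 1 (.leaf (nat_lit 0x2114383)) (.leaf (nat_lit 0x1157ba)))) (.node 2 (.node 1 (.leaf (nat_lit 0x1115192)) (.leaf (nat_lit 0x1161c1))) (.node 1 (.leaf (nat_lit 0x1117e38)) (.leaf (nat_lit 0x1118111))))))) (.node 16 (.node 8 (.node 4 (.node 2 (.node 1 (.leaf (nat_lit 0x2118cec)) (.leaf (nat_lit 0x119c55))) (.node 1 (.leaf (nat_lit 0x211972a)) (.leaf (nat_lit 0x11a3d4)))) (.node 2 (.node 1 (.leaf (nat_lit 0x111ac4f)) (.leaf (nat_lit 0x211a05f))) (.node 1 (.leaf (nat_lit 0x11c9bd)) (.leaf (nat_lit 0x111c578))))) (.node 4 (.node 2 (.node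 1 (.leaf (nat_lit 0x211c84a)) (.leaf (nat_lit 0x111d4f7))) (.node 1 (.leaf (nat_lit 0x211d892)) (.leaf (nat_lit 0x11ecd6)))) (.node 2 (.node 1 (.leaf (nat_lit 0x211ea9e)) (.leaf (nat_lit 0x111fab0))) (.node 1 (.leaf (nat_lit 0x2120ee1)) (.leaf (nat_lit 0x12157c)))))) (.node 8 (.node 4 (.node 2 (.node 1 (.leaf (nat_lit 0x1121116)) (.leaf (nat_lit 0x2121049))) (.node 1 (.leaf (nat_lit 0x1220c9)) (.leaf (nat_lit 0x2122f90)))) (.node 2 (.node 1 (.leaf (nat_lit 0x123dc2)) (.leaf (nat_lit 0x124c6e))) (.node 1 (.leaf (nat_lit 0x1124f4d)) (.leaf (nat_lit 0x212445c))))) (.node 4 (.node 2 (.node 1 (.leaf (nat_lit 0x125546)) (.leaf (nat_lit 0x2125b02))) (.node 1 (.leaf (nat_lit 0x1126d4a)) (.leaf (nat_lit 0x2126b96)))) (.node 2 (.node 1 (.leaf (nat_lit 0x12772e)) (.leaf (nat_lit 0x11275de))) (.node 1 (.leaf (nat_lit 0x2127e5f)) (.leaf (nat_lit 0x128761)))))))))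 (.node 64 (.node 32 (.node 16 (.node 8 (.node 4 (.node 2 (.node 1 (.leaf (nat_lit 0x212841a)) (.leaf (nat_lit 0x1129b5c))) (.node 1 (.leaf (nat_lit 0x12af04)) (.leaf (nat_lit 0x112afd8)))) (.node 2 (.node 1 (.leaf (nat_lit 0x212ba5f)) (.leaf (nat_lit 0x12cc90))) (.node 1 (.leaf (nat_lit 0x12d657)) (.leaf (nat_lit 0x112d538))))) (.node 4 (.node 2 (.node 1 (.leaf (nat_lit 0x212d5a0)) (.leaf (nat_lit 0x212e7b6))) (.node 1 (.leaf (nat_lit 0x12f205)) (.leaf (nat_lit 0x213022d)))) (.node 2 (.node 1 (.leaf (nat_lit 0x1317c1)) (.leaf (nat_lit 0x21315c2))) (.node 1 (.leaf (nat_lit 0x132482)) (.leaf (nat_lit 0x21321ba)))))) (.node 8 (.node 4 (.node 2 (.node 1 (.leaf (nat_lit 0x113396a)) (.leaf (nat_lit 0x2133502))) (.node 1 (.leaf (nat_lit 0x1134f93)) (.leaf (nat_lit 0x2134621)))) (.node 2 (.node 1 (.leaf (nat_lit 0x1135e1a)) (.leaf (nat_lit 0x2135553))) (.node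 1 (.leaf (nat_lit 0x1376fa)) (.leaf (nat_lit 0x11376dc))))) (.node 4 (.node 2 (.node 1 (.leaf (nat_lit 0x138f6f)) (.leaf (nat_lit 0x1138b97))) (.node 1 (.leaf (nat_lit 0x139d56)) (.leaf (nat_lit 0x13a599)))) (.node 2 (.node 1 (.leaf (nat_lit 0x113a76c)) (.leaf (nat_lit 0x213a31f))) (.node 1 (.leaf (nat_lit 0x213b0f2)) (.leaf (nat_lit 0x113c276))))))) (.node 16 (.node 8 (.node 4 (.node 2 (.node 1 (.leaf (nat_lit 0x213c2d2)) (.leaf (nat_lit 0x213dcfa))) (.node 1 (.leaf (nat_lit 0x13ec7f)) (.leaf (nat_lit 0x213e561)))) (.node 2 (.node 1 (.leaf (nat_lit 0x13fd6b)) (.leaf (nat_lit 0x113ff37))) (.node 1 (.leaf (nat_lit 0x2140fca)) (.leaf (nat_lit 0x141168))))) (.node 4 (.node 2 (.node 1 (.leaf (nat_lit 0x1141d49)) (.leaf (nat_lit 0x114290b))) (.node 1 (.leaf (nat_lit 0x21425d0)) (.leaf (nat_lit 0x1430bf)))) (.node 2 (.node 1 (.leaf (nat_lit 0x1143362))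 (.leaf (nat_lit 0x14442a))) (.node 1 (.leaf (nat_lit 0x11451f1)) (.leaf (nat_lit 0x21450dc)))))) (.node 8 (.node 4 (.node 2 (.node 1 (.leaf (nat_lit 0x146918)) (.leaf (nat_lit 0x2146b57))) (.node 1 (.leaf (nat_lit 0x1147b6f)) (.leaf (nat_lit 0x148030)))) (.node 2 (.node 1 (.leaf (nat_lit 0x21487f2)) (.leaf (nat_lit 0x149222))) (.node 1 (.leaf (nat_lit 0x11499e3)) (.leaf (nat_lit 0x214a88c))))) (.node 4 (.node 2 (.node 1 (.leaf (nat_lit 0x214b1a6)) (.leaf (nat_lit 0x14cbac))) (.node 1 (.leaf (nat_lit 0x214c926)) (.leaf (nat_lit 0x14d655)))) (.node 2 (.node 1 (.leaf (nat_lit 0x214d1e7)) (.leaf (nat_lit 0x14e672))) (.node 1 (.leaf (nat_lit 0x14fa9f)) (.leaf (nat_lit 0x150069)))))))) (.node 32 (.node 16 (.node 8 (.node 4 (.node 2 (.node 1 (.leaf (nat_lit 0x11506ef)) (.leaf (nat_lit 0x1514b0))) (.node 1 (.leaf (nat_lit 0x2151b38)) (.leaf (nat_lit 0x152c9f))))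 (.node 2 (.node 1 (.leaf (nat_lit 0x2152507)) (.leaf (nat_lit 0x155525))) (.node 1 (.leaf (nat_lit 0x1155f54)) (.leaf (nat_lit 0x2155bf2))))) (.node 4 (.node 2 (.node 1 (.leaf (nat_lit 0x1561a7)) (.leaf (nat_lit 0x11566d7))) (.node 1 (.leaf (nat_lit 0x2156229)) (.leaf (nat_lit 0x1579ad)))) (.node 2 (.node 1 (.leaf (nat_lit 0x2157209)) (.leaf (nat_lit 0x158d5c))) (.node 1 (.leaf (nat_lit 0x2159c8a)) (.leaf (nat_lit 0x15a24a)))))) (.node 8 (.node 4 (.node 2 (.node 1 (.leaf (nat_lit 0x215a133)) (.leaf (nat_lit 0x215bd82))) (.node 1 (.leaf (nat_lit 0x15ccbf)) (.leaf (nat_lit 0x115c69a)))) (.node 2 (.node 1 (.leaf (nat_lit 0x215c7da)) (.leaf (nat_lit 0x15d498))) (.node 1 (.leaf (nat_lit 0x115da1c)) (.leaf (nat_lit 0x15e4d0))))) (.node 4 (.node 2 (.node 1 (.leaf (nat_lit 0x215eb0e)) (.leaf (nat_lit 0x15fb90))) (.node 1 (.leaf (nat_lit 0x160678)) (.leaf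 (nat_lit 0x11602f9)))) (.node 2 (.node 1 (.leaf (nat_lit 0x161a29)) (.leaf (nat_lit 0x1625ce))) (.node 1 (.leaf (nat_lit 0x21620f4)) (.leaf (nat_lit 0x1163120))))))) (.node 16 (.node 8 (.node 4 (.node 2 (.node 1 (.leaf (nat_lit 0x2163c89)) (.leaf (nat_lit 0x1165af0))) (.node 1 (.leaf (nat_lit 0x1668dd)) (.leaf (nat_lit 0x116669c)))) (.node 2 (.node 1 (.leaf (nat_lit 0x21660a2)) (.leaf (nat_lit 0x167d27))) (.node 1 (.leaf (nat_lit 0x1168d8e)) (.leaf (nat_lit 0x21689a2))))) (.node 4 (.node 2 (.node 1 (.leaf (nat_lit 0x16994b)) (.leaf (nat_lit 0x216a9b5))) (.node 1 (.leaf (nat_lit 0x116bad1)) (.leaf (nat_lit 0x216b360)))) (.node 2 (.node 1 (.leaf (nat_lit 0x116c3d0)) (.leaf (nat_lit 0x216c9bc))) (.node 1 (.leaf (nat_lit 0x16da89)) (.leaf (nat_lit 0x216dd07)))))) (.node 8 (.node 4 (.node 2 (.node 1 (.leaf (nat_lit 0x1701c2)) (.leaf (nat_lit 0x171206)))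 (.node 1 (.leaf (nat_lit 0x217185b)) (.leaf (nat_lit 0x172748)))) (.node 2 (.node 1 (.leaf (nat_lit 0x173941)) (.leaf (nat_lit 0x1173287))) (.node 1 (.leaf (nat_lit 0x217399e)) (.leaf (nat_lit 0x21745a2))))) (.node 4 (.node 2 (.node 1 (.leaf (nat_lit 0x175356)) (.leaf (nat_lit 0x176f2e))) (.node 1 (.leaf (nat_lit 0x11765ad)) (.leaf (nat_lit 0x117869b)))) (.node 2 (.node 1 (.leaf (nat_lit 0x2178ab1)) (.leaf (nat_lit 0x117af8f))) (.node 1 (.leaf (nat_lit 0x17bd2d)) (.leaf (nat_lit 0x117c1df))))))))))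

/-- A part of `ulev1`. -/
def ulev1_3 : Tree := (.node 128 (.node 64 (.node 32 (.node 16 (.node 8 (.node 4 (.node 2 (.node 1 (.leaf (nat_lit 0x217ca50)) (.leaf (nat_lit 0x117d50c))) (.node 1 (.leaf (nat_lit 0x217d72f)) (.leaf (nat_lit 0x17ecd5)))) (.node 2 (.node 1 (.leaf (nat_lit 0x117ec81)) (.leaf (nat_lit 0x217ed57))) (.node 1 (.leaf (nat_lit 0x17faf5)) (.leaf (nat_lit 0x117f957))))) (.node 4 (.node 2 (.node 1 (.leaf (nat_lit 0x217fdf5)) (.leaf (nat_lit 0x180ee6))) (.node 1 (.leaf (nat_lit 0x2180aee)) (.leaf (nat_lit 0x181fba)))) (.node 2 (.node 1 (.leaf (nat_lit 0x11814f9)) (.leaf (nat_lit 0x2181f22))) (.node 1 (.leaf (nat_lit 0x11821c9)) (.leaf (nat_lit 0x218208a)))))) (.node 8 (.node 4 (.node 2 (.node 1 (.leaf (nat_lit 0x11834e4)) (.leaf (nat_lit 0x186d33))) (.node 1 (.leaf (nat_lit 0x21867e1)) (.leaf (nat_lit 0x21871a0)))) (.node 2 (.node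 1 (.leaf (nat_lit 0x1889fe)) (.leaf (nat_lit 0x21899cc))) (.node 1 (.leaf (nat_lit 0x18a3f0)) (.leaf (nat_lit 0x118a23c))))) (.node 4 (.node 2 (.node 1 (.leaf (nat_lit 0x18b948)) (.leaf (nat_lit 0x218bd8b))) (.node 1 (.leaf (nat_lit 0x18ccb0)) (.leaf (nat_lit 0x218c022)))) (.node 2 (.node 1 (.leaf (nat_lit 0x18d0c8)) (.leaf (nat_lit 0x118d5f5))) (.node 1 (.leaf (nat_lit 0x218e5fe)) (.leaf (nat_lit 0x218f064))))))) (.node 16 (.node 8 (.node 4 (.node 2 (.node 1 (.leaf (nat_lit 0x1190066)) (.leaf (nat_lit 0x2190336))) (.node 1 (.leaf (nat_lit 0x192686)) (.leaf (nat_lit 0x1941c3)))) (.node 2 (.node 1 (.leaf (nat_lit 0x119489e)) (.leaf (nat_lit 0x1957fb))) (.node 1 (.leaf (nat_lit 0x21955a5)) (.leaf (nat_lit 0x21964b1))))) (.node 4 (.node 2 (.node 1 (.leaf (nat_lit 0x119720c)) (.leaf (nat_lit 0x119846a))) (.node 1 (.leaf (nat_lit 0x219803f)) (.leaf (nat_lit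 0x1199d18)))) (.node 2 (.node 1 (.leaf (nat_lit 0x21994c4)) (.leaf (nat_lit 0x19ae8d))) (.node 1 (.leaf (nat_lit 0x219ad42)) (.leaf (nat_lit 0x19b905)))))) (.node 8 (.node 4 (.node 2 (.node 1 (.leaf (nat_lit 0x19cb00)) (.leaf (nat_lit 0x219d35c))) (.node 1 (.leaf (nat_lit 0x219e293)) (.leaf (nat_lit 0x1a0931)))) (.node 2 (.node 1 (.leaf (nat_lit 0x1a2842)) (.leaf (nat_lit 0x1a33e1))) (.node 1 (.leaf (nat_lit 0x11a3029)) (.leaf (nat_lit 0x1a4454))))) (.node 4 (.node 2 (.node 1 (.leaf (nat_lit 0x11a414d)) (.leaf (nat_lit 0x21a49a6))) (.node 1 (.leaf (nat_lit 0x21a509f)) (.leaf (nat_lit 0x1a65d6)))) (.node 2 (.node 1 (.leaf (nat_lit 0x11a6fad)) (.leaf (nat_lit 0x21a6424))) (.node 1 (.leaf (nat_lit 0x21a7de2)) (.leaf (nat_lit 0x21a821d)))))))) (.node 32 (.node 16 (.node 8 (.node 4 (.node 2 (.node 1 (.leaf (nat_lit 0x1a9ea1)) (.leaf (nat_lit 0x21a9db5)))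 (.node 1 (.leaf (nat_lit 0x1abedb)) (.leaf (nat_lit 0x11ab273)))) (.node 2 (.node 1 (.leaf (nat_lit 0x21ad077)) (.leaf (nat_lit 0x1ae467))) (.node 1 (.leaf (nat_lit 0x21aed60)) (.leaf (nat_lit 0x1af9bb))))) (.node 4 (.node 2 (.node 1 (.leaf (nat_lit 0x11af17e)) (.leaf (nat_lit 0x11b0bff))) (.node 1 (.leaf (nat_lit 0x1b1853)) (.leaf (nat_lit 0x1b27bf)))) (.node 2 (.node 1 (.leaf (nat_lit 0x1b3dd4)) (.leaf (nat_lit 0x21b31d3))) (.node 1 (.leaf (nat_lit 0x11b4620)) (.leaf (nat_lit 0x21b472b)))))) (.node 8 (.node 4 (.node 2 (.node 1 (.leaf (nat_lit 0x21b849b)) (.leaf (nat_lit 0x1b95f6))) (.node 1 (.leaf (nat_lit 0x11b99a7)) (.leaf (nat_lit 0x1ba779)))) (.node 2 (.node 1 (.leaf (nat_lit 0x11ba979)) (.leaf (nat_lit 0x21ba649))) (.node 1 (.leaf (nat_lit 0x1bcb9c)) (.leaf (nat_lit 0x21bc7cd))))) (.node 4 (.node 2 (.node 1 (.leaf (nat_lit 0x1bdb53)) (.leaf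 (nat_lit 0x1be3be))) (.node 1 (.leaf (nat_lit 0x11be6c1)) (.leaf (nat_lit 0x11bf9ec)))) (.node 2 (.node 1 (.leaf (nat_lit 0x21bfe9b)) (.leaf (nat_lit 0x1c0e73))) (.node 1 (.leaf (nat_lit 0x21c08ae)) (.leaf (nat_lit 0x11c161e))))))) (.node 16 (.node 8 (.node 4 (.node 2 (.node 1 (.leaf (nat_lit 0x21c105c)) (.leaf (nat_lit 0x21c2d3c))) (.node 1 (.leaf (nat_lit 0x21c3614)) (.leaf (nat_lit 0x1c4fbc)))) (.node 2 (.node 1 (.leaf (nat_lit 0x21c4636)) (.leaf (nat_lit 0x11c53d3))) (.node 1 (.leaf (nat_lit 0x21c5e3b)) (.leaf (nat_lit 0x1c6d26))))) (.node 4 (.node 2 (.node 1 (.leaf (nat_lit 0x11c6f8d)) (.leaf (nat_lit 0x21c6d40))) (.node 1 (.leaf (nat_lit 0x1c8fb7)) (.leaf (nat_lit 0x21c87db)))) (.node 2 (.node 1 (.leaf (nat_lit 0x11c9b7b)) (.leaf (nat_lit 0x1cafac))) (.node 1 (.leaf (nat_lit 0x21caa67)) (.leaf (nat_lit 0x1cbd92)))))) (.node 8 (.node 4 (.node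 2 (.node 1 (.leaf (nat_lit 0x11cc9e7)) (.leaf (nat_lit 0x1ce4a1))) (.node 1 (.leaf (nat_lit 0x21cf798)) (.leaf (nat_lit 0x21d10c7)))) (.node 2 (.node 1 (.leaf (nat_lit 0x1d2969)) (.leaf (nat_lit 0x11d24a8))) (.node 1 (.leaf (nat_lit 0x21d3930)) (.leaf (nat_lit 0x21d4eae))))) (.node 4 (.node 2 (.node 1 (.leaf (nat_lit 0x1d5c87)) (.leaf (nat_lit 0x21d58e4))) (.node 1 (.leaf (nat_lit 0x1d6d52)) (.leaf (nat_lit 0x21d606c)))) (.node 2 (.node 1 (.leaf (nat_lit 0x21d741c)) (.leaf (nat_lit 0x21d8845))) (.node 1 (.leaf (nat_lit 0x1d9854)) (.leaf (nat_lit 0x11d9370))))))))) (.node 64 (.node 32 (.node 16 (.node 8 (.node 4 (.node 2 (.node 1 (.leaf (nat_lit 0x21d9f52)) (.leaf (nat_lit 0x1ddd4d))) (.node 1 (.leaf (nat_lit 0x11df673)) (.leaf (nat_lit 0x21df25c)))) (.node 2 (.node 1 (.leaf (nat_lit 0x1e12fc)) (.leaf (nat_lit 0x21e1fdb))) (.node 1 (.leaf (nat_lit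 0x1e2acd)) (.leaf (nat_lit 0x21e24a3))))) (.node 4 (.node 2 (.node 1 (.leaf (nat_lit 0x1e4148)) (.leaf (nat_lit 0x11e4811))) (.node 1 (.leaf (nat_lit 0x1e6041)) (.leaf (nat_lit 0x11e7719)))) (.node 2 (.node 1 (.leaf (nat_lit 0x21eb635)) (.leaf (nat_lit 0x1ec20d))) (.node 1 (.leaf (nat_lit 0x21ec367)) (.leaf (nat_lit 0x1ee973)))))) (.node 8 (.node 4 (.node 2 (.node 1 (.leaf (nat_lit 0x11ee136)) (.leaf (nat_lit 0x21ee7f1))) (.node 1 (.leaf (nat_lit 0x1f0975)) (.leaf (nat_lit 0x11f1247)))) (.node 2 (.node 1 (.leaf (nat_lit 0x1f5c97)) (.leaf (nat_lit 0x21f5c62))) (.node 1 (.leaf (nat_lit 0x1f6fc8)) (.leaf (nat_lit 0x11f6fbf))))) (.node 4 (.node 2 (.node 1 (.leaf (nat_lit 0x21f9221)) (.leaf (nat_lit 0x1faa57))) (.node 1 (.leaf (nat_lit 0x11fac16)) (.leaf (nat_lit 0x1fb96b)))) (.node 2 (.node 1 (.leaf (nat_lit 0x21fbcd9)) (.leaf (nat_lit 0x11fe674))) (.node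 1 (.leaf (nat_lit 0x21fedba)) (.leaf (nat_lit 0x1ff207))))))) (.node 16 (.node 8 (.node 4 (.node 2 (.node 1 (.leaf (nat_lit 0x201258)) (.leaf (nat_lit 0x202fd4))) (.node 1 (.leaf (nat_lit 0x1202e67)) (.leaf (nat_lit 0x2202d61)))) (.node 2 (.node 1 (.leaf (nat_lit 0x203af1)) (.leaf (nat_lit 0x220374a))) (.node 1 (.leaf (nat_lit 0x20520a)) (.leaf (nat_lit 0x1206527))))) (.node 4 (.node 2 (.node 1 (.leaf (nat_lit 0x2206e9e)) (.leaf (nat_lit 0x120802e))) (.node 1 (.leaf (nat_lit 0x120ae92)) (.leaf (nat_lit 0x220ac20)))) (.node 2 (.node 1 (.leaf (nat_lit 0x120c720)) (.leaf (nat_lit 0x220cc5b))) (.node 1 (.leaf (nat_lit 0x120d933)) (.leaf (nat_lit 0x220d42c)))))) (.node 8 (.node 4 (.node 2 (.node 1 (.leaf (nat_lit 0x20ecf1)) (.leaf (nat_lit 0x20ffd6))) (.node 1 (.leaf (nat_lit 0x120fe96)) (.leaf (nat_lit 0x2114a5)))) (.node 2 (.node 1 (.leaf (nat_lit 0x2211734))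 (.leaf (nat_lit 0x2126f2))) (.node 1 (.leaf (nat_lit 0x2212664)) (.leaf (nat_lit 0x2213d55))))) (.node 4 (.node 2 (.node 1 (.leaf (nat_lit 0x2214e0b)) (.leaf (nat_lit 0x121527d))) (.node 1 (.leaf (nat_lit 0x2215e35)) (.leaf (nat_lit 0x216633)))) (.node 2 (.node 1 (.leaf (nat_lit 0x218d28)) (.leaf (nat_lit 0x2198ad))) (.node 1 (.leaf (nat_lit 0x21ab3c)) (.leaf (nat_lit 0x121ae0c)))))))) (.node 32 (.node 16 (.node 8 (.node 4 (.node 2 (.node 1 (.leaf (nat_lit 0x21b836)) (.leaf (nat_lit 0x21c144))) (.node 1 (.leaf (nat_lit 0x221ff5e)) (.leaf (nat_lit 0x22006a)))) (.node 2 (.node 1 (.leaf (nat_lit 0x122009d)) (.leaf (nat_lit 0x1222e02))) (.node 1 (.leaf (nat_lit 0x1223821)) (.leaf (nat_lit 0x2243c5))))) (.node 4 (.node 2 (.node 1 (.leaf (nat_lit 0x2224ef3)) (.leaf (nat_lit 0x122533b))) (.node 1 (.leaf (nat_lit 0x2225df0)) (.leaf (nat_lit 0x2268d6)))) (.node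 2 (.node 1 (.leaf (nat_lit 0x2228cbc)) (.leaf (nat_lit 0x22987f))) (.node 1 (.leaf (nat_lit 0x222a1ac)) (.leaf (nat_lit 0x222e11c)))))) (.node 8 (.node 4 (.node 2 (.node 1 (.leaf (nat_lit 0x222fb95)) (.leaf (nat_lit 0x1230b4b))) (.node 1 (.leaf (nat_lit 0x12321d4)) (.leaf (nat_lit 0x234f35)))) (.node 2 (.node 1 (.leaf (nat_lit 0x1234645)) (.leaf (nat_lit 0x2234da4))) (.node 1 (.leaf (nat_lit 0x23727c)) (.leaf (nat_lit 0x12374ec))))) (.node 4 (.node 2 (.node 1 (.leaf (nat_lit 0x238028)) (.leaf (nat_lit 0x12381fd))) (.node 1 (.leaf (nat_lit 0x22380e4)) (.leaf (nat_lit 0x2239448)))) (.node 2 (.node 1 (.leaf (nat_lit 0x23a5cc)) (.leaf (nat_lit 0x23c846))) (.node 1 (.leaf (nat_lit 0x223cc7a)) (.leaf (nat_lit 0x123d939))))))) (.node 16 (.node 8 (.node 4 (.node 2 (.node 1 (.leaf (nat_lit 0x223d3dc)) (.leaf (nat_lit 0x223ee66))) (.node 1 (.leaf (nat_lit 0x240a91))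 (.leaf (nat_lit 0x1240b88)))) (.node 2 (.node 1 (.leaf (nat_lit 0x22403a0)) (.leaf (nat_lit 0x1241964))) (.node 1 (.leaf (nat_lit 0x224294a)) (.leaf (nat_lit 0x1243354))))) (.node 4 (.node 2 (.node 1 (.leaf (nat_lit 0x2442c1)) (.leaf (nat_lit 0x22447f0))) (.node 1 (.leaf (nat_lit 0x246075)) (.leaf (nat_lit 0x1246157)))) (.node 2 (.node 1 (.leaf (nat_lit 0x247630)) (.leaf (nat_lit 0x24832e))) (.node 1 (.leaf (nat_lit 0x2491e2)) (.leaf (nat_lit 0x24aedd)))))) (.node 8 (.node 4 (.node 2 (.node 1 (.leaf (nat_lit 0x24c966)) (.leaf (nat_lit 0x124c0d4))) (.node 1 (.leaf (nat_lit 0x224da85)) (.leaf (nat_lit 0x24e77f)))) (.node 2 (.node 1 (.leaf (nat_lit 0x251123)) (.leaf (nat_lit 0x1251dec))) (.node 1 (.leaf (nat_lit 0x2251431)) (.leaf (nat_lit 0x2521c8))))) (.node 4 (.node 2 (.node 1 (.leaf (nat_lit 0x125203c)) (.leaf (nat_lit 0x2252a55))) (.node 1 (.leaf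 (nat_lit 0x12531fa)) (.leaf (nat_lit 0x1254499)))) (.node 2 (.node 1 (.leaf (nat_lit 0x1255681)) (.leaf (nat_lit 0x2255da3))) (.node 1 (.leaf (nat_lit 0x2256d25)) (.leaf (nat_lit 0x225822a))))))))))

/-- A part of `ulev1`. -/
def ulev1_4 : Tree := (.node 128 (.node 64 (.node 32 (.node 16 (.node 8 (.node 4 (.node 2 (.node 1 (.leaf (nat_lit 0x225b1cb)) (.leaf (nat_lit 0x25cbf3))) (.node 1 (.leaf (nat_lit 0x225c848)) (.leaf (nat_lit 0x225d2dc)))) (.node 2 (.node 1 (.leaf (nat_lit 0x25e81a)) (.leaf (nat_lit 0x26186f))) (.node 1 (.leaf (nat_lit 0x12624f4)) (.leaf (nat_lit 0x22621b6))))) (.node 4 (.node 2 (.node 1 (.leaf (nat_lit 0x26344f)) (.leaf (nat_lit 0x26556b))) (.node 1 (.leaf (nat_lit 0x2265ccc)) (.leaf (nat_lit 0x2689d4)))) (.node 2 (.node 1 (.leaf (nat_lit 0x12685b6)) (.leaf (nat_lit 0x2268887))) (.node 1 (.leaf (nat_lit 0x26998c)) (.leaf (nat_lit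 0x126ba93)))))) (.node 8 (.node 4 (.node 2 (.node 1 (.leaf (nat_lit 0x26e0d7)) (.leaf (nat_lit 0x126f2a4))) (.node 1 (.leaf (nat_lit 0x2270631)) (.leaf (nat_lit 0x1271ec6)))) (.node 2 (.node 1 (.leaf (nat_lit 0x2271b35)) (.leaf (nat_lit 0x272d19))) (.node 1 (.leaf (nat_lit 0x273485)) (.leaf (nat_lit 0x2759a3))))) (.node 4 (.node 2 (.node 1 (.leaf (nat_lit 0x278141)) (.leaf (nat_lit 0x22780fc))) (.node 1 (.leaf (nat_lit 0x1279d0a)) (.leaf (nat_lit 0x22791cf)))) (.node 2 (.node 1 (.leaf (nat_lit 0x127b315)) (.leaf (nat_lit 0x227b296))) (.node 1 (.leaf (nat_lit 0x127c7b5)) (.leaf (nat_lit 0x227d33a))))))) (.node 16 (.node 8 (.node 4 (.node 2 (.node 1 (.leaf (nat_lit 0x27ecf8)) (.leaf (nat_lit 0x127ebc3))) (.node 1 (.leaf (nat_lit 0x227e13c)) (.leaf (nat_lit 0x227f7b7)))) (.node 2 (.node 1 (.leaf (nat_lit 0x1280d4e)) (.leaf (nat_lit 0x22804c3))) (.node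 1 (.leaf (nat_lit 0x22823bc)) (.leaf (nat_lit 0x2848a8))))) (.node 4 (.node 2 (.node 1 (.leaf (nat_lit 0x286e34)) (.leaf (nat_lit 0x1286391))) (.node 1 (.leaf (nat_lit 0x288343)) (.leaf (nat_lit 0x128a159)))) (.node 2 (.node 1 (.leaf (nat_lit 0x28c03e)) (.leaf (nat_lit 0x28d263))) (.node 1 (.leaf (nat_lit 0x228e4ad)) (.leaf (nat_lit 0x228fd64)))))) (.node 8 (.node 4 (.node 2 (.node 1 (.leaf (nat_lit 0x2290228)) (.leaf (nat_lit 0x291bcb))) (.node 1 (.leaf (nat_lit 0x1293cdc)) (.leaf (nat_lit 0x2294dc9)))) (.node 2 (.node 1 (.leaf (nat_lit 0x295f57)) (.leaf (nat_lit 0x12952e3))) (.node 1 (.leaf (nat_lit 0x29667e)) (.leaf (nat_lit 0x229717a))))) (.node 4 (.node 2 (.node 1 (.leaf (nat_lit 0x299ebb)) (.leaf (nat_lit 0x29a246))) (.node 1 (.leaf (nat_lit 0x129a1e8)) (.leaf (nat_lit 0x229ce40)))) (.node 2 (.node 1 (.leaf (nat_lit 0x229e904)) (.leaf (nat_lit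 0x229f2a8))) (.node 1 (.leaf (nat_lit 0x12a0666)) (.leaf (nat_lit 0x2a1c3d)))))))) (.node 32 (.node 16 (.node 8 (.node 4 (.node 2 (.node 1 (.leaf (nat_lit 0x12a1749)) (.leaf (nat_lit 0x22a1aeb))) (.node 1 (.leaf (nat_lit 0x2a5923)) (.leaf (nat_lit 0x2a6796)))) (.node 2 (.node 1 (.leaf (nat_lit 0x12a61ce)) (.leaf (nat_lit 0x2a8434))) (.node 1 (.leaf (nat_lit 0x22a9c6b)) (.leaf (nat_lit 0x22ab108))))) (.node 4 (.node 2 (.node 1 (.leaf (nat_lit 0x2acd51)) (.leaf (nat_lit 0x2ada61))) (.node 1 (.leaf (nat_lit 0x2ae32c)) (.leaf (nat_lit 0x12af701)))) (.node 2 (.node 1 (.leaf (nat_lit 0x22af068)) (.leaf (nat_lit 0x2b090e))) (.node 1 (.leaf (nat_lit 0x2b9a8f)) (.leaf (nat_lit 0x12b9773)))))) (.node 8 (.node 4 (.node 2 (.node 1 (.leaf (nat_lit 0x12bc878)) (.leaf (nat_lit 0x2be7c8))) (.node 1 (.leaf (nat_lit 0x2c051a)) (.leaf (nat_lit 0x2c1ee9)))) (.node 2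 (.node 1 (.leaf (nat_lit 0x22c1032)) (.leaf (nat_lit 0x2c25b8))) (.node 1 (.leaf (nat_lit 0x12c246b)) (.leaf (nat_lit 0x2c375b))))) (.node 4 (.node 2 (.node 1 (.leaf (nat_lit 0x22c3e0d)) (.leaf (nat_lit 0x2c644b))) (.node 1 (.leaf (nat_lit 0x22c6468)) (.leaf (nat_lit 0x2c75df)))) (.node 2 (.node 1 (.leaf (nat_lit 0x2c890a)) (.leaf (nat_lit 0x22c8fd7))) (.node 1 (.leaf (nat_lit 0x12ca357)) (.leaf (nat_lit 0x2cb96e))))))) (.node 16 (.node 8 (.node 4 (.node 2 (.node 1 (.leaf (nat_lit 0x2cd1b5)) (.leaf (nat_lit 0x12cd3b7))) (.node 1 (.leaf (nat_lit 0x2ce243)) (.leaf (nat_lit 0x2cfe91)))) (.node 2 (.node 1 (.leaf (nat_lit 0x22cf642)) (.leaf (nat_lit 0x2d0a96))) (.node 1 (.leaf (nat_lit 0x2d12ae)) (.leaf (nat_lit 0x2d2cf2))))) (.node 4 (.node 2 (.node 1 (.leaf (nat_lit 0x12d267f)) (.leaf (nat_lit 0x2d3b14))) (.node 1 (.leaf (nat_lit 0x22d5b2d)) (.leaf (nat_lit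 0x2d773b)))) (.node 2 (.node 1 (.leaf (nat_lit 0x2db484)) (.leaf (nat_lit 0x12dd8a9))) (.node 1 (.leaf (nat_lit 0x2de044)) (.leaf (nat_lit 0x2e036f)))))) (.node 8 (.node 4 (.node 2 (.node 1 (.leaf (nat_lit 0x22e00df)) (.leaf (nat_lit 0x12e249c))) (.node 1 (.leaf (nat_lit 0x22e2225)) (.leaf (nat_lit 0x2e3b82)))) (.node 2 (.node 1 (.leaf (nat_lit 0x22e3a9a)) (.leaf (nat_lit 0x12e4fb9))) (.node 1 (.leaf (nat_lit 0x2e6f07)) (.leaf (nat_lit 0x12e82ca))))) (.node 4 (.node 2 (.node 1 (.leaf (nat_lit 0x2e93cb)) (.leaf (nat_lit 0x22ea48e))) (.node 1 (.leaf (nat_lit 0x22ebe65)) (.leaf (nat_lit 0x22ec3ba)))) (.node 2 (.node 1 (.leaf (nat_lit 0x22edad2)) (.leaf (nat_lit 0x22ee059))) (.node 1 (.leaf (nat_lit 0x22ef651)) (.leaf (nat_lit 0x22f2755))))))))) (.node 64 (.node 32 (.node 16 (.node 8 (.node 4 (.node 2 (.node 1 (.leaf (nat_lit 0x12f3671)) (.leaf (nat_lit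 0x22f593a))) (.node 1 (.leaf (nat_lit 0x2f80b8)) (.leaf (nat_lit 0x12f9d0c)))) (.node 2 (.node 1 (.leaf (nat_lit 0x22fb065)) (.leaf (nat_lit 0x12fc80f))) (.node 1 (.leaf (nat_lit 0x2301c40)) (.leaf (nat_lit 0x302119))))) (.node 4 (.node 2 (.node 1 (.leaf (nat_lit 0x13022fe)) (.leaf (nat_lit 0x303020))) (.node 1 (.leaf (nat_lit 0x2303769)) (.leaf (nat_lit 0x23053c0)))) (.node 2 (.node 1 (.leaf (nat_lit 0x23071ef)) (.leaf (nat_lit 0x230a10a))) (.node 1 (.leaf (nat_lit 0x30d240)) (.leaf (nat_lit 0x130d76d)))))) (.node 8 (.node 4 (.node 2 (.node 1 (.leaf (nat_lit 0x230ea6a)) (.leaf (nat_lit 0x2310208))) (.node 1 (.leaf (nat_lit 0x231445b)) (.leaf (nat_lit 0x317288)))) (.node 2 (.node 1 (.leaf (nat_lit 0x2317446)) (.leaf (nat_lit 0x31aca2))) (.node 1 (.leaf (nat_lit 0x31c2ef)) (.leaf (nat_lit 0x31ee58))))) (.node 4 (.node 2 (.node 1 (.leaf (nat_lit 0x231e106))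 (.leaf (nat_lit 0x2323a9c))) (.node 1 (.leaf (nat_lit 0x327d9c)) (.leaf (nat_lit 0x32a581)))) (.node 2 (.node 1 (.leaf (nat_lit 0x32ba19)) (.leaf (nat_lit 0x232bbb2))) (.node 1 (.leaf (nat_lit 0x332e9a)) (.leaf (nat_lit 0x1332735))))))) (.node 16 (.node 8 (.node 4 (.node 2 (.node 1 (.leaf (nat_lit 0x1333e90)) (.leaf (nat_lit 0x23348a5))) (.node 1 (.leaf (nat_lit 0x335591)) (.leaf (nat_lit 0x1337dc6)))) (.node 2 (.node 1 (.leaf (nat_lit 0x2337c26)) (.leaf (nat_lit 0x1339797))) (.node 1 (.leaf (nat_lit 0x33da43)) (.leaf (nat_lit 0x33e6f5))))) (.node 4 (.node 2 (.node 1 (.leaf (nat_lit 0x33f83b)) (.leaf (nat_lit 0x3423cf))) (.node 1 (.leaf (nat_lit 0x234292a)) (.leaf (nat_lit 0x347a8e)))) (.node 2 (.node 1 (.leaf (nat_lit 0x1351df4)) (.leaf (nat_lit 0x13537a5))) (.node 1 (.leaf (nat_lit 0x3549e0)) (.leaf (nat_lit 0x2354a32)))))) (.node 8 (.node 4 (.node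 2 (.node 1 (.leaf (nat_lit 0x23564ef)) (.leaf (nat_lit 0x1359450))) (.node 1 (.leaf (nat_lit 0x235a3b3)) (.leaf (nat_lit 0x35b174)))) (.node 2 (.node 1 (.leaf (nat_lit 0x235b843)) (.leaf (nat_lit 0x35c14a))) (.node 1 (.leaf (nat_lit 0x136395a)) (.leaf (nat_lit 0x23651a9))))) (.node 4 (.node 2 (.node 1 (.leaf (nat_lit 0x36618f)) (.leaf (nat_lit 0x136728b))) (.node 1 (.leaf (nat_lit 0x236af5c)) (.leaf (nat_lit 0x136b31a)))) (.node 2 (.node 1 (.leaf (nat_lit 0x236c140)) (.leaf (nat_lit 0x3729dc))) (.node 1 (.leaf (nat_lit 0x373439)) (.leaf (nat_lit 0x137640a)))))))) (.node 32 (.node 16 (.node 8 (.node 4 (.node 2 (.node 1 (.leaf (nat_lit 0x37980a)) (.leaf (nat_lit 0x1380253))) (.node 1 (.leaf (nat_lit 0x23802d4)) (.leaf (nat_lit 0x2382864)))) (.node 2 (.node 1 (.leaf (nat_lit 0x13851d8)) (.leaf (nat_lit 0x23851e5))) (.node 1 (.leaf (nat_lit 0x1386edf))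 (.leaf (nat_lit 0x38bed2))))) (.node 4 (.node 2 (.node 1 (.leaf (nat_lit 0x238b316)) (.leaf (nat_lit 0x2392226))) (.node 1 (.leaf (nat_lit 0x393e75)) (.leaf (nat_lit 0x3952fd)))) (.node 2 (.node 1 (.leaf (nat_lit 0x1395951)) (.leaf (nat_lit 0x398592))) (.node 1 (.leaf (nat_lit 0x239b7c3)) (.leaf (nat_lit 0x239da86)))))) (.node 8 (.node 4 (.node 2 (.node 1 (.leaf (nat_lit 0x139e05d)) (.leaf (nat_lit 0x3a0f91))) (.node 1 (.leaf (nat_lit 0x23a2a28)) (.leaf (nat_lit 0x13a32f7)))) (.node 2 (.node 1 (.leaf (nat_lit 0x23a4eb9)) (.leaf (nat_lit 0x23a6f6c))) (.node 1 (.leaf (nat_lit 0x23a7bfe)) (.leaf (nat_lit 0x23a9398))))) (.node 4 (.node 2 (.node 1 (.leaf (nat_lit 0x23af087)) (.leaf (nat_lit 0x23b1b6b))) (.node 1 (.leaf (nat_lit 0x3bacdb)) (.leaf (nat_lit 0x3bd76b)))) (.node 2 (.node 1 (.leaf (nat_lit 0x23c036d)) (.leaf (nat_lit 0x13ccb6e))) (.node 1 (.leaf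 (nat_lit 0x3d01cd)) (.leaf (nat_lit 0x3d27a7))))))) (.node 16 (.node 8 (.node 4 (.node 2 (.node 1 (.leaf (nat_lit 0x23d8b70)) (.leaf (nat_lit 0x3db82c))) (.node 1 (.leaf (nat_lit 0x3de3b6)) (.leaf (nat_lit 0x3ead4f)))) (.node 2 (.node 1 (.leaf (nat_lit 0x23ea5c0)) (.leaf (nat_lit 0x3ebe52))) (.node 1 (.leaf (nat_lit 0x23ed5c6)) (.leaf (nat_lit 0x23eed17))))) (.node 4 (.node 2 (.node 1 (.leaf (nat_lit 0x3f15a6)) (.leaf (nat_lit 0x23f3dbc))) (.node 1 (.leaf (nat_lit 0x3f6f48)) (.leaf (nat_lit 0x23faa7e)))) (.node 2 (.node 1 (.leaf (nat_lit 0x23fc3e8)) (.leaf (nat_lit 0x13fd28a))) (.node 1 (.leaf (nat_lit 0x13ff227)) (.leaf (nat_lit 0x2402b84)))))) (.node 8 (.node 4 (.node 2 (.node 1 (.leaf (nat_lit 0x2406532)) (.leaf (nat_lit 0x413919))) (.node 1 (.leaf (nat_lit 0x142266a)) (.leaf (nat_lit 0x4234ff)))) (.node 2 (.node 1 (.leaf (nat_lit 0x24308c6)) (.leaf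 (nat_lit 0x434034))) (.node 1 (.leaf (nat_lit 0x14365f7)) (.leaf (nat_lit 0x243c60a))))) (.node 4 (.node 2 (.node 1 (.leaf (nat_lit 0x440f82)) (.leaf (nat_lit 0x2442faf))) (.node 1 (.leaf (nat_lit 0x245b37b)) (.leaf (nat_lit 0x245e6ec)))) (.node 2 (.node 1 (.leaf (nat_lit 0x1463212)) (.leaf (nat_lit 0x24720a3))) (.node 1 (.leaf (nat_lit 0x1489df7)) (.leaf (nat_lit 0x49a332))))))))))

/-- A level of the second chain. -/
def ulev1 : Tree := (.node 512 (.node 256 ulev1_0 ulev1_1) (.node 256 ulev1_2 (.node 256 ulev1_3 ulev1_4)))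

/-- A level of the second chain. -/
def ulev2 : Tree := (.node 2 (.node 1 (.leaf (nat_lit 0x75)) (.leaf (nat_lit 0x200092b))) (.node 1 (.leaf (nat_lit 0x1001e5f)) (.leaf (nat_lit 0x20012f7))))

/-- A part of `jlev0`. -/
def jlev0_0 : Tree := (.node 128 (.node 64 (.node 32 (.node 16 (.node 8 (.node 4 (.node 2 (.node 1 (.leaf (nat_lit 0x7b8)) (.leaf (nat_lit 0xb25))) (.node 1 (.leaf (nat_lit 0x1000306)) (.leaf (nat_lit 0x2000ac7)))) (.node 2 (.node 1 (.leaf (nat_lit 0x15c3)) (.leaf (nat_lit 0x100120f))) (.node 1 (.leaf (nat_lit 0x2001840)) (.leaf (nat_lit 0x24d5))))) (.node 4 (.node 2 (.node 1 (.leaf (nat_lit 0x1002d66)) (.leaf (nat_lit 0x2002451))) (.node 1 (.leaf (nat_lit 0x3170)) (.leaf (nat_lit 0x100300f)))) (.node 2 (.node 1 (.leaf (nat_lit 0x200376e)) (.leaf (nat_lit 0x493d))) (.node 1 (.leaf (nat_lit 0x1004dd8)) (.leaf (nat_lit 0x2004255))))))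 (.node 8 (.node 4 (.node 2 (.node 1 (.leaf (nat_lit 0x50a7)) (.leaf (nat_lit 0x10056c6))) (.node 1 (.leaf (nat_lit 0x2005ab2)) (.leaf (nat_lit 0x601a)))) (.node 2 (.node 1 (.leaf (nat_lit 0x10061ab)) (.leaf (nat_lit 0x2006b8d))) (.node 1 (.leaf (nat_lit 0x7754)) (.leaf (nat_lit 0x1007ccf))))) (.node 4 (.node 2 (.node 1 (.leaf (nat_lit 0x2007113)) (.leaf (nat_lit 0x8b7a))) (.node 1 (.leaf (nat_lit 0x10083e7)) (.leaf (nat_lit 0x20084d7)))) (.node 2 (.node 1 (.leaf (nat_lit 0x9a4e)) (.leaf (nat_lit 0x1009c84))) (.node 1 (.leaf (nat_lit 0x2009408)) (.leaf (nat_lit 0xab26))))))) (.node 16 (.node 8 (.node 4 (.node 2 (.node 1 (.leaf (nat_lit 0x100a3ec)) (.leaf (nat_lit 0x200abd2))) (.node 1 (.leaf (nat_lit 0x100b3ce)) (.leaf (nat_lit 0x200b5ac)))) (.node 2 (.node 1 (.leaf (nat_lit 0xcfc3)) (.leaf (nat_lit 0x100c2be))) (.node 1 (.leaf (nat_lit 0x200c87e))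 (.leaf (nat_lit 0xd5b5))))) (.node 4 (.node 2 (.node 1 (.leaf (nat_lit 0x100d9c6)) (.leaf (nat_lit 0x200d286))) (.node 1 (.leaf (nat_lit 0xee0f)) (.leaf (nat_lit 0x100e7a1)))) (.node 2 (.node 1 (.leaf (nat_lit 0x200e3e2)) (.leaf (nat_lit 0xf005))) (.node 1 (.leaf (nat_lit 0x100fef9)) (.leaf (nat_lit 0x200f2b6)))))) (.node 8 (.node 4 (.node 2 (.node 1 (.leaf (nat_lit 0x10fa6)) (.leaf (nat_lit 0x201055c))) (.node 1 (.leaf (nat_lit 0x11763)) (.leaf (nat_lit 0x101194c)))) (.node 2 (.node 1 (.leaf (nat_lit 0x2011c1c)) (.leaf (nat_lit 0x1228d))) (.node 1 (.leaf (nat_lit 0x1012f5b)) (.leaf (nat_lit 0x2012595))))) (.node 4 (.node 2 (.node 1 (.leaf (nat_lit 0x13866)) (.leaf (nat_lit 0x1013bc9))) (.node 1 (.leaf (nat_lit 0x201325f)) (.leaf (nat_lit 0x14e6b)))) (.node 2 (.node 1 (.leaf (nat_lit 0x1014a6d)) (.leaf (nat_lit 0x2014b61))) (.node 1 (.leaf (nat_lit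 0x15985)) (.leaf (nat_lit 0x101566d)))))))) (.node 32 (.node 16 (.node 8 (.node 4 (.node 2 (.node 1 (.leaf (nat_lit 0x201593f)) (.leaf (nat_lit 0x16c0b))) (.node 1 (.leaf (nat_lit 0x10165d3)) (.leaf (nat_lit 0x201684f)))) (.node 2 (.node 1 (.leaf (nat_lit 0x10170c5)) (.leaf (nat_lit 0x2017da7))) (.node 1 (.leaf (nat_lit 0x1890c)) (.leaf (nat_lit 0x101877e))))) (.node 4 (.node 2 (.node 1 (.leaf (nat_lit 0x201894d)) (.leaf (nat_lit 0x19c9d))) (.node 1 (.leaf (nat_lit 0x1019faa)) (.leaf (nat_lit 0x2019e24)))) (.node 2 (.node 1 (.leaf (nat_lit 0x1a0e3)) (.leaf (nat_lit 0x201ae18))) (.node 1 (.leaf (nat_lit 0x1ba98)) (.leaf (nat_lit 0x101bb46)))))) (.node 8 (.node 4 (.node 2 (.node 1 (.leaf (nat_lit 0x201ba56)) (.leaf (nat_lit 0x101c746))) (.node 1 (.leaf (nat_lit 0x201c528)) (.leaf (nat_lit 0x101d1d7)))) (.node 2 (.node 1 (.leaf (nat_lit 0x201d38e)) (.leaf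 (nat_lit 0x1ec5c))) (.node 1 (.leaf (nat_lit 0x101e954)) (.leaf (nat_lit 0x201e63e))))) (.node 4 (.node 2 (.node 1 (.leaf (nat_lit 0x1f539)) (.leaf (nat_lit 0x101fa9b))) (.node 1 (.leaf (nat_lit 0x201fa0d)) (.leaf (nat_lit 0x1021369)))) (.node 2 (.node 1 (.leaf (nat_lit 0x20216db)) (.leaf (nat_lit 0x22827))) (.node 1 (.leaf (nat_lit 0x102253d)) (.leaf (nat_lit 0x2022f79))))))) (.node 16 (.node 8 (.node 4 (.node 2 (.node 1 (.leaf (nat_lit 0x239d1)) (.leaf (nat_lit 0x1023767))) (.node 1 (.leaf (nat_lit 0x2023d37)) (.leaf (nat_lit 0x2478d)))) (.node 2 (.node 1 (.leaf (nat_lit 0x1024523)) (.leaf (nat_lit 0x2024e89))) (.node 1 (.leaf (nat_lit 0x10256a9)) (.leaf (nat_lit 0x2025715))))) (.node 4 (.node 2 (.node 1 (.leaf (nat_lit 0x2610c)) (.leaf (nat_lit 0x1026129))) (.node 1 (.leaf (nat_lit 0x20268f1)) (.leaf (nat_lit 0x27e62)))) (.node 2 (.node 1 (.leaf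 (nat_lit 0x1027c5d)) (.leaf (nat_lit 0x2027bad))) (.node 1 (.leaf (nat_lit 0x28632)) (.leaf (nat_lit 0x10287ac)))))) (.node 8 (.node 4 (.node 2 (.node 1 (.leaf (nat_lit 0x2028a4c)) (.leaf (nat_lit 0x29980))) (.node 1 (.leaf (nat_lit 0x1029a2c)) (.leaf (nat_lit 0x2029644)))) (.node 2 (.node 1 (.leaf (nat_lit 0x2ae55)) (.leaf (nat_lit 0x202abda))) (.node 1 (.leaf (nat_lit 0x2b3c3)) (.leaf (nat_lit 0x102b51e))))) (.node 4 (.node 2 (.node 1 (.leaf (nat_lit 0x202b694)) (.leaf (nat_lit 0x2cb1c))) (.node 1 (.leaf (nat_lit 0x102c74b)) (.leaf (nat_lit 0x202c403)))) (.node 2 (.node 1 (.leaf (nat_lit 0x2dcca)) (.leaf (nat_lit 0x202d587))) (.node 1 (.leaf (nat_lit 0x102e61f)) (.leaf (nat_lit 0x202e90d))))))))) (.node 64 (.node 32 (.node 16 (.node 8 (.node 4 (.node 2 (.node 1 (.leaf (nat_lit 0x2f6d5)) (.leaf (nat_lit 0x102f40d))) (.node 1 (.leaf (nat_lit 0x202f21a))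 (.leaf (nat_lit 0x309c8)))) (.node 2 (.node 1 (.leaf (nat_lit 0x10307c5)) (.leaf (nat_lit 0x2030913))) (.node 1 (.leaf (nat_lit 0x3170a)) (.leaf (nat_lit 0x2031e7f))))) (.node 4 (.node 2 (.node 1 (.leaf (nat_lit 0x323a3)) (.leaf (nat_lit 0x103293b))) (.node 1 (.leaf (nat_lit 0x2032d0f)) (.leaf (nat_lit 0x334e8)))) (.node 2 (.node 1 (.leaf (nat_lit 0x10338e8)) (.leaf (nat_lit 0x3470f))) (.node 1 (.leaf (nat_lit 0x2034a54)) (.leaf (nat_lit 0x35908)))))) (.node 8 (.node 4 (.node 2 (.node 1 (.leaf (nat_lit 0x10351a4)) (.leaf (nat_lit 0x20357ca))) (.node 1 (.leaf (nat_lit 0x36251)) (.leaf (nat_lit 0x1036f9a)))) (.node 2 (.node 1 (.leaf (nat_lit 0x2036e7c)) (.leaf (nat_lit 0x372ee))) (.node 1 (.leaf (nat_lit 0x10374ce)) (.leaf (nat_lit 0x2037af3))))) (.node 4 (.node 2 (.node 1 (.leaf (nat_lit 0x3870e)) (.leaf (nat_lit 0x1038bae))) (.node 1 (.leaf (nat_lit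 0x2038079)) (.leaf (nat_lit 0x39afd)))) (.node 2 (.node 1 (.leaf (nat_lit 0x1039c64)) (.leaf (nat_lit 0x2039097))) (.node 1 (.leaf (nat_lit 0x3a30b)) (.leaf (nat_lit 0x103aae5))))))) (.node 16 (.node 8 (.node 4 (.node 2 (.node 1 (.leaf (nat_lit 0x203af63)) (.leaf (nat_lit 0x3b3f4))) (.node 1 (.leaf (nat_lit 0x103b543)) (.leaf (nat_lit 0x203b75e)))) (.node 2 (.node 1 (.leaf (nat_lit 0x3ce86)) (.leaf (nat_lit 0x103ca49))) (.node 1 (.leaf (nat_lit 0x203c920)) (.leaf (nat_lit 0x3d6d0))))) (.node 4 (.node 2 (.node 1 (.leaf (nat_lit 0x103d0f6)) (.leaf (nat_lit 0x203d605))) (.node 1 (.leaf (nat_lit 0x3e490)) (.leaf (nat_lit 0x103e785)))) (.node 2 (.node 1 (.leaf (nat_lit 0x3fa3c)) (.leaf (nat_lit 0x103fd63))) (.node 1 (.leaf (nat_lit 0x203f42e)) (.leaf (nat_lit 0x40c70)))))) (.node 8 (.node 4 (.node 2 (.node 1 (.leaf (nat_lit 0x410d0)) (.leaf (nat_lit 0x104189b)))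 (.node 1 (.leaf (nat_lit 0x2041daa)) (.leaf (nat_lit 0x42bb8)))) (.node 2 (.node 1 (.leaf (nat_lit 0x1042474)) (.leaf (nat_lit 0x2042958))) (.node 1 (.leaf (nat_lit 0x43b72)) (.leaf (nat_lit 0x1043575))))) (.node 4 (.node 2 (.node 1 (.leaf (nat_lit 0x2043f4a)) (.leaf (nat_lit 0x44351))) (.node 1 (.leaf (nat_lit 0x1044b55)) (.leaf (nat_lit 0x458df)))) (.node 2 (.node 1 (.leaf (nat_lit 0x20452e2)) (.leaf (nat_lit 0x46fc4))) (.node 1 (.leaf (nat_lit 0x104656a)) (.leaf (nat_lit 0x204674f)))))))) (.node 32 (.node 16 (.node 8 (.node 4 (.node 2 (.node 1 (.leaf (nat_lit 0x104739f)) (.leaf (nat_lit 0x2047e2f))) (.node 1 (.leaf (nat_lit 0x48b04)) (.leaf (nat_lit 0x1048abe)))) (.node 2 (.node 1 (.leaf (nat_lit 0x2048ec2)) (.leaf (nat_lit 0x49ac1))) (.node 1 (.leaf (nat_lit 0x1049094)) (.leaf (nat_lit 0x2049422))))) (.node 4 (.node 2 (.node 1 (.leaf (nat_lit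 0x104a3e5)) (.leaf (nat_lit 0x204af0b))) (.node 1 (.leaf (nat_lit 0x104be3d)) (.leaf (nat_lit 0x4c196)))) (.node 2 (.node 1 (.leaf (nat_lit 0x104c32a)) (.leaf (nat_lit 0x204cd0e))) (.node 1 (.leaf (nat_lit 0x4dcbb)) (.leaf (nat_lit 0x104db8c)))))) (.node 8 (.node 4 (.node 2 (.node 1 (.leaf (nat_lit 0x204d921)) (.leaf (nat_lit 0x104ef97))) (.node 1 (.leaf (nat_lit 0x204e481)) (.leaf (nat_lit 0x204f4e7)))) (.node 2 (.node 1 (.leaf (nat_lit 0x50f1a)) (.leaf (nat_lit 0x1050f0e))) (.node 1 (.leaf (nat_lit 0x2050fc1)) (.leaf (nat_lit 0x513d1))))) (.node 4 (.node 2 (.node 1 (.leaf (nat_lit 0x1051875)) (.leaf (nat_lit 0x1052213))) (.node 1 (.leaf (nat_lit 0x2052b31)) (.leaf (nat_lit 0x53eca)))) (.node 2 (.node 1 (.leaf (nat_lit 0x20538e1)) (.leaf (nat_lit 0x1054729))) (.node 1 (.leaf (nat_lit 0x2054ce6)) (.leaf (nat_lit 0x55774))))))) (.node 16 (.node 8 (.node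 4 (.node 2 (.node 1 (.leaf (nat_lit 0x2055b4a)) (.leaf (nat_lit 0x205747d))) (.node 1 (.leaf (nat_lit 0x58f3b)) (.leaf (nat_lit 0x1058c04)))) (.node 2 (.node 1 (.leaf (nat_lit 0x59959)) (.leaf (nat_lit 0x1059a70))) (.node 1 (.leaf (nat_lit 0x205965c)) (.leaf (nat_lit 0x5ae1c))))) (.node 4 (.node 2 (.node 1 (.leaf (nat_lit 0x105af69)) (.leaf (nat_lit 0x205b8ef))) (.node 1 (.leaf (nat_lit 0x105c353)) (.leaf (nat_lit 0x205c870)))) (.node 2 (.node 1 (.leaf (nat_lit 0x5de32)) (.leaf (nat_lit 0x105d4f6))) (.node 1 (.leaf (nat_lit 0x205d824)) (.leaf (nat_lit 0x5e197)))))) (.node 8 (.node 4 (.node 2 (.node 1 (.leaf (nat_lit 0x105e647)) (.leaf (nat_lit 0x205e155))) (.node 1 (.leaf (nat_lit 0x5fb9b)) (.leaf (nat_lit 0x105f328)))) (.node 2 (.node 1 (.leaf (nat_lit 0x205fe69)) (.leaf (nat_lit 0x60442))) (.node 1 (.leaf (nat_lit 0x1060440)) (.leaf (nat_lit 0x2060c71)))))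 (.node 4 (.node 2 (.node 1 (.leaf (nat_lit 0x1061cc6)) (.leaf (nat_lit 0x20616e1))) (.node 1 (.leaf (nat_lit 0x625c5)) (.leaf (nat_lit 0x1062a4f)))) (.node 2 (.node 1 (.leaf (nat_lit 0x2062e85)) (.leaf (nat_lit 0x6338d))) (.node 1 (.leaf (nat_lit 0x20632b9)) (.leaf (nat_lit 0x64949))))))))))

/-- A part of `jlev0`. -/
def jlev0_1 : Tree := (.node 128 (.node 64 (.node 32 (.node 16 (.node 8 (.node 4 (.node 2 (.node 1 (.leaf (nat_lit 0x1064736)) (.leaf (nat_lit 0x206497e))) (.node 1 (.leaf (nat_lit 0x65e87)) (.leaf (nat_lit 0x10658f5)))) (.node 2 (.node 1 (.leaf (nat_lit 0x2065589)) (.leaf (nat_lit 0x1066760))) (.node 1 (.leaf (nat_lit 0x206612a)) (.leaf (nat_lit 0x67ca1))))) (.node 4 (.node 2 (.node 1 (.leaf (nat_lit 0x1067bb7)) (.leaf (nat_lit 0x2067984))) (.node 1 (.leaf (nat_lit 0x68e6f)) (.leaf (nat_lit 0x10687af)))) (.node 2 (.node 1 (.leaf (nat_lit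 0x69fcf)) (.leaf (nat_lit 0x2069305))) (.node 1 (.leaf (nat_lit 0x6ad3d)) (.leaf (nat_lit 0x106aea7)))))) (.node 8 (.node 4 (.node 2 (.node 1 (.leaf (nat_lit 0x6b0f7)) (.leaf (nat_lit 0x106b692))) (.node 1 (.leaf (nat_lit 0x206b441)) (.leaf (nat_lit 0x6ce8b)))) (.node 2 (.node 1 (.leaf (nat_lit 0x106c9c7)) (.leaf (nat_lit 0x206c492))) (.node 1 (.leaf (nat_lit 0x6d2bf)) (.leaf (nat_lit 0x206d2a2))))) (.node 4 (.node 2 (.node 1 (.leaf (nat_lit 0x6e9f1)) (.leaf (nat_lit 0x206e727))) (.node 1 (.leaf (nat_lit 0x6f472)) (.leaf (nat_lit 0x106fe6e)))) (.node 2 (.node 1 (.leaf (nat_lit 0x206f97d)) (.leaf (nat_lit 0x704cf))) (.node 1 (.leaf (nat_lit 0x1070a77)) (.leaf (nat_lit 0x2070475))))))) (.node 16 (.node 8 (.node 4 (.node 2 (.node 1 (.leaf (nat_lit 0x107177c)) (.leaf (nat_lit 0x72722))) (.node 1 (.leaf (nat_lit 0x1072fa2)) (.leaf (nat_lit 0x73a0f))))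 (.node 2 (.node 1 (.leaf (nat_lit 0x2073f62)) (.leaf (nat_lit 0x740b2))) (.node 1 (.leaf (nat_lit 0x2074e33)) (.leaf (nat_lit 0x758e0))))) (.node 4 (.node 2 (.node 1 (.leaf (nat_lit 0x1075fd1)) (.leaf (nat_lit 0x2075c05))) (.node 1 (.leaf (nat_lit 0x2076b05)) (.leaf (nat_lit 0x77dae)))) (.node 2 (.node 1 (.leaf (nat_lit 0x107755e)) (.leaf (nat_lit 0x10780c6))) (.node 1 (.leaf (nat_lit 0x20780fd)) (.leaf (nat_lit 0x7943f)))))) (.node 8 (.node 4 (.node 2 (.node 1 (.leaf (nat_lit 0x107927b)) (.leaf (nat_lit 0x207968a))) (.node 1 (.leaf (nat_lit 0x207a3a1)) (.leaf (nat_lit 0x7b544)))) (.node 2 (.node 1 (.leaf (nat_lit 0x107b5c7)) (.leaf (nat_lit 0x107c793))) (.node 1 (.leaf (nat_lit 0x207c0c4)) (.leaf (nat_lit 0x7df8b))))) (.node 4 (.node 2 (.node 1 (.leaf (nat_lit 0x107dd1c)) (.leaf (nat_lit 0x207d5d1))) (.node 1 (.leaf (nat_lit 0x7e2f3)) (.leaf (nat_lit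 0x107ef3c)))) (.node 2 (.node 1 (.leaf (nat_lit 0x207ed62)) (.leaf (nat_lit 0x7ff96))) (.node 1 (.leaf (nat_lit 0x107fa0b)) (.leaf (nat_lit 0x207f91e)))))))) (.node 32 (.node 16 (.node 8 (.node 4 (.node 2 (.node 1 (.leaf (nat_lit 0x108040b)) (.leaf (nat_lit 0x108134a))) (.node 1 (.leaf (nat_lit 0x2081085)) (.leaf (nat_lit 0x82ed6)))) (.node 2 (.node 1 (.leaf (nat_lit 0x1082acc)) (.leaf (nat_lit 0x83597))) (.node 1 (.leaf (nat_lit 0x1083f2a)) (.leaf (nat_lit 0x2083cc2))))) (.node 4 (.node 2 (.node 1 (.leaf (nat_lit 0x847ad)) (.leaf (nat_lit 0x1084e79))) (.node 1 (.leaf (nat_lit 0x2084869)) (.leaf (nat_lit 0x85d3f)))) (.node 2 (.node 1 (.leaf (nat_lit 0x1086ceb)) (.leaf (nat_lit 0x2086a7c))) (.node 1 (.leaf (nat_lit 0x87efa)) (.leaf (nat_lit 0x2088487)))))) (.node 8 (.node 4 (.node 2 (.node 1 (.leaf (nat_lit 0x1089bfd)) (.leaf (nat_lit 0x2089bc7)))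 (.node 1 (.leaf (nat_lit 0x8ae21)) (.leaf (nat_lit 0x108a0ec)))) (.node 2 (.node 1 (.leaf (nat_lit 0x208ad67)) (.leaf (nat_lit 0x8beb6))) (.node 1 (.leaf (nat_lit 0x108bd72)) (.leaf (nat_lit 0x208b8d4))))) (.node 4 (.node 2 (.node 1 (.leaf (nat_lit 0x8c9f6)) (.leaf (nat_lit 0x108c751))) (.node 1 (.leaf (nat_lit 0x8dc99)) (.leaf (nat_lit 0x108d52d)))) (.node 2 (.node 1 (.leaf (nat_lit 0x208db42)) (.leaf (nat_lit 0x8e69f))) (.node 1 (.leaf (nat_lit 0x108e452)) (.leaf (nat_lit 0x108fb18))))))) (.node 16 (.node 8 (.node 4 (.node 2 (.node 1 (.leaf (nat_lit 0x208f747)) (.leaf (nat_lit 0x10907be))) (.node 1 (.leaf (nat_lit 0x1091ba2)) (.leaf (nat_lit 0x2091ee0)))) (.node 2 (.node 1 (.leaf (nat_lit 0x92758)) (.leaf (nat_lit 0x109255d))) (.node 1 (.leaf (nat_lit 0x1093a45)) (.leaf (nat_lit 0x209366f))))) (.node 4 (.node 2 (.node 1 (.leaf (nat_lit 0x94ce2))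 (.leaf (nat_lit 0x1094b7f))) (.node 1 (.leaf (nat_lit 0x109537d)) (.leaf (nat_lit 0x2095e88)))) (.node 2 (.node 1 (.leaf (nat_lit 0x97a82)) (.leaf (nat_lit 0x1097781))) (.node 1 (.leaf (nat_lit 0x20975da)) (.leaf (nat_lit 0x98a06)))))) (.node 8 (.node 4 (.node 2 (.node 1 (.leaf (nat_lit 0x10987bd)) (.leaf (nat_lit 0x2098dfb))) (.node 1 (.leaf (nat_lit 0x9956d)) (.leaf (nat_lit 0x10999f2)))) (.node 2 (.node 1 (.leaf (nat_lit 0x2099e23)) (.leaf (nat_lit 0x209aaf4))) (.node 1 (.leaf (nat_lit 0x9bc85)) (.leaf (nat_lit 0x209b9ce))))) (.node 4 (.node 2 (.node 1 (.leaf (nat_lit 0x9c9aa)) (.leaf (nat_lit 0x209ca87))) (.node 1 (.leaf (nat_lit 0x109dc79)) (.leaf (nat_lit 0x209d6a7)))) (.node 2 (.node 1 (.leaf (nat_lit 0x9f928)) (.leaf (nat_lit 0x109fa3d))) (.node 1 (.leaf (nat_lit 0x209f22f)) (.leaf (nat_lit 0xa0d74))))))))) (.node 64 (.node 32 (.node 16 (.node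 8 (.node 4 (.node 2 (.node 1 (.leaf (nat_lit 0x10a0aae)) (.leaf (nat_lit 0xa16af))) (.node 1 (.leaf (nat_lit 0x10a14b9)) (.leaf (nat_lit 0x20a13c8)))) (.node 2 (.node 1 (.leaf (nat_lit 0x10a2e42)) (.leaf (nat_lit 0x20a2a5a))) (.node 1 (.leaf (nat_lit 0xa3898)) (.leaf (nat_lit 0x20a3dda))))) (.node 4 (.node 2 (.node 1 (.leaf (nat_lit 0x10a4397)) (.leaf (nat_lit 0x10a5f6b))) (.node 1 (.leaf (nat_lit 0x20a5653)) (.leaf (nat_lit 0x20a6003)))) (.node 2 (.node 1 (.leaf (nat_lit 0xa75e7)) (.leaf (nat_lit 0x10a79f0))) (.node 1 (.leaf (nat_lit 0x20a7bdd)) (.leaf (nat_lit 0xa8d3e)))))) (.node 8 (.node 4 (.node 2 (.node 1 (.leaf (nat_lit 0x20a85ab)) (.leaf (nat_lit 0x10a9eb7))) (.node 1 (.leaf (nat_lit 0x20a9430)) (.leaf (nat_lit 0x20aafd0)))) (.node 2 (.node 1 (.leaf (nat_lit 0xab278)) (.leaf (nat_lit 0xac9c9))) (.node 1 (.leaf (nat_lit 0x10ac456)) (.leaf (nat_lit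 0x10af002))))) (.node 4 (.node 2 (.node 1 (.leaf (nat_lit 0xb035b)) (.leaf (nat_lit 0x20b0178))) (.node 1 (.leaf (nat_lit 0x20b17a0)) (.leaf (nat_lit 0xb272d)))) (.node 2 (.node 1 (.leaf (nat_lit 0x10b2019)) (.leaf (nat_lit 0xb3654))) (.node 1 (.leaf (nat_lit 0xb4a4a)) (.leaf (nat_lit 0x20b4cfd))))))) (.node 16 (.node 8 (.node 4 (.node 2 (.node 1 (.leaf (nat_lit 0xb52b0)) (.leaf (nat_lit 0x10b678c))) (.node 1 (.leaf (nat_lit 0xb76f9)) (.leaf (nat_lit 0x20b7a72)))) (.node 2 (.node 1 (.leaf (nat_lit 0xb807a)) (.leaf (nat_lit 0x10b8b60))) (.node 1 (.leaf (nat_lit 0x20b8a0e)) (.leaf (nat_lit 0xb9eb8))))) (.node 4 (.node 2 (.node 1 (.leaf (nat_lit 0x10bab74)) (.leaf (nat_lit 0xbb777))) (.node 1 (.leaf (nat_lit 0x10bbab5)) (.leaf (nat_lit 0x20bb257)))) (.node 2 (.node 1 (.leaf (nat_lit 0xbcf51)) (.leaf (nat_lit 0xbde17))) (.node 1 (.leaf (nat_lit 0x10bdb59))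 (.leaf (nat_lit 0x20bde11)))))) (.node 8 (.node 4 (.node 2 (.node 1 (.leaf (nat_lit 0x10bec3f)) (.leaf (nat_lit 0xbffab))) (.node 1 (.leaf (nat_lit 0x20bf70b)) (.leaf (nat_lit 0x10c0110)))) (.node 2 (.node 1 (.leaf (nat_lit 0x20c034b)) (.leaf (nat_lit 0xc1c11))) (.node 1 (.leaf (nat_lit 0xc4687)) (.leaf (nat_lit 0x10c456f))))) (.node 4 (.node 2 (.node 1 (.leaf (nat_lit 0x20c4b10)) (.leaf (nat_lit 0x10c591b))) (.node 1 (.leaf (nat_lit 0xc6268)) (.leaf (nat_lit 0x10c6f17)))) (.node 2 (.node 1 (.leaf (nat_lit 0x10c7a2d)) (.leaf (nat_lit 0x20c74eb))) (.node 1 (.leaf (nat_lit 0xc8423)) (.leaf (nat_lit 0xc92bc)))))))) (.node 32 (.node 16 (.node 8 (.node 4 (.node 2 (.node 1 (.leaf (nat_lit 0x10c906b)) (.leaf (nat_lit 0x20c9d79))) (.node 1 (.leaf (nat_lit 0xca783)) (.leaf (nat_lit 0x20ca2e6)))) (.node 2 (.node 1 (.leaf (nat_lit 0xcbbb0)) (.leaf (nat_lit 0x10cce7e)))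 (.node 1 (.leaf (nat_lit 0xcd716)) (.leaf (nat_lit 0x20cdaf2))))) (.node 4 (.node 2 (.node 1 (.leaf (nat_lit 0x10ce06e)) (.leaf (nat_lit 0xcf95d))) (.node 1 (.leaf (nat_lit 0x20cfb1d)) (.leaf (nat_lit 0xd0e2e)))) (.node 2 (.node 1 (.leaf (nat_lit 0x20d0de0)) (.leaf (nat_lit 0x10d16d3))) (.node 1 (.leaf (nat_lit 0x20d1e57)) (.leaf (nat_lit 0xd2ac0)))))) (.node 8 (.node 4 (.node 2 (.node 1 (.leaf (nat_lit 0x10d2f68)) (.leaf (nat_lit 0xd3459))) (.node 1 (.leaf (nat_lit 0x10d3162)) (.leaf (nat_lit 0xd447e)))) (.node 2 (.node 1 (.leaf (nat_lit 0xd50ea)) (.leaf (nat_lit 0x20d5cda))) (.node 1 (.leaf (nat_lit 0x10d84b3)) (.leaf (nat_lit 0x20d8ca6))))) (.node 4 (.node 2 (.node 1 (.leaf (nat_lit 0x20d958a)) (.leaf (nat_lit 0x10db436))) (.node 1 (.leaf (nat_lit 0x10dce63)) (.leaf (nat_lit 0xdd5b3)))) (.node 2 (.node 1 (.leaf (nat_lit 0x10dd3ea)) (.leaf (nat_lit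 0x20dd37c))) (.node 1 (.leaf (nat_lit 0x20def1b)) (.leaf (nat_lit 0x10df1ec))))))) (.node 16 (.node 8 (.node 4 (.node 2 (.node 1 (.leaf (nat_lit 0xe013f)) (.leaf (nat_lit 0x10e03b2))) (.node 1 (.leaf (nat_lit 0x20e18da)) (.leaf (nat_lit 0x10e29cb)))) (.node 2 (.node 1 (.leaf (nat_lit 0x10e33e0)) (.leaf (nat_lit 0xe4f3f))) (.node 1 (.leaf (nat_lit 0x10e5792)) (.leaf (nat_lit 0x20e5c02))))) (.node 4 (.node 2 (.node 1 (.leaf (nat_lit 0xe6d2b)) (.leaf (nat_lit 0x10e6a53))) (.node 1 (.leaf (nat_lit 0x20e6c8c)) (.leaf (nat_lit 0xe7a03)))) (.node 2 (.node 1 (.leaf (nat_lit 0x10e8e43)) (.leaf (nat_lit 0x20e8db3))) (.node 1 (.leaf (nat_lit 0x10e96ca)) (.leaf (nat_lit 0x20e9f2b)))))) (.node 8 (.node 4 (.node 2 (.node 1 (.leaf (nat_lit 0x10eac25)) (.leaf (nat_lit 0x20ea7cf))) (.node 1 (.leaf (nat_lit 0xeb9fa)) (.leaf (nat_lit 0x10eb947)))) (.node 2 (.node 1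 (.leaf (nat_lit 0xecced)) (.leaf (nat_lit 0x20ec438))) (.node 1 (.leaf (nat_lit 0x10ed6bf)) (.leaf (nat_lit 0x20edbd9))))) (.node 4 (.node 2 (.node 1 (.leaf (nat_lit 0x20ee19b)) (.leaf (nat_lit 0xef2ba))) (.node 1 (.leaf (nat_lit 0x10eff27)) (.leaf (nat_lit 0x20efa07)))) (.node 2 (.node 1 (.leaf (nat_lit 0x10f0559)) (.leaf (nat_lit 0x10f1752))) (.node 1 (.leaf (nat_lit 0x20f18ee)) (.leaf (nat_lit 0xf2776))))))))))

/-- A part of `jlev0`. -/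
def jlev0_2 : Tree := (.node 128 (.node 64 (.node 32 (.node 16 (.node 8 (.node 4 (.node 2 (.node 1 (.leaf (nat_lit 0xf3a6f)) (.leaf (nat_lit 0x10f453e))) (.node 1 (.leaf (nat_lit 0x10f5e06)) (.leaf (nat_lit 0x20f56de)))) (.node 2 (.node 1 (.leaf (nat_lit 0x20f6076)) (.leaf (nat_lit 0xf7a42))) (.node 1 (.leaf (nat_lit 0x10f70c1)) (.leaf (nat_lit 0x20f7443))))) (.node 4 (.node 2 (.node 1 (.leaf (nat_lit 0xf8789)) (.leaf (nat_lit 0x10f8400))) (.node 1 (.leaf (nat_lit 0x20f88d2)) (.leaf (nat_lit 0xf94b6)))) (.node 2 (.node 1 (.leaf (nat_lit 0x10f9714)) (.leaf (nat_lit 0x20f9a09))) (.node 1 (.leaf (nat_lit 0x10faf75)) (.leaf (nat_lit 0x20fa971)))))) (.node 8 (.node 4 (.node 2 (.node 1 (.leaf (nat_lit 0x10fb88f)) (.leaf (nat_lit 0x20fb47b))) (.node 1 (.leaf (nat_lit 0x20fd7d8)) (.leaf (nat_lit 0xfebf5)))) (.node 2 (.node 1 (.leaf (nat_lit 0x10fe76f)) (.leaf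 (nat_lit 0x20ffb51))) (.node 1 (.leaf (nat_lit 0x1100292)) (.leaf (nat_lit 0x21001b3))))) (.node 4 (.node 2 (.node 1 (.leaf (nat_lit 0x1018ba)) (.leaf (nat_lit 0x102f3d))) (.node 1 (.leaf (nat_lit 0x1102280)) (.leaf (nat_lit 0x11036aa)))) (.node 2 (.node 1 (.leaf (nat_lit 0x105e47)) (.leaf (nat_lit 0x1105afe))) (.node 1 (.leaf (nat_lit 0x21063c7)) (.leaf (nat_lit 0x210798e))))))) (.node 16 (.node 8 (.node 4 (.node 2 (.node 1 (.leaf (nat_lit 0x11095c1)) (.leaf (nat_lit 0x110a19d))) (.node 1 (.leaf (nat_lit 0x210bf6a)) (.leaf (nat_lit 0x110c7d7)))) (.node 2 (.node 1 (.leaf (nat_lit 0x210d404)) (.leaf (nat_lit 0x10e329))) (.node 1 (.leaf (nat_lit 0x210e86c)) (.leaf (nat_lit 0x210fba6))))) (.node 4 (.node 2 (.node 1 (.leaf (nat_lit 0x2110c95)) (.leaf (nat_lit 0x2111bdc))) (.node 1 (.leaf (nat_lit 0x1112fc6)) (.leaf (nat_lit 0x1114b83)))) (.node 2 (.node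 1 (.leaf (nat_lit 0x2115b65)) (.leaf (nat_lit 0x1116f3e))) (.node 1 (.leaf (nat_lit 0x11172b1)) (.leaf (nat_lit 0x11850f)))))) (.node 8 (.node 4 (.node 2 (.node 1 (.leaf (nat_lit 0x2118d01)) (.leaf (nat_lit 0x11957f))) (.node 1 (.leaf (nat_lit 0x111af7a)) (.leaf (nat_lit 0x111b6c3)))) (.node 2 (.node 1 (.leaf (nat_lit 0x11d9b9)) (.leaf (nat_lit 0x111dbd7))) (.node 1 (.leaf (nat_lit 0x111e8be)) (.leaf (nat_lit 0x111ff77))))) (.node 4 (.node 2 (.node 1 (.leaf (nat_lit 0x212059c)) (.leaf (nat_lit 0x112141b))) (.node 1 (.leaf (nat_lit 0x21213ac)) (.leaf (nat_lit 0x1123117)))) (.node 2 (.node 1 (.leaf (nat_lit 0x125ec3)) (.leaf (nat_lit 0x1125bf7))) (.node 1 (.leaf (nat_lit 0x212697f)) (.leaf (nat_lit 0x128ec9)))))))) (.node 32 (.node 16 (.node 8 (.node 4 (.node 2 (.node 1 (.leaf (nat_lit 0x12ac0e)) (.leaf (nat_lit 0x212a8c3))) (.node 1 (.leaf (nat_lit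 0x12b0af)) (.leaf (nat_lit 0x112bcaa)))) (.node 2 (.node 1 (.leaf (nat_lit 0x212b660)) (.leaf (nat_lit 0x112c3e6))) (.node 1 (.leaf (nat_lit 0x212c6e9)) (.leaf (nat_lit 0x212f46c))))) (.node 4 (.node 2 (.node 1 (.leaf (nat_lit 0x1305e9)) (.leaf (nat_lit 0x1130a4d))) (.node 1 (.leaf (nat_lit 0x1131be8)) (.leaf (nat_lit 0x132802)))) (.node 2 (.node 1 (.leaf (nat_lit 0x1132c35)) (.leaf (nat_lit 0x133a59))) (.node 1 (.leaf (nat_lit 0x1133ba3)) (.leaf (nat_lit 0x2133bbd)))))) (.node 8 (.node 4 (.node 2 (.node 1 (.leaf (nat_lit 0x1135662)) (.leaf (nat_lit 0x13658b))) (.node 1 (.leaf (nat_lit 0x1137411)) (.leaf (nat_lit 0x21370d2)))) (.node 2 (.node 1 (.leaf (nat_lit 0x1139f29)) (.leaf (nat_lit 0x13a3a7))) (.node 1 (.leaf (nat_lit 0x113a5ca)) (.leaf (nat_lit 0x13bb5a))))) (.node 4 (.node 2 (.node 1 (.leaf (nat_lit 0x113b4cd)) (.leaf (nat_lit 0x213be81)))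 (.node 1 (.leaf (nat_lit 0x13cc09)) (.leaf (nat_lit 0x113ccb7)))) (.node 2 (.node 1 (.leaf (nat_lit 0x113dbba)) (.leaf (nat_lit 0x13ef9e))) (.node 1 (.leaf (nat_lit 0x113eb34)) (.leaf (nat_lit 0x213e199))))))) (.node 16 (.node 8 (.node 4 (.node 2 (.node 1 (.leaf (nat_lit 0x1140426)) (.leaf (nat_lit 0x2140cc3))) (.node 1 (.leaf (nat_lit 0x141b58)) (.leaf (nat_lit 0x1141b21)))) (.node 2 (.node 1 (.leaf (nat_lit 0x2143860)) (.leaf (nat_lit 0x214477d))) (.node 1 (.leaf (nat_lit 0x21450d8)) (.leaf (nat_lit 0x14641d))))) (.node 4 (.node 2 (.node 1 (.leaf (nat_lit 0x1146de4)) (.leaf (nat_lit 0x2147c8e))) (.node 1 (.leaf (nat_lit 0x1149508)) (.leaf (nat_lit 0x2149150)))) (.node 2 (.node 1 (.leaf (nat_lit 0x14a16f)) (.leaf (nat_lit 0x14bbdb))) (.node 1 (.leaf (nat_lit 0x214cbfc)) (.leaf (nat_lit 0x14da22)))))) (.node 8 (.node 4 (.node 2 (.node 1 (.leaf (nat_lit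 0x14e8e9)) (.leaf (nat_lit 0x114ff4f))) (.node 1 (.leaf (nat_lit 0x11503d8)) (.leaf (nat_lit 0x2150549)))) (.node 2 (.node 1 (.leaf (nat_lit 0x215162f)) (.leaf (nat_lit 0x1152495))) (.node 1 (.leaf (nat_lit 0x215371f)) (.leaf (nat_lit 0x2155809))))) (.node 4 (.node 2 (.node 1 (.leaf (nat_lit 0x1157def)) (.leaf (nat_lit 0x1588f3))) (.node 1 (.leaf (nat_lit 0x159405)) (.leaf (nat_lit 0x1159a94)))) (.node 2 (.node 1 (.leaf (nat_lit 0x2159862)) (.leaf (nat_lit 0x115a547))) (.node 1 (.leaf (nat_lit 0x15b0ee)) (.leaf (nat_lit 0x115b93e))))))))) (.node 64 (.node 32 (.node 16 (.node 8 (.node 4 (.node 2 (.node 1 (.leaf (nat_lit 0x115c84e)) (.leaf (nat_lit 0x215ddb1))) (.node 1 (.leaf (nat_lit 0x15e5be)) (.leaf (nat_lit 0x2162415)))) (.node 2 (.node 1 (.leaf (nat_lit 0x1631aa)) (.leaf (nat_lit 0x1164876))) (.node 1 (.leaf (nat_lit 0x21651c7)) (.leaf (nat_lit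 0x2167ae4))))) (.node 4 (.node 2 (.node 1 (.leaf (nat_lit 0x2168f46)) (.leaf (nat_lit 0x1169519))) (.node 1 (.leaf (nat_lit 0x116a465)) (.leaf (nat_lit 0x216a11f)))) (.node 2 (.node 1 (.leaf (nat_lit 0x16b79a)) (.leaf (nat_lit 0x16c500))) (.node 1 (.leaf (nat_lit 0x116e602)) (.leaf (nat_lit 0x116f285)))))) (.node 8 (.node 4 (.node 2 (.node 1 (.leaf (nat_lit 0x216faa4)) (.leaf (nat_lit 0x171b85))) (.node 1 (.leaf (nat_lit 0x1171425)) (.leaf (nat_lit 0x173a26)))) (.node 2 (.node 1 (.leaf (nat_lit 0x1173805)) (.leaf (nat_lit 0x21741bd))) (.node 1 (.leaf (nat_lit 0x17512e)) (.leaf (nat_lit 0x11765e4))))) (.node 4 (.node 2 (.node 1 (.leaf (nat_lit 0x177f19)) (.leaf (nat_lit 0x178696))) (.node 1 (.leaf (nat_lit 0x1179012)) (.leaf (nat_lit 0x117b717)))) (.node 2 (.node 1 (.leaf (nat_lit 0x117c759)) (.leaf (nat_lit 0x217c68c))) (.node 1 (.leaf (nat_lit 0x217dfa5))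 (.leaf (nat_lit 0x17ef16))))))) (.node 16 (.node 8 (.node 4 (.node 2 (.node 1 (.leaf (nat_lit 0x17f004)) (.leaf (nat_lit 0x21846a0))) (.node 1 (.leaf (nat_lit 0x118562a)) (.leaf (nat_lit 0x21859df)))) (.node 2 (.node 1 (.leaf (nat_lit 0x18615b)) (.leaf (nat_lit 0x11863c9))) (.node 1 (.leaf (nat_lit 0x1188177)) (.leaf (nat_lit 0x2188314))))) (.node 4 (.node 2 (.node 1 (.leaf (nat_lit 0x189750)) (.leaf (nat_lit 0x18ad73))) (.node 1 (.leaf (nat_lit 0x218aad6)) (.leaf (nat_lit 0x118b3a2)))) (.node 2 (.node 1 (.leaf (nat_lit 0x218b8ca)) (.leaf (nat_lit 0x190566))) (.node 1 (.leaf (nat_lit 0x1190ad3)) (.leaf (nat_lit 0x191874)))))) (.node 8 (.node 4 (.node 2 (.node 1 (.leaf (nat_lit 0x11932c5)) (.leaf (nat_lit 0x2197da9))) (.node 1 (.leaf (nat_lit 0x2198889)) (.leaf (nat_lit 0x19942d)))) (.node 2 (.node 1 (.leaf (nat_lit 0x19ad10)) (.leaf (nat_lit 0x119b7d9)))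 (.node 1 (.leaf (nat_lit 0x119d857)) (.leaf (nat_lit 0x219e992))))) (.node 4 (.node 2 (.node 1 (.leaf (nat_lit 0x219fb4d)) (.leaf (nat_lit 0x1a310e))) (.node 1 (.leaf (nat_lit 0x11a313d)) (.leaf (nat_lit 0x1a6572)))) (.node 2 (.node 1 (.leaf (nat_lit 0x11a6ae8)) (.leaf (nat_lit 0x11abf89))) (.node 1 (.leaf (nat_lit 0x1ae726)) (.leaf (nat_lit 0x21aeeab)))))))) (.node 32 (.node 16 (.node 8 (.node 4 (.node 2 (.node 1 (.leaf (nat_lit 0x1aff99)) (.leaf (nat_lit 0x11afc23))) (.node 1 (.leaf (nat_lit 0x1b1c9b)) (.leaf (nat_lit 0x11b6515)))) (.node 2 (.node 1 (.leaf (nat_lit 0x1b8010)) (.leaf (nat_lit 0x1b98f7))) (.node 1 (.leaf (nat_lit 0x11bc92f)) (.leaf (nat_lit 0x11bd361))))) (.node 4 (.node 2 (.node 1 (.leaf (nat_lit 0x11c0c32)) (.leaf (nat_lit 0x21c3e7a))) (.node 1 (.leaf (nat_lit 0x1c42b4)) (.leaf (nat_lit 0x1c67b2)))) (.node 2 (.node 1 (.leaf (nat_lit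 0x1d29a5)) (.leaf (nat_lit 0x21d3e10))) (.node 1 (.leaf (nat_lit 0x11d95b4)) (.leaf (nat_lit 0x1dbc18)))))) (.node 8 (.node 4 (.node 2 (.node 1 (.leaf (nat_lit 0x21dc530)) (.leaf (nat_lit 0x1dd5e6))) (.node 1 (.leaf (nat_lit 0x21dfd7d)) (.leaf (nat_lit 0x21e338a)))) (.node 2 (.node 1 (.leaf (nat_lit 0x21e68c0)) (.leaf (nat_lit 0x21e856e))) (.node 1 (.leaf (nat_lit 0x21e9728)) (.leaf (nat_lit 0x11ebb1a))))) (.node 4 (.node 2 (.node 1 (.leaf (nat_lit 0x21eb7c7)) (.leaf (nat_lit 0x11ec9b3))) (.node 1 (.leaf (nat_lit 0x11edaa1)) (.leaf (nat_lit 0x21ed2a1)))) (.node 2 (.node 1 (.leaf (nat_lit 0x11eef0a)) (.leaf (nat_lit 0x11effce))) (.node 1 (.leaf (nat_lit 0x11f0ba5)) (.leaf (nat_lit 0x21f08fa))))))) (.node 16 (.node 8 (.node 4 (.node 2 (.node 1 (.leaf (nat_lit 0x1f400c)) (.leaf (nat_lit 0x21f8ad4))) (.node 1 (.leaf (nat_lit 0x11f9009)) (.leaf (nat_lit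 0x1fbc6c)))) (.node 2 (.node 1 (.leaf (nat_lit 0x21fc47f)) (.leaf (nat_lit 0x11fff40))) (.node 1 (.leaf (nat_lit 0x22034b8)) (.leaf (nat_lit 0x22079b2))))) (.node 4 (.node 2 (.node 1 (.leaf (nat_lit 0x1208c06)) (.leaf (nat_lit 0x1210f08))) (.node 1 (.leaf (nat_lit 0x22106c8)) (.leaf (nat_lit 0x121cc07)))) (.node 2 (.node 1 (.leaf (nat_lit 0x21f8b8)) (.leaf (nat_lit 0x220877))) (.node 1 (.leaf (nat_lit 0x2227390)) (.leaf (nat_lit 0x22aac6)))))) (.node 8 (.node 4 (.node 2 (.node 1 (.leaf (nat_lit 0x222ccbe)) (.leaf (nat_lit 0x1231493))) (.node 1 (.leaf (nat_lit 0x235bbf)) (.leaf (nat_lit 0x12353ed)))) (.node 2 (.node 1 (.leaf (nat_lit 0x236d06)) (.leaf (nat_lit 0x23a6cc))) (.node 1 (.leaf (nat_lit 0x123a4c1)) (.leaf (nat_lit 0x223da80))))) (.node 4 (.node 2 (.node 1 (.leaf (nat_lit 0x241741)) (.leaf (nat_lit 0x2243b5b))) (.node 1 (.leaf (nat_lit 0x244838))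 (.leaf (nat_lit 0x2246402)))) (.node 2 (.node 1 (.leaf (nat_lit 0x2486b9)) (.leaf (nat_lit 0x24900b))) (.node 1 (.leaf (nat_lit 0x124cc78)) (.leaf (nat_lit 0x24dce3))))))))))

/-- A part of `jlev0`. -/
def jlev0_3 : Tree := (.node 6 (.node 3 (.node 1 (.leaf (nat_lit 0x124f6cf)) (.node 1 (.leaf (nat_lit 0x2251ca5)) (.leaf (nat_lit 0x22582ec)))) (.node 1 (.leaf (nat_lit 0x25b4e1)) (.node 1 (.leaf (nat_lit 0x26159a)) (.leaf (nat_lit 0x226524f))))) (.node 3 (.node 1 (.leaf (nat_lit 0x2270cef)) (.node 1 (.leaf (nat_lit 0x127b518)) (.leaf (nat_lit 0x2295a58)))) (.node 1 (.leaf (nat_lit 0x2aff47)) (.node 1 (.leaf (nat_lit 0x22ca95f)) (.leaf (nat_lit 0x12d55db))))))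

/-- A level of the chain of a far point. -/
def jlev0 : Tree := (.node 512 (.node 256 jlev0_0 jlev0_1) (.node 256 jlev0_2 jlev0_3))

/-- A level of the chain of a far point. -/
def jlev1 : Tree := (.node 10 (.node 5 (.node 2 (.node 1 (.leaf (nat_lit 0xe55)) (.leaf (nat_lit 0xd3d))) (.node 1 (.leaf (nat_lit 0x1000390)) (.node 1 (.leaf (nat_lit 0x2000b4d)) (.leaf (nat_lit 0x1001b8d))))) (.node 2 (.node 1 (.leaf (nat_lit 0x2001af2)) (.leaf (nat_lit 0x2736))) (.node 1 (.leaf (nat_lit 0x200250f)) (.node 1 (.leaf (nat_lit 0x1003bb8)) (.leaf (nat_lit 0x20035d3)))))) (.node 5 (.node 2 (.node 1 (.leaf (nat_lit 0x2004ea7)) (.leaf (nat_lit 0x100538e))) (.node 1 (.leaf (nat_lit 0x1006c5d)) (.node 1 (.leaf (nat_lit 0x20060b2)) (.leaf (nat_lit 0x1007763))))) (.node 2 (.node 1 (.leaf (nat_lit 0x20079c8)) (.leaf (nat_lit 0x1009b7a))) (.node 1 (.leaf (nat_lit 0x20093c3))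 (.node 1 (.leaf (nat_lit 0x100aac0)) (.leaf (nat_lit 0x200a877)))))))

/-- An orbit. -/
def orbP0 : Tree := (.leaf (nat_lit 0xd1f))

/-- An orbit. -/
def orbP1 : Tree := (.node 5 (.node 2 (.node 1 (.leaf (nat_lit 0xc51)) (.leaf (nat_lit 0x475))) (.node 1 (.leaf (nat_lit 0x1000bf4)) (.node 1 (.leaf (nat_lit 0x1732)) (.leaf (nat_lit 0x100214c))))) (.node 2 (.node 1 (.leaf (nat_lit 0x3654)) (.leaf (nat_lit 0x1003c98))) (.node 1 (.leaf (nat_lit 0x416f)) (.node 1 (.leaf (nat_lit 0x1006fa3)) (.leaf (nat_lit 0x1007b1c))))))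

/-- An orbit. -/
def orbP2 : Tree := (.node 40 (.node 20 (.node 10 (.node 5 (.node 2 (.node 1 (.leaf (nat_lit 0xda9)) (.leaf (nat_lit 0x669))) (.node 1 (.leaf (nat_lit 0x1000522)) (.node 1 (.leaf (nat_lit 0x10e3)) (.leaf (nat_lit 0x100124f))))) (.node 2 (.node 1 (.leaf (nat_lit 0x2ed6)) (.leaf (nat_lit 0x1002947))) (.node 1 (.leaf (nat_lit 0x3781)) (.node 1 (.leaf (nat_lit 0x10038f8)) (.leaf (nat_lit 0x4149)))))) (.node 5 (.node 2 (.node 1 (.leaf (nat_lit 0x10045bf)) (.leaf (nat_lit 0x53ac))) (.node 1 (.leaf (nat_lit 0x10050a7)) (.node 1 (.leaf (nat_lit 0x6031)) (.leaf (nat_lit 0x1006404))))) (.node 2 (.node 1 (.leaf (nat_lit 0x82a6)) (.leaf (nat_lit 0x1008c2c))) (.node 1 (.leaf (nat_lit 0x10091ec)) (.node 1 (.leaf (nat_lit 0xaa73)) (.leaf (nat_lit 0x100a91f))))))) (.node 10 (.node 5 (.node 2 (.node 1 (.leaf (nat_lit 0xc6e0)) (.leaf (nat_lit 0x100cc84)))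 (.node 1 (.leaf (nat_lit 0xd48c)) (.node 1 (.leaf (nat_lit 0xe8e1)) (.leaf (nat_lit 0x100e491))))) (.node 2 (.node 1 (.leaf (nat_lit 0xf59c)) (.leaf (nat_lit 0x100fec1))) (.node 1 (.leaf (nat_lit 0x10102c6)) (.node 1 (.leaf (nat_lit 0x10114cb)) (.leaf (nat_lit 0x1300c)))))) (.node 5 (.node 2 (.node 1 (.leaf (nat_lit 0x1013d9b)) (.leaf (nat_lit 0x14c43))) (.node 1 (.leaf (nat_lit 0x101471d)) (.node 1 (.leaf (nat_lit 0x1015934)) (.leaf (nat_lit 0x1016213))))) (.node 2 (.node 1 (.leaf (nat_lit 0x17d59)) (.leaf (nat_lit 0x101755d))) (.node 1 (.leaf (nat_lit 0x1837c)) (.node 1 (.leaf (nat_lit 0x1018752)) (.leaf (nat_lit 0x1921a)))))))) (.node 20 (.node 10 (.node 5 (.node 2 (.node 1 (.leaf (nat_lit 0x1019d72)) (.leaf (nat_lit 0x1b84e))) (.node 1 (.leaf (nat_lit 0x101bd20)) (.node 1 (.leaf (nat_lit 0x1ce2f)) (.leaf (nat_lit 0x1df08))))) (.node 2 (.node 1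 (.leaf (nat_lit 0x101d4ae)) (.leaf (nat_lit 0x101e323))) (.node 1 (.leaf (nat_lit 0x1f06b)) (.node 1 (.leaf (nat_lit 0x101f9f6)) (.leaf (nat_lit 0x20a36)))))) (.node 5 (.node 2 (.node 1 (.leaf (nat_lit 0x1020c18)) (.leaf (nat_lit 0x21251))) (.node 1 (.leaf (nat_lit 0x2277e)) (.node 1 (.leaf (nat_lit 0x1022fa2)) (.leaf (nat_lit 0x23534))))) (.node 2 (.node 1 (.leaf (nat_lit 0x24958)) (.leaf (nat_lit 0x25da8))) (.node 1 (.leaf (nat_lit 0x1025ac6)) (.node 1 (.leaf (nat_lit 0x26741)) (.leaf (nat_lit 0x10265e7))))))) (.node 10 (.node 5 (.node 2 (.node 1 (.leaf (nat_lit 0x2995f)) (.leaf (nat_lit 0x2ae87))) (.node 1 (.leaf (nat_lit 0x102a319)) (.node 1 (.leaf (nat_lit 0x2b451)) (.leaf (nat_lit 0x102deb0))))) (.node 2 (.node 1 (.leaf (nat_lit 0x2e8cb)) (.leaf (nat_lit 0x102e503))) (.node 1 (.leaf (nat_lit 0x102f01c)) (.node 1 (.leaf (nat_lit 0x304bf)) (.leaf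 (nat_lit 0x32e84)))))) (.node 5 (.node 2 (.node 1 (.leaf (nat_lit 0x33405)) (.leaf (nat_lit 0x34d38))) (.node 1 (.leaf (nat_lit 0x1038764)) (.node 1 (.leaf (nat_lit 0x3bec3)) (.leaf (nat_lit 0x103bc1b))))) (.node 2 (.node 1 (.leaf (nat_lit 0x103eb50)) (.leaf (nat_lit 0x1043ea6))) (.node 1 (.leaf (nat_lit 0x448ca)) (.node 1 (.leaf (nat_lit 0x10441a4)) (.leaf (nat_lit 0x10466ba)))))))))

/-- A part of `orbP3`. -/
def orbP3_0 : Tree := (.node 128 (.node 64 (.node 32 (.node 16 (.node 8 (.node 4 (.node 2 (.node 1 (.leaf (nat_lit 0xa38)) (.leaf (nat_lit 0x61f))) (.node 1 (.leaf (nat_lit 0x1000c1c)) (.leaf (nat_lit 0x10c6)))) (.node 2 (.node 1 (.leaf (nat_lit 0x1001955)) (.leaf (nat_lit 0x2437))) (.node 1 (.leaf (nat_lit 0x1002f9a)) (.leaf (nat_lit 0x3e68))))) (.node 4 (.node 2 (.node 1 (.leaf (nat_lit 0x1003bda)) (.leaf (nat_lit 0x4f9c))) (.node 1 (.leaf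 (nat_lit 0x100454b)) (.leaf (nat_lit 0x5543)))) (.node 2 (.node 1 (.leaf (nat_lit 0x1005c6c)) (.leaf (nat_lit 0x6776))) (.node 1 (.leaf (nat_lit 0x1006c8e)) (.leaf (nat_lit 0x766f)))))) (.node 8 (.node 4 (.node 2 (.node 1 (.leaf (nat_lit 0x10073d5)) (.leaf (nat_lit 0x84e2))) (.node 1 (.leaf (nat_lit 0x100834a)) (.leaf (nat_lit 0x96df)))) (.node 2 (.node 1 (.leaf (nat_lit 0x1009b3a)) (.leaf (nat_lit 0xabe1))) (.node 1 (.leaf (nat_lit 0x100abe8)) (.leaf (nat_lit 0xb9c7))))) (.node 4 (.node 2 (.node 1 (.leaf (nat_lit 0x100b862)) (.leaf (nat_lit 0xca4a))) (.node 1 (.leaf (nat_lit 0x100c8ba)) (.leaf (nat_lit 0xd3d9)))) (.node 2 (.node 1 (.leaf (nat_lit 0x100d19f)) (.leaf (nat_lit 0xe249))) (.node 1 (.leaf (nat_lit 0x100edee)) (.leaf (nat_lit 0xff18))))))) (.node 16 (.node 8 (.node 4 (.node 2 (.node 1 (.leaf (nat_lit 0x100f7ce)) (.leaf (nat_lit 0x10bae)))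 (.node 1 (.leaf (nat_lit 0x10108c3)) (.leaf (nat_lit 0x114d5)))) (.node 2 (.node 1 (.leaf (nat_lit 0x1011481)) (.leaf (nat_lit 0x129c9))) (.node 1 (.leaf (nat_lit 0x1012857)) (.leaf (nat_lit 0x13756))))) (.node 4 (.node 2 (.node 1 (.leaf (nat_lit 0x101371b)) (.leaf (nat_lit 0x14230))) (.node 1 (.leaf (nat_lit 0x1014f8b)) (.leaf (nat_lit 0x15a47)))) (.node 2 (.node 1 (.leaf (nat_lit 0x101561a)) (.leaf (nat_lit 0x1619b))) (.node 1 (.leaf (nat_lit 0x101688b)) (.leaf (nat_lit 0x1854a)))))) (.node 8 (.node 4 (.node 2 (.node 1 (.leaf (nat_lit 0x1018bba)) (.leaf (nat_lit 0x19fd3))) (.node 1 (.leaf (nat_lit 0x10196b0)) (.leaf (nat_lit 0x1aa6c)))) (.node 2 (.node 1 (.leaf (nat_lit 0x101a4fd)) (.leaf (nat_lit 0x1be19))) (.node 1 (.leaf (nat_lit 0x101b0c4)) (.leaf (nat_lit 0x1ca06))))) (.node 4 (.node 2 (.node 1 (.leaf (nat_lit 0x101c900)) (.leaf (nat_lit 0x1de55)))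 (.node 1 (.leaf (nat_lit 0x101db11)) (.leaf (nat_lit 0x1eb21)))) (.node 2 (.node 1 (.leaf (nat_lit 0x101e322)) (.leaf (nat_lit 0x1fc03))) (.node 1 (.leaf (nat_lit 0x101f02b)) (.leaf (nat_lit 0x201b3)))))))) (.node 32 (.node 16 (.node 8 (.node 4 (.node 2 (.node 1 (.leaf (nat_lit 0x10200ec)) (.leaf (nat_lit 0x21c0f))) (.node 1 (.leaf (nat_lit 0x102138d)) (.leaf (nat_lit 0x2201b)))) (.node 2 (.node 1 (.leaf (nat_lit 0x1022b1a)) (.leaf (nat_lit 0x23347))) (.node 1 (.leaf (nat_lit 0x10239ca)) (.leaf (nat_lit 0x2498e))))) (.node 4 (.node 2 (.node 1 (.leaf (nat_lit 0x10242f3)) (.leaf (nat_lit 0x254dd))) (.node 1 (.leaf (nat_lit 0x1025971)) (.leaf (nat_lit 0x26880)))) (.node 2 (.node 1 (.leaf (nat_lit 0x10268ff)) (.leaf (nat_lit 0x1027da7))) (.node 1 (.leaf (nat_lit 0x283c9)) (.leaf (nat_lit 0x1028786)))))) (.node 8 (.node 4 (.node 2 (.node 1 (.leaf (nat_lit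 0x29377)) (.leaf (nat_lit 0x10299be))) (.node 1 (.leaf (nat_lit 0x102a1d2)) (.leaf (nat_lit 0x2bf1a)))) (.node 2 (.node 1 (.leaf (nat_lit 0x102b6f9)) (.leaf (nat_lit 0x102c3ec))) (.node 1 (.leaf (nat_lit 0x2d139)) (.leaf (nat_lit 0x102def9))))) (.node 4 (.node 2 (.node 1 (.leaf (nat_lit 0x2e682)) (.leaf (nat_lit 0x102eece))) (.node 1 (.leaf (nat_lit 0x2f011)) (.leaf (nat_lit 0x102f9ae)))) (.node 2 (.node 1 (.leaf (nat_lit 0x30bb0)) (.leaf (nat_lit 0x10305e5))) (.node 1 (.leaf (nat_lit 0x31622)) (.leaf (nat_lit 0x1031a6f))))))) (.node 16 (.node 8 (.node 4 (.node 2 (.node 1 (.leaf (nat_lit 0x32b8d)) (.leaf (nat_lit 0x1032352))) (.node 1 (.leaf (nat_lit 0x3368c)) (.leaf (nat_lit 0x1033ccf)))) (.node 2 (.node 1 (.leaf (nat_lit 0x34e2c)) (.leaf (nat_lit 0x1034b7f))) (.node 1 (.leaf (nat_lit 0x10358d2)) (.leaf (nat_lit 0x362e7))))) (.node 4 (.node 2 (.node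 1 (.leaf (nat_lit 0x103638a)) (.leaf (nat_lit 0x37c34))) (.node 1 (.leaf (nat_lit 0x1037a48)) (.leaf (nat_lit 0x10382b1)))) (.node 2 (.node 1 (.leaf (nat_lit 0x39823)) (.leaf (nat_lit 0x10394f5))) (.node 1 (.leaf (nat_lit 0x103a87e)) (.leaf (nat_lit 0x3b873)))))) (.node 8 (.node 4 (.node 2 (.node 1 (.leaf (nat_lit 0x103b442)) (.leaf (nat_lit 0x3c711))) (.node 1 (.leaf (nat_lit 0x103c7fa)) (.leaf (nat_lit 0x3d00b)))) (.node 2 (.node 1 (.leaf (nat_lit 0x103dbd2)) (.leaf (nat_lit 0x103e9f0))) (.node 1 (.leaf (nat_lit 0x3fdcc)) (.leaf (nat_lit 0x103f2b9))))) (.node 4 (.node 2 (.node 1 (.leaf (nat_lit 0x1040699)) (.leaf (nat_lit 0x41c0c))) (.node 1 (.leaf (nat_lit 0x1041ef7)) (.leaf (nat_lit 0x42650)))) (.node 2 (.node 1 (.leaf (nat_lit 0x1042ca0)) (.leaf (nat_lit 0x43693))) (.node 1 (.leaf (nat_lit 0x10436af)) (.leaf (nat_lit 0x44443))))))))) (.node 64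 (.node 32 (.node 16 (.node 8 (.node 4 (.node 2 (.node 1 (.leaf (nat_lit 0x1044ee3)) (.leaf (nat_lit 0x1045b9f))) (.node 1 (.leaf (nat_lit 0x461ae)) (.leaf (nat_lit 0x104625f)))) (.node 2 (.node 1 (.leaf (nat_lit 0x4712d)) (.leaf (nat_lit 0x1047051))) (.node 1 (.leaf (nat_lit 0x48c79)) (.leaf (nat_lit 0x1048ac4))))) (.node 4 (.node 2 (.node 1 (.leaf (nat_lit 0x49457)) (.leaf (nat_lit 0x1049dd2))) (.node 1 (.leaf (nat_lit 0x104ae0f)) (.leaf (nat_lit 0x4bb1f)))) (.node 2 (.node 1 (.leaf (nat_lit 0x104b79a)) (.leaf (nat_lit 0x4ce81))) (.node 1 (.leaf (nat_lit 0x104c65a)) (.leaf (nat_lit 0x4dc28)))))) (.node 8 (.node 4 (.node 2 (.node 1 (.leaf (nat_lit 0x104dc07)) (.leaf (nat_lit 0x4e9ab))) (.node 1 (.leaf (nat_lit 0x104ef94)) (.leaf (nat_lit 0x4f42f)))) (.node 2 (.node 1 (.leaf (nat_lit 0x104fca6)) (.leaf (nat_lit 0x5039e))) (.node 1 (.leaf (nat_lit 0x10502b2))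 (.leaf (nat_lit 0x51653))))) (.node 4 (.node 2 (.node 1 (.leaf (nat_lit 0x1051e86)) (.leaf (nat_lit 0x52e43))) (.node 1 (.leaf (nat_lit 0x1053e6e)) (.leaf (nat_lit 0x10549b3)))) (.node 2 (.node 1 (.leaf (nat_lit 0x55537)) (.leaf (nat_lit 0x10559c8))) (.node 1 (.leaf (nat_lit 0x56928)) (.leaf (nat_lit 0x1056124))))))) (.node 16 (.node 8 (.node 4 (.node 2 (.node 1 (.leaf (nat_lit 0x5765c)) (.leaf (nat_lit 0x1057ef4))) (.node 1 (.leaf (nat_lit 0x5808b)) (.leaf (nat_lit 0x10587d0)))) (.node 2 (.node 1 (.leaf (nat_lit 0x105956a)) (.leaf (nat_lit 0x5aa4b))) (.node 1 (.leaf (nat_lit 0x105ae41)) (.leaf (nat_lit 0x5b760))))) (.node 4 (.node 2 (.node 1 (.leaf (nat_lit 0x105b4cd)) (.leaf (nat_lit 0x5cc8f))) (.node 1 (.leaf (nat_lit 0x105cb75)) (.leaf (nat_lit 0x5d638)))) (.node 2 (.node 1 (.leaf (nat_lit 0x105dc09)) (.leaf (nat_lit 0x105ebdf))) (.node 1 (.leaf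 (nat_lit 0x5f4ac)) (.leaf (nat_lit 0x105f729)))))) (.node 8 (.node 4 (.node 2 (.node 1 (.leaf (nat_lit 0x60cb3)) (.leaf (nat_lit 0x1060363))) (.node 1 (.leaf (nat_lit 0x61af4)) (.leaf (nat_lit 0x106132b)))) (.node 2 (.node 1 (.leaf (nat_lit 0x62753)) (.leaf (nat_lit 0x1062cbe))) (.node 1 (.leaf (nat_lit 0x1063f99)) (.leaf (nat_lit 0x6447b))))) (.node 4 (.node 2 (.node 1 (.leaf (nat_lit 0x1064017)) (.leaf (nat_lit 0x65a2c))) (.node 1 (.leaf (nat_lit 0x106573c)) (.leaf (nat_lit 0x668d5)))) (.node 2 (.node 1 (.leaf (nat_lit 0x10669f8)) (.leaf (nat_lit 0x6747e))) (.node 1 (.leaf (nat_lit 0x1067073)) (.leaf (nat_lit 0x683c7)))))))) (.node 32 (.node 16 (.node 8 (.node 4 (.node 2 (.node 1 (.leaf (nat_lit 0x1068d12)) (.leaf (nat_lit 0x69b49))) (.node 1 (.leaf (nat_lit 0x10698d9)) (.leaf (nat_lit 0x6a15e)))) (.node 2 (.node 1 (.leaf (nat_lit 0x106ab8f)) (.leaf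 (nat_lit 0x6bf19))) (.node 1 (.leaf (nat_lit 0x106c1b9)) (.leaf (nat_lit 0x106de9f))))) (.node 4 (.node 2 (.node 1 (.leaf (nat_lit 0x6ed86)) (.leaf (nat_lit 0x106e5a8))) (.node 1 (.leaf (nat_lit 0x6f641)) (.leaf (nat_lit 0x106ff96)))) (.node 2 (.node 1 (.leaf (nat_lit 0x70819)) (.leaf (nat_lit 0x1070acc))) (.node 1 (.leaf (nat_lit 0x71b83)) (.leaf (nat_lit 0x107194c)))))) (.node 8 (.node 4 (.node 2 (.node 1 (.leaf (nat_lit 0x107219d)) (.leaf (nat_lit 0x1073647))) (.node 1 (.leaf (nat_lit 0x7423e)) (.leaf (nat_lit 0x1074f5b)))) (.node 2 (.node 1 (.leaf (nat_lit 0x75c71)) (.leaf (nat_lit 0x1075440))) (.node 1 (.leaf (nat_lit 0x76f8a)) (.leaf (nat_lit 0x1076f0c))))) (.node 4 (.node 2 (.node 1 (.leaf (nat_lit 0x77fa6)) (.leaf (nat_lit 0x10775c1))) (.node 1 (.leaf (nat_lit 0x78197)) (.leaf (nat_lit 0x1078590)))) (.node 2 (.node 1 (.leaf (nat_lit 0x107927b))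 (.leaf (nat_lit 0x7a3a5))) (.node 1 (.leaf (nat_lit 0x107aaf6)) (.leaf (nat_lit 0x107b344))))))) (.node 16 (.node 8 (.node 4 (.node 2 (.node 1 (.leaf (nat_lit 0x7ca22)) (.leaf (nat_lit 0x107d2c3))) (.node 1 (.leaf (nat_lit 0x7fd78)) (.leaf (nat_lit 0x107ffc1)))) (.node 2 (.node 1 (.leaf (nat_lit 0x1080a07)) (.leaf (nat_lit 0x1081b60))) (.node 1 (.leaf (nat_lit 0x82b85)) (.leaf (nat_lit 0x1082a74))))) (.node 4 (.node 2 (.node 1 (.leaf (nat_lit 0x1083813)) (.leaf (nat_lit 0x10841e9))) (.node 1 (.leaf (nat_lit 0x859b9)) (.leaf (nat_lit 0x1085f9b)))) (.node 2 (.node 1 (.leaf (nat_lit 0x86f7f)) (.leaf (nat_lit 0x87c0b))) (.node 1 (.leaf (nat_lit 0x1087378)) (.leaf (nat_lit 0x1088f3c)))))) (.node 8 (.node 4 (.node 2 (.node 1 (.leaf (nat_lit 0x89b45)) (.leaf (nat_lit 0x1089348))) (.node 1 (.leaf (nat_lit 0x8a114)) (.leaf (nat_lit 0x108adef)))) (.node 2 (.node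 1 (.leaf (nat_lit 0x108b121)) (.leaf (nat_lit 0x8cf77))) (.node 1 (.leaf (nat_lit 0x108c87d)) (.leaf (nat_lit 0x8d035))))) (.node 4 (.node 2 (.node 1 (.leaf (nat_lit 0x108d3a4)) (.leaf (nat_lit 0x8e575))) (.node 1 (.leaf (nat_lit 0x108e3ea)) (.leaf (nat_lit 0x108fba7)))) (.node 2 (.node 1 (.leaf (nat_lit 0x90b04)) (.leaf (nat_lit 0x10907d1))) (.node 1 (.leaf (nat_lit 0x9153e)) (.leaf (nat_lit 0x1091bd3))))))))))

/-- A part of `orbP3`. -/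
def orbP3_1 : Tree := (.node 128 (.node 64 (.node 32 (.node 16 (.node 8 (.node 4 (.node 2 (.node 1 (.leaf (nat_lit 0x92fa5)) (.leaf (nat_lit 0x1092709))) (.node 1 (.leaf (nat_lit 0x93a75)) (.leaf (nat_lit 0x1093827)))) (.node 2 (.node 1 (.leaf (nat_lit 0x94324)) (.leaf (nat_lit 0x1094710))) (.node 1 (.leaf (nat_lit 0x10959ba)) (.leaf (nat_lit 0x9688d))))) (.node 4 (.node 2 (.node 1 (.leaf (nat_lit 0x1096b18)) (.leaf (nat_lit 0x1098a0e))) (.node 1 (.leaf (nat_lit 0x9a6bf)) (.leaf (nat_lit 0x109a129)))) (.node 2 (.node 1 (.leaf (nat_lit 0x9be7d)) (.leaf (nat_lit 0x9ca3c))) (.node 1 (.leaf (nat_lit 0x109cb4d)) (.leaf (nat_lit 0x9dc99)))))) (.node 8 (.node 4 (.node 2 (.node 1 (.leaf (nat_lit 0x109db54)) (.leaf (nat_lit 0x109e40d))) (.node 1 (.leaf (nat_lit 0x9ff75)) (.leaf (nat_lit 0x109f35e)))) (.node 2 (.node 1 (.leaf (nat_lit 0xa0eb7)) (.leaf (nat_lit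 0x10a068a))) (.node 1 (.leaf (nat_lit 0xa177c)) (.leaf (nat_lit 0x10a105a))))) (.node 4 (.node 2 (.node 1 (.leaf (nat_lit 0xa29d1)) (.leaf (nat_lit 0x10a210e))) (.node 1 (.leaf (nat_lit 0xa338c)) (.leaf (nat_lit 0xa414e)))) (.node 2 (.node 1 (.leaf (nat_lit 0x10a5737)) (.leaf (nat_lit 0xa6e57))) (.node 1 (.leaf (nat_lit 0x10a6406)) (.leaf (nat_lit 0x10a789b))))))) (.node 16 (.node 8 (.node 4 (.node 2 (.node 1 (.leaf (nat_lit 0xa81b2)) (.leaf (nat_lit 0x10a902a))) (.node 1 (.leaf (nat_lit 0xabeb5)) (.leaf (nat_lit 0x10abf1b)))) (.node 2 (.node 1 (.leaf (nat_lit 0x10ac7d9)) (.leaf (nat_lit 0x10adb25))) (.node 1 (.leaf (nat_lit 0xaef40)) (.leaf (nat_lit 0x10ae490))))) (.node 4 (.node 2 (.node 1 (.leaf (nat_lit 0x10b024d)) (.leaf (nat_lit 0xb1efb))) (.node 1 (.leaf (nat_lit 0x10b1e49)) (.leaf (nat_lit 0xb24c5)))) (.node 2 (.node 1 (.leaf (nat_lit 0xb3cf6))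 (.leaf (nat_lit 0x10b3ad3))) (.node 1 (.leaf (nat_lit 0x10b493f)) (.leaf (nat_lit 0xb5e16)))))) (.node 8 (.node 4 (.node 2 (.node 1 (.leaf (nat_lit 0x10b580b)) (.leaf (nat_lit 0xb6fc4))) (.node 1 (.leaf (nat_lit 0x10b6588)) (.leaf (nat_lit 0x10b7838)))) (.node 2 (.node 1 (.leaf (nat_lit 0xb8cd2)) (.leaf (nat_lit 0x10b8ea0))) (.node 1 (.leaf (nat_lit 0xb97f9)) (.leaf (nat_lit 0x10b9486))))) (.node 4 (.node 2 (.node 1 (.leaf (nat_lit 0xba018)) (.leaf (nat_lit 0x10ba5b5))) (.node 1 (.leaf (nat_lit 0x10bb070)) (.leaf (nat_lit 0xbc234)))) (.node 2 (.node 1 (.leaf (nat_lit 0x10bc312)) (.leaf (nat_lit 0xbd3e0))) (.node 1 (.leaf (nat_lit 0x10bd97e)) (.leaf (nat_lit 0xbe9df)))))))) (.node 32 (.node 16 (.node 8 (.node 4 (.node 2 (.node 1 (.leaf (nat_lit 0x10be9c6)) (.leaf (nat_lit 0xbf015))) (.node 1 (.leaf (nat_lit 0x10bf2b7)) (.leaf (nat_lit 0xc071f)))) (.node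 2 (.node 1 (.leaf (nat_lit 0x10c02b4)) (.leaf (nat_lit 0x10c163c))) (.node 1 (.leaf (nat_lit 0xc24f6)) (.leaf (nat_lit 0x10c2690))))) (.node 4 (.node 2 (.node 1 (.leaf (nat_lit 0x10c4e33)) (.leaf (nat_lit 0xc68fb))) (.node 1 (.leaf (nat_lit 0x10c6624)) (.leaf (nat_lit 0xc7a88)))) (.node 2 (.node 1 (.leaf (nat_lit 0xc8529)) (.leaf (nat_lit 0x10c8917))) (.node 1 (.leaf (nat_lit 0xc9c50)) (.leaf (nat_lit 0x10c94da)))))) (.node 8 (.node 4 (.node 2 (.node 1 (.leaf (nat_lit 0x10ca817)) (.leaf (nat_lit 0xcbb7e))) (.node 1 (.leaf (nat_lit 0x10cb727)) (.leaf (nat_lit 0xccfa1)))) (.node 2 (.node 1 (.leaf (nat_lit 0x10ccf68)) (.leaf (nat_lit 0xcdf14))) (.node 1 (.leaf (nat_lit 0x10cd881)) (.leaf (nat_lit 0x10ce42d))))) (.node 4 (.node 2 (.node 1 (.leaf (nat_lit 0xcf79e)) (.leaf (nat_lit 0xd0bdb))) (.node 1 (.leaf (nat_lit 0xd1792)) (.leaf (nat_lit 0xd5785))))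 (.node 2 (.node 1 (.leaf (nat_lit 0x10d542e)) (.leaf (nat_lit 0xd733c))) (.node 1 (.leaf (nat_lit 0xdb875)) (.leaf (nat_lit 0x10dbcc2))))))) (.node 16 (.node 8 (.node 4 (.node 2 (.node 1 (.leaf (nat_lit 0x10dcc5f)) (.leaf (nat_lit 0xdd002))) (.node 1 (.leaf (nat_lit 0x10dd909)) (.leaf (nat_lit 0xdefa8)))) (.node 2 (.node 1 (.leaf (nat_lit 0xdf712)) (.leaf (nat_lit 0x10df5b4))) (.node 1 (.leaf (nat_lit 0xe0d81)) (.leaf (nat_lit 0x10e00cf))))) (.node 4 (.node 2 (.node 1 (.leaf (nat_lit 0x10e1c75)) (.leaf (nat_lit 0xe20c1))) (.node 1 (.leaf (nat_lit 0x10e2c2f)) (.leaf (nat_lit 0xe44e1)))) (.node 2 (.node 1 (.leaf (nat_lit 0x10e455c)) (.leaf (nat_lit 0x10e5aaa))) (.node 1 (.leaf (nat_lit 0x10e68d1)) (.leaf (nat_lit 0xe7fc3)))))) (.node 8 (.node 4 (.node 2 (.node 1 (.leaf (nat_lit 0x10e78f7)) (.leaf (nat_lit 0x10e8faa))) (.node 1 (.leaf (nat_lit 0xe9ed9))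 (.leaf (nat_lit 0xebebc)))) (.node 2 (.node 1 (.leaf (nat_lit 0x10eb572)) (.leaf (nat_lit 0xec6e8))) (.node 1 (.leaf (nat_lit 0x10ec00d)) (.leaf (nat_lit 0xed04a))))) (.node 4 (.node 2 (.node 1 (.leaf (nat_lit 0x10ed65d)) (.leaf (nat_lit 0xeedaa))) (.node 1 (.leaf (nat_lit 0x10eea1f)) (.leaf (nat_lit 0xef613)))) (.node 2 (.node 1 (.leaf (nat_lit 0x10efba6)) (.leaf (nat_lit 0xf0728))) (.node 1 (.leaf (nat_lit 0x10f0788)) (.leaf (nat_lit 0xf1ba4))))))))) (.node 64 (.node 32 (.node 16 (.node 8 (.node 4 (.node 2 (.node 1 (.leaf (nat_lit 0x10f18f3)) (.leaf (nat_lit 0x10f2008))) (.node 1 (.leaf (nat_lit 0x10f406e)) (.leaf (nat_lit 0x10f53e6)))) (.node 2 (.node 1 (.leaf (nat_lit 0xf6170)) (.leaf (nat_lit 0x10f6d0f))) (.node 1 (.leaf (nat_lit 0xf7632)) (.leaf (nat_lit 0x10f7bc8))))) (.node 4 (.node 2 (.node 1 (.leaf (nat_lit 0xf8a2d)) (.leaf (nat_lit 0xf92cc)))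 (.node 1 (.leaf (nat_lit 0x10f9c33)) (.leaf (nat_lit 0xfa36a)))) (.node 2 (.node 1 (.leaf (nat_lit 0x10fa6cf)) (.leaf (nat_lit 0xfb1ab))) (.node 1 (.leaf (nat_lit 0x10fbfa7)) (.leaf (nat_lit 0xfc126)))))) (.node 8 (.node 4 (.node 2 (.node 1 (.leaf (nat_lit 0x10fca52)) (.leaf (nat_lit 0x10fde61))) (.node 1 (.leaf (nat_lit 0xff0f8)) (.leaf (nat_lit 0x10ff692)))) (.node 2 (.node 1 (.leaf (nat_lit 0x100466)) (.leaf (nat_lit 0x1100cce))) (.node 1 (.leaf (nat_lit 0x101841)) (.leaf (nat_lit 0x102c11))))) (.node 4 (.node 2 (.node 1 (.leaf (nat_lit 0x1102f45)) (.leaf (nat_lit 0x11038e8))) (.node 1 (.leaf (nat_lit 0x1046a7)) (.leaf (nat_lit 0x11041aa)))) (.node 2 (.node 1 (.leaf (nat_lit 0x1051af)) (.leaf (nat_lit 0x1106c5d))) (.node 1 (.leaf (nat_lit 0x10781c)) (.leaf (nat_lit 0x11070d1))))))) (.node 16 (.node 8 (.node 4 (.node 2 (.node 1 (.leaf (nat_lit 0x108caa))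 (.leaf (nat_lit 0x109d04))) (.node 1 (.leaf (nat_lit 0x1109746)) (.leaf (nat_lit 0x10a493)))) (.node 2 (.node 1 (.leaf (nat_lit 0x110a43e)) (.leaf (nat_lit 0x10bbb8))) (.node 1 (.leaf (nat_lit 0x10d9f1)) (.leaf (nat_lit 0x10fafd))))) (.node 4 (.node 2 (.node 1 (.leaf (nat_lit 0x11104ba)) (.leaf (nat_lit 0x1111c4d))) (.node 1 (.leaf (nat_lit 0x11291a)) (.leaf (nat_lit 0x1112a0a)))) (.node 2 (.node 1 (.leaf (nat_lit 0x1113544)) (.leaf (nat_lit 0x1142ec))) (.node 1 (.leaf (nat_lit 0x1114a95)) (.leaf (nat_lit 0x11543a)))))) (.node 8 (.node 4 (.node 2 (.node 1 (.leaf (nat_lit 0x11155db)) (.leaf (nat_lit 0x116c85))) (.node 1 (.leaf (nat_lit 0x1116ad8)) (.leaf (nat_lit 0x1176aa)))) (.node 2 (.node 1 (.leaf (nat_lit 0x1193fb)) (.leaf (nat_lit 0x111a3c6))) (.node 1 (.leaf (nat_lit 0x11bda6)) (.leaf (nat_lit 0x111b387))))) (.node 4 (.node 2 (.node 1 (.leaf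 (nat_lit 0x111c2ed)) (.leaf (nat_lit 0x111df49))) (.node 1 (.leaf (nat_lit 0x11eabb)) (.leaf (nat_lit 0x11fb59)))) (.node 2 (.node 1 (.leaf (nat_lit 0x120a11)) (.leaf (nat_lit 0x1120a4e))) (.node 1 (.leaf (nat_lit 0x122c64)) (.leaf (nat_lit 0x1122094)))))))) (.node 32 (.node 16 (.node 8 (.node 4 (.node 2 (.node 1 (.leaf (nat_lit 0x124278)) (.leaf (nat_lit 0x11249f7))) (.node 1 (.leaf (nat_lit 0x1125274)) (.leaf (nat_lit 0x12754c)))) (.node 2 (.node 1 (.leaf (nat_lit 0x1127ebe)) (.leaf (nat_lit 0x128a77))) (.node 1 (.leaf (nat_lit 0x112aa49)) (.leaf (nat_lit 0x12b3e2))))) (.node 4 (.node 2 (.node 1 (.leaf (nat_lit 0x112b616)) (.leaf (nat_lit 0x12c604))) (.node 1 (.leaf (nat_lit 0x112cfc7)) (.leaf (nat_lit 0x12d78c)))) (.node 2 (.node 1 (.leaf (nat_lit 0x112de8b)) (.leaf (nat_lit 0x12eb73))) (.node 1 (.leaf (nat_lit 0x112eebf)) (.leaf (nat_lit 0x12fb3b))))))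 (.node 8 (.node 4 (.node 2 (.node 1 (.leaf (nat_lit 0x112f831)) (.leaf (nat_lit 0x130aa4))) (.node 1 (.leaf (nat_lit 0x1130652)) (.leaf (nat_lit 0x1131bc5)))) (.node 2 (.node 1 (.leaf (nat_lit 0x11331a1)) (.leaf (nat_lit 0x113407c))) (.node 1 (.leaf (nat_lit 0x135178)) (.leaf (nat_lit 0x1136456))))) (.node 4 (.node 2 (.node 1 (.leaf (nat_lit 0x137ea4)) (.leaf (nat_lit 0x1138ba5))) (.node 1 (.leaf (nat_lit 0x1395e4)) (.leaf (nat_lit 0x13a262)))) (.node 2 (.node 1 (.leaf (nat_lit 0x113a944)) (.leaf (nat_lit 0x13b105))) (.node 1 (.leaf (nat_lit 0x113b736)) (.leaf (nat_lit 0x13e34f))))))) (.node 16 (.node 8 (.node 4 (.node 2 (.node 1 (.leaf (nat_lit 0x113f9bf)) (.leaf (nat_lit 0x1406d1))) (.node 1 (.leaf (nat_lit 0x141f6b)) (.leaf (nat_lit 0x1141b08)))) (.node 2 (.node 1 (.leaf (nat_lit 0x114219c)) (.leaf (nat_lit 0x14470b))) (.node 1 (.leaf (nat_lit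 0x1145232)) (.leaf (nat_lit 0x146c25))))) (.node 4 (.node 2 (.node 1 (.leaf (nat_lit 0x1146fd2)) (.leaf (nat_lit 0x147a58))) (.node 1 (.leaf (nat_lit 0x148d05)) (.leaf (nat_lit 0x1148879)))) (.node 2 (.node 1 (.leaf (nat_lit 0x149ec9)) (.leaf (nat_lit 0x1149f60))) (.node 1 (.leaf (nat_lit 0x14a5ac)) (.leaf (nat_lit 0x14e696)))))) (.node 8 (.node 4 (.node 2 (.node 1 (.leaf (nat_lit 0x114fa45)) (.leaf (nat_lit 0x1150c94))) (.node 1 (.leaf (nat_lit 0x151d36)) (.leaf (nat_lit 0x115197c)))) (.node 2 (.node 1 (.leaf (nat_lit 0x15366d)) (.leaf (nat_lit 0x1153a03))) (.node 1 (.leaf (nat_lit 0x1154b78)) (.leaf (nat_lit 0x155037))))) (.node 4 (.node 2 (.node 1 (.leaf (nat_lit 0x11553a6)) (.leaf (nat_lit 0x157582))) (.node 1 (.leaf (nat_lit 0x1158426)) (.leaf (nat_lit 0x115912c)))) (.node 2 (.node 1 (.leaf (nat_lit 0x15a0ea)) (.leaf (nat_lit 0x115bbfd))) (.node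 1 (.leaf (nat_lit 0x15c04c)) (.leaf (nat_lit 0x15da0b))))))))))

/-- A part of `orbP3`. -/
def orbP3_2 : Tree := (.node 64 (.node 32 (.node 16 (.node 8 (.node 4 (.node 2 (.node 1 (.leaf (nat_lit 0x115e3a7)) (.leaf (nat_lit 0x15f458))) (.node 1 (.leaf (nat_lit 0x160914)) (.leaf (nat_lit 0x1160010)))) (.node 2 (.node 1 (.leaf (nat_lit 0x161c3f)) (.leaf (nat_lit 0x162e30))) (.node 1 (.leaf (nat_lit 0x164c77)) (.leaf (nat_lit 0x1164329))))) (.node 4 (.node 2 (.node 1 (.leaf (nat_lit 0x1165953)) (.leaf (nat_lit 0x1166c0e))) (.node 1 (.leaf (nat_lit 0x1167587)) (.leaf (nat_lit 0x116a6b9)))) (.node 2 (.node 1 (.leaf (nat_lit 0x16ba4c)) (.leaf (nat_lit 0x116c824))) (.node 1 (.leaf (nat_lit 0x116d5e9)) (.leaf (nat_lit 0x116e2d7)))))) (.node 8 (.node 4 (.node 2 (.node 1 (.leaf (nat_lit 0x16f7b3)) (.leaf (nat_lit 0x1170ad4))) (.node 1 (.leaf (nat_lit 0x11729ce))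 (.leaf (nat_lit 0x173770)))) (.node 2 (.node 1 (.leaf (nat_lit 0x11742f6)) (.leaf (nat_lit 0x1175ac5))) (.node 1 (.leaf (nat_lit 0x177d29)) (.leaf (nat_lit 0x17bfa4))))) (.node 4 (.node 2 (.node 1 (.leaf (nat_lit 0x117bbd8)) (.leaf (nat_lit 0x17c0e0))) (.node 1 (.leaf (nat_lit 0x17db5b)) (.leaf (nat_lit 0x117eab2)))) (.node 2 (.node 1 (.leaf (nat_lit 0x117fd63)) (.leaf (nat_lit 0x180397))) (.node 1 (.leaf (nat_lit 0x1180ca4)) (.leaf (nat_lit 0x1181733))))))) (.node 16 (.node 8 (.node 4 (.node 2 (.node 1 (.leaf (nat_lit 0x1182e69)) (.leaf (nat_lit 0x11833d7))) (.node 1 (.leaf (nat_lit 0x184519)) (.leaf (nat_lit 0x1184e62)))) (.node 2 (.node 1 (.leaf (nat_lit 0x1185bd6)) (.leaf (nat_lit 0x1188c4c))) (.node 1 (.leaf (nat_lit 0x118b328)) (.leaf (nat_lit 0x18c7c7))))) (.node 4 (.node 2 (.node 1 (.leaf (nat_lit 0x18d806)) (.leaf (nat_lit 0x18f4b6))) (.node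 1 (.leaf (nat_lit 0x11906c4)) (.leaf (nat_lit 0x1191c02)))) (.node 2 (.node 1 (.leaf (nat_lit 0x1194150)) (.leaf (nat_lit 0x195e45))) (.node 1 (.leaf (nat_lit 0x11955fd)) (.leaf (nat_lit 0x198153)))))) (.node 8 (.node 4 (.node 2 (.node 1 (.leaf (nat_lit 0x1999d0)) (.leaf (nat_lit 0x119a309))) (.node 1 (.leaf (nat_lit 0x119b8d4)) (.leaf (nat_lit 0x119cb26)))) (.node 2 (.node 1 (.leaf (nat_lit 0x19dbf5)) (.leaf (nat_lit 0x19fa53))) (.node 1 (.leaf (nat_lit 0x1a056f)) (.leaf (nat_lit 0x11a0c22))))) (.node 4 (.node 2 (.node 1 (.leaf (nat_lit 0x11a1be5)) (.leaf (nat_lit 0x1a501d))) (.node 1 (.leaf (nat_lit 0x1a7bbf)) (.leaf (nat_lit 0x1a9982)))) (.node 2 (.node 1 (.leaf (nat_lit 0x11aa78a)) (.leaf (nat_lit 0x11af411))) (.node 1 (.leaf (nat_lit 0x1b16d2)) (.leaf (nat_lit 0x11b19a4)))))))) (.node 32 (.node 16 (.node 8 (.node 4 (.node 2 (.node 1 (.leaf (nat_lit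 0x1b5ad6)) (.leaf (nat_lit 0x11b5436))) (.node 1 (.leaf (nat_lit 0x11b6f51)) (.leaf (nat_lit 0x11b7cc8)))) (.node 2 (.node 1 (.leaf (nat_lit 0x11b88ee)) (.leaf (nat_lit 0x1b9833))) (.node 1 (.leaf (nat_lit 0x11bbba3)) (.leaf (nat_lit 0x11bd62a))))) (.node 4 (.node 2 (.node 1 (.leaf (nat_lit 0x11bff61)) (.leaf (nat_lit 0x1c00ae))) (.node 1 (.leaf (nat_lit 0x11c1d67)) (.leaf (nat_lit 0x11c28cc)))) (.node 2 (.node 1 (.leaf (nat_lit 0x11c5759)) (.leaf (nat_lit 0x11c669f))) (.node 1 (.leaf (nat_lit 0x11c7589)) (.leaf (nat_lit 0x1c9825)))))) (.node 8 (.node 4 (.node 2 (.node 1 (.leaf (nat_lit 0x1cd9d6)) (.leaf (nat_lit 0x1ce112))) (.node 1 (.leaf (nat_lit 0x1cfab3)) (.leaf (nat_lit 0x11d0515)))) (.node 2 (.node 1 (.leaf (nat_lit 0x11d14e0)) (.leaf (nat_lit 0x1d20c2))) (.node 1 (.leaf (nat_lit 0x11d257f)) (.leaf (nat_lit 0x11d6b61))))) (.node 4 (.node 2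 (.node 1 (.leaf (nat_lit 0x11d85ab)) (.leaf (nat_lit 0x11da612))) (.node 1 (.leaf (nat_lit 0x1db0d2)) (.leaf (nat_lit 0x1dda6d)))) (.node 2 (.node 1 (.leaf (nat_lit 0x11de83d)) (.leaf (nat_lit 0x11e0350))) (.node 1 (.leaf (nat_lit 0x1e43f4)) (.leaf (nat_lit 0x11e5ea5))))))) (.node 16 (.node 8 (.node 4 (.node 2 (.node 1 (.leaf (nat_lit 0x1e8117)) (.leaf (nat_lit 0x11e9ba2))) (.node 1 (.leaf (nat_lit 0x11eab9e)) (.leaf (nat_lit 0x1eef7c)))) (.node 2 (.node 1 (.leaf (nat_lit 0x1efe04)) (.leaf (nat_lit 0x1f174e))) (.node 1 (.leaf (nat_lit 0x11f2ad7)) (.leaf (nat_lit 0x1f73e4))))) (.node 4 (.node 2 (.node 1 (.leaf (nat_lit 0x1fa31d)) (.leaf (nat_lit 0x11fab48))) (.node 1 (.leaf (nat_lit 0x11fc717)) (.leaf (nat_lit 0x11fd687)))) (.node 2 (.node 1 (.leaf (nat_lit 0x11ffa82)) (.leaf (nat_lit 0x120080d))) (.node 1 (.leaf (nat_lit 0x2036b2)) (.leaf (nat_lit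 0x206c95)))))) (.node 8 (.node 4 (.node 2 (.node 1 (.leaf (nat_lit 0x12096a9)) (.leaf (nat_lit 0x20e90c))) (.node 1 (.leaf (nat_lit 0x21486e)) (.leaf (nat_lit 0x1214086)))) (.node 2 (.node 1 (.leaf (nat_lit 0x1217b77)) (.leaf (nat_lit 0x1219db3))) (.node 1 (.leaf (nat_lit 0x121f57e)) (.leaf (nat_lit 0x235b2a))))) (.node 4 (.node 2 (.node 1 (.leaf (nat_lit 0x12363d8)) (.leaf (nat_lit 0x123b422))) (.node 1 (.leaf (nat_lit 0x123eecc)) (.leaf (nat_lit 0x243bb4)))) (.node 2 (.node 1 (.leaf (nat_lit 0x24be6f)) (.leaf (nat_lit 0x1250d9e))) (.node 1 (.leaf (nat_lit 0x1265f98)) (.leaf (nat_lit 0x12673a1)))))))))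

/-- An orbit. -/
def orbP3 : Tree := (.node 256 orbP3_0 (.node 256 orbP3_1 orbP3_2))

/-- A part of `orbP4`. -/
def orbP4_0 : Tree := (.node 128 (.node 64 (.node 32 (.node 16 (.node 8 (.node 4 (.node 2 (.node 1 (.leaf (nat_lit 0x1)) (.leaf (nat_lit 0x13f))) (.node 1 (.leaf (nat_lit 0x1000480)) (.leaf (nat_lit 0x1d9f)))) (.node 2 (.node 1 (.leaf (nat_lit 0x10015a9)) (.leaf (nat_lit 0x2045))) (.node 1 (.leaf (nat_lit 0x1002151)) (.leaf (nat_lit 0x3767))))) (.node 4 (.node 2 (.node 1 (.leaf (nat_lit 0x1003b87)) (.leaf (nat_lit 0x4d3a))) (.node 1 (.leaf (nat_lit 0x10045cb)) (.leaf (nat_lit 0x5223)))) (.node 2 (.node 1 (.leaf (nat_lit 0x1005cdf)) (.leaf (nat_lit 0x64df))) (.node 1 (.leaf (nat_lit 0x1006b2f)) (.leaf (nat_lit 0x72e4)))))) (.node 8 (.node 4 (.node 2 (.node 1 (.leaf (nat_lit 0x100782b)) (.leaf (nat_lit 0x8775))) (.node 1 (.leaf (nat_lit 0x1008f16))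 (.leaf (nat_lit 0x9d37)))) (.node 2 (.node 1 (.leaf (nat_lit 0x1009d1e)) (.leaf (nat_lit 0xa2e2))) (.node 1 (.leaf (nat_lit 0x100a9fd)) (.leaf (nat_lit 0xb11f))))) (.node 4 (.node 2 (.node 1 (.leaf (nat_lit 0x100b8de)) (.leaf (nat_lit 0xc047))) (.node 1 (.leaf (nat_lit 0x100cbad)) (.leaf (nat_lit 0xd2cf)))) (.node 2 (.node 1 (.leaf (nat_lit 0x100da98)) (.leaf (nat_lit 0xe2a2))) (.node 1 (.leaf (nat_lit 0x100e365)) (.leaf (nat_lit 0xf97f))))))) (.node 16 (.node 8 (.node 4 (.node 2 (.node 1 (.leaf (nat_lit 0x100f7d8)) (.leaf (nat_lit 0x1011b))) (.node 1 (.leaf (nat_lit 0x1010fce)) (.leaf (nat_lit 0x11062)))) (.node 2 (.node 1 (.leaf (nat_lit 0x101109a)) (.leaf (nat_lit 0x12c53))) (.node 1 (.leaf (nat_lit 0x1012658)) (.leaf (nat_lit 0x1343d))))) (.node 4 (.node 2 (.node 1 (.leaf (nat_lit 0x1013541)) (.leaf (nat_lit 0x14ea9))) (.node 1 (.leaf (nat_lit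 0x10148c1)) (.leaf (nat_lit 0x15945)))) (.node 2 (.node 1 (.leaf (nat_lit 0x1015e17)) (.leaf (nat_lit 0x16f3a))) (.node 1 (.leaf (nat_lit 0x1016f39)) (.leaf (nat_lit 0x10178e0)))))) (.node 8 (.node 4 (.node 2 (.node 1 (.leaf (nat_lit 0x18715)) (.leaf (nat_lit 0x101831b))) (.node 1 (.leaf (nat_lit 0x19603)) (.leaf (nat_lit 0x1019c5e)))) (.node 2 (.node 1 (.leaf (nat_lit 0x1ab43)) (.leaf (nat_lit 0x101aaaf))) (.node 1 (.leaf (nat_lit 0x1b7c5)) (.leaf (nat_lit 0x101b067))))) (.node 4 (.node 2 (.node 1 (.leaf (nat_lit 0x1cf10)) (.leaf (nat_lit 0x1d432))) (.node 1 (.leaf (nat_lit 0x101da3f)) (.leaf (nat_lit 0x1e6de)))) (.node 2 (.node 1 (.leaf (nat_lit 0x101e920)) (.leaf (nat_lit 0x1f627))) (.node 1 (.leaf (nat_lit 0x101f684)) (.leaf (nat_lit 0x20c52)))))))) (.node 32 (.node 16 (.node 8 (.node 4 (.node 2 (.node 1 (.leaf (nat_lit 0x10208bf)) (.leaf (nat_lit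 0x219b6))) (.node 1 (.leaf (nat_lit 0x2263e)) (.leaf (nat_lit 0x1022007)))) (.node 2 (.node 1 (.leaf (nat_lit 0x238f1)) (.leaf (nat_lit 0x1023014))) (.node 1 (.leaf (nat_lit 0x24bdc)) (.leaf (nat_lit 0x10242bd))))) (.node 4 (.node 2 (.node 1 (.leaf (nat_lit 0x25e78)) (.leaf (nat_lit 0x1025110))) (.node 1 (.leaf (nat_lit 0x26a37)) (.leaf (nat_lit 0x1026e23)))) (.node 2 (.node 1 (.leaf (nat_lit 0x1027cad)) (.leaf (nat_lit 0x2821f))) (.node 1 (.leaf (nat_lit 0x10283a3)) (.leaf (nat_lit 0x2940b)))))) (.node 8 (.node 4 (.node 2 (.node 1 (.leaf (nat_lit 0x102922f)) (.leaf (nat_lit 0x2a5ca))) (.node 1 (.leaf (nat_lit 0x102a281)) (.leaf (nat_lit 0x2bb65)))) (.node 2 (.node 1 (.leaf (nat_lit 0x102b1f5)) (.leaf (nat_lit 0x102ccde))) (.node 1 (.leaf (nat_lit 0x2d07a)) (.leaf (nat_lit 0x102dce2))))) (.node 4 (.node 2 (.node 1 (.leaf (nat_lit 0x2e254)) (.leaf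 (nat_lit 0x102e2d8))) (.node 1 (.leaf (nat_lit 0x2f58e)) (.leaf (nat_lit 0x102feaf)))) (.node 2 (.node 1 (.leaf (nat_lit 0x30888)) (.leaf (nat_lit 0x10302b0))) (.node 1 (.leaf (nat_lit 0x319cb)) (.leaf (nat_lit 0x1031072))))))) (.node 16 (.node 8 (.node 4 (.node 2 (.node 1 (.leaf (nat_lit 0x32c8c)) (.leaf (nat_lit 0x1032660))) (.node 1 (.leaf (nat_lit 0x1033fc5)) (.leaf (nat_lit 0x34ccb)))) (.node 2 (.node 1 (.leaf (nat_lit 0x10348b4)) (.leaf (nat_lit 0x35465))) (.node 1 (.leaf (nat_lit 0x1035a24)) (.leaf (nat_lit 0x1036716))))) (.node 4 (.node 2 (.node 1 (.leaf (nat_lit 0x37a4f)) (.leaf (nat_lit 0x10377ab))) (.node 1 (.leaf (nat_lit 0x3875e)) (.leaf (nat_lit 0x10381f2)))) (.node 2 (.node 1 (.leaf (nat_lit 0x39be4)) (.leaf (nat_lit 0x1039cda))) (.node 1 (.leaf (nat_lit 0x3a1f7)) (.leaf (nat_lit 0x103ae0e)))))) (.node 8 (.node 4 (.node 2 (.node 1 (.leaf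 (nat_lit 0x3b326)) (.leaf (nat_lit 0x103b162))) (.node 1 (.leaf (nat_lit 0x3ca5a)) (.leaf (nat_lit 0x103cabf)))) (.node 2 (.node 1 (.leaf (nat_lit 0x3d5be)) (.leaf (nat_lit 0x103d494))) (.node 1 (.leaf (nat_lit 0x3e6bc)) (.leaf (nat_lit 0x103ec9a))))) (.node 4 (.node 2 (.node 1 (.leaf (nat_lit 0x3ff2a)) (.leaf (nat_lit 0x103f6db))) (.node 1 (.leaf (nat_lit 0x40bb1)) (.leaf (nat_lit 0x10409f2)))) (.node 2 (.node 1 (.leaf (nat_lit 0x1041a5b)) (.leaf (nat_lit 0x42179))) (.node 1 (.leaf (nat_lit 0x434d7)) (.leaf (nat_lit 0x1043f9d))))))))) (.node 64 (.node 32 (.node 16 (.node 8 (.node 4 (.node 2 (.node 1 (.leaf (nat_lit 0x1044f0f)) (.leaf (nat_lit 0x451d7))) (.node 1 (.leaf (nat_lit 0x1045df9)) (.leaf (nat_lit 0x46dae)))) (.node 2 (.node 1 (.leaf (nat_lit 0x1046662)) (.leaf (nat_lit 0x47318))) (.node 1 (.leaf (nat_lit 0x1047540)) (.leaf (nat_lit 0x48fc0)))))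 (.node 4 (.node 2 (.node 1 (.leaf (nat_lit 0x10482af)) (.leaf (nat_lit 0x1049ac7))) (.node 1 (.leaf (nat_lit 0x4aba0)) (.leaf (nat_lit 0x104aea2)))) (.node 2 (.node 1 (.leaf (nat_lit 0x4b3b2)) (.leaf (nat_lit 0x104bf3d))) (.node 1 (.leaf (nat_lit 0x4c6c5)) (.leaf (nat_lit 0x104ce46)))))) (.node 8 (.node 4 (.node 2 (.node 1 (.leaf (nat_lit 0x4db28)) (.leaf (nat_lit 0x104d913))) (.node 1 (.leaf (nat_lit 0x4e574)) (.leaf (nat_lit 0x104e368)))) (.node 2 (.node 1 (.leaf (nat_lit 0x4f2c7)) (.leaf (nat_lit 0x104f5e0))) (.node 1 (.leaf (nat_lit 0x5079c)) (.leaf (nat_lit 0x1050c70))))) (.node 4 (.node 2 (.node 1 (.leaf (nat_lit 0x51d66)) (.leaf (nat_lit 0x1051cdd))) (.node 1 (.leaf (nat_lit 0x5210c)) (.leaf (nat_lit 0x1052e18)))) (.node 2 (.node 1 (.leaf (nat_lit 0x1053f3f)) (.leaf (nat_lit 0x54cca))) (.node 1 (.leaf (nat_lit 0x1054f95)) (.leaf (nat_lit 0x55bc4)))))))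 (.node 16 (.node 8 (.node 4 (.node 2 (.node 1 (.leaf (nat_lit 0x1055a27)) (.leaf (nat_lit 0x56bde))) (.node 1 (.leaf (nat_lit 0x105607f)) (.leaf (nat_lit 0x57783)))) (.node 2 (.node 1 (.leaf (nat_lit 0x10573da)) (.leaf (nat_lit 0x5830b))) (.node 1 (.leaf (nat_lit 0x1058867)) (.leaf (nat_lit 0x5952d))))) (.node 4 (.node 2 (.node 1 (.leaf (nat_lit 0x1059fd1)) (.leaf (nat_lit 0x5af0d))) (.node 1 (.leaf (nat_lit 0x105a3b5)) (.leaf (nat_lit 0x5bb7c)))) (.node 2 (.node 1 (.leaf (nat_lit 0x105b722)) (.leaf (nat_lit 0x105c4b3))) (.node 1 (.leaf (nat_lit 0x5d93e)) (.leaf (nat_lit 0x105d960)))))) (.node 8 (.node 4 (.node 2 (.node 1 (.leaf (nat_lit 0x5e92e)) (.leaf (nat_lit 0x105e040))) (.node 1 (.leaf (nat_lit 0x5f195)) (.leaf (nat_lit 0x105f32a)))) (.node 2 (.node 1 (.leaf (nat_lit 0x10608ef)) (.leaf (nat_lit 0x61c65))) (.node 1 (.leaf (nat_lit 0x1061f63))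 (.leaf (nat_lit 0x1062460))))) (.node 4 (.node 2 (.node 1 (.leaf (nat_lit 0x6339c)) (.leaf (nat_lit 0x65b64))) (.node 1 (.leaf (nat_lit 0x10656d4)) (.leaf (nat_lit 0x66e22)))) (.node 2 (.node 1 (.leaf (nat_lit 0x10660f7)) (.leaf (nat_lit 0x67740))) (.node 1 (.leaf (nat_lit 0x1067f97)) (.leaf (nat_lit 0x68ea8)))))))) (.node 32 (.node 16 (.node 8 (.node 4 (.node 2 (.node 1 (.leaf (nat_lit 0x1068747)) (.leaf (nat_lit 0x695c8))) (.node 1 (.leaf (nat_lit 0x1069a0d)) (.leaf (nat_lit 0x106a1c7)))) (.node 2 (.node 1 (.leaf (nat_lit 0x6b218)) (.leaf (nat_lit 0x106b5e1))) (.node 1 (.leaf (nat_lit 0x6d2ba)) (.leaf (nat_lit 0x106de24))))) (.node 4 (.node 2 (.node 1 (.leaf (nat_lit 0x6edfb)) (.leaf (nat_lit 0x6fcfd))) (.node 1 (.leaf (nat_lit 0x106f0a8)) (.leaf (nat_lit 0x71b10)))) (.node 2 (.node 1 (.leaf (nat_lit 0x10712ad)) (.leaf (nat_lit 0x72863))) (.node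 1 (.leaf (nat_lit 0x10729a5)) (.leaf (nat_lit 0x10736fc)))))) (.node 8 (.node 4 (.node 2 (.node 1 (.leaf (nat_lit 0x754c1)) (.leaf (nat_lit 0x10752f4))) (.node 1 (.leaf (nat_lit 0x76257)) (.leaf (nat_lit 0x107644c)))) (.node 2 (.node 1 (.leaf (nat_lit 0x1077425)) (.leaf (nat_lit 0x78eb6))) (.node 1 (.leaf (nat_lit 0x107855f)) (.leaf (nat_lit 0x1079430))))) (.node 4 (.node 2 (.node 1 (.leaf (nat_lit 0x7a50b)) (.leaf (nat_lit 0x7b097))) (.node 1 (.leaf (nat_lit 0x107ba25)) (.leaf (nat_lit 0x7c8d8)))) (.node 2 (.node 1 (.leaf (nat_lit 0x107c016)) (.leaf (nat_lit 0x107db9a))) (.node 1 (.leaf (nat_lit 0x7e708)) (.leaf (nat_lit 0x7ff13))))))) (.node 16 (.node 8 (.node 4 (.node 2 (.node 1 (.leaf (nat_lit 0x107f70f)) (.leaf (nat_lit 0x80401))) (.node 1 (.leaf (nat_lit 0x1080617)) (.leaf (nat_lit 0x814bd)))) (.node 2 (.node 1 (.leaf (nat_lit 0x108168e)) (.leaf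 (nat_lit 0x8241b))) (.node 1 (.leaf (nat_lit 0x1082b1b)) (.leaf (nat_lit 0x83514))))) (.node 4 (.node 2 (.node 1 (.leaf (nat_lit 0x842d1)) (.leaf (nat_lit 0x1084db1))) (.node 1 (.leaf (nat_lit 0x85d3e)) (.leaf (nat_lit 0x1085f4f)))) (.node 2 (.node 1 (.leaf (nat_lit 0x1086004)) (.leaf (nat_lit 0x889fa))) (.node 1 (.leaf (nat_lit 0x1088a08)) (.leaf (nat_lit 0x8909b)))))) (.node 8 (.node 4 (.node 2 (.node 1 (.leaf (nat_lit 0x1089822)) (.leaf (nat_lit 0x8a17d))) (.node 1 (.leaf (nat_lit 0x108ae2e)) (.leaf (nat_lit 0x8b6cb)))) (.node 2 (.node 1 (.leaf (nat_lit 0x108b479)) (.leaf (nat_lit 0x8c771))) (.node 1 (.leaf (nat_lit 0x108c72d)) (.leaf (nat_lit 0x8dc04))))) (.node 4 (.node 2 (.node 1 (.leaf (nat_lit 0x108d0b9)) (.leaf (nat_lit 0x8e039))) (.node 1 (.leaf (nat_lit 0x8f088)) (.leaf (nat_lit 0x108f15b)))) (.node 2 (.node 1 (.leaf (nat_lit 0x10903ab))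 (.leaf (nat_lit 0x91402))) (.node 1 (.leaf (nat_lit 0x1091b4a)) (.leaf (nat_lit 0x92c76))))))))))

/-- A part of `orbP4`. -/
def orbP4_1 : Tree := (.node 128 (.node 64 (.node 32 (.node 16 (.node 8 (.node 4 (.node 2 (.node 1 (.leaf (nat_lit 0x937f8)) (.leaf (nat_lit 0x1093ddc))) (.node 1 (.leaf (nat_lit 0x953c8)) (.leaf (nat_lit 0x10957a1)))) (.node 2 (.node 1 (.leaf (nat_lit 0x967d7)) (.leaf (nat_lit 0x1096b8a))) (.node 1 (.leaf (nat_lit 0x97726)) (.leaf (nat_lit 0x109793d))))) (.node 4 (.node 2 (.node 1 (.leaf (nat_lit 0x98338)) (.leaf (nat_lit 0x1098935))) (.node 1 (.leaf (nat_lit 0x1099623)) (.leaf (nat_lit 0x9a0af)))) (.node 2 (.node 1 (.leaf (nat_lit 0x109acd3)) (.leaf (nat_lit 0x9b8df))) (.node 1 (.leaf (nat_lit 0x109bf46)) (.leaf (nat_lit 0x9c417)))))) (.node 8 (.node 4 (.node 2 (.node 1 (.leaf (nat_lit 0x109c190)) (.leaf (nat_lit 0x9d268)))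 (.node 1 (.leaf (nat_lit 0x109da2b)) (.leaf (nat_lit 0x109e3eb)))) (.node 2 (.node 1 (.leaf (nat_lit 0x9f901)) (.leaf (nat_lit 0x109faba))) (.node 1 (.leaf (nat_lit 0xa0ae0)) (.leaf (nat_lit 0x10a0e79))))) (.node 4 (.node 2 (.node 1 (.leaf (nat_lit 0x10a125a)) (.leaf (nat_lit 0xa266b))) (.node 1 (.leaf (nat_lit 0x10a2fc6)) (.leaf (nat_lit 0xa371e)))) (.node 2 (.node 1 (.leaf (nat_lit 0xa4e54)) (.leaf (nat_lit 0x10a4f88))) (.node 1 (.leaf (nat_lit 0xa5646)) (.leaf (nat_lit 0xa6472))))))) (.node 16 (.node 8 (.node 4 (.node 2 (.node 1 (.leaf (nat_lit 0x10a68fa)) (.leaf (nat_lit 0xa73f9))) (.node 1 (.leaf (nat_lit 0x10a74e7)) (.leaf (nat_lit 0xa887a)))) (.node 2 (.node 1 (.leaf (nat_lit 0x10a8eb2)) (.leaf (nat_lit 0xa9f41))) (.node 1 (.leaf (nat_lit 0xaa559)) (.leaf (nat_lit 0x10aa70e))))) (.node 4 (.node 2 (.node 1 (.leaf (nat_lit 0xab5d3)) (.leaf (nat_lit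 0x10ab20f))) (.node 1 (.leaf (nat_lit 0xac2be)) (.leaf (nat_lit 0x10ac510)))) (.node 2 (.node 1 (.leaf (nat_lit 0xad176)) (.leaf (nat_lit 0x10ade20))) (.node 1 (.leaf (nat_lit 0xaebf7)) (.leaf (nat_lit 0x10aea46)))))) (.node 8 (.node 4 (.node 2 (.node 1 (.leaf (nat_lit 0xaf408)) (.leaf (nat_lit 0x10af3c3))) (.node 1 (.leaf (nat_lit 0xb0e8a)) (.leaf (nat_lit 0x10b04fc)))) (.node 2 (.node 1 (.leaf (nat_lit 0x10b143c)) (.leaf (nat_lit 0xb2870))) (.node 1 (.leaf (nat_lit 0x10b212a)) (.leaf (nat_lit 0xb33cd))))) (.node 4 (.node 2 (.node 1 (.leaf (nat_lit 0x10b3c2e)) (.leaf (nat_lit 0xb4f9e))) (.node 1 (.leaf (nat_lit 0x10b455e)) (.leaf (nat_lit 0xb5deb)))) (.node 2 (.node 1 (.leaf (nat_lit 0xb6f27)) (.leaf (nat_lit 0x10b7079))) (.node 1 (.leaf (nat_lit 0x10b86a0)) (.leaf (nat_lit 0xb9053)))))))) (.node 32 (.node 16 (.node 8 (.node 4 (.node 2 (.node 1 (.leaf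 (nat_lit 0x10b9265)) (.leaf (nat_lit 0x10ba1ad))) (.node 1 (.leaf (nat_lit 0xbb6d3)) (.leaf (nat_lit 0x10bb810)))) (.node 2 (.node 1 (.leaf (nat_lit 0xbc668)) (.leaf (nat_lit 0x10bca80))) (.node 1 (.leaf (nat_lit 0xbd191)) (.leaf (nat_lit 0x10beca5))))) (.node 4 (.node 2 (.node 1 (.leaf (nat_lit 0xbf11a)) (.leaf (nat_lit 0xc0949))) (.node 1 (.leaf (nat_lit 0xc13ed)) (.leaf (nat_lit 0x10c212e)))) (.node 2 (.node 1 (.leaf (nat_lit 0x10c3407)) (.leaf (nat_lit 0xc4429))) (.node 1 (.leaf (nat_lit 0x10c410b)) (.leaf (nat_lit 0xc577d)))))) (.node 8 (.node 4 (.node 2 (.node 1 (.leaf (nat_lit 0x10c5f89)) (.leaf (nat_lit 0xc6b30))) (.node 1 (.leaf (nat_lit 0xc7e2d)) (.leaf (nat_lit 0x10c72bf)))) (.node 2 (.node 1 (.leaf (nat_lit 0xc891b)) (.leaf (nat_lit 0xc9cc9))) (.node 1 (.leaf (nat_lit 0x10c9c74)) (.leaf (nat_lit 0xca53c))))) (.node 4 (.node 2 (.node 1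 (.leaf (nat_lit 0x10ca637)) (.leaf (nat_lit 0xcbaf2))) (.node 1 (.leaf (nat_lit 0x10cb70a)) (.leaf (nat_lit 0xccc9d)))) (.node 2 (.node 1 (.leaf (nat_lit 0x10cc28f)) (.leaf (nat_lit 0xcd26e))) (.node 1 (.leaf (nat_lit 0x10ce135)) (.leaf (nat_lit 0xd01f8))))))) (.node 16 (.node 8 (.node 4 (.node 2 (.node 1 (.leaf (nat_lit 0x10d0ad9)) (.leaf (nat_lit 0xd1415))) (.node 1 (.leaf (nat_lit 0x10d1e44)) (.leaf (nat_lit 0xd2399)))) (.node 2 (.node 1 (.leaf (nat_lit 0x10d3ddb)) (.leaf (nat_lit 0x10d4cef))) (.node 1 (.leaf (nat_lit 0x10d5219)) (.leaf (nat_lit 0xd6ae5))))) (.node 4 (.node 2 (.node 1 (.leaf (nat_lit 0x10d64b4)) (.leaf (nat_lit 0xd7e12))) (.node 1 (.leaf (nat_lit 0x10d70a1)) (.leaf (nat_lit 0xd8ced)))) (.node 2 (.node 1 (.leaf (nat_lit 0x10d8d1c)) (.leaf (nat_lit 0xd9805))) (.node 1 (.leaf (nat_lit 0x10d993b)) (.leaf (nat_lit 0xda929)))))) (.node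 8 (.node 4 (.node 2 (.node 1 (.leaf (nat_lit 0x10da1c0)) (.leaf (nat_lit 0xdb839))) (.node 1 (.leaf (nat_lit 0x10dbe7a)) (.leaf (nat_lit 0xdc0d9)))) (.node 2 (.node 1 (.leaf (nat_lit 0x10dcdd9)) (.leaf (nat_lit 0xdd984))) (.node 1 (.leaf (nat_lit 0x10dd353)) (.leaf (nat_lit 0xdeb9b))))) (.node 4 (.node 2 (.node 1 (.leaf (nat_lit 0x10de8f5)) (.leaf (nat_lit 0xdf3a2))) (.node 1 (.leaf (nat_lit 0x10df285)) (.leaf (nat_lit 0xe05c7)))) (.node 2 (.node 1 (.leaf (nat_lit 0x10e0351)) (.leaf (nat_lit 0xe1196))) (.node 1 (.leaf (nat_lit 0xe2fcf)) (.leaf (nat_lit 0x10e2fd0))))))))) (.node 64 (.node 32 (.node 16 (.node 8 (.node 4 (.node 2 (.node 1 (.leaf (nat_lit 0xe3ec4)) (.leaf (nat_lit 0x10e3758))) (.node 1 (.leaf (nat_lit 0x10e4f15)) (.leaf (nat_lit 0xe5a2f)))) (.node 2 (.node 1 (.leaf (nat_lit 0x10e5423)) (.leaf (nat_lit 0xe686c))) (.node 1 (.leaf (nat_lit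 0x10e6694)) (.leaf (nat_lit 0x10e7f38))))) (.node 4 (.node 2 (.node 1 (.leaf (nat_lit 0x10e8aff)) (.leaf (nat_lit 0xe90b3))) (.node 1 (.leaf (nat_lit 0x10e9c32)) (.leaf (nat_lit 0xeaa35)))) (.node 2 (.node 1 (.leaf (nat_lit 0x10ebf0a)) (.leaf (nat_lit 0xecbf6))) (.node 1 (.leaf (nat_lit 0x10ecd74)) (.leaf (nat_lit 0x10ed34b)))))) (.node 8 (.node 4 (.node 2 (.node 1 (.leaf (nat_lit 0xee164)) (.leaf (nat_lit 0x10efb86))) (.node 1 (.leaf (nat_lit 0x10f0809)) (.leaf (nat_lit 0x10f1f2b)))) (.node 2 (.node 1 (.leaf (nat_lit 0xf2a6e)) (.leaf (nat_lit 0xf3aae))) (.node 1 (.leaf (nat_lit 0x10f3e80)) (.leaf (nat_lit 0xf4ed5))))) (.node 4 (.node 2 (.node 1 (.leaf (nat_lit 0x10f4325)) (.leaf (nat_lit 0xf536b))) (.node 1 (.leaf (nat_lit 0x10f53b4)) (.leaf (nat_lit 0x10f60e8)))) (.node 2 (.node 1 (.leaf (nat_lit 0xf7be9)) (.leaf (nat_lit 0x10f7605))) (.node 1 (.leaf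 (nat_lit 0xf8eb4)) (.leaf (nat_lit 0x10f8dd3))))))) (.node 16 (.node 8 (.node 4 (.node 2 (.node 1 (.leaf (nat_lit 0xf998f)) (.leaf (nat_lit 0x10f97cb))) (.node 1 (.leaf (nat_lit 0xfa07d)) (.leaf (nat_lit 0xfb060)))) (.node 2 (.node 1 (.leaf (nat_lit 0xfc56d)) (.leaf (nat_lit 0x10fc777))) (.node 1 (.leaf (nat_lit 0xfdd80)) (.leaf (nat_lit 0x10fd40c))))) (.node 4 (.node 2 (.node 1 (.leaf (nat_lit 0xfef47)) (.leaf (nat_lit 0x10fe566))) (.node 1 (.leaf (nat_lit 0x10ff869)) (.leaf (nat_lit 0x100afe)))) (.node 2 (.node 1 (.leaf (nat_lit 0x1100b2b)) (.leaf (nat_lit 0x1101ca1))) (.node 1 (.leaf (nat_lit 0x1022b6)) (.leaf (nat_lit 0x1102f50)))))) (.node 8 (.node 4 (.node 2 (.node 1 (.leaf (nat_lit 0x10359a)) (.leaf (nat_lit 0x1103272))) (.node 1 (.leaf (nat_lit 0x104548)) (.leaf (nat_lit 0x105074)))) (.node 2 (.node 1 (.leaf (nat_lit 0x11057ac)) (.leaf (nat_lit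 0x10674f))) (.node 1 (.leaf (nat_lit 0x1106e7e)) (.leaf (nat_lit 0x107959))))) (.node 4 (.node 2 (.node 1 (.leaf (nat_lit 0x1107dad)) (.leaf (nat_lit 0x1097a0))) (.node 1 (.leaf (nat_lit 0x1109500)) (.leaf (nat_lit 0x10a97d)))) (.node 2 (.node 1 (.leaf (nat_lit 0x110aaab)) (.leaf (nat_lit 0x110b04b))) (.node 1 (.leaf (nat_lit 0x10d8c0)) (.leaf (nat_lit 0x110d8da)))))))) (.node 32 (.node 16 (.node 8 (.node 4 (.node 2 (.node 1 (.leaf (nat_lit 0x10e6bb)) (.leaf (nat_lit 0x110e34d))) (.node 1 (.leaf (nat_lit 0x110f954)) (.leaf (nat_lit 0x11018e)))) (.node 2 (.node 1 (.leaf (nat_lit 0x1110ceb)) (.leaf (nat_lit 0x112452))) (.node 1 (.leaf (nat_lit 0x1112f4e)) (.leaf (nat_lit 0x1113bd7))))) (.node 4 (.node 2 (.node 1 (.leaf (nat_lit 0x11473a)) (.leaf (nat_lit 0x1162a1))) (.node 1 (.leaf (nat_lit 0x1116a02)) (.leaf (nat_lit 0x1118508)))) (.node 2 (.node 1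 (.leaf (nat_lit 0x111a762)) (.leaf (nat_lit 0x11b0c5))) (.node 1 (.leaf (nat_lit 0x111b0bc)) (.leaf (nat_lit 0x11c92f)))))) (.node 8 (.node 4 (.node 2 (.node 1 (.leaf (nat_lit 0x111ce85)) (.leaf (nat_lit 0x11d78d))) (.node 1 (.leaf (nat_lit 0x111d438)) (.leaf (nat_lit 0x111e48f)))) (.node 2 (.node 1 (.leaf (nat_lit 0x111f0fb)) (.leaf (nat_lit 0x1201f4))) (.node 1 (.leaf (nat_lit 0x1120608)) (.leaf (nat_lit 0x121a30))))) (.node 4 (.node 2 (.node 1 (.leaf (nat_lit 0x122e88)) (.leaf (nat_lit 0x11224f3))) (.node 1 (.leaf (nat_lit 0x123a94)) (.leaf (nat_lit 0x1123dd8)))) (.node 2 (.node 1 (.leaf (nat_lit 0x12464a)) (.leaf (nat_lit 0x1125b36))) (.node 1 (.leaf (nat_lit 0x127cd7)) (.leaf (nat_lit 0x12857b))))))) (.node 16 (.node 8 (.node 4 (.node 2 (.node 1 (.leaf (nat_lit 0x1128a7c)) (.leaf (nat_lit 0x1129e6a))) (.node 1 (.leaf (nat_lit 0x12aa26)) (.leaf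 (nat_lit 0x112a2ea)))) (.node 2 (.node 1 (.leaf (nat_lit 0x112bbc9)) (.leaf (nat_lit 0x112c4eb))) (.node 1 (.leaf (nat_lit 0x12d528)) (.leaf (nat_lit 0x112d644))))) (.node 4 (.node 2 (.node 1 (.leaf (nat_lit 0x12e0e2)) (.leaf (nat_lit 0x12f898))) (.node 1 (.leaf (nat_lit 0x112fe42)) (.leaf (nat_lit 0x1308b6)))) (.node 2 (.node 1 (.leaf (nat_lit 0x1130125)) (.leaf (nat_lit 0x131ce6))) (.node 1 (.leaf (nat_lit 0x11315b2)) (.leaf (nat_lit 0x1133bd0)))))) (.node 8 (.node 4 (.node 2 (.node 1 (.leaf (nat_lit 0x134d0d)) (.leaf (nat_lit 0x1134a3b))) (.node 1 (.leaf (nat_lit 0x135c78)) (.leaf (nat_lit 0x1137b05)))) (.node 2 (.node 1 (.leaf (nat_lit 0x138bbd)) (.leaf (nat_lit 0x13974b))) (.node 1 (.leaf (nat_lit 0x1139d75)) (.leaf (nat_lit 0x113a38e))))) (.node 4 (.node 2 (.node 1 (.leaf (nat_lit 0x13bde3)) (.leaf (nat_lit 0x113b9aa))) (.node 1 (.leaf (nat_lit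 0x13c50a)) (.leaf (nat_lit 0x113c866)))) (.node 2 (.node 1 (.leaf (nat_lit 0x13de47)) (.leaf (nat_lit 0x13ec42))) (.node 1 (.leaf (nat_lit 0x113e4be)) (.leaf (nat_lit 0x113f01e))))))))))

/-- A part of `orbP4`. -/
def orbP4_2 : Tree := (.node 128 (.node 64 (.node 32 (.node 16 (.node 8 (.node 4 (.node 2 (.node 1 (.leaf (nat_lit 0x14095c)) (.leaf (nat_lit 0x11404b8))) (.node 1 (.leaf (nat_lit 0x141e7f)) (.leaf (nat_lit 0x142eca)))) (.node 2 (.node 1 (.leaf (nat_lit 0x1142b1d)) (.leaf (nat_lit 0x14362e))) (.node 1 (.leaf (nat_lit 0x144239)) (.leaf (nat_lit 0x1144c7c))))) (.node 4 (.node 2 (.node 1 (.leaf (nat_lit 0x1458c2)) (.leaf (nat_lit 0x146aa1))) (.node 1 (.leaf (nat_lit 0x1146495)) (.leaf (nat_lit 0x1478f2)))) (.node 2 (.node 1 (.leaf (nat_lit 0x11496ca)) (.leaf (nat_lit 0x14ab55))) (.node 1 (.leaf (nat_lit 0x14bce3)) (.leaf (nat_lit 0x114ba10))))))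 (.node 8 (.node 4 (.node 2 (.node 1 (.leaf (nat_lit 0x114c1bd)) (.leaf (nat_lit 0x14d06f))) (.node 1 (.leaf (nat_lit 0x114e061)) (.leaf (nat_lit 0x14f421)))) (.node 2 (.node 1 (.leaf (nat_lit 0x1500f6)) (.leaf (nat_lit 0x11500c0))) (.node 1 (.leaf (nat_lit 0x151872)) (.leaf (nat_lit 0x115179b))))) (.node 4 (.node 2 (.node 1 (.leaf (nat_lit 0x152361)) (.leaf (nat_lit 0x153539))) (.node 1 (.leaf (nat_lit 0x1153a7a)) (.leaf (nat_lit 0x1154f28)))) (.node 2 (.node 1 (.leaf (nat_lit 0x1155fc2)) (.leaf (nat_lit 0x1156b51))) (.node 1 (.leaf (nat_lit 0x11579b2)) (.leaf (nat_lit 0x1585b3))))))) (.node 16 (.node 8 (.node 4 (.node 2 (.node 1 (.leaf (nat_lit 0x11587b2)) (.leaf (nat_lit 0x15a8e9))) (.node 1 (.leaf (nat_lit 0x15b400)) (.leaf (nat_lit 0x115d172)))) (.node 2 (.node 1 (.leaf (nat_lit 0x15eabe)) (.leaf (nat_lit 0x15fa34))) (.node 1 (.leaf (nat_lit 0x115f4c9))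 (.leaf (nat_lit 0x160012))))) (.node 4 (.node 2 (.node 1 (.leaf (nat_lit 0x1160ea7)) (.leaf (nat_lit 0x161474))) (.node 1 (.leaf (nat_lit 0x1162661)) (.leaf (nat_lit 0x1163713)))) (.node 2 (.node 1 (.leaf (nat_lit 0x164bc6)) (.leaf (nat_lit 0x1164912))) (.node 1 (.leaf (nat_lit 0x165f3e)) (.leaf (nat_lit 0x1165d06)))))) (.node 8 (.node 4 (.node 2 (.node 1 (.leaf (nat_lit 0x166ae8)) (.leaf (nat_lit 0x1166943))) (.node 1 (.leaf (nat_lit 0x16700a)) (.leaf (nat_lit 0x1167e3c)))) (.node 2 (.node 1 (.leaf (nat_lit 0x1168985)) (.leaf (nat_lit 0x169e6c))) (.node 1 (.leaf (nat_lit 0x16a37d)) (.leaf (nat_lit 0x116a333))))) (.node 4 (.node 2 (.node 1 (.leaf (nat_lit 0x116bcc6)) (.leaf (nat_lit 0x16c5da))) (.node 1 (.leaf (nat_lit 0x116ca59)) (.leaf (nat_lit 0x16df7d)))) (.node 2 (.node 1 (.leaf (nat_lit 0x116db1e)) (.leaf (nat_lit 0x170f62))) (.node 1 (.leaf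 (nat_lit 0x1170280)) (.leaf (nat_lit 0x171ddf)))))))) (.node 32 (.node 16 (.node 8 (.node 4 (.node 2 (.node 1 (.leaf (nat_lit 0x11717b8)) (.leaf (nat_lit 0x172877))) (.node 1 (.leaf (nat_lit 0x1738b8)) (.leaf (nat_lit 0x1174c23)))) (.node 2 (.node 1 (.leaf (nat_lit 0x1176013)) (.leaf (nat_lit 0x1177220))) (.node 1 (.leaf (nat_lit 0x1179ab5)) (.leaf (nat_lit 0x117ab20))))) (.node 4 (.node 2 (.node 1 (.leaf (nat_lit 0x17bf42)) (.leaf (nat_lit 0x17cf69))) (.node 1 (.leaf (nat_lit 0x117c993)) (.leaf (nat_lit 0x117d78b)))) (.node 2 (.node 1 (.leaf (nat_lit 0x17ef12)) (.leaf (nat_lit 0x117ee11))) (.node 1 (.leaf (nat_lit 0x17f723)) (.leaf (nat_lit 0x117fc1e)))))) (.node 8 (.node 4 (.node 2 (.node 1 (.leaf (nat_lit 0x1180547)) (.leaf (nat_lit 0x1181567))) (.node 1 (.leaf (nat_lit 0x18262f)) (.leaf (nat_lit 0x183a2a)))) (.node 2 (.node 1 (.leaf (nat_lit 0x1183ef8))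 (.leaf (nat_lit 0x1184ce4))) (.node 1 (.leaf (nat_lit 0x185ad0)) (.leaf (nat_lit 0x1185793))))) (.node 4 (.node 2 (.node 1 (.leaf (nat_lit 0x1864e8)) (.leaf (nat_lit 0x1186dea))) (.node 1 (.leaf (nat_lit 0x1187908)) (.leaf (nat_lit 0x188a54)))) (.node 2 (.node 1 (.leaf (nat_lit 0x189874)) (.leaf (nat_lit 0x18ac06))) (.node 1 (.leaf (nat_lit 0x18c659)) (.leaf (nat_lit 0x118c41d))))))) (.node 16 (.node 8 (.node 4 (.node 2 (.node 1 (.leaf (nat_lit 0x18d009)) (.leaf (nat_lit 0x118daef))) (.node 1 (.leaf (nat_lit 0x18e130)) (.leaf (nat_lit 0x18f889)))) (.node 2 (.node 1 (.leaf (nat_lit 0x118f5c3)) (.leaf (nat_lit 0x19029a))) (.node 1 (.leaf (nat_lit 0x1190cf7)) (.leaf (nat_lit 0x1191e7c))))) (.node 4 (.node 2 (.node 1 (.leaf (nat_lit 0x192970)) (.leaf (nat_lit 0x1192ae4))) (.node 1 (.leaf (nat_lit 0x193523)) (.leaf (nat_lit 0x11935c5)))) (.node 2 (.node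 1 (.leaf (nat_lit 0x194754)) (.leaf (nat_lit 0x19557a))) (.node 1 (.leaf (nat_lit 0x196390)) (.leaf (nat_lit 0x1196292)))))) (.node 8 (.node 4 (.node 2 (.node 1 (.leaf (nat_lit 0x198980)) (.leaf (nat_lit 0x119853d))) (.node 1 (.leaf (nat_lit 0x19a763)) (.leaf (nat_lit 0x19bfcc)))) (.node 2 (.node 1 (.leaf (nat_lit 0x119cc7d)) (.leaf (nat_lit 0x19dcfc))) (.node 1 (.leaf (nat_lit 0x119de25)) (.leaf (nat_lit 0x19ef29))))) (.node 4 (.node 2 (.node 1 (.leaf (nat_lit 0x119e64e)) (.leaf (nat_lit 0x19f518))) (.node 1 (.leaf (nat_lit 0x11a0803)) (.leaf (nat_lit 0x1a17ad)))) (.node 2 (.node 1 (.leaf (nat_lit 0x11a1774)) (.leaf (nat_lit 0x1a27b1))) (.node 1 (.leaf (nat_lit 0x11a23d1)) (.leaf (nat_lit 0x1a3688))))))))) (.node 64 (.node 32 (.node 16 (.node 8 (.node 4 (.node 2 (.node 1 (.leaf (nat_lit 0x11a30d8)) (.leaf (nat_lit 0x11a4f1c))) (.node 1 (.leaf (nat_lit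 0x1a5eb8)) (.leaf (nat_lit 0x1a6bfc)))) (.node 2 (.node 1 (.leaf (nat_lit 0x11a6026)) (.leaf (nat_lit 0x1a79af))) (.node 1 (.leaf (nat_lit 0x11a7a1e)) (.leaf (nat_lit 0x1a8076))))) (.node 4 (.node 2 (.node 1 (.leaf (nat_lit 0x11a8594)) (.leaf (nat_lit 0x1a946c))) (.node 1 (.leaf (nat_lit 0x11a9876)) (.leaf (nat_lit 0x1aac3a)))) (.node 2 (.node 1 (.leaf (nat_lit 0x11aa403)) (.leaf (nat_lit 0x11ab7cf))) (.node 1 (.leaf (nat_lit 0x1ac8db)) (.leaf (nat_lit 0x11acc24)))))) (.node 8 (.node 4 (.node 2 (.node 1 (.leaf (nat_lit 0x1add21)) (.leaf (nat_lit 0x11adb8b))) (.node 1 (.leaf (nat_lit 0x1ae84f)) (.leaf (nat_lit 0x11aeb7a)))) (.node 2 (.node 1 (.leaf (nat_lit 0x1af689)) (.leaf (nat_lit 0x11af74c))) (.node 1 (.leaf (nat_lit 0x1b0b8e)) (.leaf (nat_lit 0x1b1e3d))))) (.node 4 (.node 2 (.node 1 (.leaf (nat_lit 0x11b1b31)) (.leaf (nat_lit 0x1b5461))) (.node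 1 (.leaf (nat_lit 0x1b7ef6)) (.leaf (nat_lit 0x11b7f11)))) (.node 2 (.node 1 (.leaf (nat_lit 0x1b8521)) (.leaf (nat_lit 0x11b8184))) (.node 1 (.leaf (nat_lit 0x11b92c8)) (.leaf (nat_lit 0x1ba09c))))))) (.node 16 (.node 8 (.node 4 (.node 2 (.node 1 (.leaf (nat_lit 0x1bbe3f)) (.leaf (nat_lit 0x11bbaa0))) (.node 1 (.leaf (nat_lit 0x11bccab)) (.leaf (nat_lit 0x1bd6b4)))) (.node 2 (.node 1 (.leaf (nat_lit 0x11beefa)) (.leaf (nat_lit 0x1c0c56))) (.node 1 (.leaf (nat_lit 0x1c147d)) (.leaf (nat_lit 0x11c1de5))))) (.node 4 (.node 2 (.node 1 (.leaf (nat_lit 0x1c2992)) (.leaf (nat_lit 0x1c3ac1))) (.node 1 (.leaf (nat_lit 0x1c494d)) (.leaf (nat_lit 0x1c5de0)))) (.node 2 (.node 1 (.leaf (nat_lit 0x11c50ee)) (.leaf (nat_lit 0x1c629d))) (.node 1 (.leaf (nat_lit 0x11c72ee)) (.leaf (nat_lit 0x11c9c9b)))))) (.node 8 (.node 4 (.node 2 (.node 1 (.leaf (nat_lit 0x11ca1d0))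 (.leaf (nat_lit 0x1cb1c6))) (.node 1 (.leaf (nat_lit 0x11cc5d1)) (.leaf (nat_lit 0x11cd487)))) (.node 2 (.node 1 (.leaf (nat_lit 0x11ce359)) (.leaf (nat_lit 0x11d30fd))) (.node 1 (.leaf (nat_lit 0x1d4751)) (.leaf (nat_lit 0x1d660d))))) (.node 4 (.node 2 (.node 1 (.leaf (nat_lit 0x11d6380)) (.leaf (nat_lit 0x11d7a39))) (.node 1 (.leaf (nat_lit 0x11d8815)) (.leaf (nat_lit 0x1d9307)))) (.node 2 (.node 1 (.leaf (nat_lit 0x1db53f)) (.leaf (nat_lit 0x11dc2a3))) (.node 1 (.leaf (nat_lit 0x11ddfcd)) (.leaf (nat_lit 0x1dea56)))))))) (.node 32 (.node 16 (.node 8 (.node 4 (.node 2 (.node 1 (.leaf (nat_lit 0x1e001a)) (.leaf (nat_lit 0x11e1492))) (.node 1 (.leaf (nat_lit 0x11e26c3)) (.leaf (nat_lit 0x1e3cc3)))) (.node 2 (.node 1 (.leaf (nat_lit 0x1e4c2b)) (.leaf (nat_lit 0x11e4d0e))) (.node 1 (.leaf (nat_lit 0x1e5922)) (.leaf (nat_lit 0x1e7d58))))) (.node 4 (.node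 2 (.node 1 (.leaf (nat_lit 0x11e72a9)) (.leaf (nat_lit 0x11e8e63))) (.node 1 (.leaf (nat_lit 0x1e9e1d)) (.leaf (nat_lit 0x11eae82)))) (.node 2 (.node 1 (.leaf (nat_lit 0x1ebef5)) (.leaf (nat_lit 0x11ebb74))) (.node 1 (.leaf (nat_lit 0x1edf09)) (.leaf (nat_lit 0x11ed5ff)))))) (.node 8 (.node 4 (.node 2 (.node 1 (.leaf (nat_lit 0x11ee177)) (.leaf (nat_lit 0x1eff78))) (.node 1 (.leaf (nat_lit 0x11f0375)) (.leaf (nat_lit 0x11f33b8)))) (.node 2 (.node 1 (.leaf (nat_lit 0x11f46b7)) (.leaf (nat_lit 0x1f654d))) (.node 1 (.leaf (nat_lit 0x1f790d)) (.leaf (nat_lit 0x11f7e7b))))) (.node 4 (.node 2 (.node 1 (.leaf (nat_lit 0x1f9cf9)) (.leaf (nat_lit 0x11f9cb9))) (.node 1 (.leaf (nat_lit 0x1fa314)) (.leaf (nat_lit 0x11fb535)))) (.node 2 (.node 1 (.leaf (nat_lit 0x1fc36e)) (.leaf (nat_lit 0x11fc85d))) (.node 1 (.leaf (nat_lit 0x1fd214)) (.leaf (nat_lit 0x11fe2bc)))))))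 (.node 16 (.node 8 (.node 4 (.node 2 (.node 1 (.leaf (nat_lit 0x200a3a)) (.leaf (nat_lit 0x120395b))) (.node 1 (.leaf (nat_lit 0x120470d)) (.leaf (nat_lit 0x2073fc)))) (.node 2 (.node 1 (.leaf (nat_lit 0x2086a6)) (.leaf (nat_lit 0x1209d62))) (.node 1 (.leaf (nat_lit 0x20a1c4)) (.leaf (nat_lit 0x120ad9a))))) (.node 4 (.node 2 (.node 1 (.leaf (nat_lit 0x20bce1)) (.leaf (nat_lit 0x120b306))) (.node 1 (.leaf (nat_lit 0x20cdb2)) (.leaf (nat_lit 0x20e530)))) (.node 2 (.node 1 (.leaf (nat_lit 0x120e320)) (.leaf (nat_lit 0x120f52f))) (.node 1 (.leaf (nat_lit 0x1210155)) (.leaf (nat_lit 0x1212459)))))) (.node 8 (.node 4 (.node 2 (.node 1 (.leaf (nat_lit 0x21428d)) (.leaf (nat_lit 0x1214113))) (.node 1 (.leaf (nat_lit 0x21568b)) (.leaf (nat_lit 0x21858b)))) (.node 2 (.node 1 (.leaf (nat_lit 0x12196c6)) (.leaf (nat_lit 0x121abd9))) (.node 1 (.leaf (nat_lit 0x121cd73))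 (.leaf (nat_lit 0x121ec1a))))) (.node 4 (.node 2 (.node 1 (.leaf (nat_lit 0x21f7af)) (.leaf (nat_lit 0x121fb34))) (.node 1 (.leaf (nat_lit 0x220b58)) (.leaf (nat_lit 0x12236d5)))) (.node 2 (.node 1 (.leaf (nat_lit 0x1224840)) (.leaf (nat_lit 0x122551e))) (.node 1 (.leaf (nat_lit 0x1226609)) (.leaf (nat_lit 0x227dda))))))))))

/-- A part of `orbP4`. -/
def orbP4_3 : Tree := (.node 128 (.node 64 (.node 32 (.node 16 (.node 8 (.node 4 (.node 2 (.node 1 (.leaf (nat_lit 0x22a595)) (.leaf (nat_lit 0x22bc57))) (.node 1 (.leaf (nat_lit 0x122b8d3)) (.leaf (nat_lit 0x22cb5a)))) (.node 2 (.node 1 (.leaf (nat_lit 0x22d76e)) (.leaf (nat_lit 0x122d965))) (.node 1 (.leaf (nat_lit 0x22eb09)) (.leaf (nat_lit 0x22f4cf))))) (.node 4 (.node 2 (.node 1 (.leaf (nat_lit 0x122f3e5)) (.leaf (nat_lit 0x1230e13))) (.node 1 (.leaf (nat_lit 0x2313ce)) (.leaf (nat_lit 0x12319f5))))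 (.node 2 (.node 1 (.leaf (nat_lit 0x1232aa5)) (.leaf (nat_lit 0x233d87))) (.node 1 (.leaf (nat_lit 0x1233f5a)) (.leaf (nat_lit 0x234d39)))))) (.node 8 (.node 4 (.node 2 (.node 1 (.leaf (nat_lit 0x2369fc)) (.leaf (nat_lit 0x1237e32))) (.node 1 (.leaf (nat_lit 0x2386e9)) (.leaf (nat_lit 0x239a72)))) (.node 2 (.node 1 (.leaf (nat_lit 0x23a13b)) (.leaf (nat_lit 0x123a369))) (.node 1 (.leaf (nat_lit 0x23c4e5)) (.leaf (nat_lit 0x123c50e))))) (.node 4 (.node 2 (.node 1 (.leaf (nat_lit 0x23d085)) (.leaf (nat_lit 0x123f6d0))) (.node 1 (.leaf (nat_lit 0x240e56)) (.leaf (nat_lit 0x1240542)))) (.node 2 (.node 1 (.leaf (nat_lit 0x2417aa)) (.leaf (nat_lit 0x1241e89))) (.node 1 (.leaf (nat_lit 0x24262d)) (.leaf (nat_lit 0x12430ff))))))) (.node 16 (.node 8 (.node 4 (.node 2 (.node 1 (.leaf (nat_lit 0x24495d)) (.leaf (nat_lit 0x12443ca))) (.node 1 (.leaf (nat_lit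 0x1246a0f)) (.leaf (nat_lit 0x247bb7)))) (.node 2 (.node 1 (.leaf (nat_lit 0x124800e)) (.leaf (nat_lit 0x2498fe))) (.node 1 (.leaf (nat_lit 0x1249b68)) (.leaf (nat_lit 0x24b286))))) (.node 4 (.node 2 (.node 1 (.leaf (nat_lit 0x124b9b7)) (.leaf (nat_lit 0x124c255))) (.node 1 (.leaf (nat_lit 0x24fca7)) (.leaf (nat_lit 0x25060f)))) (.node 2 (.node 1 (.leaf (nat_lit 0x1250e06)) (.leaf (nat_lit 0x251730))) (.node 1 (.leaf (nat_lit 0x125219a)) (.leaf (nat_lit 0x12547bc)))))) (.node 8 (.node 4 (.node 2 (.node 1 (.leaf (nat_lit 0x12562e6)) (.leaf (nat_lit 0x257dcd))) (.node 1 (.leaf (nat_lit 0x258ba1)) (.leaf (nat_lit 0x1259927)))) (.node 2 (.node 1 (.leaf (nat_lit 0x25aa70)) (.leaf (nat_lit 0x25b8f0))) (.node 1 (.leaf (nat_lit 0x125b7c6)) (.leaf (nat_lit 0x25ee21))))) (.node 4 (.node 2 (.node 1 (.leaf (nat_lit 0x25f199)) (.leaf (nat_lit 0x26026f))) (.node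 1 (.leaf (nat_lit 0x2616c9)) (.leaf (nat_lit 0x1261d7d)))) (.node 2 (.node 1 (.leaf (nat_lit 0x26243f)) (.leaf (nat_lit 0x12627be))) (.node 1 (.leaf (nat_lit 0x1264c8d)) (.leaf (nat_lit 0x26826a)))))))) (.node 32 (.node 16 (.node 8 (.node 4 (.node 2 (.node 1 (.leaf (nat_lit 0x269af3)) (.leaf (nat_lit 0x1269d3f))) (.node 1 (.leaf (nat_lit 0x126a88a)) (.leaf (nat_lit 0x26b860)))) (.node 2 (.node 1 (.leaf (nat_lit 0x26c549)) (.leaf (nat_lit 0x126cf7b))) (.node 1 (.leaf (nat_lit 0x126e6b1)) (.leaf (nat_lit 0x27068d))))) (.node 4 (.node 2 (.node 1 (.leaf (nat_lit 0x1270f0b)) (.leaf (nat_lit 0x271147))) (.node 1 (.leaf (nat_lit 0x272952)) (.leaf (nat_lit 0x127223d)))) (.node 2 (.node 1 (.leaf (nat_lit 0x127339f)) (.leaf (nat_lit 0x12747bb))) (.node 1 (.leaf (nat_lit 0x1275f74)) (.leaf (nat_lit 0x278784)))))) (.node 8 (.node 4 (.node 2 (.node 1 (.leaf (nat_lit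 0x127a100)) (.leaf (nat_lit 0x27b789))) (.node 1 (.leaf (nat_lit 0x127ca42)) (.leaf (nat_lit 0x127d304)))) (.node 2 (.node 1 (.leaf (nat_lit 0x27e35a)) (.leaf (nat_lit 0x127eafc))) (.node 1 (.leaf (nat_lit 0x27fbe0)) (.leaf (nat_lit 0x12806da))))) (.node 4 (.node 2 (.node 1 (.leaf (nat_lit 0x2810e9)) (.leaf (nat_lit 0x282a31))) (.node 1 (.leaf (nat_lit 0x28446d)) (.leaf (nat_lit 0x28522c)))) (.node 2 (.node 1 (.leaf (nat_lit 0x1285a87)) (.leaf (nat_lit 0x28676f))) (.node 1 (.leaf (nat_lit 0x287ea3)) (.leaf (nat_lit 0x289e4b))))))) (.node 16 (.node 8 (.node 4 (.node 2 (.node 1 (.leaf (nat_lit 0x1289264)) (.leaf (nat_lit 0x128b52c))) (.node 1 (.leaf (nat_lit 0x28ce31)) (.leaf (nat_lit 0x128cc19)))) (.node 2 (.node 1 (.leaf (nat_lit 0x28ef1d)) (.leaf (nat_lit 0x128efa9))) (.node 1 (.leaf (nat_lit 0x290e6d)) (.leaf (nat_lit 0x2910c3))))) (.node 4 (.node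 2 (.node 1 (.leaf (nat_lit 0x1292e10)) (.leaf (nat_lit 0x12930f9))) (.node 1 (.leaf (nat_lit 0x2952e5)) (.leaf (nat_lit 0x1296de4)))) (.node 2 (.node 1 (.leaf (nat_lit 0x1297cb7)) (.leaf (nat_lit 0x1299d7a))) (.node 1 (.leaf (nat_lit 0x129a0b2)) (.leaf (nat_lit 0x29cfab)))))) (.node 8 (.node 4 (.node 2 (.node 1 (.leaf (nat_lit 0x29dbc7)) (.leaf (nat_lit 0x129d005))) (.node 1 (.leaf (nat_lit 0x29e72c)) (.leaf (nat_lit 0x129eb63)))) (.node 2 (.node 1 (.leaf (nat_lit 0x29f305)) (.leaf (nat_lit 0x12a04b9))) (.node 1 (.leaf (nat_lit 0x12a2e6b)) (.leaf (nat_lit 0x12a328e))))) (.node 4 (.node 2 (.node 1 (.leaf (nat_lit 0x2a4b62)) (.leaf (nat_lit 0x2a5cbb))) (.node 1 (.leaf (nat_lit 0x2a65e6)) (.leaf (nat_lit 0x12a656e)))) (.node 2 (.node 1 (.leaf (nat_lit 0x2a8006)) (.leaf (nat_lit 0x12a82f0))) (.node 1 (.leaf (nat_lit 0x12aab72)) (.leaf (nat_lit 0x12abb29)))))))))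 (.node 64 (.node 32 (.node 16 (.node 8 (.node 4 (.node 2 (.node 1 (.leaf (nat_lit 0x2acfa0)) (.leaf (nat_lit 0x12ac44a))) (.node 1 (.leaf (nat_lit 0x2ad6cc)) (.leaf (nat_lit 0x12aff17)))) (.node 2 (.node 1 (.leaf (nat_lit 0x12b2a2e)) (.leaf (nat_lit 0x2b3c10))) (.node 1 (.leaf (nat_lit 0x2b40de)) (.leaf (nat_lit 0x12b491e))))) (.node 4 (.node 2 (.node 1 (.leaf (nat_lit 0x12b600f)) (.leaf (nat_lit 0x12b9a3d))) (.node 1 (.leaf (nat_lit 0x2c0d3d)) (.leaf (nat_lit 0x12c20bb)))) (.node 2 (.node 1 (.leaf (nat_lit 0x12c5f6a)) (.leaf (nat_lit 0x2c83d2))) (.node 1 (.leaf (nat_lit 0x12c8558)) (.leaf (nat_lit 0x12cc4f1)))))) (.node 8 (.node 4 (.node 2 (.node 1 (.leaf (nat_lit 0x12ce667)) (.leaf (nat_lit 0x2cf70c))) (.node 1 (.leaf (nat_lit 0x2d0d10)) (.leaf (nat_lit 0x2d1a23)))) (.node 2 (.node 1 (.leaf (nat_lit 0x2d3c9c)) (.leaf (nat_lit 0x12d3899))) (.node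 1 (.leaf (nat_lit 0x12d77bd)) (.leaf (nat_lit 0x2dc47f))))) (.node 4 (.node 2 (.node 1 (.leaf (nat_lit 0x2dd812)) (.leaf (nat_lit 0x12dfe1c))) (.node 1 (.leaf (nat_lit 0x12e5bd1)) (.leaf (nat_lit 0x2e6ab8)))) (.node 2 (.node 1 (.leaf (nat_lit 0x12e718d)) (.leaf (nat_lit 0x12ea942))) (.node 1 (.leaf (nat_lit 0x2edeab)) (.leaf (nat_lit 0x2eed11))))))) (.node 16 (.node 8 (.node 4 (.node 2 (.node 1 (.leaf (nat_lit 0x12f2ee0)) (.leaf (nat_lit 0x2f4ac0))) (.node 1 (.leaf (nat_lit 0x12f4c05)) (.leaf (nat_lit 0x12f735f)))) (.node 2 (.node 1 (.leaf (nat_lit 0x2fe731)) (.leaf (nat_lit 0x2fff4b))) (.node 1 (.leaf (nat_lit 0x300f0e)) (.leaf (nat_lit 0x3025e8))))) (.node 4 (.node 2 (.node 1 (.leaf (nat_lit 0x1302b69)) (.leaf (nat_lit 0x304c5c))) (.node 1 (.leaf (nat_lit 0x3050d0)) (.leaf (nat_lit 0x1305602)))) (.node 2 (.node 1 (.leaf (nat_lit 0x30758a)) (.leaf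 (nat_lit 0x13086e1))) (.node 1 (.leaf (nat_lit 0x309138)) (.leaf (nat_lit 0x1309224)))))) (.node 8 (.node 4 (.node 2 (.node 1 (.leaf (nat_lit 0x30a802)) (.leaf (nat_lit 0x30ca9b))) (.node 1 (.leaf (nat_lit 0x30e019)) (.leaf (nat_lit 0x130fa09)))) (.node 2 (.node 1 (.leaf (nat_lit 0x131050f)) (.leaf (nat_lit 0x31113d))) (.node 1 (.leaf (nat_lit 0x3139f3)) (.leaf (nat_lit 0x314cc5))))) (.node 4 (.node 2 (.node 1 (.leaf (nat_lit 0x1315750)) (.leaf (nat_lit 0x316f4a))) (.node 1 (.leaf (nat_lit 0x1317a4d)) (.leaf (nat_lit 0x318b19)))) (.node 2 (.node 1 (.leaf (nat_lit 0x319003)) (.leaf (nat_lit 0x31c573))) (.node 1 (.leaf (nat_lit 0x131cf7a)) (.leaf (nat_lit 0x31d88f)))))))) (.node 32 (.node 16 (.node 8 (.node 4 (.node 2 (.node 1 (.leaf (nat_lit 0x31f8f9)) (.leaf (nat_lit 0x131f237))) (.node 1 (.leaf (nat_lit 0x320b2e)) (.leaf (nat_lit 0x322d79)))) (.node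 2 (.node 1 (.leaf (nat_lit 0x1323c29)) (.leaf (nat_lit 0x324a41))) (.node 1 (.leaf (nat_lit 0x3266c0)) (.leaf (nat_lit 0x3279f4))))) (.node 4 (.node 2 (.node 1 (.leaf (nat_lit 0x132783a)) (.leaf (nat_lit 0x328bdd))) (.node 1 (.leaf (nat_lit 0x1328d01)) (.leaf (nat_lit 0x1329b8c)))) (.node 2 (.node 1 (.leaf (nat_lit 0x32a509)) (.leaf (nat_lit 0x132a597))) (.node 1 (.leaf (nat_lit 0x132b132)) (.leaf (nat_lit 0x132cf43)))))) (.node 8 (.node 4 (.node 2 (.node 1 (.leaf (nat_lit 0x32dc6d)) (.leaf (nat_lit 0x132d8be))) (.node 1 (.leaf (nat_lit 0x331d1a)) (.leaf (nat_lit 0x1331c0d)))) (.node 2 (.node 1 (.leaf (nat_lit 0x3335c9)) (.leaf (nat_lit 0x334f79))) (.node 1 (.leaf (nat_lit 0x133835b)) (.leaf (nat_lit 0x1339158))))) (.node 4 (.node 2 (.node 1 (.leaf (nat_lit 0x133a861)) (.leaf (nat_lit 0x341d15))) (.node 1 (.leaf (nat_lit 0x345a40)) (.leaf (nat_lit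 0x3466c7)))) (.node 2 (.node 1 (.leaf (nat_lit 0x3494ce)) (.leaf (nat_lit 0x1349f7e))) (.node 1 (.leaf (nat_lit 0x34a7ca)) (.leaf (nat_lit 0x34ece5))))))) (.node 16 (.node 8 (.node 4 (.node 2 (.node 1 (.leaf (nat_lit 0x3523b0)) (.leaf (nat_lit 0x353714))) (.node 1 (.leaf (nat_lit 0x1359921)) (.leaf (nat_lit 0x1360f26)))) (.node 2 (.node 1 (.leaf (nat_lit 0x362055)) (.leaf (nat_lit 0x366e60))) (.node 1 (.leaf (nat_lit 0x13672e1)) (.leaf (nat_lit 0x1368e83))))) (.node 4 (.node 2 (.node 1 (.leaf (nat_lit 0x136bf9f)) (.leaf (nat_lit 0x36cf76))) (.node 1 (.leaf (nat_lit 0x136febd)) (.leaf (nat_lit 0x1380a51)))) (.node 2 (.node 1 (.leaf (nat_lit 0x385c35)) (.leaf (nat_lit 0x13887d6))) (.node 1 (.leaf (nat_lit 0x138fb46)) (.leaf (nat_lit 0x139559f)))))) (.node 8 (.node 4 (.node 2 (.node 1 (.leaf (nat_lit 0x39c2c5)) (.leaf (nat_lit 0x13a523a))) (.node 1 (.leaf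 (nat_lit 0x13a6808)) (.leaf (nat_lit 0x13a9349)))) (.node 2 (.node 1 (.leaf (nat_lit 0x3ab89a)) (.leaf (nat_lit 0x13aba0c))) (.node 1 (.leaf (nat_lit 0x3b7441)) (.leaf (nat_lit 0x3b9d2b))))) (.node 4 (.node 2 (.node 1 (.leaf (nat_lit 0x13baf3b)) (.leaf (nat_lit 0x13bd512))) (.node 1 (.leaf (nat_lit 0x3c1ec2)) (.leaf (nat_lit 0x13c43e7)))) (.node 2 (.node 1 (.leaf (nat_lit 0x3c6b42)) (.leaf (nat_lit 0x3ce6c8))) (.node 1 (.leaf (nat_lit 0x3d89cf)) (.leaf (nat_lit 0x13ebae1))))))))))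

/-- An orbit. -/
def orbP4 : Tree := (.node 512 (.node 256 orbP4_0 orbP4_1) (.node 256 orbP4_2 orbP4_3))

/-- The orbits with their lengths. -/
def orbPL : List (Tree × ℕ) := [(orbP0, 1), (orbP1, 10), (orbP2, 80), (orbP3, 640), (orbP4, 1024)]

/-- A part of `orbJN0`. -/
def orbJN0_0 : Tree := (.node 128 (.node 64 (.node 32 (.node 16 (.node 8 (.node 4 (.node 2 (.node 1 (.leaf (nat_lit 0x7b8)) (.leaf (nat_lit 0xb25))) (.node 1 (.leaf (nat_lit 0x1000306)) (.leaf (nat_lit 0x2000ac7)))) (.node 2 (.node 1 (.leaf (nat_lit 0x15c3)) (.leaf (nat_lit 0x100120f))) (.node 1 (.leaf (nat_lit 0x2001840)) (.leaf (nat_lit 0x24d5))))) (.node 4 (.node 2 (.node 1 (.leaf (nat_lit 0x1002d66)) (.leaf (nat_lit 0x2002451))) (.node 1 (.leaf (nat_lit 0x3170)) (.leaf (nat_lit 0x100300f)))) (.node 2 (.node 1 (.leaf (nat_lit 0x200376e)) (.leaf (nat_lit 0x493d))) (.node 1 (.leaf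 (nat_lit 0x1004dd8)) (.leaf (nat_lit 0x2004255)))))) (.node 8 (.node 4 (.node 2 (.node 1 (.leaf (nat_lit 0x50a7)) (.leaf (nat_lit 0x10056c6))) (.node 1 (.leaf (nat_lit 0x2005ab2)) (.leaf (nat_lit 0x601a)))) (.node 2 (.node 1 (.leaf (nat_lit 0x10061ab)) (.leaf (nat_lit 0x2006b8d))) (.node 1 (.leaf (nat_lit 0x7754)) (.leaf (nat_lit 0x1007ccf))))) (.node 4 (.node 2 (.node 1 (.leaf (nat_lit 0x2007113)) (.leaf (nat_lit 0x8b7a))) (.node 1 (.leaf (nat_lit 0x10083e7)) (.leaf (nat_lit 0x20084d7)))) (.node 2 (.node 1 (.leaf (nat_lit 0x9a4e)) (.leaf (nat_lit 0x1009c84))) (.node 1 (.leaf (nat_lit 0x2009408)) (.leaf (nat_lit 0xab26))))))) (.node 16 (.node 8 (.node 4 (.node 2 (.node 1 (.leaf (nat_lit 0x100a3ec)) (.leaf (nat_lit 0x200abd2))) (.node 1 (.leaf (nat_lit 0x100b3ce)) (.leaf (nat_lit 0x200b5ac)))) (.node 2 (.node 1 (.leaf (nat_lit 0xcfc3)) (.leaf (nat_lit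 0x100c2be))) (.node 1 (.leaf (nat_lit 0x200c87e)) (.leaf (nat_lit 0xd5b5))))) (.node 4 (.node 2 (.node 1 (.leaf (nat_lit 0x100d9c6)) (.leaf (nat_lit 0x200d286))) (.node 1 (.leaf (nat_lit 0xee0f)) (.leaf (nat_lit 0x100e7a1)))) (.node 2 (.node 1 (.leaf (nat_lit 0x200e3e2)) (.leaf (nat_lit 0xf005))) (.node 1 (.leaf (nat_lit 0x100fef9)) (.leaf (nat_lit 0x200f2b6)))))) (.node 8 (.node 4 (.node 2 (.node 1 (.leaf (nat_lit 0x10fa6)) (.leaf (nat_lit 0x201055c))) (.node 1 (.leaf (nat_lit 0x11763)) (.leaf (nat_lit 0x101194c)))) (.node 2 (.node 1 (.leaf (nat_lit 0x2011c1c)) (.leaf (nat_lit 0x1228d))) (.node 1 (.leaf (nat_lit 0x1012f5b)) (.leaf (nat_lit 0x2012595))))) (.node 4 (.node 2 (.node 1 (.leaf (nat_lit 0x13866)) (.leaf (nat_lit 0x1013bc9))) (.node 1 (.leaf (nat_lit 0x201325f)) (.leaf (nat_lit 0x14e6b)))) (.node 2 (.node 1 (.leaf (nat_lit 0x1014a6d)) (.leaf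 (nat_lit 0x2014b61))) (.node 1 (.leaf (nat_lit 0x15985)) (.leaf (nat_lit 0x101566d)))))))) (.node 32 (.node 16 (.node 8 (.node 4 (.node 2 (.node 1 (.leaf (nat_lit 0x201593f)) (.leaf (nat_lit 0x16c0b))) (.node 1 (.leaf (nat_lit 0x10165d3)) (.leaf (nat_lit 0x201684f)))) (.node 2 (.node 1 (.leaf (nat_lit 0x10170c5)) (.leaf (nat_lit 0x2017da7))) (.node 1 (.leaf (nat_lit 0x1890c)) (.leaf (nat_lit 0x101877e))))) (.node 4 (.node 2 (.node 1 (.leaf (nat_lit 0x201894d)) (.leaf (nat_lit 0x19c9d))) (.node 1 (.leaf (nat_lit 0x1019faa)) (.leaf (nat_lit 0x2019e24)))) (.node 2 (.node 1 (.leaf (nat_lit 0x1a0e3)) (.leaf (nat_lit 0x201ae18))) (.node 1 (.leaf (nat_lit 0x1ba98)) (.leaf (nat_lit 0x101bb46)))))) (.node 8 (.node 4 (.node 2 (.node 1 (.leaf (nat_lit 0x201ba56)) (.leaf (nat_lit 0x101c746))) (.node 1 (.leaf (nat_lit 0x201c528)) (.leaf (nat_lit 0x101d1d7))))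 (.node 2 (.node 1 (.leaf (nat_lit 0x201d38e)) (.leaf (nat_lit 0x1ec5c))) (.node 1 (.leaf (nat_lit 0x101e954)) (.leaf (nat_lit 0x201e63e))))) (.node 4 (.node 2 (.node 1 (.leaf (nat_lit 0x1f539)) (.leaf (nat_lit 0x101fa9b))) (.node 1 (.leaf (nat_lit 0x201fa0d)) (.leaf (nat_lit 0x1021369)))) (.node 2 (.node 1 (.leaf (nat_lit 0x20216db)) (.leaf (nat_lit 0x22827))) (.node 1 (.leaf (nat_lit 0x102253d)) (.leaf (nat_lit 0x2022f79))))))) (.node 16 (.node 8 (.node 4 (.node 2 (.node 1 (.leaf (nat_lit 0x239d1)) (.leaf (nat_lit 0x1023767))) (.node 1 (.leaf (nat_lit 0x2023d37)) (.leaf (nat_lit 0x2478d)))) (.node 2 (.node 1 (.leaf (nat_lit 0x1024523)) (.leaf (nat_lit 0x2024e89))) (.node 1 (.leaf (nat_lit 0x10256a9)) (.leaf (nat_lit 0x2025715))))) (.node 4 (.node 2 (.node 1 (.leaf (nat_lit 0x2610c)) (.leaf (nat_lit 0x1026129))) (.node 1 (.leaf (nat_lit 0x20268f1))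 (.leaf (nat_lit 0x27e62)))) (.node 2 (.node 1 (.leaf (nat_lit 0x1027c5d)) (.leaf (nat_lit 0x2027bad))) (.node 1 (.leaf (nat_lit 0x28632)) (.leaf (nat_lit 0x10287ac)))))) (.node 8 (.node 4 (.node 2 (.node 1 (.leaf (nat_lit 0x2028a4c)) (.leaf (nat_lit 0x29980))) (.node 1 (.leaf (nat_lit 0x1029a2c)) (.leaf (nat_lit 0x2029644)))) (.node 2 (.node 1 (.leaf (nat_lit 0x2ae55)) (.leaf (nat_lit 0x202abda))) (.node 1 (.leaf (nat_lit 0x2b3c3)) (.leaf (nat_lit 0x102b51e))))) (.node 4 (.node 2 (.node 1 (.leaf (nat_lit 0x202b694)) (.leaf (nat_lit 0x2cb1c))) (.node 1 (.leaf (nat_lit 0x102c74b)) (.leaf (nat_lit 0x202c403)))) (.node 2 (.node 1 (.leaf (nat_lit 0x2dcca)) (.leaf (nat_lit 0x202d587))) (.node 1 (.leaf (nat_lit 0x102e61f)) (.leaf (nat_lit 0x202e90d))))))))) (.node 64 (.node 32 (.node 16 (.node 8 (.node 4 (.node 2 (.node 1 (.leaf (nat_lit 0x2f6d5)) (.leaf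 (nat_lit 0x102f40d))) (.node 1 (.leaf (nat_lit 0x202f21a)) (.leaf (nat_lit 0x309c8)))) (.node 2 (.node 1 (.leaf (nat_lit 0x10307c5)) (.leaf (nat_lit 0x2030913))) (.node 1 (.leaf (nat_lit 0x3170a)) (.leaf (nat_lit 0x2031e7f))))) (.node 4 (.node 2 (.node 1 (.leaf (nat_lit 0x323a3)) (.leaf (nat_lit 0x103293b))) (.node 1 (.leaf (nat_lit 0x2032d0f)) (.leaf (nat_lit 0x334e8)))) (.node 2 (.node 1 (.leaf (nat_lit 0x10338e8)) (.leaf (nat_lit 0x3470f))) (.node 1 (.leaf (nat_lit 0x2034a54)) (.leaf (nat_lit 0x35908)))))) (.node 8 (.node 4 (.node 2 (.node 1 (.leaf (nat_lit 0x10351a4)) (.leaf (nat_lit 0x20357ca))) (.node 1 (.leaf (nat_lit 0x36251)) (.leaf (nat_lit 0x1036f9a)))) (.node 2 (.node 1 (.leaf (nat_lit 0x2036e7c)) (.leaf (nat_lit 0x372ee))) (.node 1 (.leaf (nat_lit 0x10374ce)) (.leaf (nat_lit 0x2037af3))))) (.node 4 (.node 2 (.node 1 (.leaf (nat_lit 0x3870e))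 (.leaf (nat_lit 0x1038bae))) (.node 1 (.leaf (nat_lit 0x2038079)) (.leaf (nat_lit 0x39afd)))) (.node 2 (.node 1 (.leaf (nat_lit 0x1039c64)) (.leaf (nat_lit 0x2039097))) (.node 1 (.leaf (nat_lit 0x3a30b)) (.leaf (nat_lit 0x103aae5))))))) (.node 16 (.node 8 (.node 4 (.node 2 (.node 1 (.leaf (nat_lit 0x203af63)) (.leaf (nat_lit 0x3b3f4))) (.node 1 (.leaf (nat_lit 0x103b543)) (.leaf (nat_lit 0x203b75e)))) (.node 2 (.node 1 (.leaf (nat_lit 0x3ce86)) (.leaf (nat_lit 0x103ca49))) (.node 1 (.leaf (nat_lit 0x203c920)) (.leaf (nat_lit 0x3d6d0))))) (.node 4 (.node 2 (.node 1 (.leaf (nat_lit 0x103d0f6)) (.leaf (nat_lit 0x203d605))) (.node 1 (.leaf (nat_lit 0x3e490)) (.leaf (nat_lit 0x103e785)))) (.node 2 (.node 1 (.leaf (nat_lit 0x3fa3c)) (.leaf (nat_lit 0x103fd63))) (.node 1 (.leaf (nat_lit 0x203f42e)) (.leaf (nat_lit 0x40c70)))))) (.node 8 (.node 4 (.node 2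 (.node 1 (.leaf (nat_lit 0x410d0)) (.leaf (nat_lit 0x104189b))) (.node 1 (.leaf (nat_lit 0x2041daa)) (.leaf (nat_lit 0x42bb8)))) (.node 2 (.node 1 (.leaf (nat_lit 0x1042474)) (.leaf (nat_lit 0x2042958))) (.node 1 (.leaf (nat_lit 0x43b72)) (.leaf (nat_lit 0x1043575))))) (.node 4 (.node 2 (.node 1 (.leaf (nat_lit 0x2043f4a)) (.leaf (nat_lit 0x44351))) (.node 1 (.leaf (nat_lit 0x1044b55)) (.leaf (nat_lit 0x458df)))) (.node 2 (.node 1 (.leaf (nat_lit 0x20452e2)) (.leaf (nat_lit 0x46fc4))) (.node 1 (.leaf (nat_lit 0x104656a)) (.leaf (nat_lit 0x204674f)))))))) (.node 32 (.node 16 (.node 8 (.node 4 (.node 2 (.node 1 (.leaf (nat_lit 0x104739f)) (.leaf (nat_lit 0x2047e2f))) (.node 1 (.leaf (nat_lit 0x48b04)) (.leaf (nat_lit 0x1048abe)))) (.node 2 (.node 1 (.leaf (nat_lit 0x2048ec2)) (.leaf (nat_lit 0x49ac1))) (.node 1 (.leaf (nat_lit 0x1049094)) (.leaf (nat_lit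 0x2049422))))) (.node 4 (.node 2 (.node 1 (.leaf (nat_lit 0x104a3e5)) (.leaf (nat_lit 0x204af0b))) (.node 1 (.leaf (nat_lit 0x104be3d)) (.leaf (nat_lit 0x4c196)))) (.node 2 (.node 1 (.leaf (nat_lit 0x104c32a)) (.leaf (nat_lit 0x204cd0e))) (.node 1 (.leaf (nat_lit 0x4dcbb)) (.leaf (nat_lit 0x104db8c)))))) (.node 8 (.node 4 (.node 2 (.node 1 (.leaf (nat_lit 0x204d921)) (.leaf (nat_lit 0x104ef97))) (.node 1 (.leaf (nat_lit 0x204e481)) (.leaf (nat_lit 0x204f4e7)))) (.node 2 (.node 1 (.leaf (nat_lit 0x50f1a)) (.leaf (nat_lit 0x1050f0e))) (.node 1 (.leaf (nat_lit 0x2050fc1)) (.leaf (nat_lit 0x513d1))))) (.node 4 (.node 2 (.node 1 (.leaf (nat_lit 0x1051875)) (.leaf (nat_lit 0x1052213))) (.node 1 (.leaf (nat_lit 0x2052b31)) (.leaf (nat_lit 0x53eca)))) (.node 2 (.node 1 (.leaf (nat_lit 0x20538e1)) (.leaf (nat_lit 0x1054729))) (.node 1 (.leaf (nat_lit 0x2054ce6))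 (.leaf (nat_lit 0x55774))))))) (.node 16 (.node 8 (.node 4 (.node 2 (.node 1 (.leaf (nat_lit 0x2055b4a)) (.leaf (nat_lit 0x205747d))) (.node 1 (.leaf (nat_lit 0x58f3b)) (.leaf (nat_lit 0x1058c04)))) (.node 2 (.node 1 (.leaf (nat_lit 0x59959)) (.leaf (nat_lit 0x1059a70))) (.node 1 (.leaf (nat_lit 0x205965c)) (.leaf (nat_lit 0x5ae1c))))) (.node 4 (.node 2 (.node 1 (.leaf (nat_lit 0x105af69)) (.leaf (nat_lit 0x205b8ef))) (.node 1 (.leaf (nat_lit 0x105c353)) (.leaf (nat_lit 0x205c870)))) (.node 2 (.node 1 (.leaf (nat_lit 0x5de32)) (.leaf (nat_lit 0x105d4f6))) (.node 1 (.leaf (nat_lit 0x205d824)) (.leaf (nat_lit 0x5e197)))))) (.node 8 (.node 4 (.node 2 (.node 1 (.leaf (nat_lit 0x105e647)) (.leaf (nat_lit 0x205e155))) (.node 1 (.leaf (nat_lit 0x5fb9b)) (.leaf (nat_lit 0x105f328)))) (.node 2 (.node 1 (.leaf (nat_lit 0x205fe69)) (.leaf (nat_lit 0x60442)))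 (.node 1 (.leaf (nat_lit 0x1060440)) (.leaf (nat_lit 0x2060c71))))) (.node 4 (.node 2 (.node 1 (.leaf (nat_lit 0x1061cc6)) (.leaf (nat_lit 0x20616e1))) (.node 1 (.leaf (nat_lit 0x625c5)) (.leaf (nat_lit 0x1062a4f)))) (.node 2 (.node 1 (.leaf (nat_lit 0x2062e85)) (.leaf (nat_lit 0x6338d))) (.node 1 (.leaf (nat_lit 0x20632b9)) (.leaf (nat_lit 0x64949))))))))))

/-- A part of `orbJN0`. -/
def orbJN0_1 : Tree := (.node 128 (.node 64 (.node 32 (.node 16 (.node 8 (.node 4 (.node 2 (.node 1 (.leaf (nat_lit 0x1064736)) (.leaf (nat_lit 0x206497e))) (.node 1 (.leaf (nat_lit 0x65e87)) (.leaf (nat_lit 0x10658f5)))) (.node 2 (.node 1 (.leaf (nat_lit 0x2065589)) (.leaf (nat_lit 0x1066760))) (.node 1 (.leaf (nat_lit 0x206612a)) (.leaf (nat_lit 0x67ca1))))) (.node 4 (.node 2 (.node 1 (.leaf (nat_lit 0x1067bb7)) (.leaf (nat_lit 0x2067984))) (.node 1 (.leaf (nat_lit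 0x68e6f)) (.leaf (nat_lit 0x10687af)))) (.node 2 (.node 1 (.leaf (nat_lit 0x69fcf)) (.leaf (nat_lit 0x2069305))) (.node 1 (.leaf (nat_lit 0x6ad3d)) (.leaf (nat_lit 0x106aea7)))))) (.node 8 (.node 4 (.node 2 (.node 1 (.leaf (nat_lit 0x6b0f7)) (.leaf (nat_lit 0x106b692))) (.node 1 (.leaf (nat_lit 0x206b441)) (.leaf (nat_lit 0x6ce8b)))) (.node 2 (.node 1 (.leaf (nat_lit 0x106c9c7)) (.leaf (nat_lit 0x206c492))) (.node 1 (.leaf (nat_lit 0x6d2bf)) (.leaf (nat_lit 0x206d2a2))))) (.node 4 (.node 2 (.node 1 (.leaf (nat_lit 0x6e9f1)) (.leaf (nat_lit 0x206e727))) (.node 1 (.leaf (nat_lit 0x6f472)) (.leaf (nat_lit 0x106fe6e)))) (.node 2 (.node 1 (.leaf (nat_lit 0x206f97d)) (.leaf (nat_lit 0x704cf))) (.node 1 (.leaf (nat_lit 0x1070a77)) (.leaf (nat_lit 0x2070475))))))) (.node 16 (.node 8 (.node 4 (.node 2 (.node 1 (.leaf (nat_lit 0x107177c)) (.leaf (nat_lit 0x72722)))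 (.node 1 (.leaf (nat_lit 0x1072fa2)) (.leaf (nat_lit 0x73a0f)))) (.node 2 (.node 1 (.leaf (nat_lit 0x2073f62)) (.leaf (nat_lit 0x740b2))) (.node 1 (.leaf (nat_lit 0x2074e33)) (.leaf (nat_lit 0x758e0))))) (.node 4 (.node 2 (.node 1 (.leaf (nat_lit 0x1075fd1)) (.leaf (nat_lit 0x2075c05))) (.node 1 (.leaf (nat_lit 0x2076b05)) (.leaf (nat_lit 0x77dae)))) (.node 2 (.node 1 (.leaf (nat_lit 0x107755e)) (.leaf (nat_lit 0x10780c6))) (.node 1 (.leaf (nat_lit 0x20780fd)) (.leaf (nat_lit 0x7943f)))))) (.node 8 (.node 4 (.node 2 (.node 1 (.leaf (nat_lit 0x107927b)) (.leaf (nat_lit 0x207968a))) (.node 1 (.leaf (nat_lit 0x207a3a1)) (.leaf (nat_lit 0x7b544)))) (.node 2 (.node 1 (.leaf (nat_lit 0x107b5c7)) (.leaf (nat_lit 0x107c793))) (.node 1 (.leaf (nat_lit 0x207c0c4)) (.leaf (nat_lit 0x7df8b))))) (.node 4 (.node 2 (.node 1 (.leaf (nat_lit 0x107dd1c)) (.leaf (nat_lit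 0x207d5d1))) (.node 1 (.leaf (nat_lit 0x7e2f3)) (.leaf (nat_lit 0x107ef3c)))) (.node 2 (.node 1 (.leaf (nat_lit 0x207ed62)) (.leaf (nat_lit 0x7ff96))) (.node 1 (.leaf (nat_lit 0x107fa0b)) (.leaf (nat_lit 0x207f91e)))))))) (.node 32 (.node 16 (.node 8 (.node 4 (.node 2 (.node 1 (.leaf (nat_lit 0x108040b)) (.leaf (nat_lit 0x108134a))) (.node 1 (.leaf (nat_lit 0x2081085)) (.leaf (nat_lit 0x82ed6)))) (.node 2 (.node 1 (.leaf (nat_lit 0x1082acc)) (.leaf (nat_lit 0x83597))) (.node 1 (.leaf (nat_lit 0x1083f2a)) (.leaf (nat_lit 0x2083cc2))))) (.node 4 (.node 2 (.node 1 (.leaf (nat_lit 0x847ad)) (.leaf (nat_lit 0x1084e79))) (.node 1 (.leaf (nat_lit 0x2084869)) (.leaf (nat_lit 0x85d3f)))) (.node 2 (.node 1 (.leaf (nat_lit 0x1086ceb)) (.leaf (nat_lit 0x2086a7c))) (.node 1 (.leaf (nat_lit 0x87efa)) (.leaf (nat_lit 0x2088487)))))) (.node 8 (.node 4 (.node 2 (.node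 1 (.leaf (nat_lit 0x1089bfd)) (.leaf (nat_lit 0x2089bc7))) (.node 1 (.leaf (nat_lit 0x8ae21)) (.leaf (nat_lit 0x108a0ec)))) (.node 2 (.node 1 (.leaf (nat_lit 0x208ad67)) (.leaf (nat_lit 0x8beb6))) (.node 1 (.leaf (nat_lit 0x108bd72)) (.leaf (nat_lit 0x208b8d4))))) (.node 4 (.node 2 (.node 1 (.leaf (nat_lit 0x8c9f6)) (.leaf (nat_lit 0x108c751))) (.node 1 (.leaf (nat_lit 0x8dc99)) (.leaf (nat_lit 0x108d52d)))) (.node 2 (.node 1 (.leaf (nat_lit 0x208db42)) (.leaf (nat_lit 0x8e69f))) (.node 1 (.leaf (nat_lit 0x108e452)) (.leaf (nat_lit 0x108fb18))))))) (.node 16 (.node 8 (.node 4 (.node 2 (.node 1 (.leaf (nat_lit 0x208f747)) (.leaf (nat_lit 0x10907be))) (.node 1 (.leaf (nat_lit 0x1091ba2)) (.leaf (nat_lit 0x2091ee0)))) (.node 2 (.node 1 (.leaf (nat_lit 0x92758)) (.leaf (nat_lit 0x109255d))) (.node 1 (.leaf (nat_lit 0x1093a45)) (.leaf (nat_lit 0x209366f)))))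 (.node 4 (.node 2 (.node 1 (.leaf (nat_lit 0x94ce2)) (.leaf (nat_lit 0x1094b7f))) (.node 1 (.leaf (nat_lit 0x109537d)) (.leaf (nat_lit 0x2095e88)))) (.node 2 (.node 1 (.leaf (nat_lit 0x97a82)) (.leaf (nat_lit 0x1097781))) (.node 1 (.leaf (nat_lit 0x20975da)) (.leaf (nat_lit 0x98a06)))))) (.node 8 (.node 4 (.node 2 (.node 1 (.leaf (nat_lit 0x10987bd)) (.leaf (nat_lit 0x2098dfb))) (.node 1 (.leaf (nat_lit 0x9956d)) (.leaf (nat_lit 0x10999f2)))) (.node 2 (.node 1 (.leaf (nat_lit 0x2099e23)) (.leaf (nat_lit 0x209aaf4))) (.node 1 (.leaf (nat_lit 0x9bc85)) (.leaf (nat_lit 0x209b9ce))))) (.node 4 (.node 2 (.node 1 (.leaf (nat_lit 0x9c9aa)) (.leaf (nat_lit 0x209ca87))) (.node 1 (.leaf (nat_lit 0x109dc79)) (.leaf (nat_lit 0x209d6a7)))) (.node 2 (.node 1 (.leaf (nat_lit 0x9f928)) (.leaf (nat_lit 0x109fa3d))) (.node 1 (.leaf (nat_lit 0x209f22f)) (.leaf (nat_lit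 0xa0d74))))))))) (.node 64 (.node 32 (.node 16 (.node 8 (.node 4 (.node 2 (.node 1 (.leaf (nat_lit 0x10a0aae)) (.leaf (nat_lit 0xa16af))) (.node 1 (.leaf (nat_lit 0x10a14b9)) (.leaf (nat_lit 0x20a13c8)))) (.node 2 (.node 1 (.leaf (nat_lit 0x10a2e42)) (.leaf (nat_lit 0x20a2a5a))) (.node 1 (.leaf (nat_lit 0xa3898)) (.leaf (nat_lit 0x20a3dda))))) (.node 4 (.node 2 (.node 1 (.leaf (nat_lit 0x10a4397)) (.leaf (nat_lit 0x10a5f6b))) (.node 1 (.leaf (nat_lit 0x20a5653)) (.leaf (nat_lit 0x20a6003)))) (.node 2 (.node 1 (.leaf (nat_lit 0xa75e7)) (.leaf (nat_lit 0x10a79f0))) (.node 1 (.leaf (nat_lit 0x20a7bdd)) (.leaf (nat_lit 0xa8d3e)))))) (.node 8 (.node 4 (.node 2 (.node 1 (.leaf (nat_lit 0x20a85ab)) (.leaf (nat_lit 0x10a9eb7))) (.node 1 (.leaf (nat_lit 0x20a9430)) (.leaf (nat_lit 0x20aafd0)))) (.node 2 (.node 1 (.leaf (nat_lit 0xab278)) (.leaf (nat_lit 0xac9c9)))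 (.node 1 (.leaf (nat_lit 0x10ac456)) (.leaf (nat_lit 0x10af002))))) (.node 4 (.node 2 (.node 1 (.leaf (nat_lit 0xb035b)) (.leaf (nat_lit 0x20b0178))) (.node 1 (.leaf (nat_lit 0x20b17a0)) (.leaf (nat_lit 0xb272d)))) (.node 2 (.node 1 (.leaf (nat_lit 0x10b2019)) (.leaf (nat_lit 0xb3654))) (.node 1 (.leaf (nat_lit 0xb4a4a)) (.leaf (nat_lit 0x20b4cfd))))))) (.node 16 (.node 8 (.node 4 (.node 2 (.node 1 (.leaf (nat_lit 0xb52b0)) (.leaf (nat_lit 0x10b678c))) (.node 1 (.leaf (nat_lit 0xb76f9)) (.leaf (nat_lit 0x20b7a72)))) (.node 2 (.node 1 (.leaf (nat_lit 0xb807a)) (.leaf (nat_lit 0x10b8b60))) (.node 1 (.leaf (nat_lit 0x20b8a0e)) (.leaf (nat_lit 0xb9eb8))))) (.node 4 (.node 2 (.node 1 (.leaf (nat_lit 0x10bab74)) (.leaf (nat_lit 0xbb777))) (.node 1 (.leaf (nat_lit 0x10bbab5)) (.leaf (nat_lit 0x20bb257)))) (.node 2 (.node 1 (.leaf (nat_lit 0xbcf51)) (.leaf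 (nat_lit 0xbde17))) (.node 1 (.leaf (nat_lit 0x10bdb59)) (.leaf (nat_lit 0x20bde11)))))) (.node 8 (.node 4 (.node 2 (.node 1 (.leaf (nat_lit 0x10bec3f)) (.leaf (nat_lit 0xbffab))) (.node 1 (.leaf (nat_lit 0x20bf70b)) (.leaf (nat_lit 0x10c0110)))) (.node 2 (.node 1 (.leaf (nat_lit 0x20c034b)) (.leaf (nat_lit 0xc1c11))) (.node 1 (.leaf (nat_lit 0xc4687)) (.leaf (nat_lit 0x10c456f))))) (.node 4 (.node 2 (.node 1 (.leaf (nat_lit 0x20c4b10)) (.leaf (nat_lit 0x10c591b))) (.node 1 (.leaf (nat_lit 0xc6268)) (.leaf (nat_lit 0x10c6f17)))) (.node 2 (.node 1 (.leaf (nat_lit 0x10c7a2d)) (.leaf (nat_lit 0x20c74eb))) (.node 1 (.leaf (nat_lit 0xc8423)) (.leaf (nat_lit 0xc92bc)))))))) (.node 32 (.node 16 (.node 8 (.node 4 (.node 2 (.node 1 (.leaf (nat_lit 0x10c906b)) (.leaf (nat_lit 0x20c9d79))) (.node 1 (.leaf (nat_lit 0xca783)) (.leaf (nat_lit 0x20ca2e6)))) (.node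 2 (.node 1 (.leaf (nat_lit 0xcbbb0)) (.leaf (nat_lit 0x10cce7e))) (.node 1 (.leaf (nat_lit 0xcd716)) (.leaf (nat_lit 0x20cdaf2))))) (.node 4 (.node 2 (.node 1 (.leaf (nat_lit 0x10ce06e)) (.leaf (nat_lit 0xcf95d))) (.node 1 (.leaf (nat_lit 0x20cfb1d)) (.leaf (nat_lit 0xd0e2e)))) (.node 2 (.node 1 (.leaf (nat_lit 0x20d0de0)) (.leaf (nat_lit 0x10d16d3))) (.node 1 (.leaf (nat_lit 0x20d1e57)) (.leaf (nat_lit 0xd2ac0)))))) (.node 8 (.node 4 (.node 2 (.node 1 (.leaf (nat_lit 0x10d2f68)) (.leaf (nat_lit 0xd3459))) (.node 1 (.leaf (nat_lit 0x10d3162)) (.leaf (nat_lit 0xd447e)))) (.node 2 (.node 1 (.leaf (nat_lit 0xd50ea)) (.leaf (nat_lit 0x20d5cda))) (.node 1 (.leaf (nat_lit 0x10d84b3)) (.leaf (nat_lit 0x20d8ca6))))) (.node 4 (.node 2 (.node 1 (.leaf (nat_lit 0x20d958a)) (.leaf (nat_lit 0x10db436))) (.node 1 (.leaf (nat_lit 0x10dce63)) (.leaf (nat_lit 0xdd5b3))))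 (.node 2 (.node 1 (.leaf (nat_lit 0x10dd3ea)) (.leaf (nat_lit 0x20dd37c))) (.node 1 (.leaf (nat_lit 0x20def1b)) (.leaf (nat_lit 0x10df1ec))))))) (.node 16 (.node 8 (.node 4 (.node 2 (.node 1 (.leaf (nat_lit 0xe013f)) (.leaf (nat_lit 0x10e03b2))) (.node 1 (.leaf (nat_lit 0x20e18da)) (.leaf (nat_lit 0x10e29cb)))) (.node 2 (.node 1 (.leaf (nat_lit 0x10e33e0)) (.leaf (nat_lit 0xe4f3f))) (.node 1 (.leaf (nat_lit 0x10e5792)) (.leaf (nat_lit 0x20e5c02))))) (.node 4 (.node 2 (.node 1 (.leaf (nat_lit 0xe6d2b)) (.leaf (nat_lit 0x10e6a53))) (.node 1 (.leaf (nat_lit 0x20e6c8c)) (.leaf (nat_lit 0xe7a03)))) (.node 2 (.node 1 (.leaf (nat_lit 0x10e8e43)) (.leaf (nat_lit 0x20e8db3))) (.node 1 (.leaf (nat_lit 0x10e96ca)) (.leaf (nat_lit 0x20e9f2b)))))) (.node 8 (.node 4 (.node 2 (.node 1 (.leaf (nat_lit 0x10eac25)) (.leaf (nat_lit 0x20ea7cf))) (.node 1 (.leaf (nat_lit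 0xeb9fa)) (.leaf (nat_lit 0x10eb947)))) (.node 2 (.node 1 (.leaf (nat_lit 0xecced)) (.leaf (nat_lit 0x20ec438))) (.node 1 (.leaf (nat_lit 0x10ed6bf)) (.leaf (nat_lit 0x20edbd9))))) (.node 4 (.node 2 (.node 1 (.leaf (nat_lit 0x20ee19b)) (.leaf (nat_lit 0xef2ba))) (.node 1 (.leaf (nat_lit 0x10eff27)) (.leaf (nat_lit 0x20efa07)))) (.node 2 (.node 1 (.leaf (nat_lit 0x10f0559)) (.leaf (nat_lit 0x10f1752))) (.node 1 (.leaf (nat_lit 0x20f18ee)) (.leaf (nat_lit 0xf2776))))))))))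

/-- A part of `orbJN0`. -/
def orbJN0_2 : Tree := (.node 128 (.node 64 (.node 32 (.node 16 (.node 8 (.node 4 (.node 2 (.node 1 (.leaf (nat_lit 0xf3a6f)) (.leaf (nat_lit 0x10f453e))) (.node 1 (.leaf (nat_lit 0x10f5e06)) (.leaf (nat_lit 0x20f56de)))) (.node 2 (.node 1 (.leaf (nat_lit 0x20f6076)) (.leaf (nat_lit 0xf7a42))) (.node 1 (.leaf (nat_lit 0x10f70c1)) (.leaf (nat_lit 0x20f7443))))) (.node 4 (.node 2 (.node 1 (.leaf (nat_lit 0xf8789)) (.leaf (nat_lit 0x10f8400))) (.node 1 (.leaf (nat_lit 0x20f88d2)) (.leaf (nat_lit 0xf94b6)))) (.node 2 (.node 1 (.leaf (nat_lit 0x10f9714)) (.leaf (nat_lit 0x20f9a09))) (.node 1 (.leaf (nat_lit 0x10faf75)) (.leaf (nat_lit 0x20fa971)))))) (.node 8 (.node 4 (.node 2 (.node 1 (.leaf (nat_lit 0x10fb88f)) (.leaf (nat_lit 0x20fb47b))) (.node 1 (.leaf (nat_lit 0x20fd7d8)) (.leaf (nat_lit 0xfebf5)))) (.node 2 (.node 1 (.leaf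 (nat_lit 0x10fe76f)) (.leaf (nat_lit 0x20ffb51))) (.node 1 (.leaf (nat_lit 0x1100292)) (.leaf (nat_lit 0x21001b3))))) (.node 4 (.node 2 (.node 1 (.leaf (nat_lit 0x1018ba)) (.leaf (nat_lit 0x102f3d))) (.node 1 (.leaf (nat_lit 0x1102280)) (.leaf (nat_lit 0x11036aa)))) (.node 2 (.node 1 (.leaf (nat_lit 0x105e47)) (.leaf (nat_lit 0x1105afe))) (.node 1 (.leaf (nat_lit 0x21063c7)) (.leaf (nat_lit 0x210798e))))))) (.node 16 (.node 8 (.node 4 (.node 2 (.node 1 (.leaf (nat_lit 0x11095c1)) (.leaf (nat_lit 0x110a19d))) (.node 1 (.leaf (nat_lit 0x210bf6a)) (.leaf (nat_lit 0x110c7d7)))) (.node 2 (.node 1 (.leaf (nat_lit 0x210d404)) (.leaf (nat_lit 0x10e329))) (.node 1 (.leaf (nat_lit 0x210e86c)) (.leaf (nat_lit 0x210fba6))))) (.node 4 (.node 2 (.node 1 (.leaf (nat_lit 0x2110c95)) (.leaf (nat_lit 0x2111bdc))) (.node 1 (.leaf (nat_lit 0x1112fc6)) (.leaf (nat_lit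 0x1114b83)))) (.node 2 (.node 1 (.leaf (nat_lit 0x2115b65)) (.leaf (nat_lit 0x1116f3e))) (.node 1 (.leaf (nat_lit 0x11172b1)) (.leaf (nat_lit 0x11850f)))))) (.node 8 (.node 4 (.node 2 (.node 1 (.leaf (nat_lit 0x2118d01)) (.leaf (nat_lit 0x11957f))) (.node 1 (.leaf (nat_lit 0x111af7a)) (.leaf (nat_lit 0x111b6c3)))) (.node 2 (.node 1 (.leaf (nat_lit 0x11d9b9)) (.leaf (nat_lit 0x111dbd7))) (.node 1 (.leaf (nat_lit 0x111e8be)) (.leaf (nat_lit 0x111ff77))))) (.node 4 (.node 2 (.node 1 (.leaf (nat_lit 0x212059c)) (.leaf (nat_lit 0x112141b))) (.node 1 (.leaf (nat_lit 0x21213ac)) (.leaf (nat_lit 0x1123117)))) (.node 2 (.node 1 (.leaf (nat_lit 0x125ec3)) (.leaf (nat_lit 0x1125bf7))) (.node 1 (.leaf (nat_lit 0x212697f)) (.leaf (nat_lit 0x128ec9)))))))) (.node 32 (.node 16 (.node 8 (.node 4 (.node 2 (.node 1 (.leaf (nat_lit 0x12ac0e)) (.leaf (nat_lit 0x212a8c3)))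 (.node 1 (.leaf (nat_lit 0x12b0af)) (.leaf (nat_lit 0x112bcaa)))) (.node 2 (.node 1 (.leaf (nat_lit 0x212b660)) (.leaf (nat_lit 0x112c3e6))) (.node 1 (.leaf (nat_lit 0x212c6e9)) (.leaf (nat_lit 0x212f46c))))) (.node 4 (.node 2 (.node 1 (.leaf (nat_lit 0x1305e9)) (.leaf (nat_lit 0x1130a4d))) (.node 1 (.leaf (nat_lit 0x1131be8)) (.leaf (nat_lit 0x132802)))) (.node 2 (.node 1 (.leaf (nat_lit 0x1132c35)) (.leaf (nat_lit 0x133a59))) (.node 1 (.leaf (nat_lit 0x1133ba3)) (.leaf (nat_lit 0x2133bbd)))))) (.node 8 (.node 4 (.node 2 (.node 1 (.leaf (nat_lit 0x1135662)) (.leaf (nat_lit 0x13658b))) (.node 1 (.leaf (nat_lit 0x1137411)) (.leaf (nat_lit 0x21370d2)))) (.node 2 (.node 1 (.leaf (nat_lit 0x1139f29)) (.leaf (nat_lit 0x13a3a7))) (.node 1 (.leaf (nat_lit 0x113a5ca)) (.leaf (nat_lit 0x13bb5a))))) (.node 4 (.node 2 (.node 1 (.leaf (nat_lit 0x113b4cd)) (.leaf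 (nat_lit 0x213be81))) (.node 1 (.leaf (nat_lit 0x13cc09)) (.leaf (nat_lit 0x113ccb7)))) (.node 2 (.node 1 (.leaf (nat_lit 0x113dbba)) (.leaf (nat_lit 0x13ef9e))) (.node 1 (.leaf (nat_lit 0x113eb34)) (.leaf (nat_lit 0x213e199))))))) (.node 16 (.node 8 (.node 4 (.node 2 (.node 1 (.leaf (nat_lit 0x1140426)) (.leaf (nat_lit 0x2140cc3))) (.node 1 (.leaf (nat_lit 0x141b58)) (.leaf (nat_lit 0x1141b21)))) (.node 2 (.node 1 (.leaf (nat_lit 0x2143860)) (.leaf (nat_lit 0x214477d))) (.node 1 (.leaf (nat_lit 0x21450d8)) (.leaf (nat_lit 0x14641d))))) (.node 4 (.node 2 (.node 1 (.leaf (nat_lit 0x1146de4)) (.leaf (nat_lit 0x2147c8e))) (.node 1 (.leaf (nat_lit 0x1149508)) (.leaf (nat_lit 0x2149150)))) (.node 2 (.node 1 (.leaf (nat_lit 0x14a16f)) (.leaf (nat_lit 0x14bbdb))) (.node 1 (.leaf (nat_lit 0x214cbfc)) (.leaf (nat_lit 0x14da22)))))) (.node 8 (.node 4 (.node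 2 (.node 1 (.leaf (nat_lit 0x14e8e9)) (.leaf (nat_lit 0x114ff4f))) (.node 1 (.leaf (nat_lit 0x11503d8)) (.leaf (nat_lit 0x2150549)))) (.node 2 (.node 1 (.leaf (nat_lit 0x215162f)) (.leaf (nat_lit 0x1152495))) (.node 1 (.leaf (nat_lit 0x215371f)) (.leaf (nat_lit 0x2155809))))) (.node 4 (.node 2 (.node 1 (.leaf (nat_lit 0x1157def)) (.leaf (nat_lit 0x1588f3))) (.node 1 (.leaf (nat_lit 0x159405)) (.leaf (nat_lit 0x1159a94)))) (.node 2 (.node 1 (.leaf (nat_lit 0x2159862)) (.leaf (nat_lit 0x115a547))) (.node 1 (.leaf (nat_lit 0x15b0ee)) (.leaf (nat_lit 0x115b93e))))))))) (.node 64 (.node 32 (.node 16 (.node 8 (.node 4 (.node 2 (.node 1 (.leaf (nat_lit 0x115c84e)) (.leaf (nat_lit 0x215ddb1))) (.node 1 (.leaf (nat_lit 0x15e5be)) (.leaf (nat_lit 0x2162415)))) (.node 2 (.node 1 (.leaf (nat_lit 0x1631aa)) (.leaf (nat_lit 0x1164876))) (.node 1 (.leaf (nat_lit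 0x21651c7)) (.leaf (nat_lit 0x2167ae4))))) (.node 4 (.node 2 (.node 1 (.leaf (nat_lit 0x2168f46)) (.leaf (nat_lit 0x1169519))) (.node 1 (.leaf (nat_lit 0x116a465)) (.leaf (nat_lit 0x216a11f)))) (.node 2 (.node 1 (.leaf (nat_lit 0x16b79a)) (.leaf (nat_lit 0x16c500))) (.node 1 (.leaf (nat_lit 0x116e602)) (.leaf (nat_lit 0x116f285)))))) (.node 8 (.node 4 (.node 2 (.node 1 (.leaf (nat_lit 0x216faa4)) (.leaf (nat_lit 0x171b85))) (.node 1 (.leaf (nat_lit 0x1171425)) (.leaf (nat_lit 0x173a26)))) (.node 2 (.node 1 (.leaf (nat_lit 0x1173805)) (.leaf (nat_lit 0x21741bd))) (.node 1 (.leaf (nat_lit 0x17512e)) (.leaf (nat_lit 0x11765e4))))) (.node 4 (.node 2 (.node 1 (.leaf (nat_lit 0x177f19)) (.leaf (nat_lit 0x178696))) (.node 1 (.leaf (nat_lit 0x1179012)) (.leaf (nat_lit 0x117b717)))) (.node 2 (.node 1 (.leaf (nat_lit 0x117c759)) (.leaf (nat_lit 0x217c68c)))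 (.node 1 (.leaf (nat_lit 0x217dfa5)) (.leaf (nat_lit 0x17ef16))))))) (.node 16 (.node 8 (.node 4 (.node 2 (.node 1 (.leaf (nat_lit 0x17f004)) (.leaf (nat_lit 0x21846a0))) (.node 1 (.leaf (nat_lit 0x118562a)) (.leaf (nat_lit 0x21859df)))) (.node 2 (.node 1 (.leaf (nat_lit 0x18615b)) (.leaf (nat_lit 0x11863c9))) (.node 1 (.leaf (nat_lit 0x1188177)) (.leaf (nat_lit 0x2188314))))) (.node 4 (.node 2 (.node 1 (.leaf (nat_lit 0x189750)) (.leaf (nat_lit 0x18ad73))) (.node 1 (.leaf (nat_lit 0x218aad6)) (.leaf (nat_lit 0x118b3a2)))) (.node 2 (.node 1 (.leaf (nat_lit 0x218b8ca)) (.leaf (nat_lit 0x190566))) (.node 1 (.leaf (nat_lit 0x1190ad3)) (.leaf (nat_lit 0x191874)))))) (.node 8 (.node 4 (.node 2 (.node 1 (.leaf (nat_lit 0x11932c5)) (.leaf (nat_lit 0x2197da9))) (.node 1 (.leaf (nat_lit 0x2198889)) (.leaf (nat_lit 0x19942d)))) (.node 2 (.node 1 (.leaf (nat_lit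 0x19ad10)) (.leaf (nat_lit 0x119b7d9))) (.node 1 (.leaf (nat_lit 0x119d857)) (.leaf (nat_lit 0x219e992))))) (.node 4 (.node 2 (.node 1 (.leaf (nat_lit 0x219fb4d)) (.leaf (nat_lit 0x1a310e))) (.node 1 (.leaf (nat_lit 0x11a313d)) (.leaf (nat_lit 0x1a6572)))) (.node 2 (.node 1 (.leaf (nat_lit 0x11a6ae8)) (.leaf (nat_lit 0x11abf89))) (.node 1 (.leaf (nat_lit 0x1ae726)) (.leaf (nat_lit 0x21aeeab)))))))) (.node 32 (.node 16 (.node 8 (.node 4 (.node 2 (.node 1 (.leaf (nat_lit 0x1aff99)) (.leaf (nat_lit 0x11afc23))) (.node 1 (.leaf (nat_lit 0x1b1c9b)) (.leaf (nat_lit 0x11b6515)))) (.node 2 (.node 1 (.leaf (nat_lit 0x1b8010)) (.leaf (nat_lit 0x1b98f7))) (.node 1 (.leaf (nat_lit 0x11bc92f)) (.leaf (nat_lit 0x11bd361))))) (.node 4 (.node 2 (.node 1 (.leaf (nat_lit 0x11c0c32)) (.leaf (nat_lit 0x21c3e7a))) (.node 1 (.leaf (nat_lit 0x1c42b4)) (.leaf (nat_lit 0x1c67b2))))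 (.node 2 (.node 1 (.leaf (nat_lit 0x1d29a5)) (.leaf (nat_lit 0x21d3e10))) (.node 1 (.leaf (nat_lit 0x11d95b4)) (.leaf (nat_lit 0x1dbc18)))))) (.node 8 (.node 4 (.node 2 (.node 1 (.leaf (nat_lit 0x21dc530)) (.leaf (nat_lit 0x1dd5e6))) (.node 1 (.leaf (nat_lit 0x21dfd7d)) (.leaf (nat_lit 0x21e338a)))) (.node 2 (.node 1 (.leaf (nat_lit 0x21e68c0)) (.leaf (nat_lit 0x21e856e))) (.node 1 (.leaf (nat_lit 0x21e9728)) (.leaf (nat_lit 0x11ebb1a))))) (.node 4 (.node 2 (.node 1 (.leaf (nat_lit 0x21eb7c7)) (.leaf (nat_lit 0x11ec9b3))) (.node 1 (.leaf (nat_lit 0x11edaa1)) (.leaf (nat_lit 0x21ed2a1)))) (.node 2 (.node 1 (.leaf (nat_lit 0x11eef0a)) (.leaf (nat_lit 0x11effce))) (.node 1 (.leaf (nat_lit 0x11f0ba5)) (.leaf (nat_lit 0x21f08fa))))))) (.node 16 (.node 8 (.node 4 (.node 2 (.node 1 (.leaf (nat_lit 0x1f400c)) (.leaf (nat_lit 0x21f8ad4))) (.node 1 (.leaf (nat_lit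 0x11f9009)) (.leaf (nat_lit 0x1fbc6c)))) (.node 2 (.node 1 (.leaf (nat_lit 0x21fc47f)) (.leaf (nat_lit 0x11fff40))) (.node 1 (.leaf (nat_lit 0x22034b8)) (.leaf (nat_lit 0x22079b2))))) (.node 4 (.node 2 (.node 1 (.leaf (nat_lit 0x1208c06)) (.leaf (nat_lit 0x1210f08))) (.node 1 (.leaf (nat_lit 0x22106c8)) (.leaf (nat_lit 0x121cc07)))) (.node 2 (.node 1 (.leaf (nat_lit 0x21f8b8)) (.leaf (nat_lit 0x220877))) (.node 1 (.leaf (nat_lit 0x2227390)) (.leaf (nat_lit 0x22aac6)))))) (.node 8 (.node 4 (.node 2 (.node 1 (.leaf (nat_lit 0x222ccbe)) (.leaf (nat_lit 0x1231493))) (.node 1 (.leaf (nat_lit 0x235bbf)) (.leaf (nat_lit 0x12353ed)))) (.node 2 (.node 1 (.leaf (nat_lit 0x236d06)) (.leaf (nat_lit 0x23a6cc))) (.node 1 (.leaf (nat_lit 0x123a4c1)) (.leaf (nat_lit 0x223da80))))) (.node 4 (.node 2 (.node 1 (.leaf (nat_lit 0x241741)) (.leaf (nat_lit 0x2243b5b)))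 (.node 1 (.leaf (nat_lit 0x244838)) (.leaf (nat_lit 0x2246402)))) (.node 2 (.node 1 (.leaf (nat_lit 0x2486b9)) (.leaf (nat_lit 0x24900b))) (.node 1 (.leaf (nat_lit 0x124cc78)) (.leaf (nat_lit 0x24dce3))))))))))

/-- A part of `orbJN0`. -/
def orbJN0_3 : Tree := (.node 6 (.node 3 (.node 1 (.leaf (nat_lit 0x124f6cf)) (.node 1 (.leaf (nat_lit 0x2251ca5)) (.leaf (nat_lit 0x22582ec)))) (.node 1 (.leaf (nat_lit 0x25b4e1)) (.node 1 (.leaf (nat_lit 0x26159a)) (.leaf (nat_lit 0x226524f))))) (.node 3 (.node 1 (.leaf (nat_lit 0x2270cef)) (.node 1 (.leaf (nat_lit 0x127b518)) (.leaf (nat_lit 0x2295a58)))) (.node 1 (.leaf (nat_lit 0x2aff47)) (.node 1 (.leaf (nat_lit 0x22ca95f)) (.leaf (nat_lit 0x12d55db))))))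

/-- An orbit. -/
def orbJN0 : Tree := (.node 512 (.node 256 orbJN0_0 orbJN0_1) (.node 256 orbJN0_2 orbJN0_3))

/-- A part of `orbJN1`. -/
def orbJN1_0 : Tree := (.node 128 (.node 64 (.node 32 (.node 16 (.node 8 (.node 4 (.node 2 (.node 1 (.leaf (nat_lit 0x1)) (.leaf (nat_lit 0xae1))) (.node 1 (.leaf (nat_lit 0x100032b)) (.leaf (nat_lit 0x2000fa3)))) (.node 2 (.node 1 (.leaf (nat_lit 0x1711)) (.leaf (nat_lit 0x100150b))) (.node 1 (.leaf (nat_lit 0x20013cd)) (.leaf (nat_lit 0x2813))))) (.node 4 (.node 2 (.node 1 (.leaf (nat_lit 0x1002709)) (.leaf (nat_lit 0x20028fb))) (.node 1 (.leaf (nat_lit 0x32c3)) (.leaf (nat_lit 0x10034fd)))) (.node 2 (.node 1 (.leaf (nat_lit 0x2003aef)) (.leaf (nat_lit 0x42c7))) (.node 1 (.leaf (nat_lit 0x100481c)) (.leaf (nat_lit 0x2004d0d)))))) (.node 8 (.node 4 (.node 2 (.node 1 (.leaf (nat_lit 0x1005b28)) (.leaf (nat_lit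 0x200504b))) (.node 1 (.leaf (nat_lit 0x6872)) (.leaf (nat_lit 0x100607d)))) (.node 2 (.node 1 (.leaf (nat_lit 0x2006b30)) (.leaf (nat_lit 0x709c))) (.node 1 (.leaf (nat_lit 0x1007218)) (.leaf (nat_lit 0x2007ab3))))) (.node 4 (.node 2 (.node 1 (.leaf (nat_lit 0x84ac)) (.leaf (nat_lit 0x1008073))) (.node 1 (.leaf (nat_lit 0x2008062)) (.leaf (nat_lit 0x9f74)))) (.node 2 (.node 1 (.leaf (nat_lit 0x1009053)) (.leaf (nat_lit 0x2009ebe))) (.node 1 (.leaf (nat_lit 0xa3fc)) (.leaf (nat_lit 0x100a060))))))) (.node 16 (.node 8 (.node 4 (.node 2 (.node 1 (.leaf (nat_lit 0x200a503)) (.leaf (nat_lit 0xbd04))) (.node 1 (.leaf (nat_lit 0x200b6e0)) (.leaf (nat_lit 0xc4ae)))) (.node 2 (.node 1 (.leaf (nat_lit 0x100ce6a)) (.leaf (nat_lit 0x200c627))) (.node 1 (.leaf (nat_lit 0xda73)) (.leaf (nat_lit 0x100d803))))) (.node 4 (.node 2 (.node 1 (.leaf (nat_lit 0xe8d8))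 (.leaf (nat_lit 0x100e26a))) (.node 1 (.leaf (nat_lit 0x200e943)) (.leaf (nat_lit 0xf8fe)))) (.node 2 (.node 1 (.leaf (nat_lit 0x100f4c5)) (.leaf (nat_lit 0x200fc77))) (.node 1 (.leaf (nat_lit 0x10ecc)) (.leaf (nat_lit 0x1010d7a)))))) (.node 8 (.node 4 (.node 2 (.node 1 (.leaf (nat_lit 0x201083a)) (.leaf (nat_lit 0x11a48))) (.node 1 (.leaf (nat_lit 0x1011708)) (.leaf (nat_lit 0x201174e)))) (.node 2 (.node 1 (.leaf (nat_lit 0x12952)) (.leaf (nat_lit 0x10128de))) (.node 1 (.leaf (nat_lit 0x20128bf)) (.leaf (nat_lit 0x13ad9))))) (.node 4 (.node 2 (.node 1 (.leaf (nat_lit 0x1013040)) (.leaf (nat_lit 0x2013b87))) (.node 1 (.leaf (nat_lit 0x14812)) (.leaf (nat_lit 0x1014abb)))) (.node 2 (.node 1 (.leaf (nat_lit 0x2014c56)) (.leaf (nat_lit 0x15db2))) (.node 1 (.leaf (nat_lit 0x1015ea4)) (.leaf (nat_lit 0x201501c)))))))) (.node 32 (.node 16 (.node 8 (.node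 4 (.node 2 (.node 1 (.leaf (nat_lit 0x1016f45)) (.leaf (nat_lit 0x2016a11))) (.node 1 (.leaf (nat_lit 0x17312)) (.leaf (nat_lit 0x101705a)))) (.node 2 (.node 1 (.leaf (nat_lit 0x20171c0)) (.leaf (nat_lit 0x18be4))) (.node 1 (.leaf (nat_lit 0x1018be1)) (.leaf (nat_lit 0x2018624))))) (.node 4 (.node 2 (.node 1 (.leaf (nat_lit 0x19d15)) (.leaf (nat_lit 0x1019f13))) (.node 1 (.leaf (nat_lit 0x1a112)) (.leaf (nat_lit 0x101aa2b)))) (.node 2 (.node 1 (.leaf (nat_lit 0x201a682)) (.leaf (nat_lit 0x1b9ae))) (.node 1 (.leaf (nat_lit 0x101b9f7)) (.leaf (nat_lit 0x201b350)))))) (.node 8 (.node 4 (.node 2 (.node 1 (.leaf (nat_lit 0x101c0fb)) (.leaf (nat_lit 0x201c710))) (.node 1 (.leaf (nat_lit 0x1d2e7)) (.leaf (nat_lit 0x101d406)))) (.node 2 (.node 1 (.leaf (nat_lit 0x201dd78)) (.leaf (nat_lit 0x1e5e5))) (.node 1 (.leaf (nat_lit 0x101e39c)) (.leaf (nat_lit 0x201eb1e)))))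 (.node 4 (.node 2 (.node 1 (.leaf (nat_lit 0x1fe84)) (.leaf (nat_lit 0x201fef8))) (.node 1 (.leaf (nat_lit 0x20f8a)) (.leaf (nat_lit 0x1020e25)))) (.node 2 (.node 1 (.leaf (nat_lit 0x20203da)) (.leaf (nat_lit 0x214bd))) (.node 1 (.leaf (nat_lit 0x1021622)) (.leaf (nat_lit 0x2021f42))))))) (.node 16 (.node 8 (.node 4 (.node 2 (.node 1 (.leaf (nat_lit 0x10223d2)) (.leaf (nat_lit 0x2022013))) (.node 1 (.leaf (nat_lit 0x23f4e)) (.leaf (nat_lit 0x1023f28)))) (.node 2 (.node 1 (.leaf (nat_lit 0x20235cb)) (.leaf (nat_lit 0x1024b8a))) (.node 1 (.leaf (nat_lit 0x2024684)) (.leaf (nat_lit 0x25d9a))))) (.node 4 (.node 2 (.node 1 (.leaf (nat_lit 0x1025b75)) (.leaf (nat_lit 0x2025e16))) (.node 1 (.leaf (nat_lit 0x26486)) (.leaf (nat_lit 0x1026cd3)))) (.node 2 (.node 1 (.leaf (nat_lit 0x20261e9)) (.leaf (nat_lit 0x27ed5))) (.node 1 (.leaf (nat_lit 0x1027819)) (.leaf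 (nat_lit 0x2027015)))))) (.node 8 (.node 4 (.node 2 (.node 1 (.leaf (nat_lit 0x28942)) (.leaf (nat_lit 0x2028ef5))) (.node 1 (.leaf (nat_lit 0x2965d)) (.leaf (nat_lit 0x10290bc)))) (.node 2 (.node 1 (.leaf (nat_lit 0x202939e)) (.leaf (nat_lit 0x2a594))) (.node 1 (.leaf (nat_lit 0x102ab09)) (.leaf (nat_lit 0x202a64a))))) (.node 4 (.node 2 (.node 1 (.leaf (nat_lit 0x2bc5f)) (.leaf (nat_lit 0x102bba4))) (.node 1 (.leaf (nat_lit 0x202b4da)) (.leaf (nat_lit 0x2c100)))) (.node 2 (.node 1 (.leaf (nat_lit 0x102c873)) (.leaf (nat_lit 0x202c65a))) (.node 1 (.leaf (nat_lit 0x2d929)) (.leaf (nat_lit 0x102de13))))))))) (.node 64 (.node 32 (.node 16 (.node 8 (.node 4 (.node 2 (.node 1 (.leaf (nat_lit 0x202d7d1)) (.leaf (nat_lit 0x2e2a3))) (.node 1 (.leaf (nat_lit 0x102e2b7)) (.leaf (nat_lit 0x202ef0c)))) (.node 2 (.node 1 (.leaf (nat_lit 0x2fa08)) (.leaf (nat_lit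 0x102f15e))) (.node 1 (.leaf (nat_lit 0x202f4f3)) (.leaf (nat_lit 0x30ce5))))) (.node 4 (.node 2 (.node 1 (.leaf (nat_lit 0x1030ef6)) (.leaf (nat_lit 0x2030912))) (.node 1 (.leaf (nat_lit 0x31661)) (.leaf (nat_lit 0x1031c0f)))) (.node 2 (.node 1 (.leaf (nat_lit 0x1032588)) (.leaf (nat_lit 0x20329fc))) (.node 1 (.leaf (nat_lit 0x3391f)) (.leaf (nat_lit 0x1033762)))))) (.node 8 (.node 4 (.node 2 (.node 1 (.leaf (nat_lit 0x2033689)) (.leaf (nat_lit 0x3418d))) (.node 1 (.leaf (nat_lit 0x203421f)) (.leaf (nat_lit 0x35a37)))) (.node 2 (.node 1 (.leaf (nat_lit 0x103509a)) (.leaf (nat_lit 0x2035c1a))) (.node 1 (.leaf (nat_lit 0x367bc)) (.leaf (nat_lit 0x20360cf))))) (.node 4 (.node 2 (.node 1 (.leaf (nat_lit 0x37e46)) (.leaf (nat_lit 0x1037d9f))) (.node 1 (.leaf (nat_lit 0x1038888)) (.leaf (nat_lit 0x2038fa0)))) (.node 2 (.node 1 (.leaf (nat_lit 0x396c5))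 (.leaf (nat_lit 0x1039deb))) (.node 1 (.leaf (nat_lit 0x2039537)) (.leaf (nat_lit 0x3a95c))))))) (.node 16 (.node 8 (.node 4 (.node 2 (.node 1 (.leaf (nat_lit 0x103a4cb)) (.leaf (nat_lit 0x103b6d1))) (.node 1 (.leaf (nat_lit 0x203b927)) (.leaf (nat_lit 0x3cf5a)))) (.node 2 (.node 1 (.leaf (nat_lit 0x103c31b)) (.leaf (nat_lit 0x3d17d))) (.node 1 (.leaf (nat_lit 0x103d0b9)) (.leaf (nat_lit 0x203da2a))))) (.node 4 (.node 2 (.node 1 (.leaf (nat_lit 0x3e12c)) (.leaf (nat_lit 0x103e79e))) (.node 1 (.leaf (nat_lit 0x203e8f2)) (.leaf (nat_lit 0x3ffa9)))) (.node 2 (.node 1 (.leaf (nat_lit 0x103f7d6)) (.leaf (nat_lit 0x203f609))) (.node 1 (.leaf (nat_lit 0x40031)) (.leaf (nat_lit 0x1040732)))))) (.node 8 (.node 4 (.node 2 (.node 1 (.leaf (nat_lit 0x2040b8f)) (.leaf (nat_lit 0x41e1d))) (.node 1 (.leaf (nat_lit 0x1041086)) (.leaf (nat_lit 0x20411f2)))) (.node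 2 (.node 1 (.leaf (nat_lit 0x42d75)) (.leaf (nat_lit 0x1042e7b))) (.node 1 (.leaf (nat_lit 0x2042e45)) (.leaf (nat_lit 0x43ec4))))) (.node 4 (.node 2 (.node 1 (.leaf (nat_lit 0x1043f98)) (.leaf (nat_lit 0x2043bb4))) (.node 1 (.leaf (nat_lit 0x44e3c)) (.leaf (nat_lit 0x104460f)))) (.node 2 (.node 1 (.leaf (nat_lit 0x20443b5)) (.leaf (nat_lit 0x4543e))) (.node 1 (.leaf (nat_lit 0x1045c65)) (.leaf (nat_lit 0x2045352)))))))) (.node 32 (.node 16 (.node 8 (.node 4 (.node 2 (.node 1 (.leaf (nat_lit 0x1046817)) (.leaf (nat_lit 0x2046558))) (.node 1 (.leaf (nat_lit 0x476bb)) (.leaf (nat_lit 0x10473b0)))) (.node 2 (.node 1 (.leaf (nat_lit 0x2047151)) (.leaf (nat_lit 0x1048a3a))) (.node 1 (.leaf (nat_lit 0x2048f26)) (.leaf (nat_lit 0x49668))))) (.node 4 (.node 2 (.node 1 (.leaf (nat_lit 0x2049b7e)) (.leaf (nat_lit 0x4a40c))) (.node 1 (.leaf (nat_lit 0x104ae30))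 (.leaf (nat_lit 0x204a4bf)))) (.node 2 (.node 1 (.leaf (nat_lit 0x104b78b)) (.leaf (nat_lit 0x204b28e))) (.node 1 (.leaf (nat_lit 0x4c6cb)) (.leaf (nat_lit 0x104cddf)))))) (.node 8 (.node 4 (.node 2 (.node 1 (.leaf (nat_lit 0x204c214)) (.leaf (nat_lit 0x4d006))) (.node 1 (.leaf (nat_lit 0x104d6c0)) (.leaf (nat_lit 0x204da7a)))) (.node 2 (.node 1 (.leaf (nat_lit 0x4e114)) (.leaf (nat_lit 0x104e5fd))) (.node 1 (.leaf (nat_lit 0x204e64e)) (.leaf (nat_lit 0x104f039))))) (.node 4 (.node 2 (.node 1 (.leaf (nat_lit 0x204febd)) (.leaf (nat_lit 0x1050b63))) (.node 1 (.leaf (nat_lit 0x2050cd2)) (.leaf (nat_lit 0x51125)))) (.node 2 (.node 1 (.leaf (nat_lit 0x10513d7)) (.leaf (nat_lit 0x2051f3a))) (.node 1 (.leaf (nat_lit 0x52d21)) (.leaf (nat_lit 0x1052f11))))))) (.node 16 (.node 8 (.node 4 (.node 2 (.node 1 (.leaf (nat_lit 0x20526d4)) (.leaf (nat_lit 0x1053806)))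 (.node 1 (.leaf (nat_lit 0x205372c)) (.leaf (nat_lit 0x2054195)))) (.node 2 (.node 1 (.leaf (nat_lit 0x55d87)) (.leaf (nat_lit 0x10559f3))) (.node 1 (.leaf (nat_lit 0x20552d1)) (.leaf (nat_lit 0x20560a8))))) (.node 4 (.node 2 (.node 1 (.leaf (nat_lit 0x1057480)) (.leaf (nat_lit 0x20579f4))) (.node 1 (.leaf (nat_lit 0x58147)) (.leaf (nat_lit 0x2058616)))) (.node 2 (.node 1 (.leaf (nat_lit 0x5985d)) (.leaf (nat_lit 0x105986e))) (.node 1 (.leaf (nat_lit 0x2059338)) (.leaf (nat_lit 0x5a219)))))) (.node 8 (.node 4 (.node 2 (.node 1 (.leaf (nat_lit 0x105aa52)) (.leaf (nat_lit 0x5b067))) (.node 1 (.leaf (nat_lit 0x105b1d0)) (.leaf (nat_lit 0x205b407)))) (.node 2 (.node 1 (.leaf (nat_lit 0x5cb43)) (.leaf (nat_lit 0x105cb62))) (.node 1 (.leaf (nat_lit 0x205cf39)) (.leaf (nat_lit 0x5dc74))))) (.node 4 (.node 2 (.node 1 (.leaf (nat_lit 0x105d368)) (.leaf (nat_lit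 0x205dc8d))) (.node 1 (.leaf (nat_lit 0x105e007)) (.leaf (nat_lit 0x205eeb2)))) (.node 2 (.node 1 (.leaf (nat_lit 0x5fb9e)) (.leaf (nat_lit 0x105ff0f))) (.node 1 (.leaf (nat_lit 0x205fe82)) (.leaf (nat_lit 0x106014e))))))))))

/-- A part of `orbJN1`. -/
def orbJN1_1 : Tree := (.node 128 (.node 64 (.node 32 (.node 16 (.node 8 (.node 4 (.node 2 (.node 1 (.leaf (nat_lit 0x206000a)) (.leaf (nat_lit 0x61ac5))) (.node 1 (.leaf (nat_lit 0x2061d20)) (.leaf (nat_lit 0x628d3)))) (.node 2 (.node 1 (.leaf (nat_lit 0x2062cb3)) (.leaf (nat_lit 0x63a2e))) (.node 1 (.leaf (nat_lit 0x2063822)) (.leaf (nat_lit 0x64740))))) (.node 4 (.node 2 (.node 1 (.leaf (nat_lit 0x1064c4c)) (.leaf (nat_lit 0x65e04))) (.node 1 (.leaf (nat_lit 0x1065e44)) (.leaf (nat_lit 0x2065c9a)))) (.node 2 (.node 1 (.leaf (nat_lit 0x66179)) (.leaf (nat_lit 0x1066309))) (.node 1 (.leaf (nat_lit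 0x2066c2b)) (.leaf (nat_lit 0x67a75)))))) (.node 8 (.node 4 (.node 2 (.node 1 (.leaf (nat_lit 0x10672a6)) (.leaf (nat_lit 0x20673ca))) (.node 1 (.leaf (nat_lit 0x68786)) (.leaf (nat_lit 0x2068c7d)))) (.node 2 (.node 1 (.leaf (nat_lit 0x697ce)) (.leaf (nat_lit 0x1069c75))) (.node 1 (.leaf (nat_lit 0x20696da)) (.leaf (nat_lit 0x6ac33))))) (.node 4 (.node 2 (.node 1 (.leaf (nat_lit 0x106a322)) (.leaf (nat_lit 0x206af9f))) (.node 1 (.leaf (nat_lit 0x6bb45)) (.leaf (nat_lit 0x206bc98)))) (.node 2 (.node 1 (.leaf (nat_lit 0x6cf0d)) (.leaf (nat_lit 0x106c613))) (.node 1 (.leaf (nat_lit 0x206ca36)) (.leaf (nat_lit 0x6d815))))))) (.node 16 (.node 8 (.node 4 (.node 2 (.node 1 (.leaf (nat_lit 0x206d1f4)) (.leaf (nat_lit 0x6ee7d))) (.node 1 (.leaf (nat_lit 0x106ef09)) (.leaf (nat_lit 0x106fe22)))) (.node 2 (.node 1 (.leaf (nat_lit 0x206fda8)) (.leaf (nat_lit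 0x1070325))) (.node 1 (.leaf (nat_lit 0x7187a)) (.leaf (nat_lit 0x10716e8))))) (.node 4 (.node 2 (.node 1 (.leaf (nat_lit 0x2071b7c)) (.leaf (nat_lit 0x72348))) (.node 1 (.leaf (nat_lit 0x1072d39)) (.leaf (nat_lit 0x2072f38)))) (.node 2 (.node 1 (.leaf (nat_lit 0x73a41)) (.leaf (nat_lit 0x1073863))) (.node 1 (.leaf (nat_lit 0x1074ce1)) (.leaf (nat_lit 0x20745e8)))))) (.node 8 (.node 4 (.node 2 (.node 1 (.leaf (nat_lit 0x1075d9b)) (.leaf (nat_lit 0x2075603))) (.node 1 (.leaf (nat_lit 0x7689a)) (.leaf (nat_lit 0x2076365)))) (.node 2 (.node 1 (.leaf (nat_lit 0x77d36)) (.leaf (nat_lit 0x1077d59))) (.node 1 (.leaf (nat_lit 0x20772f0)) (.leaf (nat_lit 0x78135))))) (.node 4 (.node 2 (.node 1 (.leaf (nat_lit 0x107854a)) (.leaf (nat_lit 0x2078cab))) (.node 1 (.leaf (nat_lit 0x79ebc)) (.leaf (nat_lit 0x1079604)))) (.node 2 (.node 1 (.leaf (nat_lit 0x2079cad))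 (.leaf (nat_lit 0x7aaab))) (.node 1 (.leaf (nat_lit 0x107a73c)) (.leaf (nat_lit 0x207a04a)))))))) (.node 32 (.node 16 (.node 8 (.node 4 (.node 2 (.node 1 (.leaf (nat_lit 0x7bc19)) (.leaf (nat_lit 0x107b1c4))) (.node 1 (.leaf (nat_lit 0x207b29a)) (.leaf (nat_lit 0x7c3c6)))) (.node 2 (.node 1 (.leaf (nat_lit 0x107c4e5)) (.leaf (nat_lit 0x7d344))) (.node 1 (.leaf (nat_lit 0x207d7aa)) (.leaf (nat_lit 0x7eb2a))))) (.node 4 (.node 2 (.node 1 (.leaf (nat_lit 0x107e318)) (.leaf (nat_lit 0x7fe12))) (.node 1 (.leaf (nat_lit 0x107fc03)) (.leaf (nat_lit 0x207f126)))) (.node 2 (.node 1 (.leaf (nat_lit 0x8035f)) (.leaf (nat_lit 0x108053f))) (.node 1 (.leaf (nat_lit 0x2080b50)) (.leaf (nat_lit 0x814b4)))))) (.node 8 (.node 4 (.node 2 (.node 1 (.leaf (nat_lit 0x1081c1e)) (.leaf (nat_lit 0x2081fc7))) (.node 1 (.leaf (nat_lit 0x1082a02)) (.leaf (nat_lit 0x832bd))))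 (.node 2 (.node 1 (.leaf (nat_lit 0x84535)) (.leaf (nat_lit 0x208448f))) (.node 1 (.leaf (nat_lit 0x85944)) (.leaf (nat_lit 0x10852a9))))) (.node 4 (.node 2 (.node 1 (.leaf (nat_lit 0x86fd3)) (.leaf (nat_lit 0x1086378))) (.node 1 (.leaf (nat_lit 0x87a34)) (.leaf (nat_lit 0x10879f5)))) (.node 2 (.node 1 (.leaf (nat_lit 0x20876b0)) (.leaf (nat_lit 0x88e3f))) (.node 1 (.leaf (nat_lit 0x1088265)) (.leaf (nat_lit 0x2088429))))))) (.node 16 (.node 8 (.node 4 (.node 2 (.node 1 (.leaf (nat_lit 0x8988b)) (.leaf (nat_lit 0x1089ca0))) (.node 1 (.leaf (nat_lit 0x8a239)) (.leaf (nat_lit 0x108a254)))) (.node 2 (.node 1 (.leaf (nat_lit 0x208a82b)) (.leaf (nat_lit 0x108bf49))) (.node 1 (.leaf (nat_lit 0x208be31)) (.leaf (nat_lit 0x108cea5))))) (.node 4 (.node 2 (.node 1 (.leaf (nat_lit 0x208c901)) (.leaf (nat_lit 0x8d650))) (.node 1 (.leaf (nat_lit 0x108d36b)) (.leaf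 (nat_lit 0x208d0d1)))) (.node 2 (.node 1 (.leaf (nat_lit 0x8ecfc)) (.leaf (nat_lit 0x108e54d))) (.node 1 (.leaf (nat_lit 0x208eb2e)) (.leaf (nat_lit 0x8febf)))))) (.node 8 (.node 4 (.node 2 (.node 1 (.leaf (nat_lit 0x108f326)) (.leaf (nat_lit 0x90fd2))) (.node 1 (.leaf (nat_lit 0x1090a74)) (.leaf (nat_lit 0x2090387)))) (.node 2 (.node 1 (.leaf (nat_lit 0x9183d)) (.leaf (nat_lit 0x1091184))) (.node 1 (.leaf (nat_lit 0x9244a)) (.leaf (nat_lit 0x1092132))))) (.node 4 (.node 2 (.node 1 (.leaf (nat_lit 0x2092d38)) (.leaf (nat_lit 0x20934fc))) (.node 1 (.leaf (nat_lit 0x94909)) (.leaf (nat_lit 0x1094b8b)))) (.node 2 (.node 1 (.leaf (nat_lit 0x95333)) (.leaf (nat_lit 0x10956df))) (.node 1 (.leaf (nat_lit 0x2095730)) (.leaf (nat_lit 0x1096494))))))))) (.node 64 (.node 32 (.node 16 (.node 8 (.node 4 (.node 2 (.node 1 (.leaf (nat_lit 0x979a4)) (.leaf (nat_lit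 0x1097509))) (.node 1 (.leaf (nat_lit 0x2097d05)) (.leaf (nat_lit 0x98731)))) (.node 2 (.node 1 (.leaf (nat_lit 0x1098f9d)) (.leaf (nat_lit 0x2098399))) (.node 1 (.leaf (nat_lit 0x10990c2)) (.leaf (nat_lit 0x2099b68))))) (.node 4 (.node 2 (.node 1 (.leaf (nat_lit 0x9a9bf)) (.leaf (nat_lit 0x109a590))) (.node 1 (.leaf (nat_lit 0x209a1ad)) (.leaf (nat_lit 0x9b9cf)))) (.node 2 (.node 1 (.leaf (nat_lit 0x109b26f)) (.leaf (nat_lit 0x209b09b))) (.node 1 (.leaf (nat_lit 0x9c3a6)) (.leaf (nat_lit 0x209c7fa)))))) (.node 8 (.node 4 (.node 2 (.node 1 (.leaf (nat_lit 0x209d55f)) (.leaf (nat_lit 0x9e8b4))) (.node 1 (.leaf (nat_lit 0x109e8c2)) (.leaf (nat_lit 0x209e771)))) (.node 2 (.node 1 (.leaf (nat_lit 0x9f5e1)) (.leaf (nat_lit 0x209f01d))) (.node 1 (.leaf (nat_lit 0xa0f88)) (.leaf (nat_lit 0x10a080d))))) (.node 4 (.node 2 (.node 1 (.leaf (nat_lit 0x20a05c9))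 (.leaf (nat_lit 0xa1264))) (.node 1 (.leaf (nat_lit 0x10a10d9)) (.leaf (nat_lit 0x20a2018)))) (.node 2 (.node 1 (.leaf (nat_lit 0x10a3460)) (.leaf (nat_lit 0x20a4aff))) (.node 1 (.leaf (nat_lit 0xa5f1d)) (.leaf (nat_lit 0x10a588d))))))) (.node 16 (.node 8 (.node 4 (.node 2 (.node 1 (.leaf (nat_lit 0x20a5542)) (.leaf (nat_lit 0x20a6a23))) (.node 1 (.leaf (nat_lit 0xa7153)) (.leaf (nat_lit 0x10a7881)))) (.node 2 (.node 1 (.leaf (nat_lit 0x20a70e9)) (.leaf (nat_lit 0xa8491))) (.node 1 (.leaf (nat_lit 0x10a92ed)) (.leaf (nat_lit 0x20a9ea9))))) (.node 4 (.node 2 (.node 1 (.leaf (nat_lit 0xaaad8)) (.leaf (nat_lit 0x10aa307))) (.node 1 (.leaf (nat_lit 0x20aabdf)) (.leaf (nat_lit 0xabd81)))) (.node 2 (.node 1 (.leaf (nat_lit 0x10ab6d2)) (.leaf (nat_lit 0x10ac0bb))) (.node 1 (.leaf (nat_lit 0x20ac534)) (.leaf (nat_lit 0xad8b6)))))) (.node 8 (.node 4 (.node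 2 (.node 1 (.leaf (nat_lit 0xaed80)) (.leaf (nat_lit 0x10ae70c))) (.node 1 (.leaf (nat_lit 0xaf7cb)) (.leaf (nat_lit 0x10af14c)))) (.node 2 (.node 1 (.leaf (nat_lit 0x10b0138)) (.leaf (nat_lit 0xb19af))) (.node 1 (.leaf (nat_lit 0x10b1f7c)) (.leaf (nat_lit 0xb2f10))))) (.node 4 (.node 2 (.node 1 (.leaf (nat_lit 0x10b2e41)) (.leaf (nat_lit 0x20b2458))) (.node 1 (.leaf (nat_lit 0xb30b3)) (.leaf (nat_lit 0x10b3f76)))) (.node 2 (.node 1 (.leaf (nat_lit 0x20b3bd0)) (.leaf (nat_lit 0xb633c))) (.node 1 (.leaf (nat_lit 0x10b65ff)) (.leaf (nat_lit 0x20b7c0d)))))))) (.node 32 (.node 16 (.node 8 (.node 4 (.node 2 (.node 1 (.leaf (nat_lit 0xb8693)) (.leaf (nat_lit 0x10b873a))) (.node 1 (.leaf (nat_lit 0x20b8900)) (.leaf (nat_lit 0xb9914)))) (.node 2 (.node 1 (.leaf (nat_lit 0x10b93e4)) (.leaf (nat_lit 0x20b9aa0))) (.node 1 (.leaf (nat_lit 0xbabe5)) (.leaf (nat_lit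 0xbb01b))))) (.node 4 (.node 2 (.node 1 (.leaf (nat_lit 0x10bb8d9)) (.leaf (nat_lit 0x20bbdee))) (.node 1 (.leaf (nat_lit 0x10bc788)) (.leaf (nat_lit 0xbdf12)))) (.node 2 (.node 1 (.leaf (nat_lit 0x10bd6bc)) (.leaf (nat_lit 0x20bdbb1))) (.node 1 (.leaf (nat_lit 0xbf045)) (.leaf (nat_lit 0x20bfb2f)))))) (.node 8 (.node 4 (.node 2 (.node 1 (.leaf (nat_lit 0xc0a47)) (.leaf (nat_lit 0x10c0970))) (.node 1 (.leaf (nat_lit 0x20c091a)) (.leaf (nat_lit 0xc1eb0)))) (.node 2 (.node 1 (.leaf (nat_lit 0x10c1e61)) (.leaf (nat_lit 0x20c1b29))) (.node 1 (.leaf (nat_lit 0x20c234f)) (.leaf (nat_lit 0xc37ab))))) (.node 4 (.node 2 (.node 1 (.leaf (nat_lit 0x10c30ae)) (.leaf (nat_lit 0x20c3359))) (.node 1 (.leaf (nat_lit 0xc4d58)) (.leaf (nat_lit 0x20c4bc4)))) (.node 2 (.node 1 (.leaf (nat_lit 0x10c52c6)) (.leaf (nat_lit 0x20c5688))) (.node 1 (.leaf (nat_lit 0x20c6c24))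 (.leaf (nat_lit 0xc72cc))))))) (.node 16 (.node 8 (.node 4 (.node 2 (.node 1 (.leaf (nat_lit 0x10c7669)) (.leaf (nat_lit 0x20c7e6c))) (.node 1 (.leaf (nat_lit 0xc8699)) (.leaf (nat_lit 0xc9ea6)))) (.node 2 (.node 1 (.leaf (nat_lit 0x10c9124)) (.leaf (nat_lit 0x10ca6b2))) (.node 1 (.leaf (nat_lit 0x20ca8f0)) (.leaf (nat_lit 0xcbc43))))) (.node 4 (.node 2 (.node 1 (.leaf (nat_lit 0x20cb60d)) (.leaf (nat_lit 0xcc71e))) (.node 1 (.leaf (nat_lit 0x20cc7b1)) (.leaf (nat_lit 0x10cdbc8)))) (.node 2 (.node 1 (.leaf (nat_lit 0x10ce1f5)) (.leaf (nat_lit 0xd02e5))) (.node 1 (.leaf (nat_lit 0x20d03eb)) (.leaf (nat_lit 0xd10de)))))) (.node 8 (.node 4 (.node 2 (.node 1 (.leaf (nat_lit 0x20d2770)) (.leaf (nat_lit 0xd3ee3))) (.node 1 (.leaf (nat_lit 0x10d3c2e)) (.leaf (nat_lit 0x20d3051)))) (.node 2 (.node 1 (.leaf (nat_lit 0x20d450a)) (.leaf (nat_lit 0x10d5e83)))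 (.node 1 (.leaf (nat_lit 0x20d5130)) (.leaf (nat_lit 0x20d6172))))) (.node 4 (.node 2 (.node 1 (.leaf (nat_lit 0xd7510)) (.leaf (nat_lit 0x10d7f7b))) (.node 1 (.leaf (nat_lit 0x20d70c3)) (.leaf (nat_lit 0xdac53)))) (.node 2 (.node 1 (.leaf (nat_lit 0x10da017)) (.leaf (nat_lit 0x20dabf4))) (.node 1 (.leaf (nat_lit 0xdbbe9)) (.leaf (nat_lit 0x10dba31))))))))))

/-- A part of `orbJN1`. -/
def orbJN1_2 : Tree := (.node 128 (.node 64 (.node 32 (.node 16 (.node 8 (.node 4 (.node 2 (.node 1 (.leaf (nat_lit 0x10dc149)) (.leaf (nat_lit 0x20dcde3))) (.node 1 (.leaf (nat_lit 0x10ddf4b)) (.leaf (nat_lit 0x20ddbd6)))) (.node 2 (.node 1 (.leaf (nat_lit 0xde249)) (.leaf (nat_lit 0xdf567))) (.node 1 (.leaf (nat_lit 0x10df190)) (.leaf (nat_lit 0xe058e))))) (.node 4 (.node 2 (.node 1 (.leaf (nat_lit 0x20e01c6)) (.leaf (nat_lit 0xe1953))) (.node 1 (.leaf (nat_lit 0x10e1823))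 (.leaf (nat_lit 0x20e1879)))) (.node 2 (.node 1 (.leaf (nat_lit 0x10e2380)) (.leaf (nat_lit 0x20e357e))) (.node 1 (.leaf (nat_lit 0x20e470d)) (.leaf (nat_lit 0xe52f4)))))) (.node 8 (.node 4 (.node 2 (.node 1 (.leaf (nat_lit 0x10e59ba)) (.leaf (nat_lit 0xe9c8f))) (.node 1 (.leaf (nat_lit 0x10e974c)) (.leaf (nat_lit 0xea861)))) (.node 2 (.node 1 (.leaf (nat_lit 0x10ea9fd)) (.leaf (nat_lit 0x20ea917))) (.node 1 (.leaf (nat_lit 0xeb5a9)) (.leaf (nat_lit 0x20eb5e0))))) (.node 4 (.node 2 (.node 1 (.leaf (nat_lit 0x10ecf9b)) (.leaf (nat_lit 0x20ec08b))) (.node 1 (.leaf (nat_lit 0xed2e1)) (.leaf (nat_lit 0x10edef7)))) (.node 2 (.node 1 (.leaf (nat_lit 0x20ed224)) (.leaf (nat_lit 0xee825))) (.node 1 (.leaf (nat_lit 0xefb08)) (.leaf (nat_lit 0x10ef8f8))))))) (.node 16 (.node 8 (.node 4 (.node 2 (.node 1 (.leaf (nat_lit 0x20ef57b)) (.leaf (nat_lit 0xf0a10)))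 (.node 1 (.leaf (nat_lit 0x10f0d12)) (.leaf (nat_lit 0x20f012d)))) (.node 2 (.node 1 (.leaf (nat_lit 0xf1b48)) (.leaf (nat_lit 0x10f125a))) (.node 1 (.leaf (nat_lit 0x20f1234)) (.leaf (nat_lit 0x20f2522))))) (.node 4 (.node 2 (.node 1 (.leaf (nat_lit 0xf3ad0)) (.leaf (nat_lit 0x10f3b20))) (.node 1 (.leaf (nat_lit 0x20f3c7c)) (.leaf (nat_lit 0xf4cdf)))) (.node 2 (.node 1 (.leaf (nat_lit 0xf64f5)) (.leaf (nat_lit 0x10f6935))) (.node 1 (.leaf (nat_lit 0x10f7a2f)) (.leaf (nat_lit 0x20f7cce)))))) (.node 8 (.node 4 (.node 2 (.node 1 (.leaf (nat_lit 0xfa237)) (.leaf (nat_lit 0x20faac4))) (.node 1 (.leaf (nat_lit 0xfbcb9)) (.leaf (nat_lit 0xfc982)))) (.node 2 (.node 1 (.leaf (nat_lit 0x10fc18e)) (.leaf (nat_lit 0xfe4c9))) (.node 1 (.leaf (nat_lit 0x20fe612)) (.leaf (nat_lit 0x20ff48c))))) (.node 4 (.node 2 (.node 1 (.leaf (nat_lit 0x101a6e)) (.leaf (nat_lit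 0x1102026))) (.node 1 (.leaf (nat_lit 0x2102637)) (.leaf (nat_lit 0x1103574)))) (.node 2 (.node 1 (.leaf (nat_lit 0x210307f)) (.leaf (nat_lit 0x104dd2))) (.node 1 (.leaf (nat_lit 0x1104b69)) (.leaf (nat_lit 0x2104c51)))))))) (.node 32 (.node 16 (.node 8 (.node 4 (.node 2 (.node 1 (.leaf (nat_lit 0x105c34)) (.leaf (nat_lit 0x106f7f))) (.node 1 (.leaf (nat_lit 0x11068f9)) (.leaf (nat_lit 0x2106035)))) (.node 2 (.node 1 (.leaf (nat_lit 0x110753c)) (.leaf (nat_lit 0x10901e))) (.node 1 (.leaf (nat_lit 0x210924d)) (.leaf (nat_lit 0x10a52c))))) (.node 4 (.node 2 (.node 1 (.leaf (nat_lit 0x210ac29)) (.leaf (nat_lit 0x10be8a))) (.node 1 (.leaf (nat_lit 0x110bb1f)) (.leaf (nat_lit 0x10ccf7)))) (.node 2 (.node 1 (.leaf (nat_lit 0x110c11b)) (.leaf (nat_lit 0x210c4df))) (.node 1 (.leaf (nat_lit 0x210d934)) (.leaf (nat_lit 0x10e541)))))) (.node 8 (.node 4 (.node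 2 (.node 1 (.leaf (nat_lit 0x210e1a1)) (.leaf (nat_lit 0x110ff60))) (.node 1 (.leaf (nat_lit 0x210fd3a)) (.leaf (nat_lit 0x111135e)))) (.node 2 (.node 1 (.leaf (nat_lit 0x1112d29)) (.leaf (nat_lit 0x114c1b))) (.node 1 (.leaf (nat_lit 0x1114aaa)) (.leaf (nat_lit 0x2114ef4))))) (.node 4 (.node 2 (.node 1 (.leaf (nat_lit 0x2115070)) (.leaf (nat_lit 0x2116775))) (.node 1 (.leaf (nat_lit 0x11787d)) (.leaf (nat_lit 0x1117d11)))) (.node 2 (.node 1 (.leaf (nat_lit 0x2117723)) (.leaf (nat_lit 0x11978a))) (.node 1 (.leaf (nat_lit 0x1119784)) (.leaf (nat_lit 0x2119cdd))))))) (.node 16 (.node 8 (.node 4 (.node 2 (.node 1 (.leaf (nat_lit 0x11aefb)) (.leaf (nat_lit 0x211a2cf))) (.node 1 (.leaf (nat_lit 0x111b737)) (.leaf (nat_lit 0x211ba38)))) (.node 2 (.node 1 (.leaf (nat_lit 0x111c652)) (.leaf (nat_lit 0x111d6c7))) (.node 1 (.leaf (nat_lit 0x211daba)) (.leaf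 (nat_lit 0x11e8db))))) (.node 4 (.node 2 (.node 1 (.leaf (nat_lit 0x111e34d)) (.leaf (nat_lit 0x211e375))) (.node 1 (.leaf (nat_lit 0x11fe78)) (.leaf (nat_lit 0x111fec1)))) (.node 2 (.node 1 (.leaf (nat_lit 0x120401)) (.leaf (nat_lit 0x1121fa7))) (.node 1 (.leaf (nat_lit 0x2121c50)) (.leaf (nat_lit 0x122f41)))))) (.node 8 (.node 4 (.node 2 (.node 1 (.leaf (nat_lit 0x1232ea)) (.leaf (nat_lit 0x1123e4b))) (.node 1 (.leaf (nat_lit 0x212362d)) (.leaf (nat_lit 0x124f15)))) (.node 2 (.node 1 (.leaf (nat_lit 0x1124810)) (.leaf (nat_lit 0x21246a6))) (.node 1 (.leaf (nat_lit 0x125899)) (.leaf (nat_lit 0x21252ad))))) (.node 4 (.node 2 (.node 1 (.leaf (nat_lit 0x1265a8)) (.leaf (nat_lit 0x2126df9))) (.node 1 (.leaf (nat_lit 0x1127c22)) (.leaf (nat_lit 0x21280c0)))) (.node 2 (.node 1 (.leaf (nat_lit 0x1295b2)) (.leaf (nat_lit 0x112a0a1))) (.node 1 (.leaf (nat_lit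 0x12cf78)) (.leaf (nat_lit 0x112c43d))))))))) (.node 64 (.node 32 (.node 16 (.node 8 (.node 4 (.node 2 (.node 1 (.leaf (nat_lit 0x212d281)) (.leaf (nat_lit 0x212e623))) (.node 1 (.leaf (nat_lit 0x12f945)) (.leaf (nat_lit 0x112f646)))) (.node 2 (.node 1 (.leaf (nat_lit 0x212f993)) (.leaf (nat_lit 0x1130a30))) (.node 1 (.leaf (nat_lit 0x213050e)) (.leaf (nat_lit 0x1131320))))) (.node 4 (.node 2 (.node 1 (.leaf (nat_lit 0x2133a46)) (.leaf (nat_lit 0x134011))) (.node 1 (.leaf (nat_lit 0x2136363)) (.leaf (nat_lit 0x1137158)))) (.node 2 (.node 1 (.leaf (nat_lit 0x2137aa5)) (.leaf (nat_lit 0x11381b9))) (.node 1 (.leaf (nat_lit 0x1396b7)) (.leaf (nat_lit 0x13ad9e)))))) (.node 8 (.node 4 (.node 2 (.node 1 (.leaf (nat_lit 0x213a880)) (.leaf (nat_lit 0x113bf61))) (.node 1 (.leaf (nat_lit 0x213b6b4)) (.leaf (nat_lit 0x113c139)))) (.node 2 (.node 1 (.leaf (nat_lit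 0x13d98f)) (.leaf (nat_lit 0x113d3ab))) (.node 1 (.leaf (nat_lit 0x113e8cb)) (.leaf (nat_lit 0x213e2c8))))) (.node 4 (.node 2 (.node 1 (.leaf (nat_lit 0x1409b6)) (.leaf (nat_lit 0x14246d))) (.node 1 (.leaf (nat_lit 0x143a4b)) (.leaf (nat_lit 0x11430f9)))) (.node 2 (.node 1 (.leaf (nat_lit 0x2143658)) (.leaf (nat_lit 0x2144b9f))) (.node 1 (.leaf (nat_lit 0x11451f7)) (.leaf (nat_lit 0x2145e80))))))) (.node 16 (.node 8 (.node 4 (.node 2 (.node 1 (.leaf (nat_lit 0x14668e)) (.leaf (nat_lit 0x147466))) (.node 1 (.leaf (nat_lit 0x14861a)) (.leaf (nat_lit 0x114835a)))) (.node 2 (.node 1 (.leaf (nat_lit 0x149667)) (.leaf (nat_lit 0x1149b77))) (.node 1 (.leaf (nat_lit 0x2149230)) (.leaf (nat_lit 0x114a5c8))))) (.node 4 (.node 2 (.node 1 (.leaf (nat_lit 0x14bafc)) (.leaf (nat_lit 0x214ecf9))) (.node 1 (.leaf (nat_lit 0x14f2f6)) (.leaf (nat_lit 0x114f4be))))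 (.node 2 (.node 1 (.leaf (nat_lit 0x214fa0c)) (.leaf (nat_lit 0x15019c))) (.node 1 (.leaf (nat_lit 0x1150fc2)) (.leaf (nat_lit 0x21507f8)))))) (.node 8 (.node 4 (.node 2 (.node 1 (.leaf (nat_lit 0x11519f8)) (.leaf (nat_lit 0x2152b78))) (.node 1 (.leaf (nat_lit 0x153a27)) (.leaf (nat_lit 0x1153b3b)))) (.node 2 (.node 1 (.leaf (nat_lit 0x2153191)) (.leaf (nat_lit 0x1154ea2))) (.node 1 (.leaf (nat_lit 0x21547c6)) (.leaf (nat_lit 0x1558c1))))) (.node 4 (.node 2 (.node 1 (.leaf (nat_lit 0x2155dea)) (.leaf (nat_lit 0x156223))) (.node 1 (.leaf (nat_lit 0x2157617)) (.leaf (nat_lit 0x15871d)))) (.node 2 (.node 1 (.leaf (nat_lit 0x1158377)) (.leaf (nat_lit 0x11593fb))) (.node 1 (.leaf (nat_lit 0x2159cc5)) (.leaf (nat_lit 0x15a831)))))))) (.node 32 (.node 16 (.node 8 (.node 4 (.node 2 (.node 1 (.leaf (nat_lit 0x15b79b)) (.leaf (nat_lit 0x15ca88))) (.node 1 (.leaf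 (nat_lit 0x15e713)) (.leaf (nat_lit 0x115ebd1)))) (.node 2 (.node 1 (.leaf (nat_lit 0x215f44c)) (.leaf (nat_lit 0x11606fc))) (.node 1 (.leaf (nat_lit 0x161457)) (.leaf (nat_lit 0x1161a0a))))) (.node 4 (.node 2 (.node 1 (.leaf (nat_lit 0x162ddb)) (.leaf (nat_lit 0x116297c))) (.node 1 (.leaf (nat_lit 0x1163c10)) (.leaf (nat_lit 0x2163ca7)))) (.node 2 (.node 1 (.leaf (nat_lit 0x1164262)) (.leaf (nat_lit 0x165dad))) (.node 1 (.leaf (nat_lit 0x1165f18)) (.leaf (nat_lit 0x216580b)))))) (.node 8 (.node 4 (.node 2 (.node 1 (.leaf (nat_lit 0x1664e0)) (.leaf (nat_lit 0x1166a1e))) (.node 1 (.leaf (nat_lit 0x2167bde)) (.leaf (nat_lit 0x1168ed9)))) (.node 2 (.node 1 (.leaf (nat_lit 0x2168bd3)) (.leaf (nat_lit 0x169074))) (.node 1 (.leaf (nat_lit 0x1169eb5)) (.leaf (nat_lit 0x16c02b))))) (.node 4 (.node 2 (.node 1 (.leaf (nat_lit 0x16df94)) (.leaf (nat_lit 0x216dabf)))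 (.node 1 (.leaf (nat_lit 0x16e9be)) (.leaf (nat_lit 0x116e764)))) (.node 2 (.node 1 (.leaf (nat_lit 0x1170b19)) (.leaf (nat_lit 0x2175347))) (.node 1 (.leaf (nat_lit 0x1176fc0)) (.leaf (nat_lit 0x2176e60))))))) (.node 16 (.node 8 (.node 4 (.node 2 (.node 1 (.leaf (nat_lit 0x1177be0)) (.leaf (nat_lit 0x17828f))) (.node 1 (.leaf (nat_lit 0x179808)) (.leaf (nat_lit 0x117952f)))) (.node 2 (.node 1 (.leaf (nat_lit 0x2179c2c)) (.leaf (nat_lit 0x117a19a))) (.node 1 (.leaf (nat_lit 0x117b421)) (.leaf (nat_lit 0x117d2d7))))) (.node 4 (.node 2 (.node 1 (.leaf (nat_lit 0x217fb86)) (.leaf (nat_lit 0x1807d0))) (.node 1 (.leaf (nat_lit 0x1180a6c)) (.leaf (nat_lit 0x18143c)))) (.node 2 (.node 1 (.leaf (nat_lit 0x1182eb4)) (.leaf (nat_lit 0x184de5))) (.node 1 (.leaf (nat_lit 0x1184e2d)) (.leaf (nat_lit 0x18654b)))))) (.node 8 (.node 4 (.node 2 (.node 1 (.leaf (nat_lit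 0x1879ca)) (.leaf (nat_lit 0x21879ab))) (.node 1 (.leaf (nat_lit 0x1189b8e)) (.leaf (nat_lit 0x218a088)))) (.node 2 (.node 1 (.leaf (nat_lit 0x118cfcc)) (.leaf (nat_lit 0x118dc6d))) (.node 1 (.leaf (nat_lit 0x18e690)) (.leaf (nat_lit 0x118ed1a))))) (.node 4 (.node 2 (.node 1 (.leaf (nat_lit 0x218ec3a)) (.leaf (nat_lit 0x19038c))) (.node 1 (.leaf (nat_lit 0x1190965)) (.leaf (nat_lit 0x2190349)))) (.node 2 (.node 1 (.leaf (nat_lit 0x191fa8)) (.leaf (nat_lit 0x1191e20))) (.node 1 (.leaf (nat_lit 0x21938cc)) (.leaf (nat_lit 0x2194417))))))))))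

/-- A part of `orbJN1`. -/
def orbJN1_3 : Tree := (.node 103 (.node 51 (.node 25 (.node 12 (.node 6 (.node 3 (.node 1 (.leaf (nat_lit 0x1195c42)) (.node 1 (.leaf (nat_lit 0x219554c)) (.leaf (nat_lit 0x21972d8)))) (.node 1 (.leaf (nat_lit 0x198072)) (.node 1 (.leaf (nat_lit 0x19ab1b)) (.leaf (nat_lit 0x119a5bf))))) (.node 3 (.node 1 (.leaf (nat_lit 0x219bb3a)) (.node 1 (.leaf (nat_lit 0x19ce54)) (.leaf (nat_lit 0x119cfcd)))) (.node 1 (.leaf (nat_lit 0x219c3f9)) (.node 1 (.leaf (nat_lit 0x219d1af)) (.leaf (nat_lit 0x119e0f8)))))) (.node 6 (.node 3 (.node 1 (.leaf (nat_lit 0x119f712)) (.node 1 (.leaf (nat_lit 0x219f68d)) (.leaf (nat_lit 0x21a0461)))) (.node 1 (.leaf (nat_lit 0x21a1105)) (.node 1 (.leaf (nat_lit 0x1a2f9c)) (.leaf (nat_lit 0x21a27b3))))) (.node 3 (.node 1 (.leaf (nat_lit 0x11a40ff)) (.node 1 (.leaf (nat_lit 0x11a568b)) (.leaf (nat_lit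 0x11a692e)))) (.node 2 (.node 1 (.leaf (nat_lit 0x21a6c2f)) (.leaf (nat_lit 0x1a7272))) (.node 1 (.leaf (nat_lit 0x1a8176)) (.leaf (nat_lit 0x11a823e))))))) (.node 13 (.node 6 (.node 3 (.node 1 (.leaf (nat_lit 0x11a936e)) (.node 1 (.leaf (nat_lit 0x21a979c)) (.leaf (nat_lit 0x1aa62e)))) (.node 1 (.leaf (nat_lit 0x11aa0e2)) (.node 1 (.leaf (nat_lit 0x21aab36)) (.leaf (nat_lit 0x21ac659))))) (.node 3 (.node 1 (.leaf (nat_lit 0x21ae055)) (.node 1 (.leaf (nat_lit 0x1aff7d)) (.leaf (nat_lit 0x11b2514)))) (.node 2 (.node 1 (.leaf (nat_lit 0x21b2aaf)) (.leaf (nat_lit 0x1b306f))) (.node 1 (.leaf (nat_lit 0x1b4a25)) (.leaf (nat_lit 0x21b48d5)))))) (.node 6 (.node 3 (.node 1 (.leaf (nat_lit 0x11b50e8)) (.node 1 (.leaf (nat_lit 0x21b53b4)) (.leaf (nat_lit 0x1b6b73)))) (.node 1 (.leaf (nat_lit 0x11b642f)) (.node 1 (.leaf (nat_lit 0x11b8ca4)) (.leaf (nat_lit 0x21b863c)))))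 (.node 3 (.node 1 (.leaf (nat_lit 0x21b926e)) (.node 1 (.leaf (nat_lit 0x1bbc0c)) (.leaf (nat_lit 0x21bc867)))) (.node 2 (.node 1 (.leaf (nat_lit 0x1bd121)) (.leaf (nat_lit 0x1beccb))) (.node 1 (.leaf (nat_lit 0x21bfb49)) (.leaf (nat_lit 0x1c0014)))))))) (.node 26 (.node 13 (.node 6 (.node 3 (.node 1 (.leaf (nat_lit 0x21c0548)) (.node 1 (.leaf (nat_lit 0x21c3cde)) (.leaf (nat_lit 0x1c4a39)))) (.node 1 (.leaf (nat_lit 0x11c6ad7)) (.node 1 (.leaf (nat_lit 0x1c73d5)) (.leaf (nat_lit 0x11c7756))))) (.node 3 (.node 1 (.leaf (nat_lit 0x21c719f)) (.node 1 (.leaf (nat_lit 0x1ca59f)) (.leaf (nat_lit 0x11cb047)))) (.node 2 (.node 1 (.leaf (nat_lit 0x1cc3b8)) (.leaf (nat_lit 0x11cd304))) (.node 1 (.leaf (nat_lit 0x21cdaf6)) (.leaf (nat_lit 0x11ce22c)))))) (.node 6 (.node 3 (.node 1 (.leaf (nat_lit 0x21ce540)) (.node 1 (.leaf (nat_lit 0x1d0fa1)) (.leaf (nat_lit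 0x21d102a)))) (.node 1 (.leaf (nat_lit 0x11d2922)) (.node 1 (.leaf (nat_lit 0x21d3dcc)) (.leaf (nat_lit 0x11d42b2))))) (.node 3 (.node 1 (.leaf (nat_lit 0x21d5f50)) (.node 1 (.leaf (nat_lit 0x1d631d)) (.leaf (nat_lit 0x21d7ea3)))) (.node 2 (.node 1 (.leaf (nat_lit 0x11d8ba1)) (.leaf (nat_lit 0x21d8324))) (.node 1 (.leaf (nat_lit 0x1d9432)) (.leaf (nat_lit 0x21dc9b7))))))) (.node 13 (.node 6 (.node 3 (.node 1 (.leaf (nat_lit 0x11ddcd7)) (.node 1 (.leaf (nat_lit 0x1df529)) (.leaf (nat_lit 0x21e0ddc)))) (.node 1 (.leaf (nat_lit 0x1e1232)) (.node 1 (.leaf (nat_lit 0x21e107c)) (.leaf (nat_lit 0x1e3e56))))) (.node 3 (.node 1 (.leaf (nat_lit 0x11e4d86)) (.node 1 (.leaf (nat_lit 0x21e6dd3)) (.leaf (nat_lit 0x21e8cc9)))) (.node 2 (.node 1 (.leaf (nat_lit 0x21eab2b)) (.leaf (nat_lit 0x11ede0e))) (.node 1 (.leaf (nat_lit 0x11efa40)) (.leaf (nat_lit 0x21f110b))))))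 (.node 6 (.node 3 (.node 1 (.leaf (nat_lit 0x11f21f8)) (.node 1 (.leaf (nat_lit 0x1f4f14)) (.leaf (nat_lit 0x1f52e4)))) (.node 1 (.leaf (nat_lit 0x11f5638)) (.node 1 (.leaf (nat_lit 0x11f6e2c)) (.leaf (nat_lit 0x1f766b))))) (.node 3 (.node 1 (.leaf (nat_lit 0x21f7e6d)) (.node 1 (.leaf (nat_lit 0x21f9008)) (.leaf (nat_lit 0x21fbe9f)))) (.node 2 (.node 1 (.leaf (nat_lit 0x11fcb9a)) (.leaf (nat_lit 0x21fda51))) (.node 1 (.leaf (nat_lit 0x11ff3a5)) (.leaf (nat_lit 0x12011b2))))))))) (.node 52 (.node 26 (.node 13 (.node 6 (.node 3 (.node 1 (.leaf (nat_lit 0x2201b54)) (.node 1 (.leaf (nat_lit 0x2204b64)) (.leaf (nat_lit 0x2206437)))) (.node 1 (.leaf (nat_lit 0x207a1f)) (.node 1 (.leaf (nat_lit 0x208bd8)) (.leaf (nat_lit 0x1208bc5))))) (.node 3 (.node 1 (.leaf (nat_lit 0x20ab11)) (.node 1 (.leaf (nat_lit 0x120ac9c)) (.leaf (nat_lit 0x210c57)))) (.node 2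 (.node 1 (.leaf (nat_lit 0x221043a)) (.leaf (nat_lit 0x12129d6))) (.node 1 (.leaf (nat_lit 0x1214fa4)) (.leaf (nat_lit 0x2214ba7)))))) (.node 6 (.node 3 (.node 1 (.leaf (nat_lit 0x2218cf6)) (.node 1 (.leaf (nat_lit 0x21af7e)) (.leaf (nat_lit 0x121b13b)))) (.node 1 (.leaf (nat_lit 0x21ca95)) (.node 1 (.leaf (nat_lit 0x221d582)) (.leaf (nat_lit 0x222479))))) (.node 3 (.node 1 (.leaf (nat_lit 0x1222a24)) (.node 1 (.leaf (nat_lit 0x2222ea0)) (.leaf (nat_lit 0x1225733)))) (.node 2 (.node 1 (.leaf (nat_lit 0x227eaf)) (.leaf (nat_lit 0x1227a35))) (.node 1 (.leaf (nat_lit 0x122957a)) (.leaf (nat_lit 0x22293d9))))))) (.node 13 (.node 6 (.node 3 (.node 1 (.leaf (nat_lit 0x22d1d2)) (.node 1 (.leaf (nat_lit 0x222e23a)) (.leaf (nat_lit 0x22f512)))) (.node 1 (.leaf (nat_lit 0x222fda6)) (.node 1 (.leaf (nat_lit 0x12302af)) (.leaf (nat_lit 0x2230016))))) (.node 3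 (.node 1 (.leaf (nat_lit 0x2356b1)) (.node 1 (.leaf (nat_lit 0x1237d1f)) (.leaf (nat_lit 0x23b608)))) (.node 2 (.node 1 (.leaf (nat_lit 0x223d8ff)) (.leaf (nat_lit 0x223fe68))) (.node 1 (.leaf (nat_lit 0x2417bb)) (.leaf (nat_lit 0x12424f1)))))) (.node 6 (.node 3 (.node 1 (.leaf (nat_lit 0x2245f43)) (.node 1 (.leaf (nat_lit 0x124600e)) (.leaf (nat_lit 0x224b0e0)))) (.node 1 (.leaf (nat_lit 0x124cbf6)) (.node 1 (.leaf (nat_lit 0x224cba0)) (.leaf (nat_lit 0x224f833))))) (.node 3 (.node 1 (.leaf (nat_lit 0x125200d)) (.node 1 (.leaf (nat_lit 0x2252960)) (.leaf (nat_lit 0x1255521)))) (.node 2 (.node 1 (.leaf (nat_lit 0x2258dcd)) (.leaf (nat_lit 0x125ff95))) (.node 1 (.leaf (nat_lit 0x2260a5b)) (.leaf (nat_lit 0x2264319)))))))) (.node 26 (.node 13 (.node 6 (.node 3 (.node 1 (.leaf (nat_lit 0x2266a3f)) (.node 1 (.leaf (nat_lit 0x26aae0)) (.leaf (nat_lit 0x226bc5e))))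 (.node 1 (.leaf (nat_lit 0x126e04c)) (.node 1 (.leaf (nat_lit 0x226e1ae)) (.leaf (nat_lit 0x226f955))))) (.node 3 (.node 1 (.leaf (nat_lit 0x273841)) (.node 1 (.leaf (nat_lit 0x27411a)) (.leaf (nat_lit 0x22777f9)))) (.node 2 (.node 1 (.leaf (nat_lit 0x279c52)) (.leaf (nat_lit 0x127a220))) (.node 1 (.leaf (nat_lit 0x227e641)) (.leaf (nat_lit 0x127f573)))))) (.node 6 (.node 3 (.node 1 (.leaf (nat_lit 0x128888a)) (.node 1 (.leaf (nat_lit 0x1289f1c)) (.leaf (nat_lit 0x228a164)))) (.node 1 (.leaf (nat_lit 0x291274)) (.node 1 (.leaf (nat_lit 0x22914dd)) (.leaf (nat_lit 0x2292bc6))))) (.node 3 (.node 1 (.leaf (nat_lit 0x1297ece)) (.node 1 (.leaf (nat_lit 0x229929d)) (.leaf (nat_lit 0x129fc4d)))) (.node 2 (.node 1 (.leaf (nat_lit 0x12a33a4)) (.leaf (nat_lit 0x12a44ba))) (.node 1 (.leaf (nat_lit 0x22a436a)) (.leaf (nat_lit 0x22a9c28))))))) (.node 13 (.node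 6 (.node 3 (.node 1 (.leaf (nat_lit 0x22b3ea8)) (.node 1 (.leaf (nat_lit 0x12b4c76)) (.leaf (nat_lit 0x12b8323)))) (.node 1 (.leaf (nat_lit 0x2b9cc8)) (.node 1 (.leaf (nat_lit 0x12bea3b)) (.leaf (nat_lit 0x22be8d1))))) (.node 3 (.node 1 (.leaf (nat_lit 0x2c2c94)) (.node 1 (.leaf (nat_lit 0x2c64e2)) (.leaf (nat_lit 0x22c6839)))) (.node 2 (.node 1 (.leaf (nat_lit 0x2ca95b)) (.leaf (nat_lit 0x12d1ab8))) (.node 1 (.leaf (nat_lit 0x12d69d0)) (.leaf (nat_lit 0x12d971b)))))) (.node 6 (.node 3 (.node 1 (.leaf (nat_lit 0x12df753)) (.node 1 (.leaf (nat_lit 0x2e2ce4)) (.leaf (nat_lit 0x22e5061)))) (.node 1 (.leaf (nat_lit 0x12e823d)) (.node 1 (.leaf (nat_lit 0x12eefc5)) (.leaf (nat_lit 0x2f9e19))))) (.node 3 (.node 1 (.leaf (nat_lit 0x22f9dd9)) (.node 1 (.leaf (nat_lit 0x22fad1e)) (.leaf (nat_lit 0x2fc037)))) (.node 2 (.node 1 (.leaf (nat_lit 0x1325e49)) (.leaf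 (nat_lit 0x3396c9))) (.node 1 (.leaf (nat_lit 0x3446c4)) (.leaf (nat_lit 0x34d6ba))))))))))

/-- An orbit. -/
def orbJN1 : Tree := (.node 512 (.node 256 orbJN1_0 orbJN1_1) (.node 256 orbJN1_2 orbJN1_3))

/-- The orbits with their lengths. -/
def orbJNL : List (Tree × ℕ) := [(orbJN0, 780), (orbJN1, 975)]

/-- An orbit. -/
def orbJF0 : Tree := (.leaf (nat_lit 0x1f))

/-- An orbit. -/
def orbJF1 : Tree := (.node 39 (.node 19 (.node 9 (.node 4 (.node 2 (.node 1 (.leaf (nat_lit 0xc4b)) (.leaf (nat_lit 0x6dd))) (.node 1 (.leaf (nat_lit 0x10008e6)) (.leaf (nat_lit 0x2000382)))) (.node 2 (.node 1 (.leaf (nat_lit 0x1033)) (.leaf (nat_lit 0x10017f5))) (.node 1 (.leaf (nat_lit 0x200120d)) (.node 1 (.leaf (nat_lit 0x2ec5)) (.leaf (nat_lit 0x1002ecb)))))) (.node 5 (.node 2 (.node 1 (.leaf (nat_lit 0x2002832)) (.leaf (nat_lit 0x3c27))) (.node 1 (.leaf (nat_lit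 0x4056)) (.node 1 (.leaf (nat_lit 0x10040e7)) (.leaf (nat_lit 0x20043e3))))) (.node 2 (.node 1 (.leaf (nat_lit 0x5e4e)) (.leaf (nat_lit 0x1005c13))) (.node 1 (.leaf (nat_lit 0x200563f)) (.node 1 (.leaf (nat_lit 0x6099)) (.leaf (nat_lit 0x79b5))))))) (.node 10 (.node 5 (.node 2 (.node 1 (.leaf (nat_lit 0x100703a)) (.leaf (nat_lit 0x8871))) (.node 1 (.leaf (nat_lit 0x1008546)) (.node 1 (.leaf (nat_lit 0x9568)) (.leaf (nat_lit 0x1009718))))) (.node 2 (.node 1 (.leaf (nat_lit 0x2009034)) (.leaf (nat_lit 0xab2d))) (.node 1 (.leaf (nat_lit 0x100a1e1)) (.node 1 (.leaf (nat_lit 0xb18a)) (.leaf (nat_lit 0x100b6fe)))))) (.node 5 (.node 2 (.node 1 (.leaf (nat_lit 0x200b370)) (.leaf (nat_lit 0xce26))) (.node 1 (.leaf (nat_lit 0x100c131)) (.node 1 (.leaf (nat_lit 0xd676)) (.leaf (nat_lit 0x200ddec))))) (.node 2 (.node 1 (.leaf (nat_lit 0xe238)) (.leaf (nat_lit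 0x100fe8f))) (.node 1 (.leaf (nat_lit 0x1010db0)) (.node 1 (.leaf (nat_lit 0x2010844)) (.leaf (nat_lit 0x11d28)))))))) (.node 19 (.node 9 (.node 4 (.node 2 (.node 1 (.leaf (nat_lit 0x1011b70)) (.leaf (nat_lit 0x1012852))) (.node 1 (.leaf (nat_lit 0x1013edc)) (.leaf (nat_lit 0x20131a8)))) (.node 2 (.node 1 (.leaf (nat_lit 0x14b01)) (.leaf (nat_lit 0x1014201))) (.node 1 (.leaf (nat_lit 0x1015596)) (.node 1 (.leaf (nat_lit 0x1016025)) (.leaf (nat_lit 0x2016dc2)))))) (.node 5 (.node 2 (.node 1 (.leaf (nat_lit 0x17cb0)) (.leaf (nat_lit 0x101702c))) (.node 1 (.leaf (nat_lit 0x18aa8)) (.node 1 (.leaf (nat_lit 0x1018bea)) (.leaf (nat_lit 0x19735))))) (.node 2 (.node 1 (.leaf (nat_lit 0x201b412)) (.leaf (nat_lit 0x1c0a5))) (.node 1 (.leaf (nat_lit 0x101c557)) (.node 1 (.leaf (nat_lit 0x201cf34)) (.leaf (nat_lit 0x201d7f1))))))) (.node 10 (.node 5 (.node 2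 (.node 1 (.leaf (nat_lit 0x1e6ef)) (.leaf (nat_lit 0x1fd95))) (.node 1 (.leaf (nat_lit 0x1022063)) (.node 1 (.leaf (nat_lit 0x10243e1)) (.leaf (nat_lit 0x2664d))))) (.node 2 (.node 1 (.leaf (nat_lit 0x2721b)) (.leaf (nat_lit 0x102763b))) (.node 1 (.leaf (nat_lit 0x202741f)) (.node 1 (.leaf (nat_lit 0x102980c)) (.leaf (nat_lit 0x20299c0)))))) (.node 5 (.node 2 (.node 1 (.leaf (nat_lit 0x2a0be)) (.leaf (nat_lit 0x102ab15))) (.node 1 (.leaf (nat_lit 0x102b8ed)) (.node 1 (.leaf (nat_lit 0x202de70)) (.leaf (nat_lit 0x2e30e))))) (.node 2 (.node 1 (.leaf (nat_lit 0x1030f80)) (.leaf (nat_lit 0x332b5))) (.node 1 (.leaf (nat_lit 0x1035ca9)) (.node 1 (.leaf (nat_lit 0x20390f3)) (.leaf (nat_lit 0x3c2dd)))))))))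

/-- A part of `orbJF2`. -/
def orbJF2_0 : Tree := (.node 128 (.node 64 (.node 32 (.node 16 (.node 8 (.node 4 (.node 2 (.node 1 (.leaf (nat_lit 0x4d8)) (.leaf (nat_lit 0xcaf))) (.node 1 (.leaf (nat_lit 0x10003bb)) (.leaf (nat_lit 0x20009e4)))) (.node 2 (.node 1 (.leaf (nat_lit 0x1c39)) (.leaf (nat_lit 0x1001f8e))) (.node 1 (.leaf (nat_lit 0x2001499)) (.leaf (nat_lit 0x2b13))))) (.node 4 (.node 2 (.node 1 (.leaf (nat_lit 0x100248d)) (.leaf (nat_lit 0x20029e7))) (.node 1 (.leaf (nat_lit 0x372a)) (.leaf (nat_lit 0x100355a)))) (.node 2 (.node 1 (.leaf (nat_lit 0x2003b41)) (.leaf (nat_lit 0x42ef))) (.node 1 (.leaf (nat_lit 0x1004672)) (.leaf (nat_lit 0x2004b99)))))) (.node 8 (.node 4 (.node 2 (.node 1 (.leaf (nat_lit 0x5263)) (.leaf (nat_lit 0x10058c7))) (.node 1 (.leaf (nat_lit 0x20058dc)) (.leaf (nat_lit 0x6cac)))) (.node 2 (.node 1 (.leaf (nat_lit 0x1006302))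 (.leaf (nat_lit 0x7f4c))) (.node 1 (.leaf (nat_lit 0x1007a86)) (.leaf (nat_lit 0x2007bb6))))) (.node 4 (.node 2 (.node 1 (.leaf (nat_lit 0x849d)) (.leaf (nat_lit 0x100848b))) (.node 1 (.leaf (nat_lit 0x922a)) (.leaf (nat_lit 0x100923b)))) (.node 2 (.node 1 (.leaf (nat_lit 0x20099a7)) (.leaf (nat_lit 0xa32f))) (.node 1 (.leaf (nat_lit 0x100aead)) (.leaf (nat_lit 0x200acea))))))) (.node 16 (.node 8 (.node 4 (.node 2 (.node 1 (.leaf (nat_lit 0xb907)) (.leaf (nat_lit 0x100b6f1))) (.node 1 (.leaf (nat_lit 0x200bb4c)) (.leaf (nat_lit 0xccf8)))) (.node 2 (.node 1 (.leaf (nat_lit 0x100cb91)) (.leaf (nat_lit 0x200ccf3))) (.node 1 (.leaf (nat_lit 0xd0da)) (.leaf (nat_lit 0x100ddbe))))) (.node 4 (.node 2 (.node 1 (.leaf (nat_lit 0x200d555)) (.leaf (nat_lit 0xe6bd))) (.node 1 (.leaf (nat_lit 0x100e31c)) (.leaf (nat_lit 0x200ef91)))) (.node 2 (.node 1 (.leaf (nat_lit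 0xfeb3)) (.leaf (nat_lit 0x100fd8c))) (.node 1 (.leaf (nat_lit 0x200f052)) (.leaf (nat_lit 0x101bc)))))) (.node 8 (.node 4 (.node 2 (.node 1 (.leaf (nat_lit 0x2010171)) (.leaf (nat_lit 0x116fa))) (.node 1 (.leaf (nat_lit 0x1011dfa)) (.leaf (nat_lit 0x2011c6e)))) (.node 2 (.node 1 (.leaf (nat_lit 0x129f9)) (.leaf (nat_lit 0x1012244))) (.node 1 (.leaf (nat_lit 0x133f0)) (.leaf (nat_lit 0x20136ed))))) (.node 4 (.node 2 (.node 1 (.leaf (nat_lit 0x149cd)) (.leaf (nat_lit 0x1014467))) (.node 1 (.leaf (nat_lit 0x201499b)) (.leaf (nat_lit 0x1560a)))) (.node 2 (.node 1 (.leaf (nat_lit 0x10153cf)) (.leaf (nat_lit 0x10163aa))) (.node 1 (.leaf (nat_lit 0x101704f)) (.leaf (nat_lit 0x1878f)))))))) (.node 32 (.node 16 (.node 8 (.node 4 (.node 2 (.node 1 (.leaf (nat_lit 0x1018f8c)) (.leaf (nat_lit 0x20188a3))) (.node 1 (.leaf (nat_lit 0x19e5c)) (.leaf (nat_lit 0x1019128))))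 (.node 2 (.node 1 (.leaf (nat_lit 0x201946a)) (.leaf (nat_lit 0x1a25d))) (.node 1 (.leaf (nat_lit 0x101a068)) (.leaf (nat_lit 0x201a7f6))))) (.node 4 (.node 2 (.node 1 (.leaf (nat_lit 0x1b0b7)) (.leaf (nat_lit 0x101b372))) (.node 1 (.leaf (nat_lit 0x201bbf2)) (.leaf (nat_lit 0x1ce94)))) (.node 2 (.node 1 (.leaf (nat_lit 0x101c7e3)) (.leaf (nat_lit 0x201c364))) (.node 1 (.leaf (nat_lit 0x1d520)) (.leaf (nat_lit 0x101d1cc)))))) (.node 8 (.node 4 (.node 2 (.node 1 (.leaf (nat_lit 0x201d86b)) (.leaf (nat_lit 0x1e73f))) (.node 1 (.leaf (nat_lit 0x101edc9)) (.leaf (nat_lit 0x201e106)))) (.node 2 (.node 1 (.leaf (nat_lit 0x201f77f)) (.leaf (nat_lit 0x2020a28))) (.node 1 (.leaf (nat_lit 0x21483)) (.leaf (nat_lit 0x102198d))))) (.node 4 (.node 2 (.node 1 (.leaf (nat_lit 0x229ec)) (.leaf (nat_lit 0x10221e7))) (.node 1 (.leaf (nat_lit 0x20224ad)) (.leaf (nat_lit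 0x234d4)))) (.node 2 (.node 1 (.leaf (nat_lit 0x1023c30)) (.leaf (nat_lit 0x24e5e))) (.node 1 (.leaf (nat_lit 0x1024a64)) (.leaf (nat_lit 0x202479d))))))) (.node 16 (.node 8 (.node 4 (.node 2 (.node 1 (.leaf (nat_lit 0x25c82)) (.leaf (nat_lit 0x1025804))) (.node 1 (.leaf (nat_lit 0x2025826)) (.leaf (nat_lit 0x10261ac)))) (.node 2 (.node 1 (.leaf (nat_lit 0x20260cc)) (.leaf (nat_lit 0x27027))) (.node 1 (.leaf (nat_lit 0x28cb4)) (.leaf (nat_lit 0x1028c90))))) (.node 4 (.node 2 (.node 1 (.leaf (nat_lit 0x2028a7d)) (.leaf (nat_lit 0x202945e))) (.node 1 (.leaf (nat_lit 0x102a611)) (.leaf (nat_lit 0x2bf36)))) (.node 2 (.node 1 (.leaf (nat_lit 0x202b755)) (.leaf (nat_lit 0x2cae9))) (.node 1 (.leaf (nat_lit 0x202cd23)) (.leaf (nat_lit 0x2d24a)))))) (.node 8 (.node 4 (.node 2 (.node 1 (.leaf (nat_lit 0x102da8c)) (.leaf (nat_lit 0x202d698))) (.node 1 (.leaf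 (nat_lit 0x202e2d6)) (.leaf (nat_lit 0x2f0fe)))) (.node 2 (.node 1 (.leaf (nat_lit 0x102fa55)) (.leaf (nat_lit 0x306f6))) (.node 1 (.leaf (nat_lit 0x2030242)) (.leaf (nat_lit 0x10314a3))))) (.node 4 (.node 2 (.node 1 (.leaf (nat_lit 0x2031b95)) (.leaf (nat_lit 0x33e72))) (.node 1 (.leaf (nat_lit 0x1033dab)) (.leaf (nat_lit 0x2033b84)))) (.node 2 (.node 1 (.leaf (nat_lit 0x341d8)) (.leaf (nat_lit 0x1034dba))) (.node 1 (.leaf (nat_lit 0x20341b8)) (.leaf (nat_lit 0x3571c))))))))) (.node 64 (.node 32 (.node 16 (.node 8 (.node 4 (.node 2 (.node 1 (.leaf (nat_lit 0x1035efd)) (.leaf (nat_lit 0x1037d3b))) (.node 1 (.leaf (nat_lit 0x389d7)) (.leaf (nat_lit 0x10384a7)))) (.node 2 (.node 1 (.leaf (nat_lit 0x20380d7)) (.leaf (nat_lit 0x10397dd))) (.node 1 (.leaf (nat_lit 0x103afbb)) (.leaf (nat_lit 0x203a311))))) (.node 4 (.node 2 (.node 1 (.leaf (nat_lit 0x103b7fd))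 (.leaf (nat_lit 0x3ca96))) (.node 1 (.leaf (nat_lit 0x103c9eb)) (.leaf (nat_lit 0x3d87f)))) (.node 2 (.node 1 (.leaf (nat_lit 0x103d8c5)) (.leaf (nat_lit 0x203d57d))) (.node 1 (.leaf (nat_lit 0x103ea69)) (.leaf (nat_lit 0x3f3d4)))))) (.node 8 (.node 4 (.node 2 (.node 1 (.leaf (nat_lit 0x103f5f6)) (.leaf (nat_lit 0x203f564))) (.node 1 (.leaf (nat_lit 0x1040738)) (.leaf (nat_lit 0x10411c5)))) (.node 2 (.node 1 (.leaf (nat_lit 0x2041b38)) (.leaf (nat_lit 0x423af))) (.node 1 (.leaf (nat_lit 0x1042f24)) (.leaf (nat_lit 0x2042903))))) (.node 4 (.node 2 (.node 1 (.leaf (nat_lit 0x4335d)) (.leaf (nat_lit 0x1043023))) (.node 1 (.leaf (nat_lit 0x1044be3)) (.leaf (nat_lit 0x452eb)))) (.node 2 (.node 1 (.leaf (nat_lit 0x1045c41)) (.leaf (nat_lit 0x1046d07))) (.node 1 (.leaf (nat_lit 0x2046384)) (.leaf (nat_lit 0x2047bf0))))))) (.node 16 (.node 8 (.node 4 (.node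 2 (.node 1 (.leaf (nat_lit 0x482db)) (.leaf (nat_lit 0x1049337))) (.node 1 (.leaf (nat_lit 0x2049edb)) (.leaf (nat_lit 0x104a7d5)))) (.node 2 (.node 1 (.leaf (nat_lit 0x204af6c)) (.leaf (nat_lit 0x104b846))) (.node 1 (.leaf (nat_lit 0x204b9a9)) (.leaf (nat_lit 0x204c433))))) (.node 4 (.node 2 (.node 1 (.leaf (nat_lit 0x4dcb5)) (.leaf (nat_lit 0x104dd8b))) (.node 1 (.leaf (nat_lit 0x204d12b)) (.leaf (nat_lit 0x204e96e)))) (.node 2 (.node 1 (.leaf (nat_lit 0x4f883)) (.leaf (nat_lit 0x104f997))) (.node 1 (.leaf (nat_lit 0x204f05b)) (.leaf (nat_lit 0x105049b)))))) (.node 8 (.node 4 (.node 2 (.node 1 (.leaf (nat_lit 0x20507f3)) (.leaf (nat_lit 0x5194e))) (.node 1 (.leaf (nat_lit 0x2051620)) (.leaf (nat_lit 0x105206d)))) (.node 2 (.node 1 (.leaf (nat_lit 0x20523be)) (.leaf (nat_lit 0x53123))) (.node 1 (.leaf (nat_lit 0x2053634)) (.leaf (nat_lit 0x1054dc4)))))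 (.node 4 (.node 2 (.node 1 (.leaf (nat_lit 0x2054bce)) (.leaf (nat_lit 0x1055120))) (.node 1 (.leaf (nat_lit 0x20555dd)) (.leaf (nat_lit 0x1056504)))) (.node 2 (.node 1 (.leaf (nat_lit 0x2056ae3)) (.leaf (nat_lit 0x1057911))) (.node 1 (.leaf (nat_lit 0x20577ba)) (.leaf (nat_lit 0x58b6c)))))))) (.node 32 (.node 16 (.node 8 (.node 4 (.node 2 (.node 1 (.leaf (nat_lit 0x10583de)) (.leaf (nat_lit 0x5bd30))) (.node 1 (.leaf (nat_lit 0x205b345)) (.leaf (nat_lit 0x5c046)))) (.node 2 (.node 1 (.leaf (nat_lit 0x105cbf9)) (.leaf (nat_lit 0x105d05d))) (.node 1 (.leaf (nat_lit 0x2060c45)) (.leaf (nat_lit 0x629ac))))) (.node 4 (.node 2 (.node 1 (.leaf (nat_lit 0x10625c6)) (.leaf (nat_lit 0x206204e))) (.node 1 (.leaf (nat_lit 0x10630d3)) (.leaf (nat_lit 0x2063625)))) (.node 2 (.node 1 (.leaf (nat_lit 0x1064339)) (.leaf (nat_lit 0x2065fdb))) (.node 1 (.leaf (nat_lit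 0x66395)) (.leaf (nat_lit 0x1066156)))))) (.node 8 (.node 4 (.node 2 (.node 1 (.leaf (nat_lit 0x2066317)) (.leaf (nat_lit 0x20675fb))) (.node 1 (.leaf (nat_lit 0x106806a)) (.leaf (nat_lit 0x20692ac)))) (.node 2 (.node 1 (.leaf (nat_lit 0x6ad09)) (.leaf (nat_lit 0x106aa78))) (.node 1 (.leaf (nat_lit 0x6b915)) (.leaf (nat_lit 0x206bde8))))) (.node 4 (.node 2 (.node 1 (.leaf (nat_lit 0x6c08d)) (.leaf (nat_lit 0x106cb89))) (.node 1 (.leaf (nat_lit 0x6d28c)) (.leaf (nat_lit 0x106ead5)))) (.node 2 (.node 1 (.leaf (nat_lit 0x6f766)) (.leaf (nat_lit 0x106f450))) (.node 1 (.leaf (nat_lit 0x206f80e)) (.leaf (nat_lit 0x20702da))))))) (.node 16 (.node 8 (.node 4 (.node 2 (.node 1 (.leaf (nat_lit 0x72332)) (.leaf (nat_lit 0x10738e2))) (.node 1 (.leaf (nat_lit 0x746d9)) (.leaf (nat_lit 0x1075532)))) (.node 2 (.node 1 (.leaf (nat_lit 0x2075e76)) (.leaf (nat_lit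 0x767e4))) (.node 1 (.leaf (nat_lit 0x2076a19)) (.leaf (nat_lit 0x1077d1d))))) (.node 4 (.node 2 (.node 1 (.leaf (nat_lit 0x784ff)) (.leaf (nat_lit 0x20784b0))) (.node 1 (.leaf (nat_lit 0x207bfc9)) (.leaf (nat_lit 0x7c4fb)))) (.node 2 (.node 1 (.leaf (nat_lit 0x107c90f)) (.leaf (nat_lit 0x107e51d))) (.node 1 (.leaf (nat_lit 0x108130a)) (.leaf (nat_lit 0x82aec)))))) (.node 8 (.node 4 (.node 2 (.node 1 (.leaf (nat_lit 0x108285a)) (.leaf (nat_lit 0x1084e0c))) (.node 1 (.leaf (nat_lit 0x2085830)) (.leaf (nat_lit 0x88e67)))) (.node 2 (.node 1 (.leaf (nat_lit 0x8b299)) (.leaf (nat_lit 0x208b60c))) (.node 1 (.leaf (nat_lit 0x108cd6a)) (.leaf (nat_lit 0x108ddd1))))) (.node 4 (.node 2 (.node 1 (.leaf (nat_lit 0x208efbf)) (.leaf (nat_lit 0x8f1a5))) (.node 1 (.leaf (nat_lit 0x108f9bd)) (.leaf (nat_lit 0x90c5a)))) (.node 2 (.node 1 (.leaf (nat_lit 0x1091024))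 (.leaf (nat_lit 0x2091e09))) (.node 1 (.leaf (nat_lit 0x1092069)) (.leaf (nat_lit 0x209399f))))))))))

/-- A part of `orbJF2`. -/
def orbJF2_1 : Tree := (.node 22 (.node 11 (.node 5 (.node 2 (.node 1 (.leaf (nat_lit 0x94028)) (.leaf (nat_lit 0x10961b7))) (.node 1 (.leaf (nat_lit 0x97e97)) (.node 1 (.leaf (nat_lit 0x984d6)) (.leaf (nat_lit 0x2098b32))))) (.node 3 (.node 1 (.leaf (nat_lit 0x1099381)) (.node 1 (.leaf (nat_lit 0x9a977)) (.leaf (nat_lit 0x9b89e)))) (.node 1 (.leaf (nat_lit 0x109d0b0)) (.node 1 (.leaf (nat_lit 0xa0c16)) (.leaf (nat_lit 0x20a0f2e)))))) (.node 5 (.node 2 (.node 1 (.leaf (nat_lit 0x10a127c)) (.leaf (nat_lit 0x20a2f5c))) (.node 1 (.leaf (nat_lit 0x20a3b0e)) (.node 1 (.leaf (nat_lit 0x20a8d99)) (.leaf (nat_lit 0x10aa69c))))) (.node 3 (.node 1 (.leaf (nat_lit 0x20ac1a7)) (.node 1 (.leaf (nat_lit 0xb0961)) (.leaf (nat_lit 0xb1e9c))))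 (.node 1 (.leaf (nat_lit 0x10b183e)) (.node 1 (.leaf (nat_lit 0xb2aa3)) (.leaf (nat_lit 0xb307b))))))) (.node 11 (.node 5 (.node 2 (.node 1 (.leaf (nat_lit 0x20b3181)) (.leaf (nat_lit 0x10b4141))) (.node 1 (.leaf (nat_lit 0x20b60b6)) (.node 1 (.leaf (nat_lit 0x10ba13a)) (.leaf (nat_lit 0xbd3c5))))) (.node 3 (.node 1 (.leaf (nat_lit 0x10bddd6)) (.node 1 (.leaf (nat_lit 0x20c01dd)) (.leaf (nat_lit 0xc3cae)))) (.node 1 (.leaf (nat_lit 0xc41e8)) (.node 1 (.leaf (nat_lit 0x20c62c0)) (.leaf (nat_lit 0xc9418)))))) (.node 5 (.node 2 (.node 1 (.leaf (nat_lit 0x10cc30f)) (.leaf (nat_lit 0x10cedcf))) (.node 1 (.leaf (nat_lit 0xcf818)) (.node 1 (.leaf (nat_lit 0x20d3ec0)) (.leaf (nat_lit 0xd68e5))))) (.node 3 (.node 1 (.leaf (nat_lit 0x20d6057)) (.node 1 (.leaf (nat_lit 0x10db90b)) (.leaf (nat_lit 0x10f8434)))) (.node 1 (.leaf (nat_lit 0x21040b8)) (.node 1 (.leaf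 (nat_lit 0x1077cd)) (.leaf (nat_lit 0x10b645))))))))

/-- An orbit. -/
def orbJF2 : Tree := (.node 256 orbJF2_0 orbJF2_1)

/-- A part of `orbJF3`. -/
def orbJF3_0 : Tree := (.node 128 (.node 64 (.node 32 (.node 16 (.node 8 (.node 4 (.node 2 (.node 1 (.leaf (nat_lit 0xc38)) (.leaf (nat_lit 0xf73))) (.node 1 (.leaf (nat_lit 0x1000260)) (.leaf (nat_lit 0x20008e7)))) (.node 2 (.node 1 (.leaf (nat_lit 0x14c2)) (.leaf (nat_lit 0x1001b0f))) (.node 1 (.leaf (nat_lit 0x2dbf)) (.leaf (nat_lit 0x1002497))))) (.node 4 (.node 2 (.node 1 (.leaf (nat_lit 0x20029de)) (.leaf (nat_lit 0x30ce))) (.node 1 (.leaf (nat_lit 0x1003e58)) (.leaf (nat_lit 0x4a29)))) (.node 2 (.node 1 (.leaf (nat_lit 0x1004bb9)) (.leaf (nat_lit 0x20044a6))) (.node 1 (.leaf (nat_lit 0x50fa)) (.leaf (nat_lit 0x100565f)))))) (.node 8 (.node 4 (.node 2 (.node 1 (.leaf (nat_lit 0x200567b)) (.leaf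 (nat_lit 0x6f52))) (.node 1 (.leaf (nat_lit 0x100603e)) (.leaf (nat_lit 0x20064aa)))) (.node 2 (.node 1 (.leaf (nat_lit 0x717c)) (.leaf (nat_lit 0x10078b2))) (.node 1 (.leaf (nat_lit 0x2007618)) (.leaf (nat_lit 0x8d8a))))) (.node 4 (.node 2 (.node 1 (.leaf (nat_lit 0x1008029)) (.leaf (nat_lit 0x2008308))) (.node 1 (.leaf (nat_lit 0x97cc)) (.leaf (nat_lit 0x2009b66)))) (.node 2 (.node 1 (.leaf (nat_lit 0xaed7)) (.leaf (nat_lit 0x100aa8d))) (.node 1 (.leaf (nat_lit 0x200a064)) (.leaf (nat_lit 0xb3dd))))))) (.node 16 (.node 8 (.node 4 (.node 2 (.node 1 (.leaf (nat_lit 0x200befc)) (.leaf (nat_lit 0xc75d))) (.node 1 (.leaf (nat_lit 0x100cc6f)) (.leaf (nat_lit 0x200cfd7)))) (.node 2 (.node 1 (.leaf (nat_lit 0xdbcf)) (.leaf (nat_lit 0x100dbb3))) (.node 1 (.leaf (nat_lit 0xe360)) (.leaf (nat_lit 0xf1a6))))) (.node 4 (.node 2 (.node 1 (.leaf (nat_lit 0x100f374))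 (.leaf (nat_lit 0x10c5b))) (.node 1 (.leaf (nat_lit 0x101087c)) (.leaf (nat_lit 0x2010169)))) (.node 2 (.node 1 (.leaf (nat_lit 0x11e93)) (.leaf (nat_lit 0x1011087))) (.node 1 (.leaf (nat_lit 0x2011569)) (.leaf (nat_lit 0x1012902)))))) (.node 8 (.node 4 (.node 2 (.node 1 (.leaf (nat_lit 0x201294f)) (.leaf (nat_lit 0x13b4f))) (.node 1 (.leaf (nat_lit 0x1013de2)) (.leaf (nat_lit 0x20135eb)))) (.node 2 (.node 1 (.leaf (nat_lit 0x148a1)) (.leaf (nat_lit 0x1014168))) (.node 1 (.leaf (nat_lit 0x2014020)) (.leaf (nat_lit 0x101523f))))) (.node 4 (.node 2 (.node 1 (.leaf (nat_lit 0x2015671)) (.leaf (nat_lit 0x1016e9b))) (.node 1 (.leaf (nat_lit 0x201685b)) (.leaf (nat_lit 0x1783c)))) (.node 2 (.node 1 (.leaf (nat_lit 0x1017142)) (.leaf (nat_lit 0x201791c))) (.node 1 (.leaf (nat_lit 0x18c91)) (.leaf (nat_lit 0x10185a5)))))))) (.node 32 (.node 16 (.node 8 (.node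 4 (.node 2 (.node 1 (.leaf (nat_lit 0x199fb)) (.leaf (nat_lit 0x10196d6))) (.node 1 (.leaf (nat_lit 0x1a2c9)) (.leaf (nat_lit 0x101af82)))) (.node 2 (.node 1 (.leaf (nat_lit 0x201aa5f)) (.leaf (nat_lit 0x101ba65))) (.node 1 (.leaf (nat_lit 0x1c266)) (.leaf (nat_lit 0x201c6ea))))) (.node 4 (.node 2 (.node 1 (.leaf (nat_lit 0x1d273)) (.leaf (nat_lit 0x101d1c3))) (.node 1 (.leaf (nat_lit 0x201d1b5)) (.leaf (nat_lit 0x1e1bf)))) (.node 2 (.node 1 (.leaf (nat_lit 0x201e7c1)) (.leaf (nat_lit 0x1fe9e))) (.node 1 (.leaf (nat_lit 0x101f36c)) (.leaf (nat_lit 0x201f41c)))))) (.node 8 (.node 4 (.node 2 (.node 1 (.leaf (nat_lit 0x1020108)) (.leaf (nat_lit 0x2020562))) (.node 1 (.leaf (nat_lit 0x219b4)) (.leaf (nat_lit 0x2021996)))) (.node 2 (.node 1 (.leaf (nat_lit 0x1022e1b)) (.leaf (nat_lit 0x2022cd8))) (.node 1 (.leaf (nat_lit 0x2398c)) (.leaf (nat_lit 0x20235f3)))))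 (.node 4 (.node 2 (.node 1 (.leaf (nat_lit 0x24fac)) (.leaf (nat_lit 0x10247e5))) (.node 1 (.leaf (nat_lit 0x10257b5)) (.leaf (nat_lit 0x2025964)))) (.node 2 (.node 1 (.leaf (nat_lit 0x26538)) (.leaf (nat_lit 0x10269e3))) (.node 1 (.leaf (nat_lit 0x202661d)) (.leaf (nat_lit 0x27226))))))) (.node 16 (.node 8 (.node 4 (.node 2 (.node 1 (.leaf (nat_lit 0x10273b1)) (.leaf (nat_lit 0x1028f67))) (.node 1 (.leaf (nat_lit 0x20280ef)) (.leaf (nat_lit 0x2990e)))) (.node 2 (.node 1 (.leaf (nat_lit 0x1029083)) (.leaf (nat_lit 0x20298bc))) (.node 1 (.leaf (nat_lit 0x102ada5)) (.leaf (nat_lit 0x2bb88))))) (.node 4 (.node 2 (.node 1 (.leaf (nat_lit 0x102bab7)) (.leaf (nat_lit 0x202b1e3))) (.node 1 (.leaf (nat_lit 0x2cc44)) (.leaf (nat_lit 0x102cd25)))) (.node 2 (.node 1 (.leaf (nat_lit 0x202c02e)) (.leaf (nat_lit 0x2db0b))) (.node 1 (.leaf (nat_lit 0x202d356)) (.leaf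 (nat_lit 0x2eb27)))))) (.node 8 (.node 4 (.node 2 (.node 1 (.leaf (nat_lit 0x102e2d0)) (.leaf (nat_lit 0x2f2e3))) (.node 1 (.leaf (nat_lit 0x102ff2f)) (.leaf (nat_lit 0x3186a)))) (.node 2 (.node 1 (.leaf (nat_lit 0x1031583)) (.leaf (nat_lit 0x2031075))) (.node 1 (.leaf (nat_lit 0x1032814)) (.leaf (nat_lit 0x20325e3))))) (.node 4 (.node 2 (.node 1 (.leaf (nat_lit 0x3386d)) (.leaf (nat_lit 0x1033eb1))) (.node 1 (.leaf (nat_lit 0x20335f0)) (.leaf (nat_lit 0x10346b6)))) (.node 2 (.node 1 (.leaf (nat_lit 0x20344c8)) (.leaf (nat_lit 0x1035551))) (.node 1 (.leaf (nat_lit 0x2035dce)) (.leaf (nat_lit 0x10362a7))))))))) (.node 64 (.node 32 (.node 16 (.node 8 (.node 4 (.node 2 (.node 1 (.leaf (nat_lit 0x20367f7)) (.leaf (nat_lit 0x37afa))) (.node 1 (.leaf (nat_lit 0x10370e4)) (.leaf (nat_lit 0x2037193)))) (.node 2 (.node 1 (.leaf (nat_lit 0x1038d6c)) (.leaf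 (nat_lit 0x2038154))) (.node 1 (.leaf (nat_lit 0x2039570)) (.leaf (nat_lit 0x103a855))))) (.node 4 (.node 2 (.node 1 (.leaf (nat_lit 0x203ab40)) (.leaf (nat_lit 0x3cfbc))) (.node 1 (.leaf (nat_lit 0x103ccd1)) (.leaf (nat_lit 0x3d892)))) (.node 2 (.node 1 (.leaf (nat_lit 0x103dd7b)) (.leaf (nat_lit 0x203d0ad))) (.node 1 (.leaf (nat_lit 0x3ecf5)) (.leaf (nat_lit 0x400df)))))) (.node 8 (.node 4 (.node 2 (.node 1 (.leaf (nat_lit 0x10405dc)) (.leaf (nat_lit 0x20401fc))) (.node 1 (.leaf (nat_lit 0x41501)) (.leaf (nat_lit 0x1042f2d)))) (.node 2 (.node 1 (.leaf (nat_lit 0x43925)) (.leaf (nat_lit 0x2043c31))) (.node 1 (.leaf (nat_lit 0x44cfb)) (.leaf (nat_lit 0x1044049))))) (.node 4 (.node 2 (.node 1 (.leaf (nat_lit 0x204477a)) (.leaf (nat_lit 0x2045e5f))) (.node 1 (.leaf (nat_lit 0x1046886)) (.leaf (nat_lit 0x2046bf3)))) (.node 2 (.node 1 (.leaf (nat_lit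 0x1047845)) (.leaf (nat_lit 0x48843))) (.node 1 (.leaf (nat_lit 0x1048102)) (.leaf (nat_lit 0x2048b6a))))))) (.node 16 (.node 8 (.node 4 (.node 2 (.node 1 (.leaf (nat_lit 0x4a1ce)) (.leaf (nat_lit 0x104a9cc))) (.node 1 (.leaf (nat_lit 0x204aeea)) (.leaf (nat_lit 0x4b6b5)))) (.node 2 (.node 1 (.leaf (nat_lit 0x104cfbe)) (.leaf (nat_lit 0x204ca61))) (.node 1 (.leaf (nat_lit 0x4d270)) (.leaf (nat_lit 0x104dcdc))))) (.node 4 (.node 2 (.node 1 (.leaf (nat_lit 0x204d649)) (.leaf (nat_lit 0x204e45c))) (.node 1 (.leaf (nat_lit 0x4f4d2)) (.leaf (nat_lit 0x204fe4c)))) (.node 2 (.node 1 (.leaf (nat_lit 0x504fe)) (.leaf (nat_lit 0x10502f1))) (.node 1 (.leaf (nat_lit 0x10510eb)) (.leaf (nat_lit 0x1052dbd)))))) (.node 8 (.node 4 (.node 2 (.node 1 (.leaf (nat_lit 0x20527b6)) (.leaf (nat_lit 0x2053248))) (.node 1 (.leaf (nat_lit 0x2054e52)) (.leaf (nat_lit 0x2056918))))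 (.node 2 (.node 1 (.leaf (nat_lit 0x58adb)) (.leaf (nat_lit 0x1058089))) (.node 1 (.leaf (nat_lit 0x59828)) (.leaf (nat_lit 0x1059ab1))))) (.node 4 (.node 2 (.node 1 (.leaf (nat_lit 0x105a7ae)) (.leaf (nat_lit 0x5cd32))) (.node 1 (.leaf (nat_lit 0x105c6f8)) (.leaf (nat_lit 0x205cb39)))) (.node 2 (.node 1 (.leaf (nat_lit 0x5d1df)) (.leaf (nat_lit 0x205e0a3))) (.node 1 (.leaf (nat_lit 0x5f3ef)) (.leaf (nat_lit 0x105f4bc)))))))) (.node 32 (.node 16 (.node 8 (.node 4 (.node 2 (.node 1 (.leaf (nat_lit 0x205f630)) (.leaf (nat_lit 0x2061adc))) (.node 1 (.leaf (nat_lit 0x626f5)) (.leaf (nat_lit 0x1062482)))) (.node 2 (.node 1 (.leaf (nat_lit 0x20629b8)) (.leaf (nat_lit 0x63cfe))) (.node 1 (.leaf (nat_lit 0x1064f8d)) (.leaf (nat_lit 0x206442b))))) (.node 4 (.node 2 (.node 1 (.leaf (nat_lit 0x651e5)) (.leaf (nat_lit 0x1065635))) (.node 1 (.leaf (nat_lit 0x2065084))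 (.leaf (nat_lit 0x20662d5)))) (.node 2 (.node 1 (.leaf (nat_lit 0x67111)) (.leaf (nat_lit 0x69d26))) (.node 1 (.leaf (nat_lit 0x1069505)) (.leaf (nat_lit 0x20693bd)))))) (.node 8 (.node 4 (.node 2 (.node 1 (.leaf (nat_lit 0x6b48e)) (.leaf (nat_lit 0x206bd93))) (.node 1 (.leaf (nat_lit 0x106c78e)) (.leaf (nat_lit 0x206c32c)))) (.node 2 (.node 1 (.leaf (nat_lit 0x6deae)) (.leaf (nat_lit 0x6eaa7))) (.node 1 (.leaf (nat_lit 0x106e0b1)) (.leaf (nat_lit 0x206f71a))))) (.node 4 (.node 2 (.node 1 (.leaf (nat_lit 0x70030)) (.leaf (nat_lit 0x2070058))) (.node 1 (.leaf (nat_lit 0x7196c)) (.leaf (nat_lit 0x10718b5)))) (.node 2 (.node 1 (.leaf (nat_lit 0x1072e3e)) (.leaf (nat_lit 0x20720ca))) (.node 1 (.leaf (nat_lit 0x73a9e)) (.leaf (nat_lit 0x1074a32))))))) (.node 16 (.node 8 (.node 4 (.node 2 (.node 1 (.leaf (nat_lit 0x2074d98)) (.leaf (nat_lit 0x20751b4)))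 (.node 1 (.leaf (nat_lit 0x76981)) (.leaf (nat_lit 0x774e4)))) (.node 2 (.node 1 (.leaf (nat_lit 0x10776f3)) (.leaf (nat_lit 0x20772f7))) (.node 1 (.leaf (nat_lit 0x207966e)) (.leaf (nat_lit 0x107a6a5))))) (.node 4 (.node 2 (.node 1 (.leaf (nat_lit 0x207ad45)) (.leaf (nat_lit 0x7b315))) (.node 1 (.leaf (nat_lit 0x207bcd5)) (.leaf (nat_lit 0x207c779)))) (.node 2 (.node 1 (.leaf (nat_lit 0x207e7e8)) (.leaf (nat_lit 0x80383))) (.node 1 (.leaf (nat_lit 0x1082331)) (.leaf (nat_lit 0x10839e5)))))) (.node 8 (.node 4 (.node 2 (.node 1 (.leaf (nat_lit 0x20832c2)) (.leaf (nat_lit 0x8473d))) (.node 1 (.leaf (nat_lit 0x108462c)) (.leaf (nat_lit 0x20840a2)))) (.node 2 (.node 1 (.leaf (nat_lit 0x1085ccc)) (.leaf (nat_lit 0x1086c83))) (.node 1 (.leaf (nat_lit 0x88aea)) (.leaf (nat_lit 0x1088c1d))))) (.node 4 (.node 2 (.node 1 (.leaf (nat_lit 0x8a721)) (.leaf (nat_lit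 0x8da18))) (.node 1 (.leaf (nat_lit 0x90d5a)) (.leaf (nat_lit 0x1090122)))) (.node 2 (.node 1 (.leaf (nat_lit 0x20906ae)) (.leaf (nat_lit 0x93894))) (.node 1 (.leaf (nat_lit 0x94cd0)) (.leaf (nat_lit 0x2094cbf))))))))))

/-- A part of `orbJF3`. -/
def orbJF3_1 : Tree := (.node 22 (.node 11 (.node 5 (.node 2 (.node 1 (.leaf (nat_lit 0x96316)) (.leaf (nat_lit 0x2096371))) (.node 1 (.leaf (nat_lit 0x981eb)) (.node 1 (.leaf (nat_lit 0x10983bc)) (.leaf (nat_lit 0x2099303))))) (.node 3 (.node 1 (.leaf (nat_lit 0x209a3ae)) (.node 1 (.leaf (nat_lit 0x9b1cd)) (.leaf (nat_lit 0x209ca44)))) (.node 1 (.leaf (nat_lit 0x20a1041)) (.node 1 (.leaf (nat_lit 0xa2e05)) (.leaf (nat_lit 0x10a4ef1)))))) (.node 5 (.node 2 (.node 1 (.leaf (nat_lit 0x20a80f4)) (.leaf (nat_lit 0x10aa8a4))) (.node 1 (.leaf (nat_lit 0x10ab13e)) (.node 1 (.leaf (nat_lit 0x10acabc)) (.leaf (nat_lit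 0x20ac05f))))) (.node 3 (.node 1 (.leaf (nat_lit 0x10b052b)) (.node 1 (.leaf (nat_lit 0x10b1679)) (.leaf (nat_lit 0x10b280f)))) (.node 1 (.leaf (nat_lit 0x20b2dd0)) (.node 1 (.leaf (nat_lit 0x10b3561)) (.leaf (nat_lit 0x10b592b))))))) (.node 11 (.node 5 (.node 2 (.node 1 (.leaf (nat_lit 0x20b5bf1)) (.leaf (nat_lit 0xb85cd))) (.node 1 (.leaf (nat_lit 0x20b827d)) (.node 1 (.leaf (nat_lit 0x20bb545)) (.leaf (nat_lit 0x20bc3a8))))) (.node 3 (.node 1 (.leaf (nat_lit 0x10be08e)) (.node 1 (.leaf (nat_lit 0x20bef84)) (.leaf (nat_lit 0x10c0048)))) (.node 1 (.leaf (nat_lit 0xc2d0a)) (.node 1 (.leaf (nat_lit 0x20c5334)) (.leaf (nat_lit 0xc6236)))))) (.node 5 (.node 2 (.node 1 (.leaf (nat_lit 0x20c66ce)) (.leaf (nat_lit 0x10c9b5c))) (.node 1 (.leaf (nat_lit 0xce554)) (.node 1 (.leaf (nat_lit 0x20d02a0)) (.leaf (nat_lit 0x10d40d4))))) (.node 3 (.node 1 (.leaf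 (nat_lit 0x10d6bfa)) (.node 1 (.leaf (nat_lit 0x20e213c)) (.leaf (nat_lit 0x10e3a04)))) (.node 1 (.leaf (nat_lit 0x10e8c2d)) (.node 1 (.leaf (nat_lit 0x10bdb9)) (.leaf (nat_lit 0x210ebe2))))))))

/-- An orbit. -/
def orbJF3 : Tree := (.node 256 orbJF3_0 orbJF3_1)

/-- A part of `orbJF4`. -/
def orbJF4_0 : Tree := (.node 128 (.node 64 (.node 32 (.node 16 (.node 8 (.node 4 (.node 2 (.node 1 (.leaf (nat_lit 0x290)) (.leaf (nat_lit 0x8ab))) (.node 1 (.leaf (nat_lit 0x100019e)) (.leaf (nat_lit 0x20003b3)))) (.node 2 (.node 1 (.leaf (nat_lit 0x116b)) (.leaf (nat_lit 0x10011f6))) (.node 1 (.leaf (nat_lit 0x2001f54)) (.leaf (nat_lit 0x2bca))))) (.node 4 (.node 2 (.node 1 (.leaf (nat_lit 0x1002dac)) (.leaf (nat_lit 0x2002b3f))) (.node 1 (.leaf (nat_lit 0x3343)) (.leaf (nat_lit 0x100354f)))) (.node 2 (.node 1 (.leaf (nat_lit 0x2003ebb)) (.leaf (nat_lit 0x44d1)))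 (.node 1 (.leaf (nat_lit 0x1004780)) (.leaf (nat_lit 0x20040ac)))))) (.node 8 (.node 4 (.node 2 (.node 1 (.leaf (nat_lit 0x5498)) (.leaf (nat_lit 0x1005593))) (.node 1 (.leaf (nat_lit 0x2005a20)) (.leaf (nat_lit 0x6e51)))) (.node 2 (.node 1 (.leaf (nat_lit 0x1006513)) (.leaf (nat_lit 0x2006109))) (.node 1 (.leaf (nat_lit 0x78dd)) (.leaf (nat_lit 0x1007ef2))))) (.node 4 (.node 2 (.node 1 (.leaf (nat_lit 0x20078f4)) (.leaf (nat_lit 0x8ada))) (.node 1 (.leaf (nat_lit 0x1008a05)) (.leaf (nat_lit 0x2008556)))) (.node 2 (.node 1 (.leaf (nat_lit 0x916e)) (.leaf (nat_lit 0x1009d71))) (.node 1 (.leaf (nat_lit 0x20091a9)) (.leaf (nat_lit 0xa47c))))))) (.node 16 (.node 8 (.node 4 (.node 2 (.node 1 (.leaf (nat_lit 0x100a2d2)) (.leaf (nat_lit 0x200a6d8))) (.node 1 (.leaf (nat_lit 0xb7f0)) (.leaf (nat_lit 0x100b707)))) (.node 2 (.node 1 (.leaf (nat_lit 0x200ba68))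 (.leaf (nat_lit 0xcfbd))) (.node 1 (.leaf (nat_lit 0x100ccdb)) (.leaf (nat_lit 0x200c428))))) (.node 4 (.node 2 (.node 1 (.leaf (nat_lit 0xd49c)) (.leaf (nat_lit 0x100d93a))) (.node 1 (.leaf (nat_lit 0x200de96)) (.leaf (nat_lit 0xedf5)))) (.node 2 (.node 1 (.leaf (nat_lit 0x100e340)) (.leaf (nat_lit 0x200e0f2))) (.node 1 (.leaf (nat_lit 0xfac9)) (.leaf (nat_lit 0x100fef3)))))) (.node 8 (.node 4 (.node 2 (.node 1 (.leaf (nat_lit 0x200f2b3)) (.leaf (nat_lit 0x101c1))) (.node 1 (.leaf (nat_lit 0x2010ae7)) (.leaf (nat_lit 0x119e2)))) (.node 2 (.node 1 (.leaf (nat_lit 0x1011ee5)) (.leaf (nat_lit 0x2011fd5))) (.node 1 (.leaf (nat_lit 0x12233)) (.leaf (nat_lit 0x1012a33))))) (.node 4 (.node 2 (.node 1 (.leaf (nat_lit 0x2012ca8)) (.leaf (nat_lit 0x13720))) (.node 1 (.leaf (nat_lit 0x1013447)) (.leaf (nat_lit 0x20132c1)))) (.node 2 (.node 1 (.leaf (nat_lit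 0x14d34)) (.leaf (nat_lit 0x1014118))) (.node 1 (.leaf (nat_lit 0x201481a)) (.leaf (nat_lit 0x15eeb)))))))) (.node 32 (.node 16 (.node 8 (.node 4 (.node 2 (.node 1 (.leaf (nat_lit 0x10152c4)) (.leaf (nat_lit 0x2015745))) (.node 1 (.leaf (nat_lit 0x169ad)) (.leaf (nat_lit 0x1016e99)))) (.node 2 (.node 1 (.leaf (nat_lit 0x201602f)) (.leaf (nat_lit 0x1017e95))) (.node 1 (.leaf (nat_lit 0x2017e1a)) (.leaf (nat_lit 0x186b3))))) (.node 4 (.node 2 (.node 1 (.leaf (nat_lit 0x101831a)) (.leaf (nat_lit 0x2018673))) (.node 1 (.leaf (nat_lit 0x19194)) (.leaf (nat_lit 0x1019e08)))) (.node 2 (.node 1 (.leaf (nat_lit 0x201966c)) (.leaf (nat_lit 0x1aac2))) (.node 1 (.leaf (nat_lit 0x101a1fe)) (.leaf (nat_lit 0x1b37f)))))) (.node 8 (.node 4 (.node 2 (.node 1 (.leaf (nat_lit 0x101b628)) (.leaf (nat_lit 0x201b240))) (.node 1 (.leaf (nat_lit 0x1c478)) (.leaf (nat_lit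 0x101ceee)))) (.node 2 (.node 1 (.leaf (nat_lit 0x201c9d9)) (.leaf (nat_lit 0x1d639))) (.node 1 (.leaf (nat_lit 0x101d836)) (.leaf (nat_lit 0x1efb2))))) (.node 4 (.node 2 (.node 1 (.leaf (nat_lit 0x101e144)) (.leaf (nat_lit 0x201e385))) (.node 1 (.leaf (nat_lit 0x1f310)) (.leaf (nat_lit 0x101fe8c)))) (.node 2 (.node 1 (.leaf (nat_lit 0x201f7e0)) (.leaf (nat_lit 0x209a2))) (.node 1 (.leaf (nat_lit 0x20209a8)) (.leaf (nat_lit 0x1021cc1))))))) (.node 16 (.node 8 (.node 4 (.node 2 (.node 1 (.leaf (nat_lit 0x20211fd)) (.leaf (nat_lit 0x22a43))) (.node 1 (.leaf (nat_lit 0x10222ab)) (.leaf (nat_lit 0x2022bbb)))) (.node 2 (.node 1 (.leaf (nat_lit 0x23a92)) (.leaf (nat_lit 0x1023a9a))) (.node 1 (.leaf (nat_lit 0x202356b)) (.leaf (nat_lit 0x24ed8))))) (.node 4 (.node 2 (.node 1 (.leaf (nat_lit 0x10243e9)) (.leaf (nat_lit 0x2024896))) (.node 1 (.leaf (nat_lit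 0x252fb)) (.leaf (nat_lit 0x1025e9d)))) (.node 2 (.node 1 (.leaf (nat_lit 0x2025ed2)) (.leaf (nat_lit 0x26b00))) (.node 1 (.leaf (nat_lit 0x10268a6)) (.leaf (nat_lit 0x274ec)))))) (.node 8 (.node 4 (.node 2 (.node 1 (.leaf (nat_lit 0x10272df)) (.leaf (nat_lit 0x2027c93))) (.node 1 (.leaf (nat_lit 0x28c00)) (.leaf (nat_lit 0x202803b)))) (.node 2 (.node 1 (.leaf (nat_lit 0x299e6)) (.leaf (nat_lit 0x10296c2))) (.node 1 (.leaf (nat_lit 0x20294c4)) (.leaf (nat_lit 0x2a87b))))) (.node 4 (.node 2 (.node 1 (.leaf (nat_lit 0x202af35)) (.leaf (nat_lit 0x2beff))) (.node 1 (.leaf (nat_lit 0x202bc3e)) (.leaf (nat_lit 0x2ca57)))) (.node 2 (.node 1 (.leaf (nat_lit 0x102c68f)) (.leaf (nat_lit 0x202c63a))) (.node 1 (.leaf (nat_lit 0x2d0b4)) (.leaf (nat_lit 0x102dbef))))))))) (.node 64 (.node 32 (.node 16 (.node 8 (.node 4 (.node 2 (.node 1 (.leaf (nat_lit 0x202df72))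 (.leaf (nat_lit 0x2e5de))) (.node 1 (.leaf (nat_lit 0x102e9b0)) (.leaf (nat_lit 0x202e3cb)))) (.node 2 (.node 1 (.leaf (nat_lit 0x102fded)) (.leaf (nat_lit 0x202fa81))) (.node 1 (.leaf (nat_lit 0x3044b)) (.leaf (nat_lit 0x1030765))))) (.node 4 (.node 2 (.node 1 (.leaf (nat_lit 0x2030246)) (.leaf (nat_lit 0x31e59))) (.node 1 (.leaf (nat_lit 0x103161e)) (.leaf (nat_lit 0x2031e4d)))) (.node 2 (.node 1 (.leaf (nat_lit 0x321a3)) (.leaf (nat_lit 0x1032b90))) (.node 1 (.leaf (nat_lit 0x203220a)) (.leaf (nat_lit 0x1033946)))))) (.node 8 (.node 4 (.node 2 (.node 1 (.leaf (nat_lit 0x2033321)) (.leaf (nat_lit 0x3410a))) (.node 1 (.leaf (nat_lit 0x1034d16)) (.leaf (nat_lit 0x2034d54)))) (.node 2 (.node 1 (.leaf (nat_lit 0x35287)) (.leaf (nat_lit 0x1035215))) (.node 1 (.leaf (nat_lit 0x203562b)) (.leaf (nat_lit 0x36c69))))) (.node 4 (.node 2 (.node 1 (.leaf (nat_lit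 0x103618b)) (.leaf (nat_lit 0x1037a7e))) (.node 1 (.leaf (nat_lit 0x2037f5e)) (.leaf (nat_lit 0x3810f)))) (.node 2 (.node 1 (.leaf (nat_lit 0x1038d70)) (.leaf (nat_lit 0x392f2))) (.node 1 (.leaf (nat_lit 0x1039c86)) (.leaf (nat_lit 0x2039159))))))) (.node 16 (.node 8 (.node 4 (.node 2 (.node 1 (.leaf (nat_lit 0x103aedf)) (.leaf (nat_lit 0x203a744))) (.node 1 (.leaf (nat_lit 0x3b34c)) (.leaf (nat_lit 0x103b253)))) (.node 2 (.node 1 (.leaf (nat_lit 0x203b389)) (.leaf (nat_lit 0x3c1de))) (.node 1 (.leaf (nat_lit 0x103c8fd)) (.leaf (nat_lit 0x203c217))))) (.node 4 (.node 2 (.node 1 (.leaf (nat_lit 0x103dd76)) (.leaf (nat_lit 0x203dfc8))) (.node 1 (.leaf (nat_lit 0x3e969)) (.leaf (nat_lit 0x103e5cc)))) (.node 2 (.node 1 (.leaf (nat_lit 0x203e2ce)) (.leaf (nat_lit 0x3ff32))) (.node 1 (.leaf (nat_lit 0x103f882)) (.leaf (nat_lit 0x10406ac)))))) (.node 8 (.node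 4 (.node 2 (.node 1 (.leaf (nat_lit 0x2040163)) (.leaf (nat_lit 0x4181e))) (.node 1 (.leaf (nat_lit 0x104133e)) (.leaf (nat_lit 0x42829)))) (.node 2 (.node 1 (.leaf (nat_lit 0x1042080)) (.leaf (nat_lit 0x2042e74))) (.node 1 (.leaf (nat_lit 0x43288)) (.leaf (nat_lit 0x1043f55))))) (.node 4 (.node 2 (.node 1 (.leaf (nat_lit 0x2043dc0)) (.leaf (nat_lit 0x442ca))) (.node 1 (.leaf (nat_lit 0x104467d)) (.leaf (nat_lit 0x45526)))) (.node 2 (.node 1 (.leaf (nat_lit 0x1045d92)) (.leaf (nat_lit 0x20450cb))) (.node 1 (.leaf (nat_lit 0x466ec)) (.leaf (nat_lit 0x1046a9f)))))))) (.node 32 (.node 16 (.node 8 (.node 4 (.node 2 (.node 1 (.leaf (nat_lit 0x20468cd)) (.leaf (nat_lit 0x47301))) (.node 1 (.leaf (nat_lit 0x1047f44)) (.leaf (nat_lit 0x10489e8)))) (.node 2 (.node 1 (.leaf (nat_lit 0x20489dc)) (.leaf (nat_lit 0x493a9))) (.node 1 (.leaf (nat_lit 0x1049d51))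 (.leaf (nat_lit 0x2049724))))) (.node 4 (.node 2 (.node 1 (.leaf (nat_lit 0x4a5d0)) (.leaf (nat_lit 0x204a4ea))) (.node 1 (.leaf (nat_lit 0x204b93c)) (.leaf (nat_lit 0x4ca16)))) (.node 2 (.node 1 (.leaf (nat_lit 0x104cd8f)) (.leaf (nat_lit 0x204c357))) (.node 1 (.leaf (nat_lit 0x4d75f)) (.leaf (nat_lit 0x104dab0)))))) (.node 8 (.node 4 (.node 2 (.node 1 (.leaf (nat_lit 0x204d2f8)) (.leaf (nat_lit 0x4e633))) (.node 1 (.leaf (nat_lit 0x204ebf8)) (.leaf (nat_lit 0x4f455)))) (.node 2 (.node 1 (.leaf (nat_lit 0x204fc9f)) (.leaf (nat_lit 0x501ba))) (.node 1 (.leaf (nat_lit 0x10502cb)) (.leaf (nat_lit 0x5139d))))) (.node 4 (.node 2 (.node 1 (.leaf (nat_lit 0x105183f)) (.leaf (nat_lit 0x52a1a))) (.node 1 (.leaf (nat_lit 0x205225b)) (.leaf (nat_lit 0x53581)))) (.node 2 (.node 1 (.leaf (nat_lit 0x1053449)) (.leaf (nat_lit 0x2053c58))) (.node 1 (.leaf (nat_lit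 0x54cb1)) (.leaf (nat_lit 0x105408f))))))) (.node 16 (.node 8 (.node 4 (.node 2 (.node 1 (.leaf (nat_lit 0x2054ce0)) (.leaf (nat_lit 0x10555d6))) (.node 1 (.leaf (nat_lit 0x56ab6)) (.leaf (nat_lit 0x1056b3c)))) (.node 2 (.node 1 (.leaf (nat_lit 0x20564e9)) (.leaf (nat_lit 0x1057610))) (.node 1 (.leaf (nat_lit 0x205789f)) (.leaf (nat_lit 0x5883b))))) (.node 4 (.node 2 (.node 1 (.leaf (nat_lit 0x1058bbc)) (.leaf (nat_lit 0x205840e))) (.node 1 (.leaf (nat_lit 0x10598b7)) (.leaf (nat_lit 0x205960b)))) (.node 2 (.node 1 (.leaf (nat_lit 0x5ac4e)) (.leaf (nat_lit 0x105a8c8))) (.node 1 (.leaf (nat_lit 0x5bc20)) (.leaf (nat_lit 0x205bec7)))))) (.node 8 (.node 4 (.node 2 (.node 1 (.leaf (nat_lit 0x5ceda)) (.leaf (nat_lit 0x105ce07))) (.node 1 (.leaf (nat_lit 0x205cd17)) (.leaf (nat_lit 0x5d1d1)))) (.node 2 (.node 1 (.leaf (nat_lit 0x205dcb2)) (.leaf (nat_lit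 0x5e222))) (.node 1 (.leaf (nat_lit 0x105e82c)) (.leaf (nat_lit 0x205e103))))) (.node 4 (.node 2 (.node 1 (.leaf (nat_lit 0x5ff30)) (.leaf (nat_lit 0x105f85c))) (.node 1 (.leaf (nat_lit 0x205f1be)) (.leaf (nat_lit 0x10605b7)))) (.node 2 (.node 1 (.leaf (nat_lit 0x2060a01)) (.leaf (nat_lit 0x61b9c))) (.node 1 (.leaf (nat_lit 0x1061032)) (.leaf (nat_lit 0x2061140))))))))))

/-- A part of `orbJF4`. -/
def orbJF4_1 : Tree := (.node 128 (.node 64 (.node 32 (.node 16 (.node 8 (.node 4 (.node 2 (.node 1 (.leaf (nat_lit 0x10627fb)) (.leaf (nat_lit 0x1063ba8))) (.node 1 (.leaf (nat_lit 0x647fe)) (.leaf (nat_lit 0x1064850)))) (.node 2 (.node 1 (.leaf (nat_lit 0x2064b0c)) (.leaf (nat_lit 0x65849))) (.node 1 (.leaf (nat_lit 0x1065dff)) (.leaf (nat_lit 0x2065d4d))))) (.node 4 (.node 2 (.node 1 (.leaf (nat_lit 0x66d1b)) (.leaf (nat_lit 0x20668eb))) (.node 1 (.leaf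 (nat_lit 0x67989)) (.leaf (nat_lit 0x1067787)))) (.node 2 (.node 1 (.leaf (nat_lit 0x206732d)) (.leaf (nat_lit 0x68160))) (.node 1 (.leaf (nat_lit 0x1068d82)) (.leaf (nat_lit 0x2068473)))))) (.node 8 (.node 4 (.node 2 (.node 1 (.leaf (nat_lit 0x69e64)) (.leaf (nat_lit 0x206960e))) (.node 1 (.leaf (nat_lit 0x6aaa9)) (.leaf (nat_lit 0x106adbc)))) (.node 2 (.node 1 (.leaf (nat_lit 0x206a8e3)) (.leaf (nat_lit 0x6ba60))) (.node 1 (.leaf (nat_lit 0x106b0fc)) (.leaf (nat_lit 0x206bb06))))) (.node 4 (.node 2 (.node 1 (.leaf (nat_lit 0x6c7c8)) (.leaf (nat_lit 0x206c0f0))) (.node 1 (.leaf (nat_lit 0x106d5e2)) (.leaf (nat_lit 0x206dd8d)))) (.node 2 (.node 1 (.leaf (nat_lit 0x6e212)) (.leaf (nat_lit 0x106e64c))) (.node 1 (.leaf (nat_lit 0x206edd7)) (.leaf (nat_lit 0x6f4d3))))))) (.node 16 (.node 8 (.node 4 (.node 2 (.node 1 (.leaf (nat_lit 0x106fe5d)) (.leaf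 (nat_lit 0x206fbcd))) (.node 1 (.leaf (nat_lit 0x70f8f)) (.leaf (nat_lit 0x20704a0)))) (.node 2 (.node 1 (.leaf (nat_lit 0x1071932)) (.leaf (nat_lit 0x2071206))) (.node 1 (.leaf (nat_lit 0x10739c5)) (.leaf (nat_lit 0x741cf))))) (.node 4 (.node 2 (.node 1 (.leaf (nat_lit 0x2074a84)) (.leaf (nat_lit 0x756e5))) (.node 1 (.leaf (nat_lit 0x107546b)) (.leaf (nat_lit 0x107659b)))) (.node 2 (.node 1 (.leaf (nat_lit 0x77252)) (.leaf (nat_lit 0x10773d0))) (.node 1 (.leaf (nat_lit 0x2077cfa)) (.leaf (nat_lit 0x78cc4)))))) (.node 8 (.node 4 (.node 2 (.node 1 (.leaf (nat_lit 0x794c3)) (.leaf (nat_lit 0x10794a2))) (.node 1 (.leaf (nat_lit 0x20792dc)) (.leaf (nat_lit 0x7ad7f)))) (.node 2 (.node 1 (.leaf (nat_lit 0x107adb5)) (.leaf (nat_lit 0x207aab4))) (.node 1 (.leaf (nat_lit 0x7b022)) (.leaf (nat_lit 0x107bd84))))) (.node 4 (.node 2 (.node 1 (.leaf (nat_lit 0x207bd0b))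 (.leaf (nat_lit 0x107c94a))) (.node 1 (.leaf (nat_lit 0x107d657)) (.leaf (nat_lit 0x207db6f)))) (.node 2 (.node 1 (.leaf (nat_lit 0x107ebeb)) (.leaf (nat_lit 0x207e7a8))) (.node 1 (.leaf (nat_lit 0x107f261)) (.leaf (nat_lit 0x207f0e1)))))))) (.node 32 (.node 16 (.node 8 (.node 4 (.node 2 (.node 1 (.leaf (nat_lit 0x108092d)) (.leaf (nat_lit 0x2080ee4))) (.node 1 (.leaf (nat_lit 0x81f83)) (.leaf (nat_lit 0x1081d13)))) (.node 2 (.node 1 (.leaf (nat_lit 0x82a9c)) (.leaf (nat_lit 0x2082453))) (.node 1 (.leaf (nat_lit 0x837c4)) (.leaf (nat_lit 0x1083ed3))))) (.node 4 (.node 2 (.node 1 (.leaf (nat_lit 0x2083890)) (.leaf (nat_lit 0x8442a))) (.node 1 (.leaf (nat_lit 0x1084d3c)) (.leaf (nat_lit 0x857da)))) (.node 2 (.node 1 (.leaf (nat_lit 0x8664b)) (.leaf (nat_lit 0x1086c26))) (.node 1 (.leaf (nat_lit 0x875a1)) (.leaf (nat_lit 0x1087d89)))))) (.node 8 (.node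 4 (.node 2 (.node 1 (.leaf (nat_lit 0x2087948)) (.leaf (nat_lit 0x108865b))) (.node 1 (.leaf (nat_lit 0x2088bed)) (.leaf (nat_lit 0x8909e)))) (.node 2 (.node 1 (.leaf (nat_lit 0x108989d)) (.leaf (nat_lit 0x208ab53))) (.node 1 (.leaf (nat_lit 0x8b420)) (.leaf (nat_lit 0x108b3c1))))) (.node 4 (.node 2 (.node 1 (.leaf (nat_lit 0x8cda4)) (.leaf (nat_lit 0x108c373))) (.node 1 (.leaf (nat_lit 0x208c16d)) (.leaf (nat_lit 0x8d972)))) (.node 2 (.node 1 (.leaf (nat_lit 0x108d101)) (.leaf (nat_lit 0x108ed4f))) (.node 1 (.leaf (nat_lit 0x208e9a0)) (.leaf (nat_lit 0x108f994))))))) (.node 16 (.node 8 (.node 4 (.node 2 (.node 1 (.leaf (nat_lit 0x208f05e)) (.leaf (nat_lit 0x903ff))) (.node 1 (.leaf (nat_lit 0x2090294)) (.leaf (nat_lit 0x91a71)))) (.node 2 (.node 1 (.leaf (nat_lit 0x1091d97)) (.leaf (nat_lit 0x9214f))) (.node 1 (.leaf (nat_lit 0x2092391)) (.leaf (nat_lit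 0x931b1))))) (.node 4 (.node 2 (.node 1 (.leaf (nat_lit 0x1093b16)) (.leaf (nat_lit 0x2093681))) (.node 1 (.leaf (nat_lit 0x94a14)) (.leaf (nat_lit 0x1094448)))) (.node 2 (.node 1 (.leaf (nat_lit 0x2094b4e)) (.leaf (nat_lit 0x9506c))) (.node 1 (.leaf (nat_lit 0x1095269)) (.leaf (nat_lit 0x2095950)))))) (.node 8 (.node 4 (.node 2 (.node 1 (.leaf (nat_lit 0x963f6)) (.leaf (nat_lit 0x2097919))) (.node 1 (.leaf (nat_lit 0x1098de1)) (.leaf (nat_lit 0x990c7)))) (.node 2 (.node 1 (.leaf (nat_lit 0x20990ba)) (.leaf (nat_lit 0x9af2c))) (.node 1 (.leaf (nat_lit 0x209a1d4)) (.leaf (nat_lit 0x9b615))))) (.node 4 (.node 2 (.node 1 (.leaf (nat_lit 0x209b0f1)) (.leaf (nat_lit 0x9c21c))) (.node 1 (.leaf (nat_lit 0x109ce71)) (.leaf (nat_lit 0x9d188)))) (.node 2 (.node 1 (.leaf (nat_lit 0x209d5d7)) (.leaf (nat_lit 0x9eb23))) (.node 1 (.leaf (nat_lit 0x109e4af)) (.leaf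 (nat_lit 0x109f16a))))))))) (.node 64 (.node 32 (.node 16 (.node 8 (.node 4 (.node 2 (.node 1 (.leaf (nat_lit 0x209fc3c)) (.leaf (nat_lit 0xa0941))) (.node 1 (.leaf (nat_lit 0x10a0bc0)) (.leaf (nat_lit 0xa1d03)))) (.node 2 (.node 1 (.leaf (nat_lit 0x10a1614)) (.leaf (nat_lit 0x20a1229))) (.node 1 (.leaf (nat_lit 0x10a2127)) (.leaf (nat_lit 0x20a25f1))))) (.node 4 (.node 2 (.node 1 (.leaf (nat_lit 0x10a3021)) (.leaf (nat_lit 0x20a3042))) (.node 1 (.leaf (nat_lit 0xa430d)) (.leaf (nat_lit 0x10a5c96)))) (.node 2 (.node 1 (.leaf (nat_lit 0x20a5835)) (.leaf (nat_lit 0x10a66d7))) (.node 1 (.leaf (nat_lit 0x20a635c)) (.leaf (nat_lit 0xa74c7)))))) (.node 8 (.node 4 (.node 2 (.node 1 (.leaf (nat_lit 0x10a75fa)) (.leaf (nat_lit 0xa854e))) (.node 1 (.leaf (nat_lit 0x10a8284)) (.leaf (nat_lit 0x20a87ff)))) (.node 2 (.node 1 (.leaf (nat_lit 0xa9c8b)) (.leaf (nat_lit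 0x10abc60))) (.node 1 (.leaf (nat_lit 0x20abd08)) (.leaf (nat_lit 0x20acdfc))))) (.node 4 (.node 2 (.node 1 (.leaf (nat_lit 0x10adbfb)) (.leaf (nat_lit 0xae674))) (.node 1 (.leaf (nat_lit 0x20ae410)) (.leaf (nat_lit 0xaf398)))) (.node 2 (.node 1 (.leaf (nat_lit 0x10afcb6)) (.leaf (nat_lit 0x20af50c))) (.node 1 (.leaf (nat_lit 0xb0e8e)) (.leaf (nat_lit 0xb105c))))))) (.node 16 (.node 8 (.node 4 (.node 2 (.node 1 (.leaf (nat_lit 0x10b1811)) (.leaf (nat_lit 0x20b23d3))) (.node 1 (.leaf (nat_lit 0xb3719)) (.leaf (nat_lit 0xb47f4)))) (.node 2 (.node 1 (.leaf (nat_lit 0x20b4f6d)) (.leaf (nat_lit 0xb57fc))) (.node 1 (.leaf (nat_lit 0x20b52fa)) (.leaf (nat_lit 0xb6743))))) (.node 4 (.node 2 (.node 1 (.leaf (nat_lit 0x20b7038)) (.leaf (nat_lit 0x10b89c3))) (.node 1 (.leaf (nat_lit 0x20b897a)) (.leaf (nat_lit 0x10b903f)))) (.node 2 (.node 1 (.leaf (nat_lit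 0x10ba531)) (.leaf (nat_lit 0x10bce4f))) (.node 1 (.leaf (nat_lit 0xbd5a6)) (.leaf (nat_lit 0x10be059)))))) (.node 8 (.node 4 (.node 2 (.node 1 (.leaf (nat_lit 0x20bf7ed)) (.leaf (nat_lit 0x10c00c9))) (.node 1 (.leaf (nat_lit 0x20c174d)) (.leaf (nat_lit 0xc344d)))) (.node 2 (.node 1 (.leaf (nat_lit 0x20c32d3)) (.leaf (nat_lit 0xc4283))) (.node 1 (.leaf (nat_lit 0x20c4c46)) (.leaf (nat_lit 0x10c6e27))))) (.node 4 (.node 2 (.node 1 (.leaf (nat_lit 0x10c776d)) (.leaf (nat_lit 0x20c73c0))) (.node 1 (.leaf (nat_lit 0xc8516)) (.leaf (nat_lit 0x10c8cd9)))) (.node 2 (.node 1 (.leaf (nat_lit 0x20c8e3a)) (.leaf (nat_lit 0x10c9355))) (.node 1 (.leaf (nat_lit 0x20c91c9)) (.leaf (nat_lit 0xca536)))))))) (.node 32 (.node 16 (.node 8 (.node 4 (.node 2 (.node 1 (.leaf (nat_lit 0x20cab17)) (.leaf (nat_lit 0x10cb67a))) (.node 1 (.leaf (nat_lit 0x20cb9a1)) (.leaf (nat_lit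 0xcc462)))) (.node 2 (.node 1 (.leaf (nat_lit 0x20ccd64)) (.leaf (nat_lit 0x10cd1b0))) (.node 1 (.leaf (nat_lit 0x20cd1c2)) (.leaf (nat_lit 0x10ce69d))))) (.node 4 (.node 2 (.node 1 (.leaf (nat_lit 0x20cec17)) (.leaf (nat_lit 0x10cf22b))) (.node 1 (.leaf (nat_lit 0x20cf854)) (.leaf (nat_lit 0x10d0865)))) (.node 2 (.node 1 (.leaf (nat_lit 0x20d02e0)) (.leaf (nat_lit 0xd103d))) (.node 1 (.leaf (nat_lit 0x10d14ed)) (.leaf (nat_lit 0x10d222d)))))) (.node 8 (.node 4 (.node 2 (.node 1 (.leaf (nat_lit 0x20d2b5e)) (.leaf (nat_lit 0xd4aa2))) (.node 1 (.leaf (nat_lit 0x10d4104)) (.leaf (nat_lit 0x10d54fa)))) (.node 2 (.node 1 (.leaf (nat_lit 0x20d6231)) (.leaf (nat_lit 0x20d7358))) (.node 1 (.leaf (nat_lit 0xdab14)) (.leaf (nat_lit 0x10da32e))))) (.node 4 (.node 2 (.node 1 (.leaf (nat_lit 0x20daf22)) (.leaf (nat_lit 0xdbace))) (.node 1 (.leaf (nat_lit 0x20db3f3))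 (.leaf (nat_lit 0xdc904)))) (.node 2 (.node 1 (.leaf (nat_lit 0x20dc3fe)) (.leaf (nat_lit 0xdd834))) (.node 1 (.leaf (nat_lit 0x10dd0a4)) (.leaf (nat_lit 0x20de7eb))))))) (.node 16 (.node 8 (.node 4 (.node 2 (.node 1 (.leaf (nat_lit 0x20df7de)) (.leaf (nat_lit 0xe2fae))) (.node 1 (.leaf (nat_lit 0x10e2cc0)) (.leaf (nat_lit 0xe3bd5)))) (.node 2 (.node 1 (.leaf (nat_lit 0x10e3642)) (.leaf (nat_lit 0xe4b67))) (.node 1 (.leaf (nat_lit 0x20e47a3)) (.leaf (nat_lit 0xe5d2e))))) (.node 4 (.node 2 (.node 1 (.leaf (nat_lit 0x10e57c0)) (.leaf (nat_lit 0x20e59bc))) (.node 1 (.leaf (nat_lit 0xe6b98)) (.leaf (nat_lit 0x20e7d33)))) (.node 2 (.node 1 (.leaf (nat_lit 0x10e8606)) (.leaf (nat_lit 0xea678))) (.node 1 (.leaf (nat_lit 0x20eae37)) (.leaf (nat_lit 0x10ebb6d)))))) (.node 8 (.node 4 (.node 2 (.node 1 (.leaf (nat_lit 0x20eb99d)) (.leaf (nat_lit 0x10ec1ee)))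 (.node 1 (.leaf (nat_lit 0xede73)) (.leaf (nat_lit 0x20eebb5)))) (.node 2 (.node 1 (.leaf (nat_lit 0xefc54)) (.leaf (nat_lit 0xf0204))) (.node 1 (.leaf (nat_lit 0x20f009f)) (.leaf (nat_lit 0x10f1090))))) (.node 4 (.node 2 (.node 1 (.leaf (nat_lit 0x20f17e7)) (.leaf (nat_lit 0x10f258f))) (.node 1 (.leaf (nat_lit 0xf484a)) (.leaf (nat_lit 0xf508a)))) (.node 2 (.node 1 (.leaf (nat_lit 0x10f57f2)) (.leaf (nat_lit 0xf6e39))) (.node 1 (.leaf (nat_lit 0x10f7d56)) (.leaf (nat_lit 0xf8525))))))))))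

/-- A part of `orbJF4`. -/
def orbJF4_2 : Tree := (.node 69 (.node 34 (.node 17 (.node 8 (.node 4 (.node 2 (.node 1 (.leaf (nat_lit 0x20f8036)) (.leaf (nat_lit 0x20f91a0))) (.node 1 (.leaf (nat_lit 0x10fac12)) (.leaf (nat_lit 0x20fa4b1)))) (.node 2 (.node 1 (.leaf (nat_lit 0xfe794)) (.leaf (nat_lit 0x20ff15d))) (.node 1 (.leaf (nat_lit 0x100772)) (.leaf (nat_lit 0x102796))))) (.node 4 (.node 2 (.node 1 (.leaf (nat_lit 0x1102798)) (.leaf (nat_lit 0x1104df8))) (.node 1 (.leaf (nat_lit 0x2104fb3)) (.leaf (nat_lit 0x10575a)))) (.node 2 (.node 1 (.leaf (nat_lit 0x2105043)) (.leaf (nat_lit 0x11060db))) (.node 1 (.leaf (nat_lit 0x1107c6b)) (.node 1 (.leaf (nat_lit 0x2107f64)) (.leaf (nat_lit 0x1108c4a))))))) (.node 8 (.node 4 (.node 2 (.node 1 (.leaf (nat_lit 0x21099ff)) (.leaf (nat_lit 0x10a5fc))) (.node 1 (.leaf (nat_lit 0x210a5ae)) (.leaf (nat_lit 0x10b91d))))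 (.node 2 (.node 1 (.leaf (nat_lit 0x210cbaa)) (.leaf (nat_lit 0x110d38f))) (.node 1 (.leaf (nat_lit 0x210e502)) (.leaf (nat_lit 0x110f906))))) (.node 4 (.node 2 (.node 1 (.leaf (nat_lit 0x210f134)) (.leaf (nat_lit 0x1111df3))) (.node 1 (.leaf (nat_lit 0x211111d)) (.leaf (nat_lit 0x111399a)))) (.node 2 (.node 1 (.leaf (nat_lit 0x2116d41)) (.leaf (nat_lit 0x1117701))) (.node 1 (.leaf (nat_lit 0x2117066)) (.node 1 (.leaf (nat_lit 0x1118c7e)) (.leaf (nat_lit 0x11c419)))))))) (.node 17 (.node 8 (.node 4 (.node 2 (.node 1 (.leaf (nat_lit 0x11d228)) (.leaf (nat_lit 0x111d940))) (.node 1 (.leaf (nat_lit 0x211d08c)) (.leaf (nat_lit 0x11e27a)))) (.node 2 (.node 1 (.leaf (nat_lit 0x111e675)) (.leaf (nat_lit 0x211eb81))) (.node 1 (.leaf (nat_lit 0x11234c0)) (.leaf (nat_lit 0x2124d47))))) (.node 4 (.node 2 (.node 1 (.leaf (nat_lit 0x2125ea1)) (.leaf (nat_lit 0x1127241)))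 (.node 1 (.leaf (nat_lit 0x21274ca)) (.leaf (nat_lit 0x212904d)))) (.node 2 (.node 1 (.leaf (nat_lit 0x112dfb6)) (.leaf (nat_lit 0x112ef81))) (.node 1 (.leaf (nat_lit 0x11301e6)) (.node 1 (.leaf (nat_lit 0x21320bf)) (.leaf (nat_lit 0x1133c08))))))) (.node 9 (.node 4 (.node 2 (.node 1 (.leaf (nat_lit 0x136e03)) (.leaf (nat_lit 0x1137376))) (.node 1 (.leaf (nat_lit 0x1384ef)) (.leaf (nat_lit 0x113cb35)))) (.node 2 (.node 1 (.leaf (nat_lit 0x213d749)) (.leaf (nat_lit 0x2141393))) (.node 1 (.leaf (nat_lit 0x142f37)) (.node 1 (.leaf (nat_lit 0x1445f2)) (.leaf (nat_lit 0x2144dbb)))))) (.node 4 (.node 2 (.node 1 (.leaf (nat_lit 0x1146fd8)) (.leaf (nat_lit 0x2146704))) (.node 1 (.leaf (nat_lit 0x11484d9)) (.leaf (nat_lit 0x2148621)))) (.node 2 (.node 1 (.leaf (nat_lit 0x1499ef)) (.leaf (nat_lit 0x11490aa))) (.node 1 (.leaf (nat_lit 0x214cf01)) (.node 1 (.leaf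 (nat_lit 0x214db93)) (.leaf (nat_lit 0x14e5d2))))))))) (.node 34 (.node 17 (.node 8 (.node 4 (.node 2 (.node 1 (.leaf (nat_lit 0x115275c)) (.leaf (nat_lit 0x154b2c))) (.node 1 (.leaf (nat_lit 0x1156962)) (.leaf (nat_lit 0x158d50)))) (.node 2 (.node 1 (.leaf (nat_lit 0x215d643)) (.leaf (nat_lit 0x15e6dc))) (.node 1 (.leaf (nat_lit 0x115e72e)) (.leaf (nat_lit 0x15f742))))) (.node 4 (.node 2 (.node 1 (.leaf (nat_lit 0x215f02d)) (.leaf (nat_lit 0x1161e4a))) (.node 1 (.leaf (nat_lit 0x2161bb2)) (.leaf (nat_lit 0x2162eba)))) (.node 2 (.node 1 (.leaf (nat_lit 0x21642b8)) (.leaf (nat_lit 0x165054))) (.node 1 (.leaf (nat_lit 0x167550)) (.node 1 (.leaf (nat_lit 0x169444)) (.leaf (nat_lit 0x2169f59))))))) (.node 8 (.node 4 (.node 2 (.node 1 (.leaf (nat_lit 0x116af87)) (.leaf (nat_lit 0x16ca9d))) (.node 1 (.leaf (nat_lit 0x216c2a5)) (.leaf (nat_lit 0x1726f7))))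 (.node 2 (.node 1 (.leaf (nat_lit 0x1176daf)) (.leaf (nat_lit 0x11798ea))) (.node 1 (.leaf (nat_lit 0x17cd5e)) (.leaf (nat_lit 0x117c29f))))) (.node 4 (.node 2 (.node 1 (.leaf (nat_lit 0x17e6f0)) (.leaf (nat_lit 0x1801c8))) (.node 1 (.leaf (nat_lit 0x11823db)) (.leaf (nat_lit 0x1184add)))) (.node 2 (.node 1 (.leaf (nat_lit 0x2186e0a)) (.leaf (nat_lit 0x1188be6))) (.node 1 (.leaf (nat_lit 0x18b295)) (.node 1 (.leaf (nat_lit 0x118cc2a)) (.leaf (nat_lit 0x18dad2)))))))) (.node 17 (.node 8 (.node 4 (.node 2 (.node 1 (.leaf (nat_lit 0x18e431)) (.leaf (nat_lit 0x18f8cf))) (.node 1 (.leaf (nat_lit 0x11945f7)) (.leaf (nat_lit 0x1957a6)))) (.node 2 (.node 1 (.leaf (nat_lit 0x1986e6)) (.leaf (nat_lit 0x19bd68))) (.node 1 (.leaf (nat_lit 0x219baf0)) (.leaf (nat_lit 0x119d81b))))) (.node 4 (.node 2 (.node 1 (.leaf (nat_lit 0x21a3e02)) (.leaf (nat_lit 0x1a51fb)))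 (.node 1 (.leaf (nat_lit 0x1a6277)) (.leaf (nat_lit 0x1a88b0)))) (.node 2 (.node 1 (.leaf (nat_lit 0x21aaf92)) (.leaf (nat_lit 0x21ac96d))) (.node 1 (.leaf (nat_lit 0x1ad887)) (.node 1 (.leaf (nat_lit 0x11b61da)) (.leaf (nat_lit 0x1b8cee))))))) (.node 9 (.node 4 (.node 2 (.node 1 (.leaf (nat_lit 0x11b94ab)) (.leaf (nat_lit 0x21bfde7))) (.node 1 (.leaf (nat_lit 0x21c3703)) (.leaf (nat_lit 0x21c5476)))) (.node 2 (.node 1 (.leaf (nat_lit 0x11cbad1)) (.leaf (nat_lit 0x1cf198))) (.node 1 (.leaf (nat_lit 0x11e4e35)) (.node 1 (.leaf (nat_lit 0x11e84dc)) (.leaf (nat_lit 0x11ec2e8)))))) (.node 4 (.node 2 (.node 1 (.leaf (nat_lit 0x1ee180)) (.leaf (nat_lit 0x21ee506))) (.node 1 (.leaf (nat_lit 0x1ef8d6)) (.leaf (nat_lit 0x1205485)))) (.node 2 (.node 1 (.leaf (nat_lit 0x22086fb)) (.leaf (nat_lit 0x120cb96))) (.node 1 (.leaf (nat_lit 0x21a4b2)) (.node 1 (.leaf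 (nat_lit 0x123133d)) (.leaf (nat_lit 0x22315af))))))))))

/-- An orbit. -/
def orbJF4 : Tree := (.node 256 orbJF4_0 (.node 256 orbJF4_1 orbJF4_2))

/-- A part of `orbJF5`. -/
def orbJF5_0 : Tree := (.node 128 (.node 64 (.node 32 (.node 16 (.node 8 (.node 4 (.node 2 (.node 1 (.leaf (nat_lit 0x15c)) (.leaf (nat_lit 0xeac))) (.node 1 (.leaf (nat_lit 0x1000695)) (.leaf (nat_lit 0x2000081)))) (.node 2 (.node 1 (.leaf (nat_lit 0x1ca3)) (.leaf (nat_lit 0x10011e0))) (.node 1 (.leaf (nat_lit 0x2001183)) (.leaf (nat_lit 0x2eec))))) (.node 4 (.node 2 (.node 1 (.leaf (nat_lit 0x10028ce)) (.leaf (nat_lit 0x200276a))) (.node 1 (.leaf (nat_lit 0x394b)) (.leaf (nat_lit 0x1003f71)))) (.node 2 (.node 1 (.leaf (nat_lit 0x2003cb8)) (.leaf (nat_lit 0x4768))) (.node 1 (.leaf (nat_lit 0x1004bc1)) (.leaf (nat_lit 0x200440f)))))) (.node 8 (.node 4 (.node 2 (.node 1 (.leaf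 (nat_lit 0x5757)) (.leaf (nat_lit 0x1005dc7))) (.node 1 (.leaf (nat_lit 0x2005cec)) (.leaf (nat_lit 0x62f5)))) (.node 2 (.node 1 (.leaf (nat_lit 0x1006c87)) (.leaf (nat_lit 0x2006d44))) (.node 1 (.leaf (nat_lit 0x7c37)) (.leaf (nat_lit 0x1007553))))) (.node 4 (.node 2 (.node 1 (.leaf (nat_lit 0x200729e)) (.leaf (nat_lit 0x8f6e))) (.node 1 (.leaf (nat_lit 0x1008200)) (.leaf (nat_lit 0x200814d)))) (.node 2 (.node 1 (.leaf (nat_lit 0x97b0)) (.leaf (nat_lit 0x100984d))) (.node 1 (.leaf (nat_lit 0x200910d)) (.leaf (nat_lit 0xa2cd))))))) (.node 16 (.node 8 (.node 4 (.node 2 (.node 1 (.leaf (nat_lit 0x100a313)) (.leaf (nat_lit 0x200ad2f))) (.node 1 (.leaf (nat_lit 0xb21e)) (.leaf (nat_lit 0x100b576)))) (.node 2 (.node 1 (.leaf (nat_lit 0x200b8c4)) (.leaf (nat_lit 0xc3ee))) (.node 1 (.leaf (nat_lit 0x100c291)) (.leaf (nat_lit 0x200cbaf))))) (.node 4 (.node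 2 (.node 1 (.leaf (nat_lit 0xd4f8)) (.leaf (nat_lit 0x100d409))) (.node 1 (.leaf (nat_lit 0x200df00)) (.leaf (nat_lit 0xe250)))) (.node 2 (.node 1 (.leaf (nat_lit 0x100ec62)) (.leaf (nat_lit 0x200e1ef))) (.node 1 (.leaf (nat_lit 0xf6b8)) (.leaf (nat_lit 0x100f5d5)))))) (.node 8 (.node 4 (.node 2 (.node 1 (.leaf (nat_lit 0x200fabd)) (.leaf (nat_lit 0x10d9d))) (.node 1 (.leaf (nat_lit 0x2010979)) (.leaf (nat_lit 0x11e65)))) (.node 2 (.node 1 (.leaf (nat_lit 0x10112fd)) (.leaf (nat_lit 0x2011327))) (.node 1 (.leaf (nat_lit 0x12991)) (.leaf (nat_lit 0x1012631))))) (.node 4 (.node 2 (.node 1 (.leaf (nat_lit 0x2012b6b)) (.leaf (nat_lit 0x131ca))) (.node 1 (.leaf (nat_lit 0x101389c)) (.leaf (nat_lit 0x201315f)))) (.node 2 (.node 1 (.leaf (nat_lit 0x14b22)) (.leaf (nat_lit 0x101452a))) (.node 1 (.leaf (nat_lit 0x15ec8)) (.leaf (nat_lit 0x1015739)))))))) (.node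 32 (.node 16 (.node 8 (.node 4 (.node 2 (.node 1 (.leaf (nat_lit 0x2015df1)) (.leaf (nat_lit 0x160e6))) (.node 1 (.leaf (nat_lit 0x10163f8)) (.leaf (nat_lit 0x2016d14)))) (.node 2 (.node 1 (.leaf (nat_lit 0x10178a7)) (.leaf (nat_lit 0x201709d))) (.node 1 (.leaf (nat_lit 0x1848a)) (.leaf (nat_lit 0x1018ec6))))) (.node 4 (.node 2 (.node 1 (.leaf (nat_lit 0x20188fc)) (.leaf (nat_lit 0x191d6))) (.node 1 (.leaf (nat_lit 0x1019227)) (.leaf (nat_lit 0x2019864)))) (.node 2 (.node 1 (.leaf (nat_lit 0x1a974)) (.leaf (nat_lit 0x101a7d2))) (.node 1 (.leaf (nat_lit 0x201a6ff)) (.leaf (nat_lit 0x1bbac)))))) (.node 8 (.node 4 (.node 2 (.node 1 (.leaf (nat_lit 0x101bf06)) (.leaf (nat_lit 0x201b209))) (.node 1 (.leaf (nat_lit 0x1c5bc)) (.leaf (nat_lit 0x101ce28)))) (.node 2 (.node 1 (.leaf (nat_lit 0x201c7b9)) (.leaf (nat_lit 0x1d5b8))) (.node 1 (.leaf (nat_lit 0x101d67f))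 (.leaf (nat_lit 0x201d58d))))) (.node 4 (.node 2 (.node 1 (.leaf (nat_lit 0x1e629)) (.leaf (nat_lit 0x101ebe7))) (.node 1 (.leaf (nat_lit 0x201ebab)) (.leaf (nat_lit 0x1f342)))) (.node 2 (.node 1 (.leaf (nat_lit 0x101f050)) (.leaf (nat_lit 0x201fa7b))) (.node 1 (.leaf (nat_lit 0x20a8f)) (.leaf (nat_lit 0x1020aed))))))) (.node 16 (.node 8 (.node 4 (.node 2 (.node 1 (.leaf (nat_lit 0x20206e3)) (.leaf (nat_lit 0x21185))) (.node 1 (.leaf (nat_lit 0x1021937)) (.leaf (nat_lit 0x2021dc5)))) (.node 2 (.node 1 (.leaf (nat_lit 0x1022999)) (.leaf (nat_lit 0x2022d2d))) (.node 1 (.leaf (nat_lit 0x23e75)) (.leaf (nat_lit 0x10237c3))))) (.node 4 (.node 2 (.node 1 (.leaf (nat_lit 0x2023258)) (.leaf (nat_lit 0x242e9))) (.node 1 (.leaf (nat_lit 0x1024275)) (.leaf (nat_lit 0x2024c61)))) (.node 2 (.node 1 (.leaf (nat_lit 0x25da3)) (.leaf (nat_lit 0x1025454))) (.node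 1 (.leaf (nat_lit 0x2025f4d)) (.leaf (nat_lit 0x263ad)))))) (.node 8 (.node 4 (.node 2 (.node 1 (.leaf (nat_lit 0x10261ea)) (.leaf (nat_lit 0x2026300))) (.node 1 (.leaf (nat_lit 0x276a4)) (.leaf (nat_lit 0x102726d)))) (.node 2 (.node 1 (.leaf (nat_lit 0x202730c)) (.leaf (nat_lit 0x289db))) (.node 1 (.leaf (nat_lit 0x102845d)) (.leaf (nat_lit 0x2028d2a))))) (.node 4 (.node 2 (.node 1 (.leaf (nat_lit 0x29ccd)) (.leaf (nat_lit 0x10291a2))) (.node 1 (.leaf (nat_lit 0x2029d6d)) (.leaf (nat_lit 0x2af6f)))) (.node 2 (.node 1 (.leaf (nat_lit 0x102a96a)) (.leaf (nat_lit 0x202a778))) (.node 1 (.leaf (nat_lit 0x2b8c9)) (.leaf (nat_lit 0x202b9d5))))))))) (.node 64 (.node 32 (.node 16 (.node 8 (.node 4 (.node 2 (.node 1 (.leaf (nat_lit 0x2cefe)) (.leaf (nat_lit 0x102c267))) (.node 1 (.leaf (nat_lit 0x202cee6)) (.leaf (nat_lit 0x2d97b)))) (.node 2 (.node 1 (.leaf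 (nat_lit 0x102d07e)) (.leaf (nat_lit 0x202d0a6))) (.node 1 (.leaf (nat_lit 0x2ed42)) (.leaf (nat_lit 0x202e7c9))))) (.node 4 (.node 2 (.node 1 (.leaf (nat_lit 0x2f1bb)) (.leaf (nat_lit 0x102fc0a))) (.node 1 (.leaf (nat_lit 0x202f464)) (.leaf (nat_lit 0x307e2)))) (.node 2 (.node 1 (.leaf (nat_lit 0x1030607)) (.leaf (nat_lit 0x2030116))) (.node 1 (.leaf (nat_lit 0x31eed)) (.leaf (nat_lit 0x2031d4c)))))) (.node 8 (.node 4 (.node 2 (.node 1 (.leaf (nat_lit 0x32853)) (.leaf (nat_lit 0x1032580))) (.node 1 (.leaf (nat_lit 0x2032ddd)) (.leaf (nat_lit 0x33a15)))) (.node 2 (.node 1 (.leaf (nat_lit 0x10331d3)) (.leaf (nat_lit 0x20338ad))) (.node 1 (.leaf (nat_lit 0x1034ac3)) (.leaf (nat_lit 0x2034d4b))))) (.node 4 (.node 2 (.node 1 (.leaf (nat_lit 0x353b6)) (.leaf (nat_lit 0x1035282))) (.node 1 (.leaf (nat_lit 0x203529b)) (.leaf (nat_lit 0x36d5b)))) (.node 2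 (.node 1 (.leaf (nat_lit 0x103615a)) (.leaf (nat_lit 0x37da1))) (.node 1 (.leaf (nat_lit 0x1037388)) (.leaf (nat_lit 0x2037d5d))))))) (.node 16 (.node 8 (.node 4 (.node 2 (.node 1 (.leaf (nat_lit 0x10385fe)) (.leaf (nat_lit 0x2038d02))) (.node 1 (.leaf (nat_lit 0x39f21)) (.leaf (nat_lit 0x10396f4)))) (.node 2 (.node 1 (.leaf (nat_lit 0x2039c21)) (.leaf (nat_lit 0x3a5a2))) (.node 1 (.leaf (nat_lit 0x203a3f1)) (.leaf (nat_lit 0x3bce8))))) (.node 4 (.node 2 (.node 1 (.leaf (nat_lit 0x203bf33)) (.leaf (nat_lit 0x3cbc3))) (.node 1 (.leaf (nat_lit 0x103c211)) (.leaf (nat_lit 0x3ded1)))) (.node 2 (.node 1 (.leaf (nat_lit 0x103d705)) (.leaf (nat_lit 0x203dd91))) (.node 1 (.leaf (nat_lit 0x3e489)) (.leaf (nat_lit 0x103e165)))))) (.node 8 (.node 4 (.node 2 (.node 1 (.leaf (nat_lit 0x3f84c)) (.leaf (nat_lit 0x103f527))) (.node 1 (.leaf (nat_lit 0x203f221)) (.leaf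 (nat_lit 0x40e92)))) (.node 2 (.node 1 (.leaf (nat_lit 0x10400bd)) (.leaf (nat_lit 0x2040367))) (.node 1 (.leaf (nat_lit 0x41697)) (.leaf (nat_lit 0x2041298))))) (.node 4 (.node 2 (.node 1 (.leaf (nat_lit 0x4285e)) (.leaf (nat_lit 0x104269b))) (.node 1 (.leaf (nat_lit 0x2042842)) (.leaf (nat_lit 0x432aa)))) (.node 2 (.node 1 (.leaf (nat_lit 0x1043ce7)) (.leaf (nat_lit 0x2043648))) (.node 1 (.leaf (nat_lit 0x1044b37)) (.leaf (nat_lit 0x2044a8e)))))))) (.node 32 (.node 16 (.node 8 (.node 4 (.node 2 (.node 1 (.leaf (nat_lit 0x45655)) (.leaf (nat_lit 0x1045f04))) (.node 1 (.leaf (nat_lit 0x2045938)) (.leaf (nat_lit 0x461b6)))) (.node 2 (.node 1 (.leaf (nat_lit 0x2046203)) (.leaf (nat_lit 0x47577))) (.node 1 (.leaf (nat_lit 0x10474bb)) (.leaf (nat_lit 0x204772f))))) (.node 4 (.node 2 (.node 1 (.leaf (nat_lit 0x485ed)) (.leaf (nat_lit 0x1048b94))) (.node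 1 (.leaf (nat_lit 0x2048b3d)) (.leaf (nat_lit 0x49fba)))) (.node 2 (.node 1 (.leaf (nat_lit 0x1049468)) (.leaf (nat_lit 0x2049725))) (.node 1 (.leaf (nat_lit 0x104a3f5)) (.leaf (nat_lit 0x204ac15)))))) (.node 8 (.node 4 (.node 2 (.node 1 (.leaf (nat_lit 0x4b533)) (.leaf (nat_lit 0x104b74a))) (.node 1 (.leaf (nat_lit 0x204b335)) (.leaf (nat_lit 0x104ca67)))) (.node 2 (.node 1 (.leaf (nat_lit 0x204cd22)) (.leaf (nat_lit 0x4dc3d))) (.node 1 (.leaf (nat_lit 0x104d584)) (.leaf (nat_lit 0x204daf5))))) (.node 4 (.node 2 (.node 1 (.leaf (nat_lit 0x4ec3b)) (.leaf (nat_lit 0x104e6c1))) (.node 1 (.leaf (nat_lit 0x204ed4a)) (.leaf (nat_lit 0x4f28b)))) (.node 2 (.node 1 (.leaf (nat_lit 0x104f61b)) (.leaf (nat_lit 0x204fa6b))) (.node 1 (.leaf (nat_lit 0x50fcb)) (.leaf (nat_lit 0x1050976))))))) (.node 16 (.node 8 (.node 4 (.node 2 (.node 1 (.leaf (nat_lit 0x2050392))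 (.leaf (nat_lit 0x51807))) (.node 1 (.leaf (nat_lit 0x1051b71)) (.leaf (nat_lit 0x2051b12)))) (.node 2 (.node 1 (.leaf (nat_lit 0x52c36)) (.leaf (nat_lit 0x1052065))) (.node 1 (.leaf (nat_lit 0x5396f)) (.leaf (nat_lit 0x1053a91))))) (.node 4 (.node 2 (.node 1 (.leaf (nat_lit 0x20531f0)) (.leaf (nat_lit 0x542d9))) (.node 1 (.leaf (nat_lit 0x1054905)) (.leaf (nat_lit 0x20547e1)))) (.node 2 (.node 1 (.leaf (nat_lit 0x55424)) (.leaf (nat_lit 0x1055d49))) (.node 1 (.leaf (nat_lit 0x56414)) (.leaf (nat_lit 0x1056773)))))) (.node 8 (.node 4 (.node 2 (.node 1 (.leaf (nat_lit 0x57552)) (.leaf (nat_lit 0x1057488))) (.node 1 (.leaf (nat_lit 0x20579d8)) (.leaf (nat_lit 0x58517)))) (.node 2 (.node 1 (.leaf (nat_lit 0x1058983)) (.leaf (nat_lit 0x2058362))) (.node 1 (.leaf (nat_lit 0x59769)) (.leaf (nat_lit 0x1059207))))) (.node 4 (.node 2 (.node 1 (.leaf (nat_lit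 0x20593ba)) (.leaf (nat_lit 0x5aaee))) (.node 1 (.leaf (nat_lit 0x105a173)) (.leaf (nat_lit 0x205a21d)))) (.node 2 (.node 1 (.leaf (nat_lit 0x5b143)) (.leaf (nat_lit 0x105b8bb))) (.node 1 (.leaf (nat_lit 0x205b24e)) (.leaf (nat_lit 0x5ccd4))))))))))

/-- A part of `orbJF5`. -/
def orbJF5_1 : Tree := (.node 128 (.node 64 (.node 32 (.node 16 (.node 8 (.node 4 (.node 2 (.node 1 (.leaf (nat_lit 0x105c75b)) (.leaf (nat_lit 0x5d45b))) (.node 1 (.leaf (nat_lit 0x205d6ab)) (.leaf (nat_lit 0x5ec4f)))) (.node 2 (.node 1 (.leaf (nat_lit 0x205eb33)) (.leaf (nat_lit 0x105fcf1))) (.node 1 (.leaf (nat_lit 0x205fd40)) (.leaf (nat_lit 0x605ea))))) (.node 4 (.node 2 (.node 1 (.leaf (nat_lit 0x20606e2)) (.leaf (nat_lit 0x617d3))) (.node 1 (.leaf (nat_lit 0x2061071)) (.leaf (nat_lit 0x6233f)))) (.node 2 (.node 1 (.leaf (nat_lit 0x1062c47)) (.leaf (nat_lit 0x2062293)))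 (.node 1 (.leaf (nat_lit 0x639c4)) (.leaf (nat_lit 0x106376c)))))) (.node 8 (.node 4 (.node 2 (.node 1 (.leaf (nat_lit 0x2063de6)) (.leaf (nat_lit 0x1064956))) (.node 1 (.leaf (nat_lit 0x2064145)) (.leaf (nat_lit 0x65a97)))) (.node 2 (.node 1 (.leaf (nat_lit 0x10659ea)) (.leaf (nat_lit 0x2065e15))) (.node 1 (.leaf (nat_lit 0x66d4e)) (.leaf (nat_lit 0x10664ee))))) (.node 4 (.node 2 (.node 1 (.leaf (nat_lit 0x2066ee8)) (.leaf (nat_lit 0x67e40))) (.node 1 (.leaf (nat_lit 0x20673cc)) (.leaf (nat_lit 0x68152)))) (.node 2 (.node 1 (.leaf (nat_lit 0x10689bb)) (.leaf (nat_lit 0x2068d90))) (.node 1 (.leaf (nat_lit 0x695ee)) (.leaf (nat_lit 0x1069289))))))) (.node 16 (.node 8 (.node 4 (.node 2 (.node 1 (.leaf (nat_lit 0x6a3dc)) (.leaf (nat_lit 0x106ab5f))) (.node 1 (.leaf (nat_lit 0x206ac9e)) (.leaf (nat_lit 0x6b477)))) (.node 2 (.node 1 (.leaf (nat_lit 0x106b585))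 (.leaf (nat_lit 0x206b50d))) (.node 1 (.leaf (nat_lit 0x6c427)) (.leaf (nat_lit 0x106c2ff))))) (.node 4 (.node 2 (.node 1 (.leaf (nat_lit 0x206c12f)) (.leaf (nat_lit 0x6de38))) (.node 1 (.leaf (nat_lit 0x106db6e)) (.leaf (nat_lit 0x6ec66)))) (.node 2 (.node 1 (.leaf (nat_lit 0x106ee2b)) (.leaf (nat_lit 0x6ff03))) (.node 1 (.leaf (nat_lit 0x106f14b)) (.leaf (nat_lit 0x206f936)))))) (.node 8 (.node 4 (.node 2 (.node 1 (.leaf (nat_lit 0x7046f)) (.leaf (nat_lit 0x1070d43))) (.node 1 (.leaf (nat_lit 0x20705a0)) (.leaf (nat_lit 0x718aa)))) (.node 2 (.node 1 (.leaf (nat_lit 0x1071998)) (.leaf (nat_lit 0x723df))) (.node 1 (.leaf (nat_lit 0x20723c4)) (.leaf (nat_lit 0x2073c49))))) (.node 4 (.node 2 (.node 1 (.leaf (nat_lit 0x1074a00)) (.leaf (nat_lit 0x2074adf))) (.node 1 (.leaf (nat_lit 0x7566a)) (.leaf (nat_lit 0x1075790)))) (.node 2 (.node 1 (.leaf (nat_lit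 0x2075988)) (.leaf (nat_lit 0x764a5))) (.node 1 (.leaf (nat_lit 0x1076d60)) (.leaf (nat_lit 0x207669a)))))))) (.node 32 (.node 16 (.node 8 (.node 4 (.node 2 (.node 1 (.leaf (nat_lit 0x77259)) (.leaf (nat_lit 0x2077b56))) (.node 1 (.leaf (nat_lit 0x78f31)) (.leaf (nat_lit 0x20784a8)))) (.node 2 (.node 1 (.leaf (nat_lit 0x79cf4)) (.leaf (nat_lit 0x2079082))) (.node 1 (.leaf (nat_lit 0x207a256)) (.leaf (nat_lit 0x7bee9))))) (.node 4 (.node 2 (.node 1 (.leaf (nat_lit 0x207bcd6)) (.leaf (nat_lit 0x7c20e))) (.node 1 (.leaf (nat_lit 0x107c17b)) (.leaf (nat_lit 0x207ca5e)))) (.node 2 (.node 1 (.leaf (nat_lit 0x107dc40)) (.leaf (nat_lit 0x207db07))) (.node 1 (.leaf (nat_lit 0x7e8ac)) (.leaf (nat_lit 0x107edf0)))))) (.node 8 (.node 4 (.node 2 (.node 1 (.leaf (nat_lit 0x207ed57)) (.leaf (nat_lit 0x7f51b))) (.node 1 (.leaf (nat_lit 0x107fb0d)) (.leaf (nat_lit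 0x80e5a)))) (.node 2 (.node 1 (.leaf (nat_lit 0x1080d65)) (.leaf (nat_lit 0x2080d48))) (.node 1 (.leaf (nat_lit 0x81354)) (.leaf (nat_lit 0x2081db7))))) (.node 4 (.node 2 (.node 1 (.leaf (nat_lit 0x82782)) (.leaf (nat_lit 0x1082a76))) (.node 1 (.leaf (nat_lit 0x208251f)) (.leaf (nat_lit 0x8399c)))) (.node 2 (.node 1 (.leaf (nat_lit 0x108303c)) (.leaf (nat_lit 0x2083c8a))) (.node 1 (.leaf (nat_lit 0x84276)) (.leaf (nat_lit 0x20846a3))))))) (.node 16 (.node 8 (.node 4 (.node 2 (.node 1 (.leaf (nat_lit 0x85c14)) (.leaf (nat_lit 0x1085ede))) (.node 1 (.leaf (nat_lit 0x208543b)) (.leaf (nat_lit 0x860e5)))) (.node 2 (.node 1 (.leaf (nat_lit 0x20866a2)) (.leaf (nat_lit 0x87edd))) (.node 1 (.leaf (nat_lit 0x1087ed0)) (.leaf (nat_lit 0x881dc))))) (.node 4 (.node 2 (.node 1 (.leaf (nat_lit 0x1088aca)) (.leaf (nat_lit 0x20884f4))) (.node 1 (.leaf (nat_lit 0x89598))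 (.leaf (nat_lit 0x1089366)))) (.node 2 (.node 1 (.leaf (nat_lit 0x2089c7a)) (.leaf (nat_lit 0x8a8ae))) (.node 1 (.leaf (nat_lit 0x108af56)) (.leaf (nat_lit 0x8b192)))))) (.node 8 (.node 4 (.node 2 (.node 1 (.leaf (nat_lit 0x108baa6)) (.leaf (nat_lit 0x8ccf0))) (.node 1 (.leaf (nat_lit 0x108c115)) (.leaf (nat_lit 0x208c599)))) (.node 2 (.node 1 (.leaf (nat_lit 0x8d686)) (.leaf (nat_lit 0x208d821))) (.node 1 (.leaf (nat_lit 0x8ef86)) (.leaf (nat_lit 0x108e1d9))))) (.node 4 (.node 2 (.node 1 (.leaf (nat_lit 0x208eaac)) (.leaf (nat_lit 0x8f8d0))) (.node 1 (.leaf (nat_lit 0x108f471)) (.leaf (nat_lit 0x90f48)))) (.node 2 (.node 1 (.leaf (nat_lit 0x109082a)) (.leaf (nat_lit 0x2090761))) (.node 1 (.leaf (nat_lit 0x91e5b)) (.leaf (nat_lit 0x1091d8e))))))))) (.node 64 (.node 32 (.node 16 (.node 8 (.node 4 (.node 2 (.node 1 (.leaf (nat_lit 0x2091db8)) (.leaf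 (nat_lit 0x92795))) (.node 1 (.leaf (nat_lit 0x1092916)) (.leaf (nat_lit 0x2092c72)))) (.node 2 (.node 1 (.leaf (nat_lit 0x93e0d)) (.leaf (nat_lit 0x20934f2))) (.node 1 (.leaf (nat_lit 0x1094167)) (.leaf (nat_lit 0x2094b76))))) (.node 4 (.node 2 (.node 1 (.leaf (nat_lit 0x95a8a)) (.leaf (nat_lit 0x2095e9a))) (.node 1 (.leaf (nat_lit 0x1096ae6)) (.leaf (nat_lit 0x2096990)))) (.node 2 (.node 1 (.leaf (nat_lit 0x97dd4)) (.leaf (nat_lit 0x1097096))) (.node 1 (.leaf (nat_lit 0x2097e01)) (.leaf (nat_lit 0x10981db)))))) (.node 8 (.node 4 (.node 2 (.node 1 (.leaf (nat_lit 0x209895a)) (.leaf (nat_lit 0x9aade))) (.node 1 (.leaf (nat_lit 0x109a5d8)) (.leaf (nat_lit 0x209a341)))) (.node 2 (.node 1 (.leaf (nat_lit 0x9b930)) (.leaf (nat_lit 0x209c11c))) (.node 1 (.leaf (nat_lit 0x9d59d)) (.leaf (nat_lit 0x109d3f2))))) (.node 4 (.node 2 (.node 1 (.leaf (nat_lit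 0x9e5ba)) (.leaf (nat_lit 0x109e092))) (.node 1 (.leaf (nat_lit 0x209f216)) (.leaf (nat_lit 0xa15d9)))) (.node 2 (.node 1 (.leaf (nat_lit 0x20a144e)) (.leaf (nat_lit 0xa2e29))) (.node 1 (.leaf (nat_lit 0x10a24cc)) (.leaf (nat_lit 0x20a20d6))))))) (.node 16 (.node 8 (.node 4 (.node 2 (.node 1 (.leaf (nat_lit 0x10a3336)) (.leaf (nat_lit 0x20a3973))) (.node 1 (.leaf (nat_lit 0xa4f53)) (.leaf (nat_lit 0x20a4963)))) (.node 2 (.node 1 (.leaf (nat_lit 0xa6967)) (.leaf (nat_lit 0x10a6f20))) (.node 1 (.leaf (nat_lit 0x20a6d35)) (.leaf (nat_lit 0xa78bd))))) (.node 4 (.node 2 (.node 1 (.leaf (nat_lit 0x10a7acb)) (.leaf (nat_lit 0x20a70b5))) (.node 1 (.leaf (nat_lit 0xa898a)) (.leaf (nat_lit 0x20a8dd5)))) (.node 2 (.node 1 (.leaf (nat_lit 0xa93f7)) (.leaf (nat_lit 0x20a9d46))) (.node 1 (.leaf (nat_lit 0x20aa1e4)) (.leaf (nat_lit 0xab7b7)))))) (.node 8 (.node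 4 (.node 2 (.node 1 (.leaf (nat_lit 0x10ab0cd)) (.leaf (nat_lit 0xac592))) (.node 1 (.leaf (nat_lit 0x10ac2ae)) (.leaf (nat_lit 0x10ada63)))) (.node 2 (.node 1 (.leaf (nat_lit 0x20ad5cf)) (.leaf (nat_lit 0xae36f))) (.node 1 (.leaf (nat_lit 0x10aee0b)) (.leaf (nat_lit 0x20ae51c))))) (.node 4 (.node 2 (.node 1 (.leaf (nat_lit 0xafa79)) (.leaf (nat_lit 0x20af8a5))) (.node 1 (.leaf (nat_lit 0xb04f7)) (.leaf (nat_lit 0x10b00c8)))) (.node 2 (.node 1 (.leaf (nat_lit 0x20b037e)) (.leaf (nat_lit 0x10b1d0c))) (.node 1 (.leaf (nat_lit 0xb2fd6)) (.leaf (nat_lit 0x20b218c)))))))) (.node 32 (.node 16 (.node 8 (.node 4 (.node 2 (.node 1 (.leaf (nat_lit 0xb3a13)) (.leaf (nat_lit 0x10b35bd))) (.node 1 (.leaf (nat_lit 0x20b381d)) (.leaf (nat_lit 0x20b4da2)))) (.node 2 (.node 1 (.leaf (nat_lit 0x10b5e1e)) (.leaf (nat_lit 0x20b592c))) (.node 1 (.leaf (nat_lit 0x10b6ca2))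 (.leaf (nat_lit 0xb7afb))))) (.node 4 (.node 2 (.node 1 (.leaf (nat_lit 0x10b78a8)) (.leaf (nat_lit 0x20b7fb5))) (.node 1 (.leaf (nat_lit 0x20b863d)) (.leaf (nat_lit 0xb9e8d)))) (.node 2 (.node 1 (.leaf (nat_lit 0x10b9c97)) (.leaf (nat_lit 0x20b9208))) (.node 1 (.leaf (nat_lit 0xbae36)) (.leaf (nat_lit 0x10ba59e)))))) (.node 8 (.node 4 (.node 2 (.node 1 (.leaf (nat_lit 0x20ba107)) (.leaf (nat_lit 0x20bb7bf))) (.node 1 (.leaf (nat_lit 0xbc600)) (.leaf (nat_lit 0x10bc700)))) (.node 2 (.node 1 (.leaf (nat_lit 0x20bc4db)) (.leaf (nat_lit 0xbd9a3))) (.node 1 (.leaf (nat_lit 0x20bdfd4)) (.leaf (nat_lit 0xbe5a3))))) (.node 4 (.node 2 (.node 1 (.leaf (nat_lit 0x10bfbd4)) (.leaf (nat_lit 0xc0d53))) (.node 1 (.leaf (nat_lit 0x10c0fd9)) (.leaf (nat_lit 0x20c0e98)))) (.node 2 (.node 1 (.leaf (nat_lit 0x10c1ef0)) (.leaf (nat_lit 0x20c1dc8))) (.node 1 (.leaf (nat_lit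 0xc2136)) (.leaf (nat_lit 0x10c2702))))))) (.node 16 (.node 8 (.node 4 (.node 2 (.node 1 (.leaf (nat_lit 0x20c2666)) (.leaf (nat_lit 0x10c30a9))) (.node 1 (.leaf (nat_lit 0x20c3b80)) (.leaf (nat_lit 0xc5816)))) (.node 2 (.node 1 (.leaf (nat_lit 0x20c567e)) (.leaf (nat_lit 0xc695e))) (.node 1 (.leaf (nat_lit 0x10c76be)) (.leaf (nat_lit 0x20c7bfe))))) (.node 4 (.node 2 (.node 1 (.leaf (nat_lit 0xc8c68)) (.leaf (nat_lit 0x10c9098))) (.node 1 (.leaf (nat_lit 0x10ca14a)) (.leaf (nat_lit 0x20cacff)))) (.node 2 (.node 1 (.leaf (nat_lit 0x10cb9ee)) (.leaf (nat_lit 0x20cbd18))) (.node 1 (.leaf (nat_lit 0x10cc189)) (.leaf (nat_lit 0x20cc38b)))))) (.node 8 (.node 4 (.node 2 (.node 1 (.leaf (nat_lit 0x10cd8a2)) (.leaf (nat_lit 0x20cd680))) (.node 1 (.leaf (nat_lit 0xce33a)) (.leaf (nat_lit 0x20ce6ad)))) (.node 2 (.node 1 (.leaf (nat_lit 0xcf76b)) (.leaf (nat_lit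 0x10cf137))) (.node 1 (.leaf (nat_lit 0xd00dd)) (.leaf (nat_lit 0x10d020b))))) (.node 4 (.node 2 (.node 1 (.leaf (nat_lit 0x20d08b3)) (.leaf (nat_lit 0xd1eaa))) (.node 1 (.leaf (nat_lit 0x10d1f65)) (.leaf (nat_lit 0x20d1496)))) (.node 2 (.node 1 (.leaf (nat_lit 0xd25df)) (.leaf (nat_lit 0x10d2ac8))) (.node 1 (.leaf (nat_lit 0x20d2f05)) (.leaf (nat_lit 0x20d37a9))))))))))

/-- A part of `orbJF5`. -/
def orbJF5_2 : Tree := (.node 128 (.node 64 (.node 32 (.node 16 (.node 8 (.node 4 (.node 2 (.node 1 (.leaf (nat_lit 0xd4677)) (.leaf (nat_lit 0x20d48c6))) (.node 1 (.leaf (nat_lit 0xd540a)) (.leaf (nat_lit 0x10d542c)))) (.node 2 (.node 1 (.leaf (nat_lit 0x20d5a62)) (.leaf (nat_lit 0xd6e48))) (.node 1 (.leaf (nat_lit 0x10d6eb9)) (.leaf (nat_lit 0x20d6d24))))) (.node 4 (.node 2 (.node 1 (.leaf (nat_lit 0x10d73fa)) (.leaf (nat_lit 0x20d7f93))) (.node 1 (.leaf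 (nat_lit 0xd8670)) (.leaf (nat_lit 0x10d8d61)))) (.node 2 (.node 1 (.leaf (nat_lit 0x20d8af9)) (.leaf (nat_lit 0xd9a89))) (.node 1 (.leaf (nat_lit 0x10d9d5c)) (.leaf (nat_lit 0x20daecf)))))) (.node 8 (.node 4 (.node 2 (.node 1 (.leaf (nat_lit 0xdb848)) (.leaf (nat_lit 0x10db5a7))) (.node 1 (.leaf (nat_lit 0xdc26c)) (.leaf (nat_lit 0xdd933)))) (.node 2 (.node 1 (.leaf (nat_lit 0xdf7ea)) (.leaf (nat_lit 0x20dfa7f))) (.node 1 (.leaf (nat_lit 0xe01cb)) (.leaf (nat_lit 0xe1175))))) (.node 4 (.node 2 (.node 1 (.leaf (nat_lit 0xe25b6)) (.leaf (nat_lit 0x20e2484))) (.node 1 (.leaf (nat_lit 0xe3a66)) (.leaf (nat_lit 0x10e399e)))) (.node 2 (.node 1 (.leaf (nat_lit 0x20e3eef)) (.leaf (nat_lit 0x20e45f9))) (.node 1 (.leaf (nat_lit 0xe54e6)) (.leaf (nat_lit 0x10e5b79))))))) (.node 16 (.node 8 (.node 4 (.node 2 (.node 1 (.leaf (nat_lit 0x20e5ee2)) (.leaf (nat_lit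 0xe6663))) (.node 1 (.leaf (nat_lit 0xe8bc2)) (.leaf (nat_lit 0x20e8df2)))) (.node 2 (.node 1 (.leaf (nat_lit 0x10ea910)) (.leaf (nat_lit 0x20ea5b1))) (.node 1 (.leaf (nat_lit 0xebb24)) (.leaf (nat_lit 0x20eb6f2))))) (.node 4 (.node 2 (.node 1 (.leaf (nat_lit 0xec4e3)) (.leaf (nat_lit 0x10ec23c))) (.node 1 (.leaf (nat_lit 0x20ec5aa)) (.leaf (nat_lit 0x10ed146)))) (.node 2 (.node 1 (.leaf (nat_lit 0xeea6a)) (.leaf (nat_lit 0x10ee077))) (.node 1 (.leaf (nat_lit 0xef41e)) (.leaf (nat_lit 0xf047a)))))) (.node 8 (.node 4 (.node 2 (.node 1 (.leaf (nat_lit 0x20f0579)) (.leaf (nat_lit 0xf1665))) (.node 1 (.leaf (nat_lit 0x20f1c59)) (.leaf (nat_lit 0xf2279)))) (.node 2 (.node 1 (.leaf (nat_lit 0x10f2044)) (.leaf (nat_lit 0x10f3d5f))) (.node 1 (.leaf (nat_lit 0x20f3b7b)) (.leaf (nat_lit 0xf4939))))) (.node 4 (.node 2 (.node 1 (.leaf (nat_lit 0x10f4ba9)) (.leaf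 (nat_lit 0xf5d9c))) (.node 1 (.leaf (nat_lit 0xf63fd)) (.leaf (nat_lit 0x10f6dfd)))) (.node 2 (.node 1 (.leaf (nat_lit 0xf7f58)) (.leaf (nat_lit 0xf83a0))) (.node 1 (.leaf (nat_lit 0x20f8161)) (.leaf (nat_lit 0x10f97a4)))))))) (.node 32 (.node 16 (.node 8 (.node 4 (.node 2 (.node 1 (.leaf (nat_lit 0x20f9245)) (.leaf (nat_lit 0xfa82f))) (.node 1 (.leaf (nat_lit 0xfb9b1)) (.leaf (nat_lit 0x20fb878)))) (.node 2 (.node 1 (.leaf (nat_lit 0xfcfaf)) (.leaf (nat_lit 0x20fc36d))) (.node 1 (.leaf (nat_lit 0xfd619)) (.leaf (nat_lit 0x10fd17e))))) (.node 4 (.node 2 (.node 1 (.leaf (nat_lit 0x20fd2a8)) (.leaf (nat_lit 0xfe41a))) (.node 1 (.leaf (nat_lit 0x10fe7a7)) (.leaf (nat_lit 0x20fe957)))) (.node 2 (.node 1 (.leaf (nat_lit 0x20ffc73)) (.leaf (nat_lit 0x110049e))) (.node 1 (.leaf (nat_lit 0x2100396)) (.leaf (nat_lit 0x10151a)))))) (.node 8 (.node 4 (.node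 2 (.node 1 (.leaf (nat_lit 0x110129c)) (.leaf (nat_lit 0x103791))) (.node 1 (.leaf (nat_lit 0x2103210)) (.leaf (nat_lit 0x104af8)))) (.node 2 (.node 1 (.leaf (nat_lit 0x1059c2)) (.leaf (nat_lit 0x11059e9))) (.node 1 (.leaf (nat_lit 0x21056a1)) (.leaf (nat_lit 0x11064f0))))) (.node 4 (.node 2 (.node 1 (.leaf (nat_lit 0x2106578)) (.leaf (nat_lit 0x10798b))) (.node 1 (.leaf (nat_lit 0x1107931)) (.leaf (nat_lit 0x2107f70)))) (.node 2 (.node 1 (.leaf (nat_lit 0x1085bb)) (.leaf (nat_lit 0x210927f))) (.node 1 (.leaf (nat_lit 0x10c463)) (.leaf (nat_lit 0x110c5b0))))))) (.node 16 (.node 8 (.node 4 (.node 2 (.node 1 (.leaf (nat_lit 0x210c5f5)) (.leaf (nat_lit 0x10dcbd))) (.node 1 (.leaf (nat_lit 0x10f5c2)) (.leaf (nat_lit 0x110f2bb)))) (.node 2 (.node 1 (.leaf (nat_lit 0x210f9da)) (.leaf (nat_lit 0x110157))) (.node 1 (.leaf (nat_lit 0x2110975)) (.leaf (nat_lit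 0x1115ce))))) (.node 4 (.node 2 (.node 1 (.leaf (nat_lit 0x211380a)) (.leaf (nat_lit 0x2114a3e))) (.node 1 (.leaf (nat_lit 0x1159a6)) (.leaf (nat_lit 0x2116db6)))) (.node 2 (.node 1 (.leaf (nat_lit 0x2117a5c)) (.leaf (nat_lit 0x11885f))) (.node 1 (.leaf (nat_lit 0x2118d7e)) (.leaf (nat_lit 0x119800)))))) (.node 8 (.node 4 (.node 2 (.node 1 (.leaf (nat_lit 0x1119c92)) (.leaf (nat_lit 0x211964f))) (.node 1 (.leaf (nat_lit 0x211aa1d)) (.leaf (nat_lit 0x111bbff)))) (.node 2 (.node 1 (.leaf (nat_lit 0x11c46e)) (.leaf (nat_lit 0x211cb3e))) (.node 1 (.leaf (nat_lit 0x11db82)) (.leaf (nat_lit 0x111d7dc))))) (.node 4 (.node 2 (.node 1 (.leaf (nat_lit 0x211d84b)) (.leaf (nat_lit 0x111ec6a))) (.node 1 (.leaf (nat_lit 0x11f5ec)) (.leaf (nat_lit 0x120435)))) (.node 2 (.node 1 (.leaf (nat_lit 0x1120330)) (.leaf (nat_lit 0x121e1f))) (.node 1 (.leaf (nat_lit 0x2121202))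 (.leaf (nat_lit 0x11229e0))))))))) (.node 64 (.node 32 (.node 16 (.node 8 (.node 4 (.node 2 (.node 1 (.leaf (nat_lit 0x21227a5)) (.leaf (nat_lit 0x11230a0))) (.node 1 (.leaf (nat_lit 0x2123a93)) (.leaf (nat_lit 0x124636)))) (.node 2 (.node 1 (.leaf (nat_lit 0x1125dca)) (.leaf (nat_lit 0x12672b))) (.node 1 (.leaf (nat_lit 0x1126fb9)) (.leaf (nat_lit 0x21268b1))))) (.node 4 (.node 2 (.node 1 (.leaf (nat_lit 0x21271d5)) (.leaf (nat_lit 0x112816c))) (.node 1 (.leaf (nat_lit 0x212896b)) (.leaf (nat_lit 0x2129586)))) (.node 2 (.node 1 (.leaf (nat_lit 0x112a5f8)) (.leaf (nat_lit 0x212a469))) (.node 1 (.leaf (nat_lit 0x212b7ec)) (.leaf (nat_lit 0x112ca17)))))) (.node 8 (.node 4 (.node 2 (.node 1 (.leaf (nat_lit 0x12d119)) (.leaf (nat_lit 0x112d33b))) (.node 1 (.leaf (nat_lit 0x112efb0)) (.leaf (nat_lit 0x212e470)))) (.node 2 (.node 1 (.leaf (nat_lit 0x1131f25))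 (.leaf (nat_lit 0x132093))) (.node 1 (.leaf (nat_lit 0x113244f)) (.leaf (nat_lit 0x213367c))))) (.node 4 (.node 2 (.node 1 (.leaf (nat_lit 0x134601)) (.leaf (nat_lit 0x1135868))) (.node 1 (.leaf (nat_lit 0x21359d3)) (.leaf (nat_lit 0x21364f9)))) (.node 2 (.node 1 (.leaf (nat_lit 0x137a90)) (.leaf (nat_lit 0x113790a))) (.node 1 (.leaf (nat_lit 0x138895)) (.leaf (nat_lit 0x213849a))))))) (.node 16 (.node 8 (.node 4 (.node 2 (.node 1 (.leaf (nat_lit 0x2139a50)) (.leaf (nat_lit 0x13a4a9))) (.node 1 (.leaf (nat_lit 0x113a386)) (.leaf (nat_lit 0x213ac1f)))) (.node 2 (.node 1 (.leaf (nat_lit 0x113b413)) (.leaf (nat_lit 0x213b20c))) (.node 1 (.leaf (nat_lit 0x13ce3b)) (.leaf (nat_lit 0x13d148))))) (.node 4 (.node 2 (.node 1 (.leaf (nat_lit 0x113f5ad)) (.leaf (nat_lit 0x140133))) (.node 1 (.leaf (nat_lit 0x141565)) (.leaf (nat_lit 0x114145a)))) (.node 2 (.node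 1 (.leaf (nat_lit 0x1428a9)) (.leaf (nat_lit 0x1142b97))) (.node 1 (.leaf (nat_lit 0x21423d6)) (.leaf (nat_lit 0x143d27)))))) (.node 8 (.node 4 (.node 2 (.node 1 (.leaf (nat_lit 0x2143d77)) (.leaf (nat_lit 0x145c7f))) (.node 1 (.leaf (nat_lit 0x1145f23)) (.leaf (nat_lit 0x214528a)))) (.node 2 (.node 1 (.leaf (nat_lit 0x21475ef)) (.leaf (nat_lit 0x1489d2))) (.node 1 (.leaf (nat_lit 0x114961c)) (.leaf (nat_lit 0x14adc6))))) (.node 4 (.node 2 (.node 1 (.leaf (nat_lit 0x214b897)) (.leaf (nat_lit 0x114cf85))) (.node 1 (.leaf (nat_lit 0x14d205)) (.leaf (nat_lit 0x114d6e4)))) (.node 2 (.node 1 (.leaf (nat_lit 0x214eaf7)) (.leaf (nat_lit 0x14f1f3))) (.node 1 (.leaf (nat_lit 0x114f9fe)) (.leaf (nat_lit 0x214fc81)))))))) (.node 32 (.node 16 (.node 8 (.node 4 (.node 2 (.node 1 (.leaf (nat_lit 0x21509d4)) (.leaf (nat_lit 0x1517ef))) (.node 1 (.leaf (nat_lit 0x1151a1c))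 (.leaf (nat_lit 0x1152e14)))) (.node 2 (.node 1 (.leaf (nat_lit 0x215581f)) (.leaf (nat_lit 0x2156651))) (.node 1 (.leaf (nat_lit 0x158c48)) (.leaf (nat_lit 0x2158799))))) (.node 4 (.node 2 (.node 1 (.leaf (nat_lit 0x1159acd)) (.leaf (nat_lit 0x21592f9))) (.node 1 (.leaf (nat_lit 0x15a57c)) (.leaf (nat_lit 0x215b820)))) (.node 2 (.node 1 (.leaf (nat_lit 0x115c3b7)) (.leaf (nat_lit 0x215cd85))) (.node 1 (.leaf (nat_lit 0x15e6cd)) (.leaf (nat_lit 0x115f25c)))))) (.node 8 (.node 4 (.node 2 (.node 1 (.leaf (nat_lit 0x160511)) (.leaf (nat_lit 0x1160da0))) (.node 1 (.leaf (nat_lit 0x161856)) (.leaf (nat_lit 0x11617c2)))) (.node 2 (.node 1 (.leaf (nat_lit 0x116255b)) (.leaf (nat_lit 0x21627b4))) (.node 1 (.leaf (nat_lit 0x1163fb8)) (.leaf (nat_lit 0x1164b4b))))) (.node 4 (.node 2 (.node 1 (.leaf (nat_lit 0x2165a83)) (.leaf (nat_lit 0x166891))) (.node 1 (.leaf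 (nat_lit 0x11667a2)) (.leaf (nat_lit 0x2167d31)))) (.node 2 (.node 1 (.leaf (nat_lit 0x11681fa)) (.leaf (nat_lit 0x2168884))) (.node 1 (.leaf (nat_lit 0x169d2c)) (.leaf (nat_lit 0x2169951))))))) (.node 16 (.node 8 (.node 4 (.node 2 (.node 1 (.leaf (nat_lit 0x16ae2a)) (.leaf (nat_lit 0x16b986))) (.node 1 (.leaf (nat_lit 0x16cf66)) (.leaf (nat_lit 0x216c078)))) (.node 2 (.node 1 (.leaf (nat_lit 0x16d563)) (.leaf (nat_lit 0x116dc63))) (.node 1 (.leaf (nat_lit 0x116e5a4)) (.leaf (nat_lit 0x216edf6))))) (.node 4 (.node 2 (.node 1 (.leaf (nat_lit 0x16f1ed)) (.leaf (nat_lit 0x216f439))) (.node 1 (.leaf (nat_lit 0x1170091)) (.leaf (nat_lit 0x21701ff)))) (.node 2 (.node 1 (.leaf (nat_lit 0x1711f1)) (.leaf (nat_lit 0x1171ed4))) (.node 1 (.leaf (nat_lit 0x2172c01)) (.leaf (nat_lit 0x174243)))))) (.node 8 (.node 4 (.node 2 (.node 1 (.leaf (nat_lit 0x2174bcc))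 (.leaf (nat_lit 0x21751f9))) (.node 1 (.leaf (nat_lit 0x2176fad)) (.leaf (nat_lit 0x17737a)))) (.node 2 (.node 1 (.leaf (nat_lit 0x11774b7)) (.leaf (nat_lit 0x17858c))) (.node 1 (.leaf (nat_lit 0x117852e)) (.leaf (nat_lit 0x1795d4))))) (.node 4 (.node 2 (.node 1 (.leaf (nat_lit 0x217adc3)) (.leaf (nat_lit 0x117ba5d))) (.node 1 (.leaf (nat_lit 0x217b73e)) (.leaf (nat_lit 0x217c4c6)))) (.node 2 (.node 1 (.leaf (nat_lit 0x117dcbc)) (.leaf (nat_lit 0x117ec88))) (.node 1 (.leaf (nat_lit 0x217e7e6)) (.leaf (nat_lit 0x180297))))))))))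

/-- A part of `orbJF5`. -/
def orbJF5_3 : Tree := (.node 103 (.node 51 (.node 25 (.node 12 (.node 6 (.node 3 (.node 1 (.leaf (nat_lit 0x1183995)) (.node 1 (.leaf (nat_lit 0x2185987)) (.leaf (nat_lit 0x118627e)))) (.node 1 (.leaf (nat_lit 0x218777b)) (.node 1 (.leaf (nat_lit 0x18934e)) (.leaf (nat_lit 0x118b18f))))) (.node 3 (.node 1 (.leaf (nat_lit 0x218bb0a)) (.node 1 (.leaf (nat_lit 0x118cb57)) (.leaf (nat_lit 0x118dbee)))) (.node 1 (.leaf (nat_lit 0x118ea21)) (.node 1 (.leaf (nat_lit 0x218efca)) (.leaf (nat_lit 0x119088c)))))) (.node 6 (.node 3 (.node 1 (.leaf (nat_lit 0x219039b)) (.node 1 (.leaf (nat_lit 0x21912a4)) (.leaf (nat_lit 0x1193394)))) (.node 1 (.leaf (nat_lit 0x194683)) (.node 1 (.leaf (nat_lit 0x19569e)) (.leaf (nat_lit 0x196d19))))) (.node 3 (.node 1 (.leaf (nat_lit 0x11970ab)) (.node 1 (.leaf (nat_lit 0x1198a99)) (.leaf (nat_lit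 0x21989e1)))) (.node 2 (.node 1 (.leaf (nat_lit 0x199685)) (.leaf (nat_lit 0x1199c55))) (.node 1 (.leaf (nat_lit 0x119a24c)) (.leaf (nat_lit 0x19b591))))))) (.node 13 (.node 6 (.node 3 (.node 1 (.leaf (nat_lit 0x219bf57)) (.node 1 (.leaf (nat_lit 0x19cb47)) (.leaf (nat_lit 0x19d445)))) (.node 1 (.leaf (nat_lit 0x219d65e)) (.node 1 (.leaf (nat_lit 0x19f7db)) (.leaf (nat_lit 0x11a0182))))) (.node 3 (.node 1 (.leaf (nat_lit 0x11a10dc)) (.node 1 (.leaf (nat_lit 0x11a3dcb)) (.leaf (nat_lit 0x1a44d0)))) (.node 2 (.node 1 (.leaf (nat_lit 0x21a46e7)) (.leaf (nat_lit 0x1a5e90))) (.node 1 (.leaf (nat_lit 0x1a7f5f)) (.leaf (nat_lit 0x11a7db4)))))) (.node 6 (.node 3 (.node 1 (.leaf (nat_lit 0x21a73e8)) (.node 1 (.leaf (nat_lit 0x1a89dd)) (.leaf (nat_lit 0x21a8bcb)))) (.node 1 (.leaf (nat_lit 0x11acf1e)) (.node 1 (.leaf (nat_lit 0x21ac8f6)) (.leaf (nat_lit 0x1ad923)))))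 (.node 3 (.node 1 (.leaf (nat_lit 0x11adc89)) (.node 1 (.leaf (nat_lit 0x21add00)) (.leaf (nat_lit 0x21af5b9)))) (.node 2 (.node 1 (.leaf (nat_lit 0x1b1e00)) (.leaf (nat_lit 0x21b2801))) (.node 1 (.leaf (nat_lit 0x21b4d52)) (.leaf (nat_lit 0x21b5b7d)))))))) (.node 26 (.node 13 (.node 6 (.node 3 (.node 1 (.leaf (nat_lit 0x21b7571)) (.node 1 (.leaf (nat_lit 0x1b953a)) (.leaf (nat_lit 0x11b93b9)))) (.node 1 (.leaf (nat_lit 0x1ba186)) (.node 1 (.leaf (nat_lit 0x11ba858)) (.leaf (nat_lit 0x1bd7d4))))) (.node 3 (.node 1 (.leaf (nat_lit 0x11bdcba)) (.node 1 (.leaf (nat_lit 0x1c0926)) (.leaf (nat_lit 0x11c16fd)))) (.node 2 (.node 1 (.leaf (nat_lit 0x21c2fda)) (.leaf (nat_lit 0x1c325e))) (.node 1 (.leaf (nat_lit 0x11c38af)) (.leaf (nat_lit 0x21c4ee7)))))) (.node 6 (.node 3 (.node 1 (.leaf (nat_lit 0x1c6d55)) (.node 1 (.leaf (nat_lit 0x21c6797)) (.leaf (nat_lit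 0x1c7dfe)))) (.node 1 (.leaf (nat_lit 0x21c8a12)) (.node 1 (.leaf (nat_lit 0x11cbd69)) (.leaf (nat_lit 0x21cbe34))))) (.node 3 (.node 1 (.leaf (nat_lit 0x11ccacf)) (.node 1 (.leaf (nat_lit 0x21cccf2)) (.leaf (nat_lit 0x1d5b5d)))) (.node 2 (.node 1 (.leaf (nat_lit 0x11d6d6e)) (.leaf (nat_lit 0x21d7e53))) (.node 1 (.leaf (nat_lit 0x21d8b92)) (.leaf (nat_lit 0x1da847))))))) (.node 13 (.node 6 (.node 3 (.node 1 (.leaf (nat_lit 0x21dbb44)) (.node 1 (.leaf (nat_lit 0x1dc524)) (.leaf (nat_lit 0x11e05f4)))) (.node 1 (.leaf (nat_lit 0x21e017f)) (.node 1 (.leaf (nat_lit 0x11e1bec)) (.leaf (nat_lit 0x21e1706))))) (.node 3 (.node 1 (.leaf (nat_lit 0x11e2f90)) (.node 1 (.leaf (nat_lit 0x1e3c67)) (.leaf (nat_lit 0x11e41e2)))) (.node 2 (.node 1 (.leaf (nat_lit 0x11e9fb7)) (.leaf (nat_lit 0x21e92de))) (.node 1 (.leaf (nat_lit 0x21edaad)) (.leaf (nat_lit 0x11ee978))))))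 (.node 6 (.node 3 (.node 1 (.leaf (nat_lit 0x11ef49f)) (.node 1 (.leaf (nat_lit 0x21ef17a)) (.leaf (nat_lit 0x21f0aeb)))) (.node 1 (.leaf (nat_lit 0x11f1c7b)) (.node 1 (.leaf (nat_lit 0x11f2e91)) (.leaf (nat_lit 0x1f3a8b))))) (.node 3 (.node 1 (.leaf (nat_lit 0x1f524b)) (.node 1 (.leaf (nat_lit 0x1f6ee1)) (.leaf (nat_lit 0x1fab02)))) (.node 2 (.node 1 (.leaf (nat_lit 0x1fcd83)) (.leaf (nat_lit 0x11ff82e))) (.node 1 (.leaf (nat_lit 0x21ff507)) (.leaf (nat_lit 0x20239a))))))))) (.node 52 (.node 26 (.node 13 (.node 6 (.node 3 (.node 1 (.leaf (nat_lit 0x2202ae2)) (.node 1 (.leaf (nat_lit 0x220337b)) (.leaf (nat_lit 0x206e77)))) (.node 1 (.leaf (nat_lit 0x2207d7c)) (.node 1 (.leaf (nat_lit 0x12085c0)) (.leaf (nat_lit 0x20e8d7))))) (.node 3 (.node 1 (.leaf (nat_lit 0x220e8a0)) (.node 1 (.leaf (nat_lit 0x220f0d5)) (.leaf (nat_lit 0x121073b)))) (.node 2 (.node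 1 (.leaf (nat_lit 0x121622e)) (.leaf (nat_lit 0x2217296))) (.node 1 (.leaf (nat_lit 0x2186eb)) (.leaf (nat_lit 0x2218c80)))))) (.node 6 (.node 3 (.node 1 (.leaf (nat_lit 0x2219885)) (.node 1 (.leaf (nat_lit 0x121ad88)) (.leaf (nat_lit 0x21bbbe)))) (.node 1 (.leaf (nat_lit 0x121c4a4)) (.node 1 (.leaf (nat_lit 0x221dd6b)) (.leaf (nat_lit 0x21f379))))) (.node 3 (.node 1 (.leaf (nat_lit 0x22088e)) (.node 1 (.leaf (nat_lit 0x2223b03)) (.leaf (nat_lit 0x224626)))) (.node 2 (.node 1 (.leaf (nat_lit 0x226247)) (.leaf (nat_lit 0x227b9d))) (.node 1 (.leaf (nat_lit 0x22277df)) (.leaf (nat_lit 0x1228095))))))) (.node 13 (.node 6 (.node 3 (.node 1 (.leaf (nat_lit 0x229ce9)) (.node 1 (.leaf (nat_lit 0x22b174)) (.leaf (nat_lit 0x2305c4)))) (.node 1 (.leaf (nat_lit 0x2314a1)) (.node 1 (.leaf (nat_lit 0x232cc7)) (.leaf (nat_lit 0x1232346))))) (.node 3 (.node 1 (.leaf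 (nat_lit 0x2337ee)) (.node 1 (.leaf (nat_lit 0x1233f5d)) (.leaf (nat_lit 0x22356a8)))) (.node 2 (.node 1 (.leaf (nat_lit 0x236837)) (.leaf (nat_lit 0x223811e))) (.node 1 (.leaf (nat_lit 0x23a3c2)) (.leaf (nat_lit 0x123b166)))))) (.node 6 (.node 3 (.node 1 (.leaf (nat_lit 0x123e2fe)) (.node 1 (.leaf (nat_lit 0x1242656)) (.leaf (nat_lit 0x2462d4)))) (.node 1 (.leaf (nat_lit 0x2246d6f)) (.node 1 (.leaf (nat_lit 0x2490f5)) (.leaf (nat_lit 0x224b0ed))))) (.node 3 (.node 1 (.leaf (nat_lit 0x225231e)) (.node 1 (.leaf (nat_lit 0x2254748)) (.leaf (nat_lit 0x2256fb1)))) (.node 2 (.node 1 (.leaf (nat_lit 0x25b968)) (.leaf (nat_lit 0x25e4b5))) (.node 1 (.leaf (nat_lit 0x2261f07)) (.leaf (nat_lit 0x263ab9)))))))) (.node 26 (.node 13 (.node 6 (.node 3 (.node 1 (.leaf (nat_lit 0x2653bf)) (.node 1 (.leaf (nat_lit 0x26a92a)) (.leaf (nat_lit 0x26b56c)))) (.node 1 (.leaf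 (nat_lit 0x26c235)) (.node 1 (.leaf (nat_lit 0x26eb52)) (.leaf (nat_lit 0x2712fc))))) (.node 3 (.node 1 (.leaf (nat_lit 0x2271de9)) (.node 1 (.leaf (nat_lit 0x272dc1)) (.leaf (nat_lit 0x2748b9)))) (.node 2 (.node 1 (.leaf (nat_lit 0x2276dde)) (.leaf (nat_lit 0x280f02))) (.node 1 (.leaf (nat_lit 0x28145f)) (.leaf (nat_lit 0x2281271)))))) (.node 6 (.node 3 (.node 1 (.leaf (nat_lit 0x283416)) (.node 1 (.leaf (nat_lit 0x2284a85)) (.leaf (nat_lit 0x285893)))) (.node 1 (.leaf (nat_lit 0x286ecd)) (.node 1 (.leaf (nat_lit 0x228779f)) (.leaf (nat_lit 0x228aaf1))))) (.node 3 (.node 1 (.leaf (nat_lit 0x128d4de)) (.node 1 (.leaf (nat_lit 0x29bd94)) (.leaf (nat_lit 0x2a59ed)))) (.node 2 (.node 1 (.leaf (nat_lit 0x22ab86f)) (.leaf (nat_lit 0x2af664))) (.node 1 (.leaf (nat_lit 0x22afe50)) (.leaf (nat_lit 0x12b19c1))))))) (.node 13 (.node 6 (.node 3 (.node 1 (.leaf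 (nat_lit 0x22b382d)) (.node 1 (.leaf (nat_lit 0x2b753b)) (.leaf (nat_lit 0x12ba187)))) (.node 1 (.leaf (nat_lit 0x2bd8e4)) (.node 1 (.leaf (nat_lit 0x22d231f)) (.leaf (nat_lit 0x22dc225))))) (.node 3 (.node 1 (.leaf (nat_lit 0x12e08ec)) (.node 1 (.leaf (nat_lit 0x12e6df4)) (.leaf (nat_lit 0x2eb691)))) (.node 2 (.node 1 (.leaf (nat_lit 0x2ec734)) (.leaf (nat_lit 0x12ee560))) (.node 1 (.leaf (nat_lit 0x2f27e9)) (.leaf (nat_lit 0x3046ee)))))) (.node 6 (.node 3 (.node 1 (.leaf (nat_lit 0x30adf7)) (.node 1 (.leaf (nat_lit 0x130ad96)) (.leaf (nat_lit 0x310966)))) (.node 1 (.leaf (nat_lit 0x316e66)) (.node 1 (.leaf (nat_lit 0x132326b)) (.leaf (nat_lit 0x2324a1b))))) (.node 3 (.node 1 (.leaf (nat_lit 0x1336446)) (.node 1 (.leaf (nat_lit 0x2345924)) (.leaf (nat_lit 0x2346859)))) (.node 2 (.node 1 (.leaf (nat_lit 0x1348851)) (.leaf (nat_lit 0x1358f1f))) (.node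 1 (.leaf (nat_lit 0x1393fb4)) (.leaf (nat_lit 0x3a6640))))))))))

/-- An orbit. -/
def orbJF5 : Tree := (.node 512 (.node 256 orbJF5_0 orbJF5_1) (.node 256 orbJF5_2 orbJF5_3))

/-- The orbits with their lengths. -/
def orbJFL : List (Tree × ℕ) := [(orbJF0, 1), (orbJF1, 78), (orbJF2, 300), (orbJF3, 300), (orbJF4, 650), (orbJF5, 975)]

/-- An orbit. -/
def orbU0 : Tree := (.leaf (nat_lit 0xd1f))

/-- A part of `orbU1`. -/
def orbU1_0 : Tree := (.node 128 (.node 64 (.node 32 (.node 16 (.node 8 (.node 4 (.node 2 (.node 1 (.leaf (nat_lit 0x1)) (.leaf (nat_lit 0x2e4))) (.node 1 (.leaf (nat_lit 0x10004be)) (.leaf (nat_lit 0x200092f)))) (.node 2 (.node 1 (.leaf (nat_lit 0x3000d75)) (.leaf (nat_lit 0x40007bc))) (.node 1 (.leaf (nat_lit 0x5000e6d)) (.leaf (nat_lit 0x6000b36))))) (.node 4 (.node 2 (.node 1 (.leaf (nat_lit 0x700032a)) (.leaf (nat_lit 0x80005be)))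 (.node 1 (.leaf (nat_lit 0x90002ba)) (.leaf (nat_lit 0xa0004b8)))) (.node 2 (.node 1 (.leaf (nat_lit 0xb00058b)) (.leaf (nat_lit 0x1001196))) (.node 1 (.leaf (nat_lit 0x2001afe)) (.leaf (nat_lit 0x30015e0)))))) (.node 8 (.node 4 (.node 2 (.node 1 (.leaf (nat_lit 0x40018c0)) (.leaf (nat_lit 0x50010b3))) (.node 1 (.leaf (nat_lit 0x600164a)) (.leaf (nat_lit 0x7001b10)))) (.node 2 (.node 1 (.leaf (nat_lit 0x8001767)) (.leaf (nat_lit 0x90014e5))) (.node 1 (.leaf (nat_lit 0xa00174f)) (.leaf (nat_lit 0xb001f26))))) (.node 4 (.node 2 (.node 1 (.leaf (nat_lit 0x2002bf7)) (.leaf (nat_lit 0x3002b2e))) (.node 1 (.leaf (nat_lit 0x4002f62)) (.leaf (nat_lit 0x5002cc3)))) (.node 2 (.node 1 (.leaf (nat_lit 0x600209b)) (.leaf (nat_lit 0x7002b1b))) (.node 1 (.leaf (nat_lit 0x8002e54)) (.leaf (nat_lit 0x9002a9b))))))) (.node 16 (.node 8 (.node 4 (.node 2 (.node 1 (.leaf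 (nat_lit 0xa0021f7)) (.leaf (nat_lit 0xb0020e9))) (.node 1 (.leaf (nat_lit 0x3003cfc)) (.leaf (nat_lit 0x4003763)))) (.node 2 (.node 1 (.leaf (nat_lit 0x5003ce2)) (.leaf (nat_lit 0x6003155))) (.node 1 (.leaf (nat_lit 0x7003815)) (.leaf (nat_lit 0x8003e1d))))) (.node 4 (.node 2 (.node 1 (.leaf (nat_lit 0x9003132)) (.leaf (nat_lit 0xa00312e))) (.node 1 (.leaf (nat_lit 0xb003f39)) (.leaf (nat_lit 0x4004774)))) (.node 2 (.node 1 (.leaf (nat_lit 0x5004b30)) (.leaf (nat_lit 0x6004461))) (.node 1 (.leaf (nat_lit 0x70043d1)) (.leaf (nat_lit 0x800422f)))))) (.node 8 (.node 4 (.node 2 (.node 1 (.leaf (nat_lit 0x9004d06)) (.leaf (nat_lit 0xa00455e))) (.node 1 (.leaf (nat_lit 0xb0047ac)) (.leaf (nat_lit 0x5005573)))) (.node 2 (.node 1 (.leaf (nat_lit 0x6005c7d)) (.leaf (nat_lit 0x700594d))) (.node 1 (.leaf (nat_lit 0x8005985)) (.leaf (nat_lit 0x9005ab5))))) (.node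 4 (.node 2 (.node 1 (.leaf (nat_lit 0xa0056e1)) (.leaf (nat_lit 0xb00552c))) (.node 1 (.leaf (nat_lit 0x1006cc6)) (.leaf (nat_lit 0x2006523)))) (.node 2 (.node 1 (.leaf (nat_lit 0x3006e2e)) (.leaf (nat_lit 0x4006535))) (.node 1 (.leaf (nat_lit 0x6006e78)) (.leaf (nat_lit 0x7006db1)))))))) (.node 32 (.node 16 (.node 8 (.node 4 (.node 2 (.node 1 (.leaf (nat_lit 0x8006793)) (.leaf (nat_lit 0x90068b4))) (.node 1 (.leaf (nat_lit 0xa006c9b)) (.leaf (nat_lit 0xb006c19)))) (.node 2 (.node 1 (.leaf (nat_lit 0x700791b)) (.leaf (nat_lit 0x8007b65))) (.node 1 (.leaf (nat_lit 0x9007268)) (.leaf (nat_lit 0xa00785d))))) (.node 4 (.node 2 (.node 1 (.leaf (nat_lit 0xb007218)) (.leaf (nat_lit 0x1008c29))) (.node 1 (.leaf (nat_lit 0x20083c8)) (.leaf (nat_lit 0x3008280)))) (.node 2 (.node 1 (.leaf (nat_lit 0x50082d8)) (.leaf (nat_lit 0x7008716))) (.node 1 (.leaf (nat_lit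 0x8008019)) (.leaf (nat_lit 0x9008627)))))) (.node 8 (.node 4 (.node 2 (.node 1 (.leaf (nat_lit 0xa008430)) (.leaf (nat_lit 0xb0083ce))) (.node 1 (.leaf (nat_lit 0x1009750)) (.leaf (nat_lit 0x4009ad0)))) (.node 2 (.node 1 (.leaf (nat_lit 0x5009518)) (.leaf (nat_lit 0x600984f))) (.node 1 (.leaf (nat_lit 0xa009162)) (.leaf (nat_lit 0xb009f63))))) (.node 4 (.node 2 (.node 1 (.leaf (nat_lit 0x100a723)) (.leaf (nat_lit 0x200a8be))) (.node 1 (.leaf (nat_lit 0x400a29a)) (.leaf (nat_lit 0x500a822)))) (.node 2 (.node 1 (.leaf (nat_lit 0x600a47d)) (.leaf (nat_lit 0x900abfc))) (.node 1 (.leaf (nat_lit 0xa00a2a2)) (.leaf (nat_lit 0xb00a7c6))))))) (.node 16 (.node 8 (.node 4 (.node 2 (.node 1 (.leaf (nat_lit 0x100b53d)) (.leaf (nat_lit 0x700bb1e))) (.node 1 (.leaf (nat_lit 0x800b224)) (.leaf (nat_lit 0xa00be82)))) (.node 2 (.node 1 (.leaf (nat_lit 0xb00bbd7))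 (.leaf (nat_lit 0x100c28e))) (.node 1 (.leaf (nat_lit 0x200c00e)) (.leaf (nat_lit 0x300ccef))))) (.node 4 (.node 2 (.node 1 (.leaf (nat_lit 0x400c662)) (.leaf (nat_lit 0x600ceb4))) (.node 1 (.leaf (nat_lit 0x700c7d8)) (.leaf (nat_lit 0x900cea3)))) (.node 2 (.node 1 (.leaf (nat_lit 0xa00c0d9)) (.leaf (nat_lit 0xb00c7b1))) (.node 1 (.leaf (nat_lit 0x200daa0)) (.leaf (nat_lit 0x300d28d)))))) (.node 8 (.node 4 (.node 2 (.node 1 (.leaf (nat_lit 0x400da5a)) (.leaf (nat_lit 0x500d510))) (.node 1 (.leaf (nat_lit 0x700d53f)) (.leaf (nat_lit 0x800d7f8)))) (.node 2 (.node 1 (.leaf (nat_lit 0x900d176)) (.leaf (nat_lit 0xa00d20f))) (.node 1 (.leaf (nat_lit 0xb00d730)) (.leaf (nat_lit 0x300eddf))))) (.node 4 (.node 2 (.node 1 (.leaf (nat_lit 0x500e3a3)) (.leaf (nat_lit 0x600eae4))) (.node 1 (.leaf (nat_lit 0x700e870)) (.leaf (nat_lit 0x800e9fa)))) (.node 2 (.node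 1 (.leaf (nat_lit 0x900ec56)) (.leaf (nat_lit 0x400f594))) (.node 1 (.leaf (nat_lit 0x500ff4a)) (.leaf (nat_lit 0x600f68e))))))))) (.node 64 (.node 32 (.node 16 (.node 8 (.node 4 (.node 2 (.node 1 (.leaf (nat_lit 0x700f4ce)) (.leaf (nat_lit 0x501083a))) (.node 1 (.leaf (nat_lit 0x601046c)) (.leaf (nat_lit 0x7010a46)))) (.node 2 (.node 1 (.leaf (nat_lit 0x8010072)) (.leaf (nat_lit 0xa010eb2))) (.node 1 (.leaf (nat_lit 0xb010272)) (.leaf (nat_lit 0x2011f09))))) (.node 4 (.node 2 (.node 1 (.leaf (nat_lit 0x3011375)) (.leaf (nat_lit 0x4011053))) (.node 1 (.leaf (nat_lit 0x6011474)) (.leaf (nat_lit 0x7011d21)))) (.node 2 (.node 1 (.leaf (nat_lit 0x8011a1e)) (.leaf (nat_lit 0xb01191e))) (.node 1 (.leaf (nat_lit 0x80129b6)) (.leaf (nat_lit 0x9012c8c)))))) (.node 8 (.node 4 (.node 2 (.node 1 (.leaf (nat_lit 0xa0126c0)) (.leaf (nat_lit 0xb012984))) (.node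 1 (.leaf (nat_lit 0x1013cab)) (.leaf (nat_lit 0x201354d)))) (.node 2 (.node 1 (.leaf (nat_lit 0x3013abf)) (.leaf (nat_lit 0x8013408))) (.node 1 (.leaf (nat_lit 0x9013d9f)) (.leaf (nat_lit 0xa013bad))))) (.node 4 (.node 2 (.node 1 (.leaf (nat_lit 0xb013b7c)) (.leaf (nat_lit 0x40149af))) (.node 1 (.leaf (nat_lit 0x5014803)) (.leaf (nat_lit 0x6014c2b)))) (.node 2 (.node 1 (.leaf (nat_lit 0xb014f4e)) (.leaf (nat_lit 0x101564e))) (.node 1 (.leaf (nat_lit 0x2015d1a)) (.leaf (nat_lit 0x4015aef))))))) (.node 16 (.node 8 (.node 4 (.node 2 (.node 1 (.leaf (nat_lit 0x5015407)) (.leaf (nat_lit 0x6015237))) (.node 1 (.leaf (nat_lit 0x9015cd3)) (.leaf (nat_lit 0xa015097)))) (.node 2 (.node 1 (.leaf (nat_lit 0xb015239)) (.leaf (nat_lit 0x1016b8c))) (.node 1 (.leaf (nat_lit 0x7016cda)) (.leaf (nat_lit 0x801670e))))) (.node 4 (.node 2 (.node 1 (.leaf (nat_lit 0xb016460))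 (.leaf (nat_lit 0x10170ff))) (.node 1 (.leaf (nat_lit 0x4017400)) (.leaf (nat_lit 0x6017ac0)))) (.node 2 (.node 1 (.leaf (nat_lit 0x7017480)) (.leaf (nat_lit 0x9017789))) (.node 1 (.leaf (nat_lit 0xa01718e)) (.leaf (nat_lit 0xb017dea)))))) (.node 8 (.node 4 (.node 2 (.node 1 (.leaf (nat_lit 0x3018b42)) (.leaf (nat_lit 0x4018c9a))) (.node 1 (.leaf (nat_lit 0x50186db)) (.leaf (nat_lit 0x601822c)))) (.node 2 (.node 1 (.leaf (nat_lit 0x7018bc4)) (.leaf (nat_lit 0x8018f1d))) (.node 1 (.leaf (nat_lit 0x9018006)) (.leaf (nat_lit 0xa018199))))) (.node 4 (.node 2 (.node 1 (.leaf (nat_lit 0xb018f78)) (.leaf (nat_lit 0x4019147))) (.node 1 (.leaf (nat_lit 0x50196c8)) (.leaf (nat_lit 0x60197bd)))) (.node 2 (.node 1 (.leaf (nat_lit 0x7019e6a)) (.leaf (nat_lit 0x8019609))) (.node 1 (.leaf (nat_lit 0x9019b2f)) (.leaf (nat_lit 0xa019bb7)))))))) (.node 32 (.node 16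 (.node 8 (.node 4 (.node 2 (.node 1 (.leaf (nat_lit 0xb019e79)) (.leaf (nat_lit 0x501ac05))) (.node 1 (.leaf (nat_lit 0x601af0b)) (.leaf (nat_lit 0x701ae85)))) (.node 2 (.node 1 (.leaf (nat_lit 0x801ab9b)) (.leaf (nat_lit 0x901a00f))) (.node 1 (.leaf (nat_lit 0xa01adf9)) (.leaf (nat_lit 0xb01a5ca))))) (.node 4 (.node 2 (.node 1 (.leaf (nat_lit 0x101ba02)) (.leaf (nat_lit 0x201bec2))) (.node 1 (.leaf (nat_lit 0x301b0e8)) (.leaf (nat_lit 0x401bd74)))) (.node 2 (.node 1 (.leaf (nat_lit 0x601bae5)) (.leaf (nat_lit 0x701b0c5))) (.node 1 (.leaf (nat_lit 0x801be7e)) (.leaf (nat_lit 0x901be10)))))) (.node 8 (.node 4 (.node 2 (.node 1 (.leaf (nat_lit 0xa01b9f2)) (.leaf (nat_lit 0xb01bd37))) (.node 1 (.leaf (nat_lit 0x701c34b)) (.leaf (nat_lit 0x801c920)))) (.node 2 (.node 1 (.leaf (nat_lit 0x901cf2b)) (.leaf (nat_lit 0xa01c1c0))) (.node 1 (.leaf (nat_lit 0xb01c135))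 (.leaf (nat_lit 0x101da87))))) (.node 4 (.node 2 (.node 1 (.leaf (nat_lit 0x201df3f)) (.leaf (nat_lit 0x301d8da))) (.node 1 (.leaf (nat_lit 0x501de22)) (.leaf (nat_lit 0x701d285)))) (.node 2 (.node 1 (.leaf (nat_lit 0x801d76f)) (.leaf (nat_lit 0x901d898))) (.node 1 (.leaf (nat_lit 0xa01d368)) (.leaf (nat_lit 0xb01d055))))))) (.node 16 (.node 8 (.node 4 (.node 2 (.node 1 (.leaf (nat_lit 0x101ebd1)) (.leaf (nat_lit 0x201e762))) (.node 1 (.leaf (nat_lit 0x401eac7)) (.leaf (nat_lit 0x501eb05)))) (.node 2 (.node 1 (.leaf (nat_lit 0x601e605)) (.leaf (nat_lit 0x901e79c))) (.node 1 (.leaf (nat_lit 0xa01ea7c)) (.leaf (nat_lit 0xb01e2bd))))) (.node 4 (.node 2 (.node 1 (.leaf (nat_lit 0x101ff38)) (.leaf (nat_lit 0x201fc53))) (.node 1 (.leaf (nat_lit 0x401f1f8)) (.leaf (nat_lit 0x601fcdd)))) (.node 2 (.node 1 (.leaf (nat_lit 0x801ff0f)) (.leaf (nat_lit 0x901ffd0)))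 (.node 1 (.leaf (nat_lit 0xa01f13b)) (.leaf (nat_lit 0xb01f045)))))) (.node 8 (.node 4 (.node 2 (.node 1 (.leaf (nat_lit 0x1020d87)) (.leaf (nat_lit 0x30200f6))) (.node 1 (.leaf (nat_lit 0x502010c)) (.leaf (nat_lit 0x70208f2)))) (.node 2 (.node 1 (.leaf (nat_lit 0x80206c9)) (.leaf (nat_lit 0xa0205cb))) (.node 1 (.leaf (nat_lit 0xb0203ab)) (.leaf (nat_lit 0x102121f))))) (.node 4 (.node 2 (.node 1 (.leaf (nat_lit 0x202170f)) (.leaf (nat_lit 0x302160d))) (.node 1 (.leaf (nat_lit 0x4021b34)) (.leaf (nat_lit 0x50212e1)))) (.node 2 (.node 1 (.leaf (nat_lit 0x6021ce4)) (.leaf (nat_lit 0x7021c23))) (.node 1 (.leaf (nat_lit 0x9021f76)) (.leaf (nat_lit 0xa021e3f))))))))))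

/-- A part of `orbU1`. -/
def orbU1_1 : Tree := (.node 128 (.node 64 (.node 32 (.node 16 (.node 8 (.node 4 (.node 2 (.node 1 (.leaf (nat_lit 0xb021040)) (.leaf (nat_lit 0x4022dd9))) (.node 1 (.leaf (nat_lit 0x5022b63)) (.leaf (nat_lit 0x60226c5)))) (.node 2 (.node 1 (.leaf (nat_lit 0x70220e2)) (.leaf (nat_lit 0x8022aab))) (.node 1 (.leaf (nat_lit 0x9022062)) (.leaf (nat_lit 0x5023ed5))))) (.node 4 (.node 2 (.node 1 (.leaf (nat_lit 0x702397f)) (.leaf (nat_lit 0x80231c7))) (.node 1 (.leaf (nat_lit 0x9023351)) (.leaf (nat_lit 0xa02373a)))) (.node 2 (.node 1 (.leaf (nat_lit 0xb023158)) (.leaf (nat_lit 0x3024dd3))) (.node 1 (.leaf (nat_lit 0x4024cbb)) (.leaf (nat_lit 0x60245e1)))))) (.node 8 (.node 4 (.node 2 (.node 1 (.leaf (nat_lit 0x7024ce6)) (.leaf (nat_lit 0x9024e46))) (.node 1 (.leaf (nat_lit 0xa024de4)) (.leaf (nat_lit 0xb0244fc)))) (.node 2 (.node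 1 (.leaf (nat_lit 0x702538e)) (.leaf (nat_lit 0xa0253b4))) (.node 1 (.leaf (nat_lit 0xb025138)) (.leaf (nat_lit 0x1026085))))) (.node 4 (.node 2 (.node 1 (.leaf (nat_lit 0x2026a10)) (.leaf (nat_lit 0x302639c))) (.node 1 (.leaf (nat_lit 0x70265e6)) (.leaf (nat_lit 0x802639f)))) (.node 2 (.node 1 (.leaf (nat_lit 0x9026512)) (.leaf (nat_lit 0xa0262af))) (.node 1 (.leaf (nat_lit 0xb026365)) (.leaf (nat_lit 0x10279cf))))))) (.node 16 (.node 8 (.node 4 (.node 2 (.node 1 (.leaf (nat_lit 0x50270a1)) (.leaf (nat_lit 0x9027d39))) (.node 1 (.leaf (nat_lit 0xb02759f)) (.leaf (nat_lit 0x1028913)))) (.node 2 (.node 1 (.leaf (nat_lit 0x20288b6)) (.leaf (nat_lit 0x9028dcd))) (.node 1 (.leaf (nat_lit 0xa028b29)) (.leaf (nat_lit 0xb028f4f))))) (.node 4 (.node 2 (.node 1 (.leaf (nat_lit 0x202993e)) (.leaf (nat_lit 0x3029839))) (.node 1 (.leaf (nat_lit 0x5029fc0)) (.leaf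 (nat_lit 0x7029fcf)))) (.node 2 (.node 1 (.leaf (nat_lit 0x80294cf)) (.leaf (nat_lit 0xb0296c3))) (.node 1 (.leaf (nat_lit 0x202a07a)) (.leaf (nat_lit 0x402a151)))))) (.node 8 (.node 4 (.node 2 (.node 1 (.leaf (nat_lit 0x502abc6)) (.leaf (nat_lit 0x602a597))) (.node 1 (.leaf (nat_lit 0x702afcd)) (.leaf (nat_lit 0x902aeaf)))) (.node 2 (.node 1 (.leaf (nat_lit 0xa02ad9a)) (.leaf (nat_lit 0x702baf3))) (.node 1 (.leaf (nat_lit 0x902b9fc)) (.leaf (nat_lit 0xb02b8bf))))) (.node 4 (.node 2 (.node 1 (.leaf (nat_lit 0x402ccdf)) (.leaf (nat_lit 0x802c4f3))) (.node 1 (.leaf (nat_lit 0xa02c415)) (.leaf (nat_lit 0xb02c6b7)))) (.node 2 (.node 1 (.leaf (nat_lit 0x902d942)) (.leaf (nat_lit 0xa02de12))) (.node 1 (.leaf (nat_lit 0x302e4d7)) (.leaf (nat_lit 0x502eb64)))))))) (.node 32 (.node 16 (.node 8 (.node 4 (.node 2 (.node 1 (.leaf (nat_lit 0x802e0f9)) (.leaf (nat_lit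 0x902e965))) (.node 1 (.leaf (nat_lit 0xa02ee56)) (.leaf (nat_lit 0xb02e5ff)))) (.node 2 (.node 1 (.leaf (nat_lit 0x102f95d)) (.leaf (nat_lit 0x402fb43))) (.node 1 (.leaf (nat_lit 0x502f172)) (.leaf (nat_lit 0x602f566))))) (.node 4 (.node 2 (.node 1 (.leaf (nat_lit 0xb02f970)) (.leaf (nat_lit 0x10302ea))) (.node 1 (.leaf (nat_lit 0x40307aa)) (.leaf (nat_lit 0x8030b68)))) (.node 2 (.node 1 (.leaf (nat_lit 0x9030100)) (.leaf (nat_lit 0xb030567))) (.node 1 (.leaf (nat_lit 0x5031cd7)) (.leaf (nat_lit 0x7031f6a)))))) (.node 8 (.node 4 (.node 2 (.node 1 (.leaf (nat_lit 0x9031dfb)) (.leaf (nat_lit 0xa031ceb))) (.node 1 (.leaf (nat_lit 0xb031a80)) (.leaf (nat_lit 0x7032efa)))) (.node 2 (.node 1 (.leaf (nat_lit 0x8032e7c)) (.leaf (nat_lit 0x903258e))) (.node 1 (.leaf (nat_lit 0xa032935)) (.leaf (nat_lit 0x703307f))))) (.node 4 (.node 2 (.node 1 (.leaf (nat_lit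 0x8033574)) (.leaf (nat_lit 0x9033a5b))) (.node 1 (.leaf (nat_lit 0xb033292)) (.leaf (nat_lit 0x70342e6)))) (.node 2 (.node 1 (.leaf (nat_lit 0xb034f4b)) (.leaf (nat_lit 0x1035e4b))) (.node 1 (.leaf (nat_lit 0x20358d3)) (.leaf (nat_lit 0x3035a2f))))))) (.node 16 (.node 8 (.node 4 (.node 2 (.node 1 (.leaf (nat_lit 0x8035441)) (.leaf (nat_lit 0x90352b6))) (.node 1 (.leaf (nat_lit 0xa03586c)) (.leaf (nat_lit 0xb035993)))) (.node 2 (.node 1 (.leaf (nat_lit 0x4036e88)) (.leaf (nat_lit 0x5036805))) (.node 1 (.leaf (nat_lit 0xb0364bd)) (.leaf (nat_lit 0x203744a))))) (.node 4 (.node 2 (.node 1 (.leaf (nat_lit 0x4037549)) (.leaf (nat_lit 0x503735f))) (.node 1 (.leaf (nat_lit 0x8037945)) (.leaf (nat_lit 0x9037164)))) (.node 2 (.node 1 (.leaf (nat_lit 0xb037646)) (.leaf (nat_lit 0x50388fe))) (.node 1 (.leaf (nat_lit 0x9038ce3)) (.leaf (nat_lit 0xb038f79))))))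 (.node 8 (.node 4 (.node 2 (.node 1 (.leaf (nat_lit 0x10399f4)) (.leaf (nat_lit 0x60390ee))) (.node 1 (.leaf (nat_lit 0x703912a)) (.leaf (nat_lit 0x9039079)))) (.node 2 (.node 1 (.leaf (nat_lit 0xa039403)) (.leaf (nat_lit 0x603ae06))) (.node 1 (.leaf (nat_lit 0x803af5a)) (.leaf (nat_lit 0x903ac70))))) (.node 4 (.node 2 (.node 1 (.leaf (nat_lit 0x603b48f)) (.leaf (nat_lit 0x703bc9c))) (.node 1 (.leaf (nat_lit 0x503c812)) (.leaf (nat_lit 0x803c3ca)))) (.node 2 (.node 1 (.leaf (nat_lit 0xb03c44c)) (.leaf (nat_lit 0x803d6e9))) (.node 1 (.leaf (nat_lit 0x903d863)) (.leaf (nat_lit 0xa03d23a))))))))) (.node 64 (.node 32 (.node 16 (.node 8 (.node 4 (.node 2 (.node 1 (.leaf (nat_lit 0xb03d688)) (.leaf (nat_lit 0xa03e46d))) (.node 1 (.leaf (nat_lit 0xb03e2a9)) (.leaf (nat_lit 0x703fc8d)))) (.node 2 (.node 1 (.leaf (nat_lit 0x903fcca)) (.leaf (nat_lit 0xb03ff13)))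 (.node 1 (.leaf (nat_lit 0x1040954)) (.leaf (nat_lit 0x2040a6e))))) (.node 4 (.node 2 (.node 1 (.leaf (nat_lit 0xa0400a8)) (.leaf (nat_lit 0xb040429))) (.node 1 (.leaf (nat_lit 0x804178d)) (.leaf (nat_lit 0x904140c)))) (.node 2 (.node 1 (.leaf (nat_lit 0xa041e18)) (.leaf (nat_lit 0xb0417d6))) (.node 1 (.leaf (nat_lit 0x7042c57)) (.leaf (nat_lit 0x804211b)))))) (.node 8 (.node 4 (.node 2 (.node 1 (.leaf (nat_lit 0x9042e21)) (.leaf (nat_lit 0xb042bd9))) (.node 1 (.leaf (nat_lit 0x1043f11)) (.leaf (nat_lit 0x2043d1e)))) (.node 2 (.node 1 (.leaf (nat_lit 0x30432ee)) (.leaf (nat_lit 0x40438fa))) (.node 1 (.leaf (nat_lit 0x6043949)) (.leaf (nat_lit 0x70430d8))))) (.node 4 (.node 2 (.node 1 (.leaf (nat_lit 0x8043980)) (.leaf (nat_lit 0x904388f))) (.node 1 (.leaf (nat_lit 0xb0435c8)) (.leaf (nat_lit 0x1044b2b)))) (.node 2 (.node 1 (.leaf (nat_lit 0x3044952))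 (.leaf (nat_lit 0x704419a))) (.node 1 (.leaf (nat_lit 0xb044f9f)) (.leaf (nat_lit 0x8046d3d))))))) (.node 16 (.node 8 (.node 4 (.node 2 (.node 1 (.leaf (nat_lit 0x9046a0c)) (.leaf (nat_lit 0xb0466c6))) (.node 1 (.leaf (nat_lit 0xb047359)) (.leaf (nat_lit 0x20486c7)))) (.node 2 (.node 1 (.leaf (nat_lit 0x3048559)) (.leaf (nat_lit 0x40482be))) (.node 1 (.leaf (nat_lit 0x504817d)) (.leaf (nat_lit 0x7048012))))) (.node 4 (.node 2 (.node 1 (.leaf (nat_lit 0x90488b8)) (.leaf (nat_lit 0xa048177))) (.node 1 (.leaf (nat_lit 0x2049d11)) (.leaf (nat_lit 0x30492e5)))) (.node 2 (.node 1 (.leaf (nat_lit 0x5049aa1)) (.leaf (nat_lit 0x804989a))) (.node 1 (.leaf (nat_lit 0x904988a)) (.leaf (nat_lit 0xa049667)))))) (.node 8 (.node 4 (.node 2 (.node 1 (.leaf (nat_lit 0xb049f0e)) (.leaf (nat_lit 0x704a9aa))) (.node 1 (.leaf (nat_lit 0x804a4b3)) (.leaf (nat_lit 0x904a4f1))))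 (.node 2 (.node 1 (.leaf (nat_lit 0xa04a93b)) (.leaf (nat_lit 0xb04a908))) (.node 1 (.leaf (nat_lit 0xb04b75e)) (.leaf (nat_lit 0x804cb1d))))) (.node 4 (.node 2 (.node 1 (.leaf (nat_lit 0x904ca30)) (.leaf (nat_lit 0xb04cf1c))) (.node 1 (.leaf (nat_lit 0x804d960)) (.leaf (nat_lit 0xb04dae8)))) (.node 2 (.node 1 (.leaf (nat_lit 0x604e603)) (.leaf (nat_lit 0xa04ed2b))) (.node 1 (.leaf (nat_lit 0xb04e70a)) (.leaf (nat_lit 0x604fc78)))))))) (.node 32 (.node 16 (.node 8 (.node 4 (.node 2 (.node 1 (.leaf (nat_lit 0x904fd80)) (.leaf (nat_lit 0xb04fc3a))) (.node 1 (.leaf (nat_lit 0xb050f7e)) (.leaf (nat_lit 0x105150f)))) (.node 2 (.node 1 (.leaf (nat_lit 0x2051110)) (.leaf (nat_lit 0x30512c5))) (.node 1 (.leaf (nat_lit 0x4051d62)) (.leaf (nat_lit 0x5051326))))) (.node 4 (.node 2 (.node 1 (.leaf (nat_lit 0x6051a25)) (.leaf (nat_lit 0x705157a))) (.node 1 (.leaf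 (nat_lit 0x8051254)) (.leaf (nat_lit 0x90514c9)))) (.node 2 (.node 1 (.leaf (nat_lit 0xa0512cf)) (.leaf (nat_lit 0x4052808))) (.node 1 (.leaf (nat_lit 0x50528f5)) (.leaf (nat_lit 0x70527be)))))) (.node 8 (.node 4 (.node 2 (.node 1 (.leaf (nat_lit 0x805252d)) (.leaf (nat_lit 0xb052a51))) (.node 1 (.leaf (nat_lit 0x5053494)) (.leaf (nat_lit 0x9053dad)))) (.node 2 (.node 1 (.leaf (nat_lit 0xb053661)) (.leaf (nat_lit 0xb0545da))) (.node 1 (.leaf (nat_lit 0xb0557ad)) (.leaf (nat_lit 0x2056dd8))))) (.node 4 (.node 2 (.node 1 (.leaf (nat_lit 0x5056715)) (.leaf (nat_lit 0xb056db2))) (.node 1 (.leaf (nat_lit 0x20571ad)) (.leaf (nat_lit 0x305725a)))) (.node 2 (.node 1 (.leaf (nat_lit 0x4057a3a)) (.leaf (nat_lit 0x60572bf))) (.node 1 (.leaf (nat_lit 0x7057a39)) (.leaf (nat_lit 0x80579f3))))))) (.node 16 (.node 8 (.node 4 (.node 2 (.node 1 (.leaf (nat_lit 0x8058fab))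 (.leaf (nat_lit 0xb0585c9))) (.node 1 (.leaf (nat_lit 0xb059509)) (.leaf (nat_lit 0xb05ace5)))) (.node 2 (.node 1 (.leaf (nat_lit 0xa05bf97)) (.leaf (nat_lit 0xb05c62f))) (.node 1 (.leaf (nat_lit 0x505d01e)) (.leaf (nat_lit 0x605dca1))))) (.node 4 (.node 2 (.node 1 (.leaf (nat_lit 0xb05df9e)) (.leaf (nat_lit 0x805e872))) (.node 1 (.leaf (nat_lit 0xb05eef6)) (.leaf (nat_lit 0x305f3b0)))) (.node 2 (.node 1 (.leaf (nat_lit 0x405f7af)) (.leaf (nat_lit 0x505f11f))) (.node 1 (.leaf (nat_lit 0x605fc52)) (.leaf (nat_lit 0x705f63e)))))) (.node 8 (.node 4 (.node 2 (.node 1 (.leaf (nat_lit 0x805ffc6)) (.leaf (nat_lit 0x905f3eb))) (.node 1 (.leaf (nat_lit 0x7060cfd)) (.leaf (nat_lit 0x20616bb)))) (.node 2 (.node 1 (.leaf (nat_lit 0x7061e7a)) (.leaf (nat_lit 0xa06176e))) (.node 1 (.leaf (nat_lit 0xb0616a0)) (.leaf (nat_lit 0x706313f))))) (.node 4 (.node 2 (.node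 1 (.leaf (nat_lit 0x1064840)) (.leaf (nat_lit 0x6064a98))) (.node 1 (.leaf (nat_lit 0x9064a4d)) (.leaf (nat_lit 0xa065689)))) (.node 2 (.node 1 (.leaf (nat_lit 0x7066e2d)) (.leaf (nat_lit 0x806628f))) (.node 1 (.leaf (nat_lit 0xb066195)) (.leaf (nat_lit 0x70672a3))))))))))

/-- A part of `orbU1`. -/
def orbU1_2 : Tree := (.node 128 (.node 64 (.node 32 (.node 16 (.node 8 (.node 4 (.node 2 (.node 1 (.leaf (nat_lit 0x9067943)) (.leaf (nat_lit 0x6068514))) (.node 1 (.leaf (nat_lit 0x7068668)) (.leaf (nat_lit 0x9068472)))) (.node 2 (.node 1 (.leaf (nat_lit 0x70699fd)) (.leaf (nat_lit 0x8069b8e))) (.node 1 (.leaf (nat_lit 0x106a43c)) (.leaf (nat_lit 0x306a6b4))))) (.node 4 (.node 2 (.node 1 (.leaf (nat_lit 0x506a7a1)) (.leaf (nat_lit 0x906a5a9))) (.node 1 (.leaf (nat_lit 0xa06a6a6)) (.leaf (nat_lit 0x106b29d)))) (.node 2 (.node 1 (.leaf (nat_lit 0x206bac1))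 (.leaf (nat_lit 0x406bb58))) (.node 1 (.leaf (nat_lit 0x806b52f)) (.leaf (nat_lit 0x506c487)))))) (.node 8 (.node 4 (.node 2 (.node 1 (.leaf (nat_lit 0x706ce20)) (.leaf (nat_lit 0xb06d751))) (.node 1 (.leaf (nat_lit 0xb071257)) (.leaf (nat_lit 0xa0723da)))) (.node 2 (.node 1 (.leaf (nat_lit 0xb072f7a)) (.leaf (nat_lit 0x107307d))) (.node 1 (.leaf (nat_lit 0xb073ea7)) (.leaf (nat_lit 0x807451e))))) (.node 4 (.node 2 (.node 1 (.leaf (nat_lit 0x707543f)) (.leaf (nat_lit 0x8075f0a))) (.node 1 (.leaf (nat_lit 0xa076c35)) (.leaf (nat_lit 0x6078353)))) (.node 2 (.node 1 (.leaf (nat_lit 0x907a35a)) (.leaf (nat_lit 0x507baaf))) (.node 1 (.leaf (nat_lit 0x807efa9)) (.leaf (nat_lit 0xb07ed58))))))) (.node 16 (.node 8 (.node 4 (.node 2 (.node 1 (.leaf (nat_lit 0xb0805c5)) (.leaf (nat_lit 0x8081783))) (.node 1 (.leaf (nat_lit 0x8083b55)) (.leaf (nat_lit 0x9083bc9))))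 (.node 2 (.node 1 (.leaf (nat_lit 0xb083810)) (.leaf (nat_lit 0x5084432))) (.node 1 (.leaf (nat_lit 0x5085eca)) (.leaf (nat_lit 0x7086a09))))) (.node 4 (.node 2 (.node 1 (.leaf (nat_lit 0x6087784)) (.leaf (nat_lit 0x80880c0))) (.node 1 (.leaf (nat_lit 0x8089740)) (.leaf (nat_lit 0xb089a54)))) (.node 2 (.node 1 (.leaf (nat_lit 0xb08a214)) (.leaf (nat_lit 0xb08bae0))) (.node 1 (.leaf (nat_lit 0xb08cc74)) (.leaf (nat_lit 0x808de63)))))) (.node 8 (.node 4 (.node 2 (.node 1 (.leaf (nat_lit 0x808f548)) (.leaf (nat_lit 0x908f34d))) (.node 1 (.leaf (nat_lit 0xb08f0b9)) (.leaf (nat_lit 0x7091bdc)))) (.node 2 (.node 1 (.leaf (nat_lit 0xb092771)) (.leaf (nat_lit 0x8093aa5))) (.node 1 (.leaf (nat_lit 0xa093a3f)) (.leaf (nat_lit 0xb095c2e))))) (.node 4 (.node 2 (.node 1 (.leaf (nat_lit 0x1098265)) (.leaf (nat_lit 0x8098f3e))) (.node 1 (.leaf (nat_lit 0x9098014))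 (.leaf (nat_lit 0xa09850b)))) (.node 2 (.node 1 (.leaf (nat_lit 0x5099b87)) (.leaf (nat_lit 0xb099e23))) (.node 1 (.leaf (nat_lit 0xb09aa4f)) (.leaf (nat_lit 0xb09b076)))))))) (.node 32 (.node 16 (.node 8 (.node 4 (.node 2 (.node 1 (.leaf (nat_lit 0x409c4e8)) (.leaf (nat_lit 0x709c3fc))) (.node 1 (.leaf (nat_lit 0x809c11a)) (.leaf (nat_lit 0xb09d714)))) (.node 2 (.node 1 (.leaf (nat_lit 0xb09f003)) (.leaf (nat_lit 0xb0a1547))) (.node 1 (.leaf (nat_lit 0x60a2438)) (.leaf (nat_lit 0xb0a240b))))) (.node 4 (.node 2 (.node 1 (.leaf (nat_lit 0xb0a3390)) (.leaf (nat_lit 0x40a4d15))) (.node 1 (.leaf (nat_lit 0x50a4eb6)) (.leaf (nat_lit 0x80a4b4a)))) (.node 2 (.node 1 (.leaf (nat_lit 0x90a4fc5)) (.leaf (nat_lit 0x70a5421))) (.node 1 (.leaf (nat_lit 0xb0a6492)) (.leaf (nat_lit 0x70aa13d)))))) (.node 8 (.node 4 (.node 2 (.node 1 (.leaf (nat_lit 0x90aae8a)) (.leaf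 (nat_lit 0x70ab425))) (.node 1 (.leaf (nat_lit 0x10aca37)) (.leaf (nat_lit 0x90ac684)))) (.node 2 (.node 1 (.leaf (nat_lit 0x10adf27)) (.leaf (nat_lit 0x80ad36e))) (.node 1 (.leaf (nat_lit 0x50ae623)) (.leaf (nat_lit 0x70aef29))))) (.node 4 (.node 2 (.node 1 (.leaf (nat_lit 0x40b0ccb)) (.leaf (nat_lit 0x60b0921))) (.node 1 (.leaf (nat_lit 0x90b1a59)) (.leaf (nat_lit 0xb0b1067)))) (.node 2 (.node 1 (.leaf (nat_lit 0x60b2912)) (.leaf (nat_lit 0x70b253c))) (.node 1 (.leaf (nat_lit 0x80b200a)) (.leaf (nat_lit 0x90b2220))))))) (.node 16 (.node 8 (.node 4 (.node 2 (.node 1 (.leaf (nat_lit 0xb0b2758)) (.leaf (nat_lit 0x70b3039))) (.node 1 (.leaf (nat_lit 0xb0b3a3b)) (.leaf (nat_lit 0x10b482b)))) (.node 2 (.node 1 (.leaf (nat_lit 0x20b45d1)) (.leaf (nat_lit 0x90b42b0))) (.node 1 (.leaf (nat_lit 0xa0b4e3c)) (.leaf (nat_lit 0xb0b4f17))))) (.node 4 (.node 2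 (.node 1 (.leaf (nat_lit 0x10b5459)) (.leaf (nat_lit 0x20b5cad))) (.node 1 (.leaf (nat_lit 0x50b5f46)) (.leaf (nat_lit 0x60b58df)))) (.node 2 (.node 1 (.leaf (nat_lit 0xa0b5007)) (.leaf (nat_lit 0xb0b5a94))) (.node 1 (.leaf (nat_lit 0x10b6b31)) (.leaf (nat_lit 0x20b655f)))))) (.node 8 (.node 4 (.node 2 (.node 1 (.leaf (nat_lit 0x80b64e7)) (.leaf (nat_lit 0xa0b6a34))) (.node 1 (.leaf (nat_lit 0xb0b66da)) (.leaf (nat_lit 0x30b70d0)))) (.node 2 (.node 1 (.leaf (nat_lit 0x50b7b7a)) (.leaf (nat_lit 0x70b7877))) (.node 1 (.leaf (nat_lit 0x80b7f69)) (.leaf (nat_lit 0xb0b7d3a))))) (.node 4 (.node 2 (.node 1 (.leaf (nat_lit 0x40b8e1c)) (.leaf (nat_lit 0x60b82a1))) (.node 1 (.leaf (nat_lit 0x70b8423)) (.leaf (nat_lit 0x90b8508)))) (.node 2 (.node 1 (.leaf (nat_lit 0x60b9cde)) (.leaf (nat_lit 0x70b9e25))) (.node 1 (.leaf (nat_lit 0x80b9401)) (.leaf (nat_lit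 0x90b9f12))))))))) (.node 64 (.node 32 (.node 16 (.node 8 (.node 4 (.node 2 (.node 1 (.leaf (nat_lit 0xb0b99b7)) (.leaf (nat_lit 0x80ba047))) (.node 1 (.leaf (nat_lit 0x90ba876)) (.leaf (nat_lit 0xb0baec4)))) (.node 2 (.node 1 (.leaf (nat_lit 0x80bbc1a)) (.leaf (nat_lit 0x90bb8de))) (.node 1 (.leaf (nat_lit 0x10bc530)) (.leaf (nat_lit 0x80bc333))))) (.node 4 (.node 2 (.node 1 (.leaf (nat_lit 0x90bc417)) (.leaf (nat_lit 0xa0bc901))) (.node 1 (.leaf (nat_lit 0xb0bcf0d)) (.leaf (nat_lit 0x50bda08)))) (.node 2 (.node 1 (.leaf (nat_lit 0xb0bd2c7)) (.leaf (nat_lit 0x10be10b))) (.node 1 (.leaf (nat_lit 0x80beb19)) (.leaf (nat_lit 0x90be4c1)))))) (.node 8 (.node 4 (.node 2 (.node 1 (.leaf (nat_lit 0xb0be608)) (.leaf (nat_lit 0x50bf3f9))) (.node 1 (.leaf (nat_lit 0x90bf74c)) (.leaf (nat_lit 0xa0bfe6c)))) (.node 2 (.node 1 (.leaf (nat_lit 0xb0bfaff)) (.leaf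 (nat_lit 0x40c0d1c))) (.node 1 (.leaf (nat_lit 0x70c06d0)) (.leaf (nat_lit 0x90c0ba1))))) (.node 4 (.node 2 (.node 1 (.leaf (nat_lit 0xa0c0a3d)) (.leaf (nat_lit 0xb0c0731))) (.node 1 (.leaf (nat_lit 0x60c16d3)) (.leaf (nat_lit 0x80c1e60)))) (.node 2 (.node 1 (.leaf (nat_lit 0xb0c13b2)) (.leaf (nat_lit 0xb0c2de3))) (.node 1 (.leaf (nat_lit 0x20c335b)) (.leaf (nat_lit 0x30c37d7))))))) (.node 16 (.node 8 (.node 4 (.node 2 (.node 1 (.leaf (nat_lit 0x50c3d01)) (.leaf (nat_lit 0x80c395b))) (.node 1 (.leaf (nat_lit 0x90c3cb9)) (.leaf (nat_lit 0xa0c30fd)))) (.node 2 (.node 1 (.leaf (nat_lit 0xb0c3e47)) (.leaf (nat_lit 0x50c43ed))) (.node 1 (.leaf (nat_lit 0xb0c48e9)) (.leaf (nat_lit 0x80c5f89))))) (.node 4 (.node 2 (.node 1 (.leaf (nat_lit 0x90c5be4)) (.leaf (nat_lit 0xb0c5361))) (.node 1 (.leaf (nat_lit 0x30c6d73)) (.leaf (nat_lit 0x50c6659)))) (.node 2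 (.node 1 (.leaf (nat_lit 0x70c6a24)) (.leaf (nat_lit 0xb0c674b))) (.node 1 (.leaf (nat_lit 0x60c7f2a)) (.leaf (nat_lit 0x70c7b86)))))) (.node 8 (.node 4 (.node 2 (.node 1 (.leaf (nat_lit 0x90c7f10)) (.leaf (nat_lit 0xa0c7cb7))) (.node 1 (.leaf (nat_lit 0x60c8380)) (.leaf (nat_lit 0xa0c87ab)))) (.node 2 (.node 1 (.leaf (nat_lit 0x60c9402)) (.leaf (nat_lit 0x80c977d))) (.node 1 (.leaf (nat_lit 0x90c9521)) (.leaf (nat_lit 0x60ca8f1))))) (.node 4 (.node 2 (.node 1 (.leaf (nat_lit 0x80caddc)) (.leaf (nat_lit 0xb0ca18d))) (.node 1 (.leaf (nat_lit 0x80cbb46)) (.leaf (nat_lit 0xb0cb8c2)))) (.node 2 (.node 1 (.leaf (nat_lit 0x90cc7b8)) (.leaf (nat_lit 0x80cdaf2))) (.node 1 (.leaf (nat_lit 0x90cd191)) (.leaf (nat_lit 0xb0cddda)))))))) (.node 32 (.node 16 (.node 8 (.node 4 (.node 2 (.node 1 (.leaf (nat_lit 0x10ce617)) (.leaf (nat_lit 0xa0ce307))) (.node 1 (.leaf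 (nat_lit 0xb0cee32)) (.leaf (nat_lit 0x80cf71e)))) (.node 2 (.node 1 (.leaf (nat_lit 0x90cf1d0)) (.leaf (nat_lit 0xa0cf7ca))) (.node 1 (.leaf (nat_lit 0xb0cffc2)) (.leaf (nat_lit 0x80d026e))))) (.node 4 (.node 2 (.node 1 (.leaf (nat_lit 0x90d0775)) (.leaf (nat_lit 0xb0d0bd0))) (.node 1 (.leaf (nat_lit 0x10d1595)) (.leaf (nat_lit 0x20d1d10)))) (.node 2 (.node 1 (.leaf (nat_lit 0x30d14b9)) (.leaf (nat_lit 0x40d156d))) (.node 1 (.leaf (nat_lit 0x50d126a)) (.leaf (nat_lit 0x60d1318)))))) (.node 8 (.node 4 (.node 2 (.node 1 (.leaf (nat_lit 0x70d10bb)) (.leaf (nat_lit 0x80d1a2e))) (.node 1 (.leaf (nat_lit 0x90d123d)) (.leaf (nat_lit 0xa0d10b2)))) (.node 2 (.node 1 (.leaf (nat_lit 0x50d2cc9)) (.leaf (nat_lit 0x70d2ef5))) (.node 1 (.leaf (nat_lit 0xa0d2013)) (.leaf (nat_lit 0xb0d23e5))))) (.node 4 (.node 2 (.node 1 (.leaf (nat_lit 0x90d43c3)) (.leaf (nat_lit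 0xa0d466b))) (.node 1 (.leaf (nat_lit 0xb0d46b1)) (.leaf (nat_lit 0x30d5713)))) (.node 2 (.node 1 (.leaf (nat_lit 0x50d5874)) (.leaf (nat_lit 0x70d53b8))) (.node 1 (.leaf (nat_lit 0xb0d57b2)) (.leaf (nat_lit 0x20d63a2))))))) (.node 16 (.node 8 (.node 4 (.node 2 (.node 1 (.leaf (nat_lit 0x30d6ea2)) (.leaf (nat_lit 0x40d6223))) (.node 1 (.leaf (nat_lit 0x50d6005)) (.leaf (nat_lit 0x70d6a27)))) (.node 2 (.node 1 (.leaf (nat_lit 0x30d7113)) (.leaf (nat_lit 0x90d7861))) (.node 1 (.leaf (nat_lit 0xa0d7726)) (.leaf (nat_lit 0xb0d7255))))) (.node 4 (.node 2 (.node 1 (.leaf (nat_lit 0x90d8088)) (.leaf (nat_lit 0xb0d8be0))) (.node 1 (.leaf (nat_lit 0xa0d93cd)) (.leaf (nat_lit 0xb0d9399)))) (.node 2 (.node 1 (.leaf (nat_lit 0xb0da7c5)) (.leaf (nat_lit 0x80dbd0e))) (.node 1 (.leaf (nat_lit 0xb0db179)) (.leaf (nat_lit 0x50dcb20)))))) (.node 8 (.node 4 (.node 2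 (.node 1 (.leaf (nat_lit 0xa0dcfcc)) (.leaf (nat_lit 0xb0dc36b))) (.node 1 (.leaf (nat_lit 0x50de6d5)) (.leaf (nat_lit 0xb0de452)))) (.node 2 (.node 1 (.leaf (nat_lit 0x10df4eb)) (.leaf (nat_lit 0x20df43d))) (.node 1 (.leaf (nat_lit 0x30df8f0)) (.leaf (nat_lit 0x40df8ef))))) (.node 4 (.node 2 (.node 1 (.leaf (nat_lit 0x50df867)) (.leaf (nat_lit 0x60dfa0f))) (.node 1 (.leaf (nat_lit 0x70df3b5)) (.leaf (nat_lit 0x80dfa23)))) (.node 2 (.node 1 (.leaf (nat_lit 0xa0df7bb)) (.leaf (nat_lit 0x50e0e0e))) (.node 1 (.leaf (nat_lit 0x70e0026)) (.leaf (nat_lit 0xb0e0219))))))))))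

/-- A part of `orbU1`. -/
def orbU1_3 : Tree := (.node 128 (.node 64 (.node 32 (.node 16 (.node 8 (.node 4 (.node 2 (.node 1 (.leaf (nat_lit 0x70e1465)) (.leaf (nat_lit 0xb0e1eab))) (.node 1 (.leaf (nat_lit 0x50e270d)) (.leaf (nat_lit 0xb0e268d)))) (.node 2 (.node 1 (.leaf (nat_lit 0xb0e3b28)) (.leaf (nat_lit 0xb0e572c))) (.node 1 (.leaf (nat_lit 0x20e641b)) (.leaf (nat_lit 0xb0e6bf6))))) (.node 4 (.node 2 (.node 1 (.leaf (nat_lit 0x20e7bbd)) (.leaf (nat_lit 0x30e747f))) (.node 1 (.leaf (nat_lit 0x50e762d)) (.leaf (nat_lit 0x70e70bc)))) (.node 2 (.node 1 (.leaf (nat_lit 0x80e7ab8)) (.leaf (nat_lit 0x20e8479))) (.node 1 (.leaf (nat_lit 0x80e85e8)) (.leaf (nat_lit 0xb0e8866)))))) (.node 8 (.node 4 (.node 2 (.node 1 (.leaf (nat_lit 0x80e941d)) (.leaf (nat_lit 0xb0e9f3a))) (.node 1 (.leaf (nat_lit 0xb0ea286)) (.leaf (nat_lit 0xa0eb281)))) (.node 2 (.node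 1 (.leaf (nat_lit 0xb0ebdae)) (.leaf (nat_lit 0xb0ecd7a))) (.node 1 (.leaf (nat_lit 0xb0ed542)) (.leaf (nat_lit 0xb0ee500))))) (.node 4 (.node 2 (.node 1 (.leaf (nat_lit 0x10efb62)) (.leaf (nat_lit 0x30ef541))) (.node 1 (.leaf (nat_lit 0x50ef349)) (.leaf (nat_lit 0x90efe89)))) (.node 2 (.node 1 (.leaf (nat_lit 0x70f02f4)) (.leaf (nat_lit 0x50f1f88))) (.node 1 (.leaf (nat_lit 0x70f168b)) (.leaf (nat_lit 0x10f2ca5))))))) (.node 16 (.node 8 (.node 4 (.node 2 (.node 1 (.leaf (nat_lit 0x20f2602)) (.leaf (nat_lit 0x30f21f5))) (.node 1 (.leaf (nat_lit 0x40f2ebd)) (.leaf (nat_lit 0xb0f2abe)))) (.node 2 (.node 1 (.leaf (nat_lit 0x30f3c76)) (.leaf (nat_lit 0x70f3130))) (.node 1 (.leaf (nat_lit 0xb0f3b72)) (.leaf (nat_lit 0xb0f4f3d))))) (.node 4 (.node 2 (.node 1 (.leaf (nat_lit 0x20f657b)) (.leaf (nat_lit 0x70f6e24))) (.node 1 (.leaf (nat_lit 0x80f66ca)) (.leaf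 (nat_lit 0xa0f792e)))) (.node 2 (.node 1 (.leaf (nat_lit 0x70f8f74)) (.leaf (nat_lit 0x70f9aae))) (.node 1 (.leaf (nat_lit 0x90f9777)) (.leaf (nat_lit 0x70fa06f)))))) (.node 8 (.node 4 (.node 2 (.node 1 (.leaf (nat_lit 0x90fa7a0)) (.leaf (nat_lit 0x70fbb09))) (.node 1 (.leaf (nat_lit 0xa0fbb51)) (.leaf (nat_lit 0x70fcea8)))) (.node 2 (.node 1 (.leaf (nat_lit 0x10fdf15)) (.leaf (nat_lit 0x90fd70c))) (.node 1 (.leaf (nat_lit 0xa0fdea9)) (.leaf (nat_lit 0x10fea7a))))) (.node 4 (.node 2 (.node 1 (.leaf (nat_lit 0x20feae1)) (.leaf (nat_lit 0x80fe694))) (.node 1 (.leaf (nat_lit 0x10ff644)) (.leaf (nat_lit 0x20ff060)))) (.node 2 (.node 1 (.leaf (nat_lit 0x50fffd1)) (.leaf (nat_lit 0x90ff6bc))) (.node 1 (.leaf (nat_lit 0x71002e2)) (.leaf (nat_lit 0xb100c7c)))))))) (.node 32 (.node 16 (.node 8 (.node 4 (.node 2 (.node 1 (.leaf (nat_lit 0x710101a)) (.leaf (nat_lit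 0x9101ce1))) (.node 1 (.leaf (nat_lit 0x510558a)) (.leaf (nat_lit 0xb106558)))) (.node 2 (.node 1 (.leaf (nat_lit 0x8108f7d)) (.leaf (nat_lit 0x5109cf9))) (.node 1 (.leaf (nat_lit 0x810a8d8)) (.leaf (nat_lit 0x910aa56))))) (.node 4 (.node 2 (.node 1 (.leaf (nat_lit 0xb10aced)) (.leaf (nat_lit 0x510bcc5))) (.node 1 (.leaf (nat_lit 0x710c30b)) (.leaf (nat_lit 0xa10cc42)))) (.node 2 (.node 1 (.leaf (nat_lit 0xb10ee7f)) (.leaf (nat_lit 0xb10fe31))) (.node 1 (.leaf (nat_lit 0xb1119b2)) (.leaf (nat_lit 0x81131d7)))))) (.node 8 (.node 4 (.node 2 (.node 1 (.leaf (nat_lit 0xa113d0d)) (.leaf (nat_lit 0xb1146cc))) (.node 1 (.leaf (nat_lit 0x511660f)) (.leaf (nat_lit 0x7116c65)))) (.node 2 (.node 1 (.leaf (nat_lit 0x811737d)) (.leaf (nat_lit 0x911790d))) (.node 1 (.leaf (nat_lit 0xa117f43)) (.leaf (nat_lit 0xb117369))))) (.node 4 (.node 2 (.node 1 (.leaf (nat_lit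 0x8118754)) (.leaf (nat_lit 0xa119708))) (.node 1 (.leaf (nat_lit 0xb119c32)) (.leaf (nat_lit 0xb11ba70)))) (.node 2 (.node 1 (.leaf (nat_lit 0x911c888)) (.leaf (nat_lit 0xb11df9d))) (.node 1 (.leaf (nat_lit 0x911ea0d)) (.leaf (nat_lit 0x711f992))))))) (.node 16 (.node 8 (.node 4 (.node 2 (.node 1 (.leaf (nat_lit 0xb120495)) (.leaf (nat_lit 0x5122061))) (.node 1 (.leaf (nat_lit 0x6122e80)) (.leaf (nat_lit 0x712209a)))) (.node 2 (.node 1 (.leaf (nat_lit 0x8122ddb)) (.leaf (nat_lit 0x91228e0))) (.node 1 (.leaf (nat_lit 0x8123889)) (.leaf (nat_lit 0xb1238c1))))) (.node 4 (.node 2 (.node 1 (.leaf (nat_lit 0x3127bc7)) (.leaf (nat_lit 0x5127fa0))) (.node 1 (.leaf (nat_lit 0x81274b4)) (.leaf (nat_lit 0x9127e44)))) (.node 2 (.node 1 (.leaf (nat_lit 0x7128f16)) (.leaf (nat_lit 0xb12b6de))) (.node 1 (.leaf (nat_lit 0xb12cf3b)) (.leaf (nat_lit 0x412d959))))))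 (.node 8 (.node 4 (.node 2 (.node 1 (.leaf (nat_lit 0x712dbb1)) (.leaf (nat_lit 0x712e264))) (.node 1 (.leaf (nat_lit 0x712f26f)) (.leaf (nat_lit 0x71302ad)))) (.node 2 (.node 1 (.leaf (nat_lit 0x7131927)) (.leaf (nat_lit 0x91326fc))) (.node 1 (.leaf (nat_lit 0xb132a2a)) (.leaf (nat_lit 0x1133539))))) (.node 4 (.node 2 (.node 1 (.leaf (nat_lit 0x8133e17)) (.leaf (nat_lit 0x7134ad9))) (.node 1 (.leaf (nat_lit 0x91358db)) (.leaf (nat_lit 0x91360af)))) (.node 2 (.node 1 (.leaf (nat_lit 0xb1369f5)) (.leaf (nat_lit 0x71370c3))) (.node 1 (.leaf (nat_lit 0x91370de)) (.leaf (nat_lit 0xb1395b2))))))))) (.node 64 (.node 32 (.node 16 (.node 8 (.node 4 (.node 2 (.node 1 (.leaf (nat_lit 0x813bc10)) (.leaf (nat_lit 0x913bd3f))) (.node 1 (.leaf (nat_lit 0x713dc5c)) (.leaf (nat_lit 0xb13f722)))) (.node 2 (.node 1 (.leaf (nat_lit 0xb140fce)) (.leaf (nat_lit 0xb142a72)))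 (.node 1 (.leaf (nat_lit 0x114356e)) (.leaf (nat_lit 0x7143ba0))))) (.node 4 (.node 2 (.node 1 (.leaf (nat_lit 0x5148325)) (.leaf (nat_lit 0xb14959a))) (.node 1 (.leaf (nat_lit 0x514d50e)) (.leaf (nat_lit 0x814d50a)))) (.node 2 (.node 1 (.leaf (nat_lit 0x914df7b)) (.leaf (nat_lit 0xb14e2f0))) (.node 1 (.leaf (nat_lit 0x7152a26)) (.leaf (nat_lit 0x5153304)))))) (.node 8 (.node 4 (.node 2 (.node 1 (.leaf (nat_lit 0xb1584df)) (.leaf (nat_lit 0x815a3e7))) (.node 1 (.leaf (nat_lit 0x715ca42)) (.leaf (nat_lit 0xb15f3d2)))) (.node 2 (.node 1 (.leaf (nat_lit 0xb160860)) (.leaf (nat_lit 0xb1625b3))) (.node 1 (.leaf (nat_lit 0x61631f4)) (.leaf (nat_lit 0xa1639a5))))) (.node 4 (.node 2 (.node 1 (.leaf (nat_lit 0xb164747)) (.leaf (nat_lit 0xb1670fb))) (.node 1 (.leaf (nat_lit 0x516c125)) (.leaf (nat_lit 0x916c0f7)))) (.node 2 (.node 1 (.leaf (nat_lit 0xa16c540))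 (.leaf (nat_lit 0x5172ca7))) (.node 1 (.leaf (nat_lit 0x8173809)) (.leaf (nat_lit 0x7174d66))))))) (.node 16 (.node 8 (.node 4 (.node 2 (.node 1 (.leaf (nat_lit 0x817ca35)) (.leaf (nat_lit 0xb17f074))) (.node 1 (.leaf (nat_lit 0x8180be9)) (.leaf (nat_lit 0xb181e13)))) (.node 2 (.node 1 (.leaf (nat_lit 0x818262e)) (.leaf (nat_lit 0xb184afc))) (.node 1 (.leaf (nat_lit 0xb1866d4)) (.leaf (nat_lit 0xb187bde))))) (.node 4 (.node 2 (.node 1 (.leaf (nat_lit 0x4189899)) (.leaf (nat_lit 0xa18995c))) (.node 1 (.leaf (nat_lit 0xb18ae6b)) (.leaf (nat_lit 0x818d04b)))) (.node 2 (.node 1 (.leaf (nat_lit 0x8193305)) (.leaf (nat_lit 0x81941bd))) (.node 1 (.leaf (nat_lit 0x8195f28)) (.leaf (nat_lit 0x81967cb)))))) (.node 8 (.node 4 (.node 2 (.node 1 (.leaf (nat_lit 0x8197f47)) (.leaf (nat_lit 0x9199e42))) (.node 1 (.leaf (nat_lit 0xb19bd7d)) (.leaf (nat_lit 0xb1a097d))))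 (.node 2 (.node 1 (.leaf (nat_lit 0x91a15c7)) (.leaf (nat_lit 0x71a2b5a))) (.node 1 (.leaf (nat_lit 0x81a8929)) (.leaf (nat_lit 0xb1aa31b))))) (.node 4 (.node 2 (.node 1 (.leaf (nat_lit 0x81b0869)) (.leaf (nat_lit 0xb1b2a31))) (.node 1 (.leaf (nat_lit 0x81b5658)) (.leaf (nat_lit 0x31c1528)))) (.node 2 (.node 1 (.leaf (nat_lit 0x91c1f50)) (.leaf (nat_lit 0x71efee0))) (.node 1 (.leaf (nat_lit 0xb25ac9d)) (.leaf (nat_lit 0x725b2bc)))))))) (.node 32 (.node 16 (.node 8 (.node 4 (.node 2 (.node 1 (.leaf (nat_lit 0xb25ddeb)) (.leaf (nat_lit 0xb25eb8b))) (.node 1 (.leaf (nat_lit 0xb25fd3e)) (.leaf (nat_lit 0xb26109c)))) (.node 2 (.node 1 (.leaf (nat_lit 0x926479b)) (.leaf (nat_lit 0xa26498f))) (.node 1 (.leaf (nat_lit 0x72671f2)) (.leaf (nat_lit 0x8267c6d))))) (.node 4 (.node 2 (.node 1 (.leaf (nat_lit 0xb26a8f9)) (.leaf (nat_lit 0x726da2b))) (.node 1 (.leaf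 (nat_lit 0x127272d)) (.leaf (nat_lit 0x5272e11)))) (.node 2 (.node 1 (.leaf (nat_lit 0xb275aba)) (.leaf (nat_lit 0x72772d1))) (.node 1 (.leaf (nat_lit 0x7278320)) (.leaf (nat_lit 0x7279184)))))) (.node 8 (.node 4 (.node 2 (.node 1 (.leaf (nat_lit 0x927a922)) (.leaf (nat_lit 0x827bf41))) (.node 1 (.leaf (nat_lit 0x827df95)) (.leaf (nat_lit 0xb27f2c8)))) (.node 2 (.node 1 (.leaf (nat_lit 0x7280a40)) (.leaf (nat_lit 0x828393d))) (.node 1 (.leaf (nat_lit 0xa283b9a)) (.leaf (nat_lit 0xb287c06))))) (.node 4 (.node 2 (.node 1 (.leaf (nat_lit 0x128a1c6)) (.leaf (nat_lit 0xb28b660))) (.node 1 (.leaf (nat_lit 0xb28dde0)) (.leaf (nat_lit 0x1290004)))) (.node 2 (.node 1 (.leaf (nat_lit 0x5290de5)) (.leaf (nat_lit 0x8290c04))) (.node 1 (.leaf (nat_lit 0x7294009)) (.leaf (nat_lit 0x729578b))))))) (.node 16 (.node 8 (.node 4 (.node 2 (.node 1 (.leaf (nat_lit 0x1296f42))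 (.leaf (nat_lit 0x5296b8a))) (.node 1 (.leaf (nat_lit 0x7298e3d)) (.leaf (nat_lit 0xb29bc0d)))) (.node 2 (.node 1 (.leaf (nat_lit 0x829c87a)) (.leaf (nat_lit 0x929c7cf))) (.node 1 (.leaf (nat_lit 0xb29feb8)) (.leaf (nat_lit 0x42a4b74))))) (.node 4 (.node 2 (.node 1 (.leaf (nat_lit 0x52a9cf7)) (.leaf (nat_lit 0x72aac5e))) (.node 1 (.leaf (nat_lit 0x82b015b)) (.leaf (nat_lit 0xb2b8bdd)))) (.node 2 (.node 1 (.leaf (nat_lit 0x82b9ef8)) (.leaf (nat_lit 0x82bb190))) (.node 1 (.leaf (nat_lit 0xb2bd1c4)) (.leaf (nat_lit 0xb2be314)))))) (.node 8 (.node 4 (.node 2 (.node 1 (.leaf (nat_lit 0x42c2306)) (.leaf (nat_lit 0xa2c25c3))) (.node 1 (.leaf (nat_lit 0xb2c3e7b)) (.leaf (nat_lit 0xa2c6338)))) (.node 2 (.node 1 (.leaf (nat_lit 0x82cac24)) (.leaf (nat_lit 0x82ce016))) (.node 1 (.leaf (nat_lit 0x82d0802)) (.leaf (nat_lit 0x62d1e83))))) (.node 4 (.node 2 (.node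 1 (.leaf (nat_lit 0x92d29cb)) (.leaf (nat_lit 0x92d3a41))) (.node 1 (.leaf (nat_lit 0x92dac1e)) (.leaf (nat_lit 0xb2ed6cb)))) (.node 2 (.node 1 (.leaf (nat_lit 0x82eeb69)) (.leaf (nat_lit 0xb2f0637))) (.node 1 (.leaf (nat_lit 0x62f1d79)) (.leaf (nat_lit 0x72f15d3))))))))))

/-- An orbit. -/
def orbU1 : Tree := (.node 512 (.node 256 orbU1_0 orbU1_1) (.node 256 orbU1_2 orbU1_3))

/-- A part of `orbU2`. -/
def orbU2_0 : Tree := (.node 128 (.node 64 (.node 32 (.node 16 (.node 8 (.node 4 (.node 2 (.node 1 (.leaf (nat_lit 0xa38)) (.leaf (nat_lit 0x66f))) (.node 1 (.leaf (nat_lit 0x100069f)) (.leaf (nat_lit 0x2000917)))) (.node 2 (.node 1 (.leaf (nat_lit 0x3000458)) (.leaf (nat_lit 0x5000632))) (.node 1 (.leaf (nat_lit 0x6000b4d)) (.leaf (nat_lit 0x700093f))))) (.node 4 (.node 2 (.node 1 (.leaf (nat_lit 0x8000fa5)) (.leaf (nat_lit 0x9000733))) (.node 1 (.leaf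 (nat_lit 0xa0005db)) (.leaf (nat_lit 0xb0004f5)))) (.node 2 (.node 1 (.leaf (nat_lit 0x100171f)) (.leaf (nat_lit 0x20015e5))) (.node 1 (.leaf (nat_lit 0x3001711)) (.leaf (nat_lit 0x5001ba2)))))) (.node 8 (.node 4 (.node 2 (.node 1 (.leaf (nat_lit 0x6001b1a)) (.leaf (nat_lit 0x7001aaa))) (.node 1 (.leaf (nat_lit 0x80019d6)) (.leaf (nat_lit 0x9001c99)))) (.node 2 (.node 1 (.leaf (nat_lit 0xa001efb)) (.leaf (nat_lit 0xb0014cd))) (.node 1 (.leaf (nat_lit 0x20022b2)) (.leaf (nat_lit 0x3002b78))))) (.node 4 (.node 2 (.node 1 (.leaf (nat_lit 0x5002faa)) (.leaf (nat_lit 0x60028d9))) (.node 1 (.leaf (nat_lit 0x7002a82)) (.leaf (nat_lit 0x80026cf)))) (.node 2 (.node 1 (.leaf (nat_lit 0x900247b)) (.leaf (nat_lit 0xb002139))) (.node 1 (.leaf (nat_lit 0x3003ebf)) (.leaf (nat_lit 0x50035fd))))))) (.node 16 (.node 8 (.node 4 (.node 2 (.node 1 (.leaf (nat_lit 0x60039c7))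 (.leaf (nat_lit 0x7003759))) (.node 1 (.leaf (nat_lit 0x8003587)) (.leaf (nat_lit 0x9003589)))) (.node 2 (.node 1 (.leaf (nat_lit 0xa003126)) (.leaf (nat_lit 0xb00305a))) (.node 1 (.leaf (nat_lit 0x500412d)) (.leaf (nat_lit 0x6004ba6))))) (.node 4 (.node 2 (.node 1 (.leaf (nat_lit 0x70048c3)) (.leaf (nat_lit 0x80049f1))) (.node 1 (.leaf (nat_lit 0x9004b3b)) (.leaf (nat_lit 0xb00407c)))) (.node 2 (.node 1 (.leaf (nat_lit 0x1005c2f)) (.leaf (nat_lit 0x30052b1))) (.node 1 (.leaf (nat_lit 0x40053c6)) (.leaf (nat_lit 0x6005350)))))) (.node 8 (.node 4 (.node 2 (.node 1 (.leaf (nat_lit 0x7005825)) (.leaf (nat_lit 0x800512c))) (.node 1 (.leaf (nat_lit 0x9005e86)) (.leaf (nat_lit 0xa0059b3)))) (.node 2 (.node 1 (.leaf (nat_lit 0xb005fd3)) (.leaf (nat_lit 0x70069ce))) (.node 1 (.leaf (nat_lit 0x800662a)) (.leaf (nat_lit 0x9006ac5))))) (.node 4 (.node 2 (.node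 1 (.leaf (nat_lit 0xa006105)) (.leaf (nat_lit 0xb006881))) (.node 1 (.leaf (nat_lit 0x1007ef7)) (.leaf (nat_lit 0x20076d1)))) (.node 2 (.node 1 (.leaf (nat_lit 0x3007a49)) (.leaf (nat_lit 0x5007a0e))) (.node 1 (.leaf (nat_lit 0x80071b2)) (.leaf (nat_lit 0x9007c33)))))))) (.node 32 (.node 16 (.node 8 (.node 4 (.node 2 (.node 1 (.leaf (nat_lit 0xa007c02)) (.leaf (nat_lit 0x1008c8f))) (.node 1 (.leaf (nat_lit 0x400800d)) (.leaf (nat_lit 0x5008387)))) (.node 2 (.node 1 (.leaf (nat_lit 0x6008178)) (.leaf (nat_lit 0x9008c1c))) (.node 1 (.leaf (nat_lit 0x2009262)) (.leaf (nat_lit 0x4009037))))) (.node 4 (.node 2 (.node 1 (.leaf (nat_lit 0x50096d2)) (.leaf (nat_lit 0x6009b1f))) (.node 1 (.leaf (nat_lit 0x800978c)) (.leaf (nat_lit 0x9009b08)))) (.node 2 (.node 1 (.leaf (nat_lit 0xa009c94)) (.leaf (nat_lit 0xb0091ab))) (.node 1 (.leaf (nat_lit 0x100a682)) (.leaf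 (nat_lit 0x300a324)))))) (.node 8 (.node 4 (.node 2 (.node 1 (.leaf (nat_lit 0x500ab21)) (.leaf (nat_lit 0x700accf))) (.node 1 (.leaf (nat_lit 0x800a729)) (.leaf (nat_lit 0x900a9f0)))) (.node 2 (.node 1 (.leaf (nat_lit 0xb00af19)) (.leaf (nat_lit 0x100bfa6))) (.node 1 (.leaf (nat_lit 0x200b8ff)) (.leaf (nat_lit 0x300ba75))))) (.node 4 (.node 2 (.node 1 (.leaf (nat_lit 0x500bca6)) (.leaf (nat_lit 0x600b3e6))) (.node 1 (.leaf (nat_lit 0x700bb59)) (.leaf (nat_lit 0x800b5ab)))) (.node 2 (.node 1 (.leaf (nat_lit 0xa00bc5f)) (.leaf (nat_lit 0x200cf99))) (.node 1 (.leaf (nat_lit 0x300c9b9)) (.leaf (nat_lit 0x600ce0f))))))) (.node 16 (.node 8 (.node 4 (.node 2 (.node 1 (.leaf (nat_lit 0x700ce41)) (.leaf (nat_lit 0x900c15e))) (.node 1 (.leaf (nat_lit 0xb00c80b)) (.leaf (nat_lit 0x300d5e9)))) (.node 2 (.node 1 (.leaf (nat_lit 0x500d91a)) (.leaf (nat_lit 0x600df8a)))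 (.node 1 (.leaf (nat_lit 0x700d04a)) (.leaf (nat_lit 0x800dac4))))) (.node 4 (.node 2 (.node 1 (.leaf (nat_lit 0x900d612)) (.leaf (nat_lit 0xa00d406))) (.node 1 (.leaf (nat_lit 0x500e7d1)) (.leaf (nat_lit 0x600e8cc)))) (.node 2 (.node 1 (.leaf (nat_lit 0x700e537)) (.leaf (nat_lit 0x800e693))) (.node 1 (.leaf (nat_lit 0x600fd36)) (.leaf (nat_lit 0x700fab2)))))) (.node 8 (.node 4 (.node 2 (.node 1 (.leaf (nat_lit 0x800fc3f)) (.leaf (nat_lit 0x900f79a))) (.node 1 (.leaf (nat_lit 0xa00f4d5)) (.leaf (nat_lit 0xb00fe9f)))) (.node 2 (.node 1 (.leaf (nat_lit 0x7010604)) (.leaf (nat_lit 0x801032b))) (.node 1 (.leaf (nat_lit 0x9010328)) (.leaf (nat_lit 0xa010af6))))) (.node 4 (.node 2 (.node 1 (.leaf (nat_lit 0xb010015)) (.leaf (nat_lit 0x1011717))) (.node 1 (.leaf (nat_lit 0x2011572)) (.leaf (nat_lit 0x3011841)))) (.node 2 (.node 1 (.leaf (nat_lit 0x501187d))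 (.leaf (nat_lit 0x80116b0))) (.node 1 (.leaf (nat_lit 0x901106e)) (.leaf (nat_lit 0xa0119ab))))))))) (.node 64 (.node 32 (.node 16 (.node 8 (.node 4 (.node 2 (.node 1 (.leaf (nat_lit 0x1012544)) (.leaf (nat_lit 0x50127c7))) (.node 1 (.leaf (nat_lit 0x6012d05)) (.leaf (nat_lit 0x90127ce)))) (.node 2 (.node 1 (.leaf (nat_lit 0x2013728)) (.leaf (nat_lit 0x401355c))) (.node 1 (.leaf (nat_lit 0x5013ad8)) (.leaf (nat_lit 0x6013653))))) (.node 4 (.node 2 (.node 1 (.leaf (nat_lit 0x801397c)) (.leaf (nat_lit 0x901334f))) (.node 1 (.leaf (nat_lit 0xa013bb8)) (.leaf (nat_lit 0x101404c)))) (.node 2 (.node 1 (.leaf (nat_lit 0x30142f6)) (.leaf (nat_lit 0x5014875))) (.node 1 (.leaf (nat_lit 0x7014377)) (.leaf (nat_lit 0x8014b3a)))))) (.node 8 (.node 4 (.node 2 (.node 1 (.leaf (nat_lit 0x901454b)) (.leaf (nat_lit 0xb0142ed))) (.node 1 (.leaf (nat_lit 0x1015a4a))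 (.leaf (nat_lit 0x5015e45)))) (.node 2 (.node 1 (.leaf (nat_lit 0x6015b7f)) (.leaf (nat_lit 0x70158fb))) (.node 1 (.leaf (nat_lit 0x8015bb4)) (.leaf (nat_lit 0xa015e43))))) (.node 4 (.node 2 (.node 1 (.leaf (nat_lit 0x5016c6c)) (.leaf (nat_lit 0x70166c4))) (.node 1 (.leaf (nat_lit 0x8016c4d)) (.leaf (nat_lit 0xb01697e)))) (.node 2 (.node 1 (.leaf (nat_lit 0x501719b)) (.leaf (nat_lit 0x7017971))) (.node 1 (.leaf (nat_lit 0x801725f)) (.leaf (nat_lit 0x9017699))))))) (.node 16 (.node 8 (.node 4 (.node 2 (.node 1 (.leaf (nat_lit 0x1018a1f)) (.leaf (nat_lit 0x401842f))) (.node 1 (.leaf (nat_lit 0x6018bda)) (.leaf (nat_lit 0x7018624)))) (.node 2 (.node 1 (.leaf (nat_lit 0x8018879)) (.leaf (nat_lit 0x9018696))) (.node 1 (.leaf (nat_lit 0xa018652)) (.leaf (nat_lit 0x701983d))))) (.node 4 (.node 2 (.node 1 (.leaf (nat_lit 0x9019c95)) (.leaf (nat_lit 0xb019bd3)))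 (.node 1 (.leaf (nat_lit 0x101af3c)) (.leaf (nat_lit 0x201ae30)))) (.node 2 (.node 1 (.leaf (nat_lit 0x301a19d)) (.leaf (nat_lit 0x501a4ba))) (.node 1 (.leaf (nat_lit 0x801a641)) (.leaf (nat_lit 0x901a234)))))) (.node 8 (.node 4 (.node 2 (.node 1 (.leaf (nat_lit 0xa01a687)) (.leaf (nat_lit 0xb01a68a))) (.node 1 (.leaf (nat_lit 0x501b746)) (.leaf (nat_lit 0x601bda7)))) (.node 2 (.node 1 (.leaf (nat_lit 0x901b1aa)) (.leaf (nat_lit 0x401c490))) (.node 1 (.leaf (nat_lit 0x501c3c9)) (.leaf (nat_lit 0x601cc50))))) (.node 4 (.node 2 (.node 1 (.leaf (nat_lit 0x801c0c1)) (.leaf (nat_lit 0x901cf6b))) (.node 1 (.leaf (nat_lit 0x101df60)) (.leaf (nat_lit 0x301d31d)))) (.node 2 (.node 1 (.leaf (nat_lit 0x501de68)) (.leaf (nat_lit 0x701da03))) (.node 1 (.leaf (nat_lit 0x701e833)) (.leaf (nat_lit 0x801e8d1)))))))) (.node 32 (.node 16 (.node 8 (.node 4 (.node 2 (.node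 1 (.leaf (nat_lit 0x901e71b)) (.leaf (nat_lit 0x301f2b9))) (.node 1 (.leaf (nat_lit 0x401f785)) (.leaf (nat_lit 0x601fc22)))) (.node 2 (.node 1 (.leaf (nat_lit 0x701fb73)) (.leaf (nat_lit 0x801ff7c))) (.node 1 (.leaf (nat_lit 0x901f344)) (.leaf (nat_lit 0xa01f3d7))))) (.node 4 (.node 2 (.node 1 (.leaf (nat_lit 0x7020274)) (.leaf (nat_lit 0x8020fa4))) (.node 1 (.leaf (nat_lit 0xb020ca0)) (.leaf (nat_lit 0x1021f68)))) (.node 2 (.node 1 (.leaf (nat_lit 0x3021c34)) (.leaf (nat_lit 0x502139e))) (.node 1 (.leaf (nat_lit 0x8021692)) (.leaf (nat_lit 0x902142e)))))) (.node 8 (.node 4 (.node 2 (.node 1 (.leaf (nat_lit 0xa021b26)) (.leaf (nat_lit 0x40225ac))) (.node 1 (.leaf (nat_lit 0x502201d)) (.leaf (nat_lit 0x902294c)))) (.node 2 (.node 1 (.leaf (nat_lit 0xb0229df)) (.leaf (nat_lit 0x2023a74))) (.node 1 (.leaf (nat_lit 0x4023c8e)) (.leaf (nat_lit 0x5023249)))))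 (.node 4 (.node 2 (.node 1 (.leaf (nat_lit 0x9023ba4)) (.leaf (nat_lit 0xb0230c4))) (.node 1 (.leaf (nat_lit 0x8024170)) (.leaf (nat_lit 0x2025ba3)))) (.node 2 (.node 1 (.leaf (nat_lit 0x602543e)) (.leaf (nat_lit 0x70254fd))) (.node 1 (.leaf (nat_lit 0xa02523e)) (.leaf (nat_lit 0x6026e8b))))))) (.node 16 (.node 8 (.node 4 (.node 2 (.node 1 (.leaf (nat_lit 0x7026a45)) (.leaf (nat_lit 0x80266af))) (.node 1 (.leaf (nat_lit 0x9026c71)) (.leaf (nat_lit 0xa026f45)))) (.node 2 (.node 1 (.leaf (nat_lit 0xb0260f8)) (.leaf (nat_lit 0x8027da6))) (.node 1 (.leaf (nat_lit 0x5028129)) (.leaf (nat_lit 0x8028a2c))))) (.node 4 (.node 2 (.node 1 (.leaf (nat_lit 0x9028b9f)) (.leaf (nat_lit 0xa0288e8))) (.node 1 (.leaf (nat_lit 0x402919f)) (.leaf (nat_lit 0x5029b75)))) (.node 2 (.node 1 (.leaf (nat_lit 0x9029b83)) (.leaf (nat_lit 0x202abf5))) (.node 1 (.leaf (nat_lit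 0x502a1b9)) (.leaf (nat_lit 0x802a456)))))) (.node 8 (.node 4 (.node 2 (.node 1 (.leaf (nat_lit 0xa02ad04)) (.leaf (nat_lit 0x502b051))) (.node 1 (.leaf (nat_lit 0x702b80d)) (.leaf (nat_lit 0xa02b348)))) (.node 2 (.node 1 (.leaf (nat_lit 0x702cb49)) (.leaf (nat_lit 0x802c8d5))) (.node 1 (.leaf (nat_lit 0x902cfc3)) (.leaf (nat_lit 0xa02ca22))))) (.node 4 (.node 2 (.node 1 (.leaf (nat_lit 0xb02c481)) (.leaf (nat_lit 0x602dbd2))) (.node 1 (.leaf (nat_lit 0x702d43a)) (.leaf (nat_lit 0x802d466)))) (.node 2 (.node 1 (.leaf (nat_lit 0x902d4da)) (.leaf (nat_lit 0xa02d124))) (.node 1 (.leaf (nat_lit 0x702e61a)) (.leaf (nat_lit 0x802ef49))))))))))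

/-- A part of `orbU2`. -/
def orbU2_1 : Tree := (.node 128 (.node 64 (.node 32 (.node 16 (.node 8 (.node 4 (.node 2 (.node 1 (.leaf (nat_lit 0x902e2e7)) (.leaf (nat_lit 0x702f613))) (.node 1 (.leaf (nat_lit 0x902f89b)) (.leaf (nat_lit 0xa02f914)))) (.node 2 (.node 1 (.leaf (nat_lit 0x203014e)) (.leaf (nat_lit 0x503056a))) (.node 1 (.leaf (nat_lit 0x8030d78)) (.leaf (nat_lit 0xa030fa7))))) (.node 4 (.node 2 (.node 1 (.leaf (nat_lit 0xb030c5d)) (.leaf (nat_lit 0x1031c28))) (.node 1 (.leaf (nat_lit 0x2031d0f)) (.leaf (nat_lit 0x6031909)))) (.node 2 (.node 1 (.leaf (nat_lit 0x9031590)) (.leaf (nat_lit 0xa031422))) (.node 1 (.leaf (nat_lit 0x1032b54)) (.leaf (nat_lit 0x203254c)))))) (.node 8 (.node 4 (.node 2 (.node 1 (.leaf (nat_lit 0x6032afd)) (.leaf (nat_lit 0x9032d9e))) (.node 1 (.leaf (nat_lit 0xa032529)) (.leaf (nat_lit 0xb03274e)))) (.node 2 (.node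 1 (.leaf (nat_lit 0x2033f96)) (.leaf (nat_lit 0x5033b61))) (.node 1 (.leaf (nat_lit 0x9033f98)) (.leaf (nat_lit 0x103473c))))) (.node 4 (.node 2 (.node 1 (.leaf (nat_lit 0x5034be5)) (.leaf (nat_lit 0x8034d29))) (.node 1 (.leaf (nat_lit 0x903477c)) (.leaf (nat_lit 0xb0343c7)))) (.node 2 (.node 1 (.leaf (nat_lit 0x80356aa)) (.leaf (nat_lit 0x9035cc2))) (.node 1 (.leaf (nat_lit 0xa035ea5)) (.leaf (nat_lit 0x10368d2))))))) (.node 16 (.node 8 (.node 4 (.node 2 (.node 1 (.leaf (nat_lit 0x90367d0)) (.leaf (nat_lit 0x5037be1))) (.node 1 (.leaf (nat_lit 0x8037d12)) (.leaf (nat_lit 0x9037aa4)))) (.node 2 (.node 1 (.leaf (nat_lit 0xa037616)) (.leaf (nat_lit 0x5038426))) (.node 1 (.leaf (nat_lit 0x9038c85)) (.leaf (nat_lit 0xb0384e2))))) (.node 4 (.node 2 (.node 1 (.leaf (nat_lit 0x2039329)) (.leaf (nat_lit 0x30396f9))) (.node 1 (.leaf (nat_lit 0x5039daa)) (.leaf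 (nat_lit 0x7039857)))) (.node 2 (.node 1 (.leaf (nat_lit 0x503abdb)) (.leaf (nat_lit 0x903abc8))) (.node 1 (.leaf (nat_lit 0xa03aacc)) (.leaf (nat_lit 0x703bc75)))))) (.node 8 (.node 4 (.node 2 (.node 1 (.leaf (nat_lit 0x903bad4)) (.leaf (nat_lit 0xa03bf77))) (.node 1 (.leaf (nat_lit 0x503c073)) (.leaf (nat_lit 0x803df51)))) (.node 2 (.node 1 (.leaf (nat_lit 0xa03d3a6)) (.leaf (nat_lit 0xb03d823))) (.node 1 (.leaf (nat_lit 0x503ecce)) (.leaf (nat_lit 0x903e5a8))))) (.node 4 (.node 2 (.node 1 (.leaf (nat_lit 0xa03e312)) (.leaf (nat_lit 0x603fc64))) (.node 1 (.leaf (nat_lit 0xa03f588)) (.leaf (nat_lit 0xb03fb18)))) (.node 2 (.node 1 (.leaf (nat_lit 0x1040cd2)) (.leaf (nat_lit 0x80400e0))) (.node 1 (.leaf (nat_lit 0x5041a06)) (.leaf (nat_lit 0x70418ee)))))))) (.node 32 (.node 16 (.node 8 (.node 4 (.node 2 (.node 1 (.leaf (nat_lit 0x9041c09)) (.leaf (nat_lit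 0x9042086))) (.node 1 (.leaf (nat_lit 0x7043eb5)) (.leaf (nat_lit 0x9043440)))) (.node 2 (.node 1 (.leaf (nat_lit 0x9044a6d)) (.leaf (nat_lit 0x2045abb))) (.node 1 (.leaf (nat_lit 0x50457f9)) (.leaf (nat_lit 0x60456a7))))) (.node 4 (.node 2 (.node 1 (.leaf (nat_lit 0x8045650)) (.leaf (nat_lit 0xb04556f))) (.node 1 (.leaf (nat_lit 0x8046b04)) (.leaf (nat_lit 0x70474b6)))) (.node 2 (.node 1 (.leaf (nat_lit 0x7048622)) (.leaf (nat_lit 0xa048515))) (.node 1 (.leaf (nat_lit 0x9049c11)) (.leaf (nat_lit 0x504b38c)))))) (.node 8 (.node 4 (.node 2 (.node 1 (.leaf (nat_lit 0x604be81)) (.leaf (nat_lit 0x904bc77))) (.node 1 (.leaf (nat_lit 0x504ccf6)) (.leaf (nat_lit 0x804ccb3)))) (.node 2 (.node 1 (.leaf (nat_lit 0x904cfc4)) (.leaf (nat_lit 0xa04cc4c))) (.node 1 (.leaf (nat_lit 0x704dee3)) (.leaf (nat_lit 0x704ed86))))) (.node 4 (.node 2 (.node 1 (.leaf (nat_lit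 0x504f1d2)) (.leaf (nat_lit 0x805063c))) (.node 1 (.leaf (nat_lit 0x9050b5b)) (.leaf (nat_lit 0xa0516bf)))) (.node 2 (.node 1 (.leaf (nat_lit 0x50529ba)) (.leaf (nat_lit 0x9052def))) (.node 1 (.leaf (nat_lit 0x5053944)) (.leaf (nat_lit 0x8053ba5))))))) (.node 16 (.node 8 (.node 4 (.node 2 (.node 1 (.leaf (nat_lit 0x2054873)) (.leaf (nat_lit 0x5054322))) (.node 1 (.leaf (nat_lit 0x70547b3)) (.leaf (nat_lit 0x5056c0e)))) (.node 2 (.node 1 (.leaf (nat_lit 0x405800b)) (.leaf (nat_lit 0x6058363))) (.node 1 (.leaf (nat_lit 0x8058806)) (.leaf (nat_lit 0x9058bd8))))) (.node 4 (.node 2 (.node 1 (.leaf (nat_lit 0xb058638)) (.leaf (nat_lit 0x305a19c))) (.node 1 (.leaf (nat_lit 0x505abd6)) (.leaf (nat_lit 0x805a4f6)))) (.node 2 (.node 1 (.leaf (nat_lit 0xb05aef4)) (.leaf (nat_lit 0xb05fad6))) (.node 1 (.leaf (nat_lit 0x7064f94)) (.leaf (nat_lit 0x8064982))))))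 (.node 8 (.node 4 (.node 2 (.node 1 (.leaf (nat_lit 0x9064e6e)) (.leaf (nat_lit 0x5066b11))) (.node 1 (.leaf (nat_lit 0x906688b)) (.leaf (nat_lit 0xa066dd2)))) (.node 2 (.node 1 (.leaf (nat_lit 0x5068197)) (.leaf (nat_lit 0x506c5b4))) (.node 1 (.leaf (nat_lit 0x806c010)) (.leaf (nat_lit 0xa06ca95))))) (.node 4 (.node 2 (.node 1 (.leaf (nat_lit 0x506d230)) (.leaf (nat_lit 0xa06e65a))) (.node 1 (.leaf (nat_lit 0xa06f831)) (.leaf (nat_lit 0x9070dee)))) (.node 2 (.node 1 (.leaf (nat_lit 0xa071bb0)) (.leaf (nat_lit 0x20728f3))) (.node 1 (.leaf (nat_lit 0x5072b9e)) (.leaf (nat_lit 0x9072f14))))))))) (.node 64 (.node 32 (.node 16 (.node 8 (.node 4 (.node 2 (.node 1 (.leaf (nat_lit 0x5073e62)) (.leaf (nat_lit 0xa074cbe))) (.node 1 (.leaf (nat_lit 0x9075443)) (.leaf (nat_lit 0x9076928)))) (.node 2 (.node 1 (.leaf (nat_lit 0xa076002)) (.leaf (nat_lit 0x5077094)))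 (.node 1 (.leaf (nat_lit 0x90779f7)) (.leaf (nat_lit 0x5078a0a))))) (.node 4 (.node 2 (.node 1 (.leaf (nat_lit 0x807cc07)) (.leaf (nat_lit 0xa07c3e4))) (.node 1 (.leaf (nat_lit 0xb07c760)) (.leaf (nat_lit 0x607ebdf)))) (.node 2 (.node 1 (.leaf (nat_lit 0x807fe6f)) (.leaf (nat_lit 0x908008b))) (.node 1 (.leaf (nat_lit 0x708179e)) (.leaf (nat_lit 0x9081be8)))))) (.node 8 (.node 4 (.node 2 (.node 1 (.leaf (nat_lit 0x9082fa8)) (.leaf (nat_lit 0x50836b2))) (.node 1 (.leaf (nat_lit 0x608386e)) (.leaf (nat_lit 0x8083f1a)))) (.node 2 (.node 1 (.leaf (nat_lit 0x7086a88)) (.leaf (nat_lit 0x9089493))) (.node 1 (.leaf (nat_lit 0x508a411)) (.leaf (nat_lit 0x908a88d))))) (.node 4 (.node 2 (.node 1 (.leaf (nat_lit 0x708bbba)) (.leaf (nat_lit 0x508c2cc))) (.node 1 (.leaf (nat_lit 0x808d3ec)) (.leaf (nat_lit 0x908d0d2)))) (.node 2 (.node 1 (.leaf (nat_lit 0xa08e712))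 (.leaf (nat_lit 0x508f87e))) (.node 1 (.leaf (nat_lit 0x908f690)) (.leaf (nat_lit 0x5090788))))))) (.node 16 (.node 8 (.node 4 (.node 2 (.node 1 (.leaf (nat_lit 0x80901a1)) (.leaf (nat_lit 0x709147e))) (.node 1 (.leaf (nat_lit 0x8093ab3)) (.leaf (nat_lit 0x90939c6)))) (.node 2 (.node 1 (.leaf (nat_lit 0x50959d0)) (.leaf (nat_lit 0x8095114))) (.node 1 (.leaf (nat_lit 0x70983a5)) (.leaf (nat_lit 0x5099a3c))))) (.node 4 (.node 2 (.node 1 (.leaf (nat_lit 0xa099e55)) (.leaf (nat_lit 0x509ac0b))) (.node 1 (.leaf (nat_lit 0x709b737)) (.leaf (nat_lit 0x709cea0)))) (.node 2 (.node 1 (.leaf (nat_lit 0x70a2e57)) (.leaf (nat_lit 0x80a3378))) (.node 1 (.leaf (nat_lit 0xb0a3880)) (.leaf (nat_lit 0x10a4519)))))) (.node 8 (.node 4 (.node 2 (.node 1 (.leaf (nat_lit 0x60a4709)) (.leaf (nat_lit 0x90a4d81))) (.node 1 (.leaf (nat_lit 0xa0a465d)) (.leaf (nat_lit 0x10a5b8f))))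 (.node 2 (.node 1 (.leaf (nat_lit 0x60a5017)) (.leaf (nat_lit 0x90a51b3))) (.node 1 (.leaf (nat_lit 0x90a6fc7)) (.leaf (nat_lit 0xa0a7a47))))) (.node 4 (.node 2 (.node 1 (.leaf (nat_lit 0x80a8543)) (.leaf (nat_lit 0x70a927b))) (.node 1 (.leaf (nat_lit 0x50aae33)) (.leaf (nat_lit 0x90abdcc)))) (.node 2 (.node 1 (.leaf (nat_lit 0x50acecc)) (.leaf (nat_lit 0xa0acbbf))) (.node 1 (.leaf (nat_lit 0xb0adba7)) (.leaf (nat_lit 0x50ae437)))))))) (.node 32 (.node 16 (.node 8 (.node 4 (.node 2 (.node 1 (.leaf (nat_lit 0x90aee2c)) (.leaf (nat_lit 0x50b03e0))) (.node 1 (.leaf (nat_lit 0x50b101b)) (.leaf (nat_lit 0xa0b19ae)))) (.node 2 (.node 1 (.leaf (nat_lit 0x70b2ad3)) (.leaf (nat_lit 0x90b2a11))) (.node 1 (.leaf (nat_lit 0x90b3112)) (.leaf (nat_lit 0x50b4838))))) (.node 4 (.node 2 (.node 1 (.leaf (nat_lit 0x60b4f18)) (.leaf (nat_lit 0x70b6b7e))) (.node 1 (.leaf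 (nat_lit 0x50b9c25)) (.leaf (nat_lit 0x90b93f4)))) (.node 2 (.node 1 (.leaf (nat_lit 0x10bd38d)) (.leaf (nat_lit 0x50bdcc8))) (.node 1 (.leaf (nat_lit 0x70c13a1)) (.leaf (nat_lit 0x20c5953)))))) (.node 8 (.node 4 (.node 2 (.node 1 (.leaf (nat_lit 0x90c5153)) (.leaf (nat_lit 0x50c7813))) (.node 1 (.leaf (nat_lit 0x80cda58)) (.leaf (nat_lit 0x90ce150)))) (.node 2 (.node 1 (.leaf (nat_lit 0xb0d0e04)) (.leaf (nat_lit 0x70d20c6))) (.node 1 (.leaf (nat_lit 0x90d29a4)) (.leaf (nat_lit 0x50d30c2))))) (.node 4 (.node 2 (.node 1 (.leaf (nat_lit 0x90d461f)) (.leaf (nat_lit 0x70d7575))) (.node 1 (.leaf (nat_lit 0x90d8a48)) (.leaf (nat_lit 0x70d990c)))) (.node 2 (.node 1 (.leaf (nat_lit 0x50dd9c8)) (.leaf (nat_lit 0xb0e0070))) (.node 1 (.leaf (nat_lit 0x90e22c3)) (.leaf (nat_lit 0x90e4ec9))))))) (.node 16 (.node 8 (.node 4 (.node 2 (.node 1 (.leaf (nat_lit 0x50e7caa))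 (.leaf (nat_lit 0x90e7e16))) (.node 1 (.leaf (nat_lit 0x90eb121)) (.leaf (nat_lit 0x70eed67)))) (.node 2 (.node 1 (.leaf (nat_lit 0x50f253e)) (.leaf (nat_lit 0x50f79bf))) (.node 1 (.leaf (nat_lit 0x50f8b77)) (.leaf (nat_lit 0x90f8232))))) (.node 4 (.node 2 (.node 1 (.leaf (nat_lit 0xb0fa9be)) (.leaf (nat_lit 0x90fb98e))) (.node 1 (.leaf (nat_lit 0x90fff75)) (.leaf (nat_lit 0x910281c)))) (.node 2 (.node 1 (.leaf (nat_lit 0x51039d1)) (.leaf (nat_lit 0x610602a))) (.node 1 (.leaf (nat_lit 0x7107ebe)) (.leaf (nat_lit 0x1108b45)))))) (.node 8 (.node 4 (.node 2 (.node 1 (.leaf (nat_lit 0x8108824)) (.leaf (nat_lit 0x9109397))) (.node 1 (.leaf (nat_lit 0x910ab8d)) (.leaf (nat_lit 0x810d035)))) (.node 2 (.node 1 (.leaf (nat_lit 0x9110c03)) (.leaf (nat_lit 0xa1112d7))) (.node 1 (.leaf (nat_lit 0x8112f8b)) (.leaf (nat_lit 0x31159f8))))) (.node 4 (.node 2 (.node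 1 (.leaf (nat_lit 0x5117900)) (.leaf (nat_lit 0xb118018))) (.node 1 (.leaf (nat_lit 0x811a57e)) (.leaf (nat_lit 0x7134e7d)))) (.node 2 (.node 1 (.leaf (nat_lit 0xb136786)) (.leaf (nat_lit 0x513d8f7))) (.node 1 (.leaf (nat_lit 0xa143347)) (.leaf (nat_lit 0x915238a))))))))))

/-- An orbit. -/
def orbU2 : Tree := (.node 256 orbU2_0 orbU2_1)

/-- An orbit. -/
def orbU3 : Tree := (.node 64 (.node 32 (.node 16 (.node 8 (.node 4 (.node 2 (.node 1 (.leaf (nat_lit 0x817)) (.leaf (nat_lit 0xd63))) (.node 1 (.leaf (nat_lit 0x10004c5)) (.leaf (nat_lit 0x20003ea)))) (.node 2 (.node 1 (.leaf (nat_lit 0x3000727)) (.leaf (nat_lit 0x400035e))) (.node 1 (.leaf (nat_lit 0x50005b5)) (.leaf (nat_lit 0x6000a4e))))) (.node 4 (.node 2 (.node 1 (.leaf (nat_lit 0x7000352)) (.leaf (nat_lit 0x80000cf))) (.node 1 (.leaf (nat_lit 0xa0007d9)) (.leaf (nat_lit 0xb000a52)))) (.node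 2 (.node 1 (.leaf (nat_lit 0x2001f7f)) (.leaf (nat_lit 0x3001ca4))) (.node 1 (.leaf (nat_lit 0x400157f)) (.leaf (nat_lit 0x80012f3)))))) (.node 8 (.node 4 (.node 2 (.node 1 (.leaf (nat_lit 0xa00110e)) (.leaf (nat_lit 0xb00165c))) (.node 1 (.leaf (nat_lit 0x200240d)) (.leaf (nat_lit 0x3002b85)))) (.node 2 (.node 1 (.leaf (nat_lit 0x4002f40)) (.leaf (nat_lit 0x6002117))) (.node 1 (.leaf (nat_lit 0x90023fb)) (.leaf (nat_lit 0xa002955))))) (.node 4 (.node 2 (.node 1 (.leaf (nat_lit 0xb002a0b)) (.leaf (nat_lit 0x3003756))) (.node 1 (.leaf (nat_lit 0x4003e19)) (.leaf (nat_lit 0x6003486)))) (.node 2 (.node 1 (.leaf (nat_lit 0x90034e1)) (.leaf (nat_lit 0xa0030ec))) (.node 1 (.leaf (nat_lit 0xb003c0f)) (.leaf (nat_lit 0x40044e0))))))) (.node 16 (.node 8 (.node 4 (.node 2 (.node 1 (.leaf (nat_lit 0x6004776)) (.leaf (nat_lit 0x7004a6f))) (.node 1 (.leaf (nat_lit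 0xa004008)) (.leaf (nat_lit 0xb004862)))) (.node 2 (.node 1 (.leaf (nat_lit 0x6005f9c)) (.leaf (nat_lit 0x70059ca))) (.node 1 (.leaf (nat_lit 0xa005bc5)) (.leaf (nat_lit 0xb0053d5))))) (.node 4 (.node 2 (.node 1 (.leaf (nat_lit 0x60063a4)) (.leaf (nat_lit 0x9006278))) (.node 1 (.leaf (nat_lit 0xa00602b)) (.leaf (nat_lit 0xb006011)))) (.node 2 (.node 1 (.leaf (nat_lit 0xa0071ae)) (.leaf (nat_lit 0xb007a77))) (.node 1 (.leaf (nat_lit 0x2008a53)) (.leaf (nat_lit 0xa0083d9)))))) (.node 8 (.node 4 (.node 2 (.node 1 (.leaf (nat_lit 0xb008770)) (.leaf (nat_lit 0xa0094ac))) (.node 1 (.leaf (nat_lit 0xb009ed9)) (.leaf (nat_lit 0x100adb3)))) (.node 2 (.node 1 (.leaf (nat_lit 0x200ab2a)) (.leaf (nat_lit 0x300a6df))) (.node 1 (.leaf (nat_lit 0x700a42d)) (.leaf (nat_lit 0xb00abfd))))) (.node 4 (.node 2 (.node 1 (.leaf (nat_lit 0x100b647)) (.leaf (nat_lit 0x200bf0c)))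 (.node 1 (.leaf (nat_lit 0x300b0ea)) (.leaf (nat_lit 0x500b7fa)))) (.node 2 (.node 1 (.leaf (nat_lit 0x600be49)) (.leaf (nat_lit 0x700b442))) (.node 1 (.leaf (nat_lit 0x800b34a)) (.leaf (nat_lit 0x900bebc)))))))) (.node 32 (.node 16 (.node 8 (.node 4 (.node 2 (.node 1 (.leaf (nat_lit 0xa00bf5b)) (.leaf (nat_lit 0x900c582))) (.node 1 (.leaf (nat_lit 0xa00cf9a)) (.leaf (nat_lit 0xa00dfd2)))) (.node 2 (.node 1 (.leaf (nat_lit 0xa00e0d1)) (.leaf (nat_lit 0xb00fe69))) (.node 1 (.leaf (nat_lit 0x1010a2d)) (.leaf (nat_lit 0x2010ea4))))) (.node 4 (.node 2 (.node 1 (.leaf (nat_lit 0x7010a07)) (.leaf (nat_lit 0xb010ef9))) (.node 1 (.leaf (nat_lit 0x501166d)) (.leaf (nat_lit 0x60113d8)))) (.node 2 (.node 1 (.leaf (nat_lit 0x70113a7)) (.leaf (nat_lit 0x901124d))) (.node 1 (.leaf (nat_lit 0xb012736)) (.leaf (nat_lit 0xa0135e4)))))) (.node 8 (.node 4 (.node 2 (.node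 1 (.leaf (nat_lit 0xb013ece)) (.leaf (nat_lit 0xa01436a))) (.node 1 (.leaf (nat_lit 0xa0158d4)) (.leaf (nat_lit 0xb015753)))) (.node 2 (.node 1 (.leaf (nat_lit 0x1017af4)) (.leaf (nat_lit 0x2017c79))) (.node 1 (.leaf (nat_lit 0x30170ae)) (.leaf (nat_lit 0x5017fc1))))) (.node 4 (.node 2 (.node 1 (.leaf (nat_lit 0x9017309)) (.leaf (nat_lit 0xb017792))) (.node 1 (.leaf (nat_lit 0x20182ec)) (.leaf (nat_lit 0x3018819)))) (.node 2 (.node 1 (.leaf (nat_lit 0x60189c9)) (.leaf (nat_lit 0x7018b48))) (.node 1 (.leaf (nat_lit 0x801833c)) (.leaf (nat_lit 0x9018eb7))))))) (.node 16 (.node 8 (.node 4 (.node 2 (.node 1 (.leaf (nat_lit 0xa018f61)) (.leaf (nat_lit 0xa0196e8))) (.node 1 (.leaf (nat_lit 0xa01a3e2)) (.leaf (nat_lit 0xb01bb25)))) (.node 2 (.node 1 (.leaf (nat_lit 0xb01cf9b)) (.leaf (nat_lit 0x201df1b))) (.node 1 (.leaf (nat_lit 0x901da4c)) (.leaf (nat_lit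 0xb01d54a))))) (.node 4 (.node 2 (.node 1 (.leaf (nat_lit 0x601e2b4)) (.leaf (nat_lit 0x701e6b9))) (.node 1 (.leaf (nat_lit 0x801ebae)) (.leaf (nat_lit 0x901e2b7)))) (.node 2 (.node 1 (.leaf (nat_lit 0xa01e436)) (.leaf (nat_lit 0xb022ad7))) (.node 1 (.leaf (nat_lit 0x7023a4b)) (.leaf (nat_lit 0x90238ba)))))) (.node 8 (.node 4 (.node 2 (.node 1 (.leaf (nat_lit 0xa023e61)) (.leaf (nat_lit 0xb024710))) (.node 1 (.leaf (nat_lit 0xb025a6c)) (.leaf (nat_lit 0xb02678a)))) (.node 2 (.node 1 (.leaf (nat_lit 0x6027b60)) (.leaf (nat_lit 0x7027c0c))) (.node 1 (.leaf (nat_lit 0x80271e9)) (.leaf (nat_lit 0x902b827))))) (.node 4 (.node 2 (.node 1 (.leaf (nat_lit 0x302d457)) (.leaf (nat_lit 0x502d6a9))) (.node 1 (.leaf (nat_lit 0x5037fa1)) (.leaf (nat_lit 0x90395c1)))) (.node 2 (.node 1 (.leaf (nat_lit 0x703b68c)) (.leaf (nat_lit 0xa03b1af))) (.node 1 (.leaf (nat_lit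 0x903c70b)) (.leaf (nat_lit 0xa04a4dd)))))))))

/-- An orbit. -/
def orbU4 : Tree := (.node 32 (.node 16 (.node 8 (.node 4 (.node 2 (.node 1 (.leaf (nat_lit 0xda9)) (.leaf (nat_lit 0x1000fa2))) (.node 1 (.leaf (nat_lit 0x200000c)) (.leaf (nat_lit 0x5000669)))) (.node 2 (.node 1 (.leaf (nat_lit 0x60008ca)) (.leaf (nat_lit 0x700048c))) (.node 1 (.leaf (nat_lit 0x80006ba)) (.leaf (nat_lit 0x9000c2c))))) (.node 4 (.node 2 (.node 1 (.leaf (nat_lit 0xa000da8)) (.leaf (nat_lit 0x5001d9b))) (.node 1 (.leaf (nat_lit 0x7001741)) (.leaf (nat_lit 0x8001d72)))) (.node 2 (.node 1 (.leaf (nat_lit 0x9001251)) (.leaf (nat_lit 0xa001149))) (.node 1 (.leaf (nat_lit 0x5002f08)) (.leaf (nat_lit 0x70025e7)))))) (.node 8 (.node 4 (.node 2 (.node 1 (.leaf (nat_lit 0x8002947)) (.leaf (nat_lit 0x9002451))) (.node 1 (.leaf (nat_lit 0xa002d20)) (.leaf (nat_lit 0x10031a4))))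 (.node 2 (.node 1 (.leaf (nat_lit 0x70034ae)) (.leaf (nat_lit 0x80038f8))) (.node 1 (.leaf (nat_lit 0x90031ec)) (.leaf (nat_lit 0xa003323))))) (.node 4 (.node 2 (.node 1 (.leaf (nat_lit 0xb003ac6)) (.leaf (nat_lit 0x7004e84))) (.node 1 (.leaf (nat_lit 0x8004eb0)) (.leaf (nat_lit 0x90042a6)))) (.node 2 (.node 1 (.leaf (nat_lit 0xa0048cb)) (.leaf (nat_lit 0x5005522))) (.node 1 (.leaf (nat_lit 0x8005958)) (.leaf (nat_lit 0x900537c))))))) (.node 16 (.node 8 (.node 4 (.node 2 (.node 1 (.leaf (nat_lit 0x50063ac)) (.leaf (nat_lit 0x5007764))) (.node 1 (.leaf (nat_lit 0x800724f)) (.leaf (nat_lit 0x900791f)))) (.node 2 (.node 1 (.leaf (nat_lit 0xa007ed6)) (.leaf (nat_lit 0xb007b50))) (.node 1 (.leaf (nat_lit 0x80084cb)) (.leaf (nat_lit 0x700959c))))) (.node 4 (.node 2 (.node 1 (.leaf (nat_lit 0x8009e2f)) (.leaf (nat_lit 0xa009a36))) (.node 1 (.leaf (nat_lit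 0xb009e87)) (.leaf (nat_lit 0x500a405)))) (.node 2 (.node 1 (.leaf (nat_lit 0x800a781)) (.leaf (nat_lit 0x500b934))) (.node 1 (.leaf (nat_lit 0x900c4bf)) (.leaf (nat_lit 0x800d21a)))))) (.node 8 (.node 4 (.node 2 (.node 1 (.leaf (nat_lit 0x900eec3)) (.leaf (nat_lit 0xb00e5bf))) (.node 1 (.leaf (nat_lit 0x5011319)) (.leaf (nat_lit 0xb013503)))) (.node 2 (.node 1 (.leaf (nat_lit 0x80149f6)) (.leaf (nat_lit 0x901471d))) (.node 1 (.leaf (nat_lit 0xb015c18)) (.leaf (nat_lit 0x801601c))))) (.node 4 (.node 2 (.node 1 (.leaf (nat_lit 0x90160e3)) (.leaf (nat_lit 0x5017a73))) (.node 1 (.leaf (nat_lit 0x7017031)) (.leaf (nat_lit 0x8018ea6)))) (.node 2 (.node 1 (.leaf (nat_lit 0x801d55d)) (.leaf (nat_lit 0x901d491))) (.node 1 (.leaf (nat_lit 0x5026752)) (.leaf (nat_lit 0x8027c84))))))))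

/-- An orbit. -/
def orbU5 : Tree := (.node 8 (.node 4 (.node 2 (.node 1 (.leaf (nat_lit 0x95f)) (.leaf (nat_lit 0x1000ec1))) (.node 1 (.leaf (nat_lit 0x600077e)) (.leaf (nat_lit 0xa000c1b)))) (.node 2 (.node 1 (.leaf (nat_lit 0xb000404)) (.leaf (nat_lit 0x60012c6))) (.node 1 (.leaf (nat_lit 0xa001213)) (.leaf (nat_lit 0xb001d59))))) (.node 4 (.node 2 (.node 1 (.leaf (nat_lit 0xa002d38)) (.leaf (nat_lit 0xb00206b))) (.node 1 (.leaf (nat_lit 0x100384e)) (.leaf (nat_lit 0xb003534)))) (.node 2 (.node 1 (.leaf (nat_lit 0x60046e0)) (.leaf (nat_lit 0x8004c43))) (.node 1 (.leaf (nat_lit 0xb0068e1)) (.leaf (nat_lit 0x70070a7))))))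

/-- An orbit. -/
def orbU6 : Tree := (.node 4 (.node 2 (.node 1 (.leaf (nat_lit 0xc51)) (.leaf (nat_lit 0x5000475))) (.node 1 (.leaf (nat_lit 0x700016f)) (.leaf (nat_lit 0x8000b1c)))) (.node 2 (.node 1 (.leaf (nat_lit 0xa000732)) (.leaf (nat_lit 0x700114c))) (.node 1 (.leaf (nat_lit 0x8001fa3)) (.leaf (nat_lit 0x8002654)))))

/-- An orbit. -/
def orbU7 : Tree := (.node 1 (.leaf (nat_lit 0xbf4)) (.leaf (nat_lit 0xb000c98)))

/-- The orbits with their lengths. -/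
def orbUL : List (Tree × ℕ) := [(orbU0, 1), (orbU1, 1024), (orbU2, 512), (orbU3, 128), (orbU4, 64), (orbU5, 16), (orbU6, 8), (orbU7, 2)]

end Cfsg.Agent.Lib.RuUnique.Data
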