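import Cfsg.Agent.Lib.CosetCert.Check

/-!
Certificate data for the Rudvalis group on 4060 points: words.
-/

set_option autoImplicit false
set_option linter.all false
set_option maxRecDepth 100000

noncomputable section

namespace Cfsg.Agent.Lib.RuUnique.Data

open Cfsg.Agent.CosetCert

/-- The four generators as words in the letters of the automorphism group. -/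
def sigW : List (List ℕ) := [
  [5, 1, 3, 5, 5, 5, 5, 10, 11, 10, 3, 11, 10, 10, 1, 5],
  [1, 11, 10, 11, 10, 11, 2, 10, 11, 3, 11, 4, 4, 3, 11, 10, 3],
  [1, 11, 1, 2, 5, 3, 4, 5, 5, 1, 5, 10, 10, 3, 11, 4],
  [2, 3, 5, 10, 5, 2, 10, 11, 10, 11, 3, 11, 10, 10, 5, 4, 4]]

/-- The letter moving the first line. -/
def tLetter : ℕ := 1

/-- An element of order thirteen. -/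
def xW : List ℕ := [1, 0, 2, 2, 0, 2, 0, 2, 5, 0, 1, 3, 1, 3, 3, 2, 1, 3]

/-- An element of order four normalising it. -/
def uW : List ℕ := [0, 1, 2, 0, 5, 2, 0, 4, 0, 1, 3, 4, 1, 3, 1, 3, 1, 3]

/-- An element of order three normalising it. -/
def eW : List ℕ := [1, 2, 0, 2, 0, 4, 3, 1, 5, 0, 1, 5, 2, 2, 0, 1, 0]

/-- Generators of a level. -/
def levG0 : List (List ℕ) := [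
  [0],
  [1],
  [2],
  [3]]

/-- Generators of a level. -/
def levG1 : List (List ℕ) := [
  [1, 0, 4, 1, 0, 2, 2, 1, 0],
  [3, 1, 0, 4, 0, 1, 3, 2, 0]]

/-- Generators of a level. -/
def levG2 : List (List ℕ) := [
  [0, 1, 3, 4, 0, 2, 0, 2, 3, 1, 0, 2, 2],
  [0, 5, 2, 0, 2, 3, 0, 4, 0, 4, 3, 0]]

/-- Generators of a level. -/
def levG3 : List (List ℕ) := [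
  [0, 4, 3, 0, 2, 2, 0, 2, 0],
  [0, 4, 3, 0, 2, 2, 0, 2, 0]]

/-- The points of the levels. -/
def levGP : List ℕ := [3359, 1, 3153, 3760]

/-- Generators of a level. -/
def ulevG0 : List (List ℕ) := [
  [0],
  [1],
  [2],
  [3]]

/-- Generators of a level. -/
def ulevG1 : List (List ℕ) := [
  [3, 3, 1, 0, 3, 1, 3, 2, 0, 2, 1, 5, 2, 0, 2, 1],
  [1, 4, 3, 1, 0, 4, 0, 2, 0, 1, 5, 2, 1],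
  [0, 1, 2, 0, 2, 3, 1, 5, 0, 1, 3, 0, 2, 1, 0, 2, 3]]

/-- Generators of a level. -/
def ulevG2 : List (List ℕ) := [
  [0, 1, 2, 0, 2, 2, 3, 1, 0, 4, 3, 2, 0, 2, 0, 1, 3, 1, 3],
  [0, 1, 2, 0, 5, 2, 0, 4, 0, 1, 3, 4, 1, 3, 1, 3, 1, 3],
  [4, 0, 3, 1, 2, 3, 1, 0, 4, 3, 2, 1, 0, 4, 1, 3, 0, 1]]

/-- The points of the levels. -/
def ulevGP : List ℕ := [543, 31, 117]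

/-- Generators of a level. -/
def jlevG0 : List (List ℕ) := [
  [2, 2, 0, 4, 0, 1, 3, 1, 5, 1, 0, 4, 3, 2, 1, 3, 0, 2],
  [2, 5, 2, 0, 2, 2, 1, 0, 4, 1, 3, 0, 1, 3, 0],
  [1, 2, 2, 0, 5, 2, 1, 3, 1, 3, 0, 1, 5, 2, 2]]

/-- Generators of a level. -/
def jlevG1 : List (List ℕ) := [
  [0, 1, 4, 0, 3, 1, 5, 1, 5, 1, 3, 2, 0, 2, 1, 0, 4, 1],
  [1, 5, 2, 0, 1, 3, 4, 0, 2, 2, 1, 0, 4, 3, 1],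
  [3, 1, 0, 4, 0, 4, 3, 2, 1, 0, 4, 1, 3, 0, 2]]

/-- The points of the levels. -/
def jlevGP : List ℕ := [1976, 3669]

/-- The depths of trees. -/
def depthF : ℕ := 11
def depthJ : ℕ := 8

/-- Generators of a two-group. -/
def uGens : List (List ℕ) := [
  [1, 0, 5, 2, 1, 0, 2, 2, 0, 4, 1, 3, 0, 1],
  [1, 0, 5, 2, 1, 0, 4, 0, 4, 1, 3, 0, 1],
  [0, 2, 0, 2, 2, 1, 0, 2, 0, 2, 1],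
  [2, 2, 1, 0, 4, 0, 2, 1, 0, 2, 0],
  [0, 4, 1, 0, 4, 0, 2, 2, 1, 0, 4],
  [2, 1, 0, 4, 1, 0, 4, 1, 0, 2, 2],
  [0, 3, 2, 2, 1, 0, 4, 0, 2, 1, 0, 2, 5],
  [1, 0, 4, 0, 2, 2, 1, 0, 2, 0],
  [2, 2, 1, 0, 4, 1, 0, 2, 1, 0],
  [2, 0, 4, 1, 0, 4, 0, 2, 2, 1, 0, 2],
  [4, 0, 2, 2, 1, 0, 4, 1, 0, 4, 1],
  [0, 2, 0, 2, 2, 0, 2]]

/-- Squares and conjugates of the generators. -/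
def uRels : List (List ℕ × List (List ℕ)) := [
  ([], []),
  ([0], [[0]]),
  ([0], [[0], [1]]),
  ([0], [[0], [1], [2]]),
  ([0], [[0], [1], [2], [3]]),
  ([4, 3], [[0], [4, 3, 1, 0], [4, 3, 2, 0], [4, 2, 1], [3, 2, 1]]),
  ([0], [[0], [1], [2], [3], [4], [5]]),
  ([5, 4, 3, 1], [[0], [6, 4, 2, 0], [6, 3, 2], [4], [4, 2, 1], [6, 5, 3], [6]]),
  ([5, 4, 3, 1], [[0], [6, 3, 1, 0], [6, 4, 1], [3, 2, 1], [3], [6, 5, 4, 2, 1, 0], [6, 4, 3, 2, 1, 0], [7]]),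
  ([8, 7, 2, 1], [[0], [6, 3, 2], [6, 4, 2, 0], [3], [3, 2, 1], [6, 5, 4, 0], [6, 4, 3], [8, 4, 3, 2, 1, 0], [7]]),
  ([4, 2, 0], [[0], [6, 4, 1], [6, 4, 2, 0], [6, 4, 3], [6], [8, 7, 6, 4, 2, 0], [4], [9, 8, 7, 6, 5, 4, 1], [9, 6, 3, 2, 1, 0], [8, 4, 3, 0]]),
  ([6, 4, 2, 1, 0], [[0], [3, 2, 1, 0], [3, 0], [2, 0], [4, 3, 2], [9, 8, 6, 4, 1, 0], [6, 3, 2, 0], [10, 7, 6], [10, 8, 3], [10, 9, 6], [10, 6, 4, 0]])]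

/-- Further fixed points. -/
def auPts : List ℕ := [3359, 1, 3153, 3760, 3245, 3713, 3099, 2772, 3494, 3112, 1872, 3273, 2430, 3025, 2431, 2574, 1963]

/-- The special points and words reaching them. -/
def spPts : List ℕ := [3359, 31, 3153, 3497, 2616, 1]

def spW : List (List ℕ) := [
  [1, 5, 6, 1, 6, 0, 6],
  [5, 6, 3, 0, 2, 6],
  [2, 6, 1, 6, 0, 6],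
  [1, 5, 1, 0, 4, 0, 6],
  [4, 3, 1, 5, 1, 6],
  [6]]

/-- Candidates. -/
def uCand0 : List (List ℕ) := [
  [],
  [5, 1, 0, 2, 5, 1, 0, 2, 0, 2, 3, 1, 0, 4, 3, 0, 4, 0],
  [0, 2, 0, 2, 0, 2, 1, 5, 0, 2, 1, 3, 0, 4, 1, 0]]

/-- Candidates. -/
def uCand1 : List (List ℕ) := [
  [],
  [0, 1, 3, 2, 0, 2, 2, 1, 0, 2, 1, 3, 0, 4, 1, 3],
  [0, 1, 3, 1, 2, 0, 1, 5, 2, 1, 0, 2, 5, 2, 0, 2, 1, 3],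
  [1, 0, 3, 2, 0, 2, 0, 2, 3, 1, 3, 1, 3, 0, 2, 2],
  [1, 0, 3, 1, 4, 0, 4, 3, 0, 1, 5, 0, 1, 5, 1, 3, 2],
  [0, 1, 0, 3, 1, 2, 0, 3, 3, 1, 0, 2, 3, 0, 4, 0, 1, 3],
  [1, 2, 2, 3, 1, 3, 4, 0, 1, 5, 0, 2, 0, 2, 5, 1, 0],
  [4, 0, 1, 5, 1, 2, 5, 1, 3, 0, 4, 0, 4, 0, 4, 1, 3, 0],
  [0, 5, 1, 2, 0, 2, 0, 2, 5, 0, 1, 3, 4, 1, 3, 1, 0, 2],
  [0, 1, 2, 2, 0, 2, 0, 3, 4, 0, 2, 1, 5, 1, 5, 2, 0, 2],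
  [1, 0, 2, 2, 0, 3, 1, 3, 3, 2, 1, 0, 2, 3, 1, 3, 2, 0],
  [1, 2, 0, 1, 3, 4, 0, 4, 0, 2, 5, 1, 3, 1, 3, 1, 5, 0],
  [2, 0, 3, 2, 2, 0, 1, 4, 0, 4, 3, 1, 5, 1, 5, 1, 5, 0],
  [0, 1, 4, 0, 1, 5, 2, 0, 2, 0, 4, 3, 1, 3, 1, 5, 1, 5],
  [0, 3, 1, 0, 2, 5, 1, 3, 1, 3, 1, 0, 4, 0, 2, 0, 1, 3],
  [1, 3, 2, 0, 1, 3, 3, 1, 5, 1, 3, 4, 0, 2, 0, 2, 5, 0],
  [5, 1, 0, 2, 5, 1, 0, 2, 0, 2, 3, 1, 0, 4, 3, 0, 4, 0],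
  [1, 4, 0, 3, 4, 0, 4, 1, 3, 1, 3, 1, 0, 4],
  [0, 1, 5, 1, 2, 0, 1, 3, 2, 1, 0, 2, 0, 2, 3, 1],
  [3, 1, 0, 2, 0, 4, 3, 1, 0, 4, 3, 0, 2, 1, 0, 2, 5, 2],
  [0, 4, 0, 1, 3, 2, 0, 1, 5, 2, 1, 3, 0, 2, 1, 0, 2, 5],
  [1, 0, 2, 3, 1, 3, 1, 0, 2, 3, 3, 1, 3, 2, 0, 2, 0],
  [0, 3, 1, 2, 0, 5, 1, 3, 4, 1, 0, 2, 3, 1, 0, 2, 0],
  [0, 2, 0, 1, 2, 0, 2, 3, 1, 3, 1, 3, 2, 0, 2, 1],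
  [3, 1, 4, 0, 1, 3, 1, 5, 1, 3, 2, 0, 2, 0, 4, 0, 2],
  [1, 0, 2, 5, 1, 2, 0, 4, 1, 3, 2, 1, 3, 0, 2, 1, 5],
  [0, 4, 0, 1, 4, 0, 3, 1, 5, 0, 2, 0, 2, 1, 5, 1, 5, 1],
  [0, 1, 0, 3, 1, 2, 0, 2, 5, 2, 0, 1, 3, 4, 1, 3, 0, 2, 1],
  [2, 0, 3, 4, 0, 2, 1, 5, 0, 2, 1, 5, 1, 3, 2],
  [0, 1, 5, 1, 2, 0, 3, 2, 2, 0, 2, 1, 0, 2, 3, 0, 1, 5, 1],
  [0, 5, 1, 0, 4, 3, 2, 2, 0, 1, 3, 2, 2, 1],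
  [2, 3, 1, 0, 5, 2, 0, 2, 1, 5, 1, 3, 2, 1, 0, 4, 1],
  [0, 2, 0, 2, 0, 2, 1, 5, 0, 2, 1, 3, 0, 4, 1, 0],
  [2, 0, 1, 3, 2, 0, 2, 2, 0, 2, 0, 1, 3, 1, 5, 1, 3, 4],
  [0, 3, 2, 2, 0, 1, 4, 0, 2, 5, 0, 1, 5, 1, 3, 1, 5, 2],
  [1, 0, 2, 5, 1, 0, 5, 2, 0, 2, 0, 2, 1, 5, 2, 1, 0],
  [1, 2, 2, 3, 1, 0, 4, 0, 4, 3, 1, 5, 0, 1, 3, 3, 0, 2],
  [0, 1, 2, 0, 2, 0, 4, 1, 3, 1, 3, 3, 2],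
  [2, 5, 2, 0, 1, 3, 2, 2, 0, 1, 3, 2, 1, 0, 2, 5, 1, 0],
  [0, 2, 5, 1, 0, 3, 2, 1, 0, 2, 1, 5, 1, 3, 2, 1],
  [0, 1, 3, 1, 2, 3, 1, 0, 4, 3, 0, 4, 1, 0, 4, 3, 2, 2],
  [0, 1, 2, 5, 1, 2, 5, 1, 5, 0, 2, 1, 5, 2, 0, 4, 0, 2],
  [5, 1, 0, 4, 0, 2, 0, 2, 1, 3, 0, 2, 1, 5, 1, 3, 1],
  [3, 1, 3, 1, 0, 5, 1, 3, 0, 4, 0, 4, 1, 0, 4, 1, 0],
  [3, 1, 3, 1, 0, 3, 4, 1, 0, 4, 3, 0, 4, 0, 4, 0],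
  [0, 5, 2, 0, 1, 3, 2, 2, 0, 2, 1, 0, 2, 5],
  [0, 2, 0, 4, 3, 1, 0, 3, 3, 2, 0, 1, 3, 2, 1, 5, 2, 1],
  [2, 2, 0, 4, 0, 2, 5, 1, 3, 1, 3, 1, 5, 0, 2, 2]]

/-- Candidates. -/
def uCand2 : List (List ℕ) := [
  [],
  [4, 0, 4, 0, 3, 1, 2, 3, 0, 4, 0, 1, 3, 1, 3, 1, 3, 0],
  [0, 1, 3, 2, 0, 2, 2, 1, 0, 2, 1, 3, 0, 4, 1, 3],
  [1, 5, 1, 2, 0, 1, 5, 2, 0, 1, 3, 1, 5, 2, 2, 0, 2],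
  [0, 1, 3, 1, 2, 0, 1, 5, 2, 1, 0, 2, 5, 2, 0, 2, 1, 3],
  [0, 2, 0, 2, 0, 1, 3, 2, 1, 5, 1, 3, 2, 0, 1, 3],
  [1, 0, 3, 2, 0, 2, 0, 2, 3, 1, 3, 1, 3, 0, 2, 2],
  [0, 2, 0, 1, 3, 4, 0, 1, 3, 0, 1, 5, 1, 3, 3, 2],
  [1, 0, 3, 1, 4, 0, 4, 3, 0, 1, 5, 0, 1, 5, 1, 3, 2],
  [2, 2, 0, 1, 2, 0, 4, 3, 0, 4, 1, 3, 1, 3, 0, 1, 5, 1],
  [0, 1, 0, 3, 1, 2, 0, 3, 3, 1, 0, 2, 3, 0, 4, 0, 1, 3],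
  [1, 0, 2, 0, 2, 0, 1, 5, 1, 5, 1, 0, 2, 5, 2, 1],
  [1, 2, 2, 3, 1, 3, 4, 0, 1, 5, 0, 2, 0, 2, 5, 1, 0],
  [2, 3, 1, 4, 0, 3, 2, 1, 0, 2, 1, 3, 0, 1, 5, 1],
  [4, 0, 1, 5, 1, 2, 5, 1, 3, 0, 4, 0, 4, 0, 4, 1, 3, 0],
  [1, 5, 1, 2, 3, 1, 0, 2, 2, 0, 4, 0, 2, 1, 3],
  [0, 5, 1, 2, 0, 2, 0, 2, 5, 0, 1, 3, 4, 1, 3, 1, 0, 2],
  [0, 2, 0, 1, 2, 0, 2, 3, 3, 1, 3, 0, 1, 3, 1, 3, 2, 2],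
  [0, 1, 2, 2, 0, 2, 0, 3, 4, 0, 2, 1, 5, 1, 5, 2, 0, 2],
  [1, 0, 5, 1, 5, 2, 0, 4, 0, 2, 1, 3, 1, 0, 2, 0],
  [1, 0, 2, 2, 0, 3, 1, 3, 3, 2, 1, 0, 2, 3, 1, 3, 2, 0],
  [1, 3, 1, 5, 2, 0, 1, 3, 4, 1, 0, 4, 0, 2, 5, 1, 0, 4],
  [1, 2, 0, 1, 3, 4, 0, 4, 0, 2, 5, 1, 3, 1, 3, 1, 5, 0],
  [0, 2, 0, 4, 3, 1, 0, 2, 3, 1, 3, 2, 2, 0, 1, 5, 2, 0],
  [2, 0, 3, 2, 2, 0, 1, 4, 0, 4, 3, 1, 5, 1, 5, 1, 5, 0],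
  [0, 3, 1, 2, 0, 2, 2, 3, 0, 1, 3, 4, 0, 2, 1, 0, 2],
  [0, 1, 4, 0, 1, 5, 2, 0, 2, 0, 4, 3, 1, 3, 1, 5, 1, 5],
  [3, 2, 0, 1, 3, 4, 0, 1, 3, 4, 1, 3, 2, 0, 1],
  [0, 3, 1, 0, 2, 5, 1, 3, 1, 3, 1, 0, 4, 0, 2, 0, 1, 3],
  [1, 3, 1, 2, 3, 3, 1, 3, 0, 1, 3, 4, 0, 2, 0, 4, 1],
  [1, 3, 2, 0, 1, 3, 3, 1, 5, 1, 3, 4, 0, 2, 0, 2, 5, 0],
  [2, 3, 1, 0, 2, 0, 4, 3, 0, 1, 5, 1, 3, 1, 0, 2, 5, 0],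
  [5, 1, 0, 2, 5, 1, 0, 2, 0, 2, 3, 1, 0, 4, 3, 0, 4, 0],
  [0, 2, 3, 1, 3, 4, 0, 4, 1, 0, 2, 5, 1, 3, 2, 2, 1, 0],
  [1, 4, 0, 3, 4, 0, 4, 1, 3, 1, 3, 1, 0, 4],
  [4, 0, 4, 3, 1, 0, 4, 3, 1, 3, 0, 4, 1, 0, 2],
  [0, 1, 5, 1, 2, 0, 1, 3, 2, 1, 0, 2, 0, 2, 3, 1],
  [5, 2, 0, 2, 0, 1, 2, 5, 1, 3, 1, 0, 2, 5, 1, 5, 2],
  [3, 1, 0, 2, 0, 4, 3, 1, 0, 4, 3, 0, 2, 1, 0, 2, 5, 2],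
  [0, 1, 2, 0, 1, 2, 0, 2, 5, 0, 1, 3, 0, 1, 5, 1, 5],
  [0, 4, 0, 1, 3, 2, 0, 1, 5, 2, 1, 3, 0, 2, 1, 0, 2, 5],
  [2, 2, 0, 3, 1, 5, 1, 5, 1, 3, 4, 0, 2, 0, 2, 2],
  [1, 0, 2, 3, 1, 3, 1, 0, 2, 3, 3, 1, 3, 2, 0, 2, 0],
  [0, 2, 0, 2, 3, 1, 5, 0, 1, 5, 0, 2, 0, 2, 1, 5, 1],
  [0, 3, 1, 2, 0, 5, 1, 3, 4, 1, 0, 2, 3, 1, 0, 2, 0],
  [0, 5, 1, 0, 2, 0, 2, 0, 4, 1, 3, 1, 3, 0, 1, 3, 1],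
  [0, 2, 0, 1, 2, 0, 2, 3, 1, 3, 1, 3, 2, 0, 2, 1],
  [0, 5, 1, 5, 2, 0, 2, 1, 0, 2, 5, 2],
  [3, 1, 4, 0, 1, 3, 1, 5, 1, 3, 2, 0, 2, 0, 4, 0, 2],
  [2, 5, 1, 5, 2, 0, 1, 5, 2, 1, 3, 1, 0, 2, 0, 2, 3, 0],
  [1, 0, 2, 5, 1, 2, 0, 4, 1, 3, 2, 1, 3, 0, 2, 1, 5],
  [3, 1, 4, 0, 2, 5, 1, 0, 4, 0, 2, 0, 2, 3, 1, 0],
  [0, 4, 0, 1, 4, 0, 3, 1, 5, 0, 2, 0, 2, 1, 5, 1, 5, 1],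
  [1, 3, 1, 2, 5, 1, 5, 2, 0, 4, 0, 2, 0, 2, 3, 1],
  [0, 1, 0, 3, 1, 2, 0, 2, 5, 2, 0, 1, 3, 4, 1, 3, 0, 2, 1],
  [0, 1, 0, 3, 2, 0, 2, 0, 2, 1, 3, 1, 0, 2, 3, 3],
  [2, 0, 3, 4, 0, 2, 1, 5, 0, 2, 1, 5, 1, 3, 2],
  [1, 2, 3, 3, 1, 5, 1, 0, 4, 0, 4, 0, 4, 3, 1, 3, 2, 0],
  [0, 1, 5, 1, 2, 0, 3, 2, 2, 0, 2, 1, 0, 2, 3, 0, 1, 5, 1],
  [1, 3, 3, 1, 5, 2, 1, 5, 1, 5, 1, 0],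
  [0, 5, 1, 0, 4, 3, 2, 2, 0, 1, 3, 2, 2, 1],
  [0, 1, 2, 3, 1, 5, 2, 1, 0, 2, 2, 0, 2, 3, 1, 3, 1],
  [2, 3, 1, 0, 5, 2, 0, 2, 1, 5, 1, 3, 2, 1, 0, 4, 1],
  [4, 0, 1, 2, 5, 1, 0, 4, 3, 0, 2, 1, 3, 1, 3, 0, 1],
  [0, 2, 0, 2, 0, 2, 1, 5, 0, 2, 1, 3, 0, 4, 1, 0],
  [1, 3, 1, 4, 0, 4, 3, 0, 1, 3, 0, 2, 1, 3, 0, 4, 0],
  [2, 0, 1, 3, 2, 0, 2, 2, 0, 2, 0, 1, 3, 1, 5, 1, 3, 4],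
  [3, 1, 0, 4, 0, 3, 2, 0, 2, 1, 5, 0, 1, 5, 0, 2, 2, 1],
  [0, 3, 2, 2, 0, 1, 4, 0, 2, 5, 0, 1, 5, 1, 3, 1, 5, 2],
  [3, 3, 1, 0, 3, 2, 1, 3, 0, 2, 2, 0, 1, 3, 4],
  [1, 0, 2, 5, 1, 0, 5, 2, 0, 2, 0, 2, 1, 5, 2, 1, 0],
  [4, 0, 2, 0, 4, 0, 3, 1, 5, 1, 3, 2, 1, 0, 2, 1, 5],
  [1, 2, 2, 3, 1, 0, 4, 0, 4, 3, 1, 5, 0, 1, 3, 3, 0, 2],
  [1, 3, 2, 2, 0, 2, 1, 3, 3, 1, 0, 4],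
  [0, 1, 2, 0, 2, 0, 4, 1, 3, 1, 3, 3, 2],
  [2, 2, 0, 2, 3, 1, 5, 0, 2, 0, 1, 3, 2, 1, 5, 0, 2],
  [2, 5, 2, 0, 1, 3, 2, 2, 0, 1, 3, 2, 1, 0, 2, 5, 1, 0],
  [0, 2, 2, 5, 1, 2, 0, 4, 0, 2, 0, 2, 3, 1, 3, 1, 3, 4, 0],
  [0, 2, 5, 1, 0, 3, 2, 1, 0, 2, 1, 5, 1, 3, 2, 1],
  [1, 0, 2, 5, 2, 0, 1, 5, 2, 0, 1, 3, 4, 0, 4, 3],
  [0, 1, 3, 1, 2, 3, 1, 0, 4, 3, 0, 4, 1, 0, 4, 3, 2, 2],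
  [5, 1, 5, 1, 2, 3, 0, 2, 0, 1, 5, 1, 5, 2, 0, 2],
  [0, 1, 2, 5, 1, 2, 5, 1, 5, 0, 2, 1, 5, 2, 0, 4, 0, 2],
  [0, 2, 5, 1, 0, 5, 2, 0, 1, 5, 2, 0, 2, 3, 1, 0, 2],
  [5, 1, 0, 4, 0, 2, 0, 2, 1, 3, 0, 2, 1, 5, 1, 3, 1],
  [0, 1, 4, 3, 1, 0, 4, 0, 4, 3, 0, 1, 3, 3, 1, 3, 2],
  [3, 1, 3, 1, 0, 5, 1, 3, 0, 4, 0, 4, 1, 0, 4, 1, 0],
  [0, 2, 2, 5, 2, 0, 4, 0, 4, 0, 1, 5, 2, 1, 5, 0, 1, 5],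
  [3, 1, 3, 1, 0, 3, 4, 1, 0, 4, 3, 0, 4, 0, 4, 0],
  [0, 3, 2, 0, 1, 2, 3, 1, 3, 1, 5, 1, 0, 2, 0, 2, 0, 4],
  [0, 5, 2, 0, 1, 3, 2, 2, 0, 2, 1, 0, 2, 5],
  [1, 2, 0, 3, 4, 0, 1, 3, 2, 1, 0, 4, 1, 3, 1, 0],
  [0, 2, 0, 4, 3, 1, 0, 3, 3, 2, 0, 1, 3, 2, 1, 5, 2, 1],
  [1, 2, 0, 1, 3, 1, 5, 2, 2, 1, 0, 4, 3, 0, 2, 1, 3],
  [2, 2, 0, 4, 0, 2, 5, 1, 3, 1, 3, 1, 5, 0, 2, 2],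
  [2, 0, 2, 5, 2, 1, 0, 4, 3, 1, 3, 0]]

/-- The cases: kind, two numbers and words in the five letters. -/
def uCases : List (ℕ × ℕ × ℕ × List (List ℕ)) := [
  (2, 0, 0, []),
  (1, 0, 0, [[12, 9, 9, 12, 8, 8, 8, 12, 9, 10, 9], [13, 10, 8, 12, 8, 12, 9, 9, 9], [12, 8, 12, 9, 10, 9, 12, 8, 8, 12, 8, 8], [13, 8, 8, 8, 12, 9, 12, 9, 10], [13, 9, 12, 9, 9, 9, 12, 8, 12], [9, 10, 9, 12, 8, 8, 12, 8, 10]]),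
  (0, 9, 0, [[12, 9, 13, 9, 9, 12, 8, 13, 9, 12]]),
  (0, 7, 0, [[12, 9, 13, 8, 8, 12, 10, 8, 13, 10, 9, 12]]),
  (0, 7, 0, [[12, 12, 9, 10, 8, 12, 9, 11, 9, 13, 8, 8, 8, 12]]),
  (0, 7, 0, [[12, 9, 9, 13, 8, 12, 9, 11, 9, 13, 8, 12]]),
  (0, 7, 0, [[12, 8, 8, 12, 12, 8, 12, 8, 12, 9, 12, 9, 13, 9, 13, 11]]),
  (0, 7, 0, [[12, 8, 13, 9, 12, 9, 9, 9, 13, 8, 10, 8, 12, 8]]),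
  (1, 2, 0, [[13, 9, 12, 8, 12, 9, 12, 9, 9], [9, 12, 8, 10, 9, 12, 8, 10, 9, 12], [8, 10, 8, 12, 8, 10, 8, 12, 8, 12, 10], [12, 10, 8, 12, 8, 12, 9, 10, 8], [12, 9, 9, 12, 8, 8, 12, 10, 9, 10], [9, 10, 8, 12, 9, 12, 9, 12, 9, 10, 9]]),
  (0, 7, 0, [[12, 8, 12, 9, 10, 8, 12, 8, 12, 8, 8, 8, 13, 9, 12, 8, 12, 10, 9, 12, 8, 10]]),
  (0, 9, 0, [[12, 12, 9, 9, 12, 9, 9, 13, 8, 12]]),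
  (0, 7, 0, [[9, 10, 13, 8, 10, 12, 8, 13, 8, 8, 13, 10, 8, 12, 8, 13]]),
  (0, 7, 0, [[13, 8, 10, 8, 12, 9, 13, 8, 12, 10, 9, 13, 9]]),
  (0, 7, 0, [[13, 8, 12, 9, 13, 9, 9, 9, 12, 8, 10, 8, 13, 8]]),
  (0, 7, 0, [[12, 12, 8, 12, 10, 9, 13, 9, 10, 9, 12, 9]]),
  (0, 7, 0, [[13, 8, 11, 9, 12, 8, 13, 8, 8, 12, 9, 13]]),
  (0, 7, 0, [[12, 12, 8, 13, 10, 9, 12, 9, 10, 9, 13, 9]]),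
  (0, 7, 0, [[12, 12, 8, 12, 8, 13, 8, 12, 12, 8, 10, 8, 13, 9, 12, 8]]),
  (0, 7, 0, [[9, 13, 9, 12, 8, 13, 8, 13, 10, 8, 13, 9, 13, 9, 12]]),
  (0, 7, 0, [[12, 9, 13, 8, 13, 9, 12, 9, 9, 12, 8, 13, 9, 11]]),
  (0, 7, 0, [[10, 9, 12, 9, 12, 8, 10, 8, 12, 8, 8, 10, 13, 9, 12, 8, 10, 8, 12, 8, 8, 12, 10, 9, 12]]),
  (0, 7, 0, [[9, 9, 12, 8, 8, 12, 9, 12, 9, 9, 12, 10, 9, 12, 10, 9, 12, 9, 12, 10, 9, 12]]),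
  (0, 7, 0, [[13, 9, 10, 8, 12, 9, 13, 8, 12, 9, 10, 8, 13]]),
  (0, 7, 0, [[12, 8, 13, 9, 12, 8, 8, 13, 9, 11, 8, 12]]),
  (1, 1, 0, [[12, 8, 8, 8, 12, 9, 9, 12], [13, 9, 10, 8, 12, 8, 10, 9, 12, 9], [12, 9, 12, 8, 12, 10, 9, 12, 9], [11, 9, 9, 12, 9, 12, 8, 8, 10], [9, 9, 12, 8, 8, 8, 12, 8, 8], [9, 9, 13, 10, 8, 12, 8, 10]]),
  (0, 7, 0, [[10, 12, 9, 10, 12, 8, 12, 8, 8, 10, 13, 9, 12, 9, 12, 8, 12, 8, 12, 8, 12, 9, 12]]),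
  (0, 7, 0, [[12, 9, 10, 8, 13, 9, 12, 8, 13, 9, 10, 8, 12]]),
  (0, 7, 0, [[12, 12, 8, 13, 9, 12, 8, 12, 12, 8, 10, 8, 12, 8, 13, 8]]),
  (0, 9, 0, [[12, 12, 9, 9, 13, 9, 9, 12, 8, 13]]),
  (0, 7, 0, [[13, 8, 12, 8, 8, 13, 11, 8, 12, 10, 8, 13]]),
  (0, 7, 0, [[12, 8, 13, 9, 10, 9, 12, 9, 9, 13, 8, 12, 8, 13, 9]]),
  (0, 7, 0, [[9, 10, 13, 8, 12, 8, 8, 8, 13, 9, 12, 11, 9, 13]]),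
  (0, 4, 0, [[13, 13]]),
  (0, 7, 0, [[10, 12, 9, 12, 8, 8, 13, 9, 9, 13, 9, 9, 13, 8, 8, 12]]),
  (0, 7, 0, [[13, 8, 10, 9, 12, 9, 12, 9, 12, 8, 13, 9, 9, 9, 13, 8]]),
  (0, 7, 0, [[9, 13, 8, 10, 13, 13, 9, 12, 9, 12, 9, 11, 8, 13, 10]]),
  (0, 7, 0, [[12, 8, 13, 8, 12, 8, 11, 8, 13, 10, 8, 12]]),
  (0, 4, 0, [[12]]),
  (0, 7, 0, [[13, 9, 12, 9, 13, 8, 13, 8, 8, 8, 12, 8, 12, 10, 8, 13]]),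
  (0, 7, 0, [[9, 13, 9, 12, 8, 13, 8, 8, 12, 8, 10, 9, 13, 10]]),
  (0, 7, 0, [[13, 8, 8, 12, 8, 13, 11, 8, 12, 8, 10, 8, 13]]),
  (0, 7, 0, [[13, 8, 12, 9, 13, 9, 9, 9, 12, 8, 10, 8, 13, 8]]),
  (0, 7, 0, [[12, 9, 12, 9, 9, 13, 9, 9, 12, 9, 9, 13]]),
  (0, 7, 0, [[10, 12, 8, 13, 9, 12, 9, 11, 8, 13, 10, 9, 12]]),
  (1, 2, 0, [[11, 8, 12, 8, 10, 8], [11, 9, 12, 9, 9, 13, 10, 8], [9, 13, 8, 10, 8, 13, 13, 8], [9, 12, 11, 8, 13, 13, 8, 10, 8], [13, 8, 8, 12, 9, 12, 8], [9, 13, 10, 8, 12, 12, 10]]),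
  (0, 7, 0, [[13, 9, 13, 9, 13, 9, 12, 8, 8, 13, 9, 12, 8, 8, 8, 13]]),
  (0, 7, 0, [[12, 8, 12, 8, 13, 9, 12, 9, 9, 12, 9, 13, 9, 13, 10, 9, 13, 8]]),
  (1, 1, 0, [[9, 12, 8, 11], [13, 10, 9, 13, 9, 13, 9], [13, 10, 9, 13, 13, 9, 10, 9], [13, 8, 8, 13, 13, 13, 8, 8], [13, 13, 13, 8, 12, 8], [12, 12, 9, 9, 13, 8, 11, 8]]),
  (0, 7, 0, [[12, 9, 10, 9, 12, 8, 13, 8, 12, 8, 13, 9, 11]]),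
  (0, 7, 0, [[12, 8, 10, 8, 13, 8, 8, 12, 8, 13, 9, 12]]),
  (0, 7, 0, [[9, 12, 9, 13, 8, 12, 9, 12, 10, 9, 12, 8, 13, 9, 12, 10]]),
  (0, 7, 0, [[11, 13, 8, 12, 12, 8, 12, 12, 9, 9, 13, 8, 13, 8]]),
  (0, 7, 0, [[11, 12, 8, 8, 13, 8, 13, 9, 9, 13, 13, 8, 13, 8, 13]]),
  (0, 7, 0, [[13, 8, 10, 9, 12, 9, 13, 9, 12, 9, 11, 9, 13]]),
  (0, 7, 0, [[9, 10, 13, 8, 12, 8, 8, 8, 13, 9, 12, 11, 9, 13]]),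
  (0, 7, 0, [[10, 9, 12, 9, 13, 8, 8, 12, 9, 13, 8, 12, 9, 13]]),
  (0, 7, 0, [[10, 13, 8, 13, 9, 9, 12, 8, 12, 9, 13, 8, 12, 8]]),
  (0, 7, 0, [[9, 12, 9, 13, 9, 13, 8, 8, 13, 8, 11, 8, 12, 9, 9, 12]]),
  (1, 0, 0, [[12, 9, 12, 11, 9, 10], [8, 8, 12, 8, 8, 13, 8, 8], [13, 8, 8, 12, 10, 8, 12, 10], [13, 8, 12, 10, 10], [12, 8, 11, 8, 13, 8, 8, 12], [9, 9, 13, 8, 12, 9]]),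
  (1, 0, 0, [[9, 11, 9, 12, 10, 8], [12, 8, 13], [12, 11, 9, 9, 13, 9, 9], [12, 12, 10, 8, 13, 13, 10], [13, 10, 9, 13, 8, 10], [8, 8, 12, 8, 13, 13]]),
  (1, 2, 0, [[13, 13, 9, 9, 12, 9, 9], [13, 8, 10, 9, 12, 10, 9, 9], [8, 8, 12, 8, 13, 11, 8, 8], [11, 8, 12, 8, 12, 10, 8], [12, 11, 8, 13, 10, 8, 8, 12, 8], [9, 12, 10, 9, 12, 10, 8, 8]]),
  (0, 7, 0, [[13, 9, 12, 8, 8, 13, 10, 8, 12, 10, 9, 13]]),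
  (0, 7, 0, [[9, 10, 13, 9, 10, 12, 8, 12, 8, 10, 9, 13, 13, 8, 13]]),
  (1, 1, 0, [[8, 12, 9, 10, 8, 12, 8, 10, 8], [8, 8, 8, 12, 8, 13, 8], [8, 8, 13, 8, 12, 11, 8, 13], [8, 13, 9, 10, 8, 12, 10, 9], [13, 8, 13, 11, 8, 13, 9, 13, 10], [8, 8, 13, 9, 9, 12, 12, 8]]),
  (0, 7, 0, [[13]]),
  (0, 7, 0, [[10, 13, 8, 12, 9, 13, 9, 11, 8, 12, 10, 9, 13]]),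
  (0, 7, 0, [[13, 8, 13, 8, 12, 8, 13, 8, 13, 10, 8, 13, 8, 12, 8]]),
  (0, 7, 0, [[9, 12, 8, 11, 13, 9, 13, 8, 12, 9, 13, 8, 13]]),
  (0, 7, 0, [[12, 9, 9, 13, 8, 12, 9, 11, 9, 13, 8, 12]]),
  (0, 7, 0, [[9, 12, 9, 13, 8, 8, 12, 8, 13, 9, 9, 13, 11, 9, 13, 8, 13, 9, 13]]),
  (0, 4, 0, [[12, 12]]),
  (0, 7, 0, [[13, 9, 10, 9, 13, 8, 12, 8, 13, 8, 12, 9, 11]]),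
  (1, 2, 0, [[10, 9, 13, 8, 10, 8], [11, 9, 13, 8, 8, 12, 10, 8], [9, 12, 9, 11, 8, 12, 12, 8], [9, 13, 10, 8, 12, 12, 8, 10, 8], [9, 9, 12, 11, 8, 13, 10, 8, 8], [9, 12, 11, 8, 13, 13, 10]]),
  (0, 7, 0, [[12, 8, 10, 9, 13, 8, 13, 9, 13, 9, 12, 9, 9, 9, 12, 8]]),
  (0, 7, 0, [[9, 13, 9, 9, 9, 12, 8, 8, 13, 8, 12, 9, 9, 13]]),
  (0, 7, 0, [[10, 13, 8, 12, 8, 8, 13, 8, 8, 13, 9, 9, 13, 9, 9, 12]]),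
  (0, 7, 0, [[9, 9, 12, 8, 13, 10, 9, 9, 12, 8, 13, 8, 12]]),
  (0, 7, 0, [[9, 10, 12, 8, 13, 8, 8, 8, 12, 9, 13, 11, 9, 12]]),
  (0, 7, 0, [[10, 13, 8, 8, 12, 9, 12, 9, 9, 12, 12, 8, 12, 9, 12]]),
  (0, 7, 0, [[12, 9, 10, 8, 13, 9, 12, 8, 13, 9, 10, 8, 12]]),
  (0, 7, 0, [[12, 9, 10, 12, 8, 10, 8, 12, 8, 13, 10, 9, 13, 8, 13]]),
  (0, 7, 0, [[12, 8, 10, 12, 12, 9, 13, 11, 9, 13, 9, 10, 8, 12, 9]]),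
  (1, 0, 0, [[13, 10, 9, 13, 9, 10], [8, 8, 13, 8, 8, 8, 12, 8, 8], [12, 11, 8, 8, 13, 9, 13], [12, 10, 9, 13, 10], [9, 12, 8, 12, 9, 9, 12, 8, 8], [9, 9, 12, 11, 8, 13, 10, 9]]),
  (1, 0, 0, [[9, 10, 8, 13, 8], [13, 10, 8, 12, 10], [13, 8, 13, 9, 9, 13, 8], [13, 13, 10, 8, 12, 12, 10], [12, 8, 12, 11, 8, 10], [12, 8, 13, 10, 8, 8, 12]]),
  (0, 7, 0, [[10, 9, 13, 8, 12, 8, 8, 13, 8, 12, 8, 13, 8, 12]]),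
  (1, 2, 0, [[12, 8, 13, 11, 8, 13], [9, 13, 8, 12, 8, 12, 11, 8], [8, 8, 13, 11, 9, 12, 8, 8], [10, 9, 13, 10, 9, 13, 8], [13, 8, 12, 8, 8, 13, 10, 8], [9, 13, 8, 13, 8, 8]]),
  (0, 7, 0, [[9, 12, 9, 13, 8, 12, 8, 8, 13, 8, 10, 9, 12, 10]]),
  (0, 7, 0, [[12, 9, 13, 9, 12, 8, 12, 8, 8, 8, 13, 8, 13, 10, 8, 12]]),
  (1, 1, 0, [[8, 12, 9, 9, 13, 9, 9, 13], [8, 8, 8, 13, 9, 12, 8], [8, 8, 12, 9, 13, 10, 9, 12], [13, 8, 12, 8, 8, 12, 9, 9], [8, 12, 8, 13, 9, 9, 9, 12, 9], [13, 9, 11, 9, 12, 9, 10, 9]]),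
  (0, 7, 0, [[10, 12, 8, 12, 8, 8, 13, 8, 13, 8, 12, 8, 13, 8]]),
  (0, 7, 0, [[9, 12, 8, 13, 8, 13, 8, 8, 12, 9, 12, 11, 9, 9, 13]]),
  (0, 7, 0, [[13, 8, 12, 8, 13, 8, 11, 8, 12, 10, 8, 13]]),
  (0, 7, 0, [[9, 13, 9, 12, 9, 12, 8, 8, 12, 8, 11, 8, 13, 9, 9, 13]]),
  (0, 7, 0, [[9, 10, 12, 9, 10, 13, 8, 13, 8, 10, 9, 12, 12, 8, 12]]),
  (0, 7, 0, [[12, 8, 13, 9, 12, 9, 9, 9, 13, 8, 10, 8, 12, 8]]),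
  (1, 1, 0, [[9, 13, 8, 11], [12, 10, 9, 12, 9, 12, 9], [12, 10, 9, 12, 12, 9, 10, 9], [12, 8, 8, 12, 12, 12, 8, 8], [12, 12, 12, 8, 13, 8], [13, 13, 9, 9, 12, 8, 11, 8]])]

end Cfsg.Agent.Lib.RuUnique.Data
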