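import Cfsg.Agent.Lib.RuUnique.DataLines
import Cfsg.Agent.Lib.RuUnique.DataVec
import Cfsg.Agent.Lib.RuUnique.DataOrbits
import Cfsg.Agent.Lib.RuUnique.DataMasks
import Cfsg.Agent.Lib.RuUnique.DataWords

/-!
Functions for the certificate of the Rudvalis group on 4060 points.  Sets of points are bit sets.
-/

set_option autoImplicit false
set_option linter.all false
set_option maxRecDepth 100000

noncomputable section

namespace Cfsg.Agent.Lib.RuUnique

open Cfsg.Agent.CosetCert

/-- Membership in a bit set. -/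
def bit (m i : ℕ) : Bool := Nat.beq (Nat.land (Nat.shiftRight m i) 1) 1

/-- All numbers below `n` satisfy `f`. -/
def allUpto (f : ℕ → Bool) (n : ℕ) : Bool :=
  Nat.rec (motive := fun _ => Bool) true (fun i ih => f i && ih) n

/-- All numbers in `[a, a + n)` satisfy `f`. -/
def allFrom (f : ℕ → Bool) (a n : ℕ) : Bool := allUpto (fun i => f (Nat.add a i)) n

/-- The number of elements below `n`. -/
def cntUpto (f : ℕ → Bool) (n : ℕ) : ℕ :=
  Nat.rec (motive := fun _ => ℕ) 0 (fun i ih => cond (f i) (Nat.succ ih) ih) n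

/-- The set of the values. -/
def maskOf (f : ℕ → ℕ) (n : ℕ) : ℕ :=
  Nat.rec (motive := fun _ => ℕ) 0 (fun i ih => Nat.lor (Nat.shiftLeft 1 (f i)) ih) n

/-- The set of the numbers below `n` with a property. -/
def selMask (f : ℕ → Bool) (n : ℕ) : ℕ :=
  Nat.rec (motive := fun _ => ℕ) 0 (fun i ih => cond (f i) (Nat.lor (Nat.shiftLeft 1 i) ih) ih) n

/-- The line of a short vector. -/
def lineOf (v : ℕ) : ℕ :=
  Nat.land (Nat.shiftRight (Data.lineT.get (Nat.shiftRight v 4)) (Nat.mul 12 (Nat.land v 15))) 4095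

/-- A short vector of a line. -/
def repOf (c : ℕ) : ℕ :=
  Nat.land (Nat.shiftRight (Data.repT.get (Nat.shiftRight c 4)) (Nat.mul 14 (Nat.land c 15))) 16383

/-- The image of a point under a letter. -/
def tgt (a c : ℕ) : ℕ :=
  Nat.land (Nat.shiftRight (Data.tabL.get (Nat.shiftRight c 3))
    (Nat.add (Nat.mul 144 (Nat.land c 7)) (Nat.mul 12 a))) 4095

/-- A word acts, last letter first. -/
def runW (w : List ℕ) (c : ℕ) : ℕ := List.rec (motive := fun _ => ℕ) c (fun a _ ih => tgt a ih) w

/-- The inverse of a letter. -/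
def invL (a : ℕ) : ℕ := [0, 1, 4, 5, 2, 3, 7, 6, 9, 8, 11, 10].getD a a

/-- The inverse of a word. -/
def invW (w : List ℕ) : List ℕ := (w.reverse).map invL

/-- Letters below `k`. -/
def lettOK (k : ℕ) (w : List ℕ) : Bool := w.all fun a => Nat.blt a k

/-- Letters fixing the first point. -/
def hWord (w : List ℕ) : Bool := w.all fun a => Nat.blt a 6 || (Nat.ble 8 a && Nat.blt a 12)

/-- The points telling the elements of the stabiliser apart. -/
def kp0 : ℕ := Data.levGP.getD 0 0
def kp1 : ℕ := Data.levGP.getD 1 0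
def kp2 : ℕ := Data.levGP.getD 2 0
def kp3 : ℕ := Data.levGP.getD 3 0

/-- The images of those points, packed. -/
def keyOf (w : List ℕ) : ℕ :=
  Nat.add (runW w kp0) (Nat.mul 4096 (Nat.add (runW w kp1) (Nat.mul 4096
    (Nat.add (runW w kp2) (Nat.mul 4096 (runW w kp3))))))

/-! ### Orbits -/

/-- The point of an entry. -/
def rPt (t : Tree) (i : ℕ) : ℕ := Nat.land (t.get i) 4095
def rPar (t : Tree) (i : ℕ) : ℕ := Nat.land (Nat.shiftRight (t.get i) 12) 4095
def rGen (t : Tree) (i : ℕ) : ℕ := Nat.shiftRight (t.get i) 24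

/-- An entry is the image of an earlier one. -/
def stepROK (gens : List (List ℕ)) (t : Tree) (i : ℕ) : Bool :=
  Nat.blt (rPt t i) 4060 && (Nat.beq i 0 ||
    (Nat.blt (rPar t i) i && Nat.blt (rGen t i) gens.length &&
      Nat.beq (runW (getWord gens (rGen t i)) (rPt t (rPar t i))) (rPt t i)))

/-- A list reached from its first point. -/
def reachOK (gens : List (List ℕ)) (t : Tree) (n : ℕ) : Bool :=
  gens.all (lettOK 12) && allUpto (stepROK gens t) n &&
    Nat.beq (cntUpto (bit (maskOf (rPt t) n)) 4060) n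

/-- The list is closed. -/
def closedOK (gens : List (List ℕ)) (t : Tree) (n : ℕ) : Bool :=
  gens.all fun w => allUpto (fun i => bit (maskOf (rPt t) n) (runW w (rPt t i))) n

/-- The word leading from the first point to an entry. -/
def pathW (t : Tree) (gens : List (List ℕ)) : ℕ → ℕ → List ℕ
  | 0, _ => []
  | d + 1, i => cond (Nat.beq i 0) [] (getWord gens (rGen t i) ++ pathW t gens d (rPar t i))

/-- The orbit with a number. -/
def orbAt (l : List (Tree × ℕ)) (k : ℕ) : Tree × ℕ := l.getD k (.leaf 0, 0)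

def orbMask (o : Tree × ℕ) : ℕ := maskOf (rPt o.1) o.2

/-- The union of the orbits selected by the bits. -/
def unionM (l : List (Tree × ℕ)) (s n : ℕ) : ℕ :=
  Nat.rec (motive := fun _ => ℕ) 0
    (fun k ih => Bool.rec (motive := fun _ => ℕ) ih (Nat.lor (orbMask (orbAt l k)) ih) (bit s k)) n

/-- The total length of the orbits selected. -/
def unionLen (l : List (Tree × ℕ)) (s n : ℕ) : ℕ :=
  Nat.rec (motive := fun _ => ℕ) 0
    (fun k ih => Bool.rec (motive := fun _ => ℕ) ih (Nat.add (orbAt l k).2 ih) (bit s k)) n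

/-- The list consists of orbits of the generators and covers a set. -/
def orbitsOK (gens : List (List ℕ)) (l : List (Tree × ℕ)) (n m : ℕ) : Bool :=
  allUpto (fun k => reachOK gens (orbAt l k).1 (orbAt l k).2) n &&
    allUpto (fun s => Nat.beq (cntUpto (bit (unionM l s n)) 4060) (unionLen l s n)) (2 ^ n) &&
    Nat.beq (unionM l (2 ^ n - 1) n) m

def hGens : List (List ℕ) := [[0], [1], [2], [3]]

/-- The eight letters used for all points. -/
def tGens : List (List ℕ) := [[0], [1], [2], [3], [4], [5], [6], [7]]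

def maskN : ℕ := maskOf (rPt Data.orbN) 1755
def maskF : ℕ := maskOf (rPt Data.orbF) 2304

/-! ### Rows -/

def spPt (k : ℕ) : ℕ := Data.spPts.getD k 0
def spWord (k : ℕ) : List ℕ := getWord Data.spW k

def rowM (k : ℕ) : ℕ := Data.rowT.get k

/-- The row is the set of the points carried into the neighbours of the first point. -/
def rowOKk (k : ℕ) : Bool :=
  lettOK 12 (spWord k) && Nat.beq (runW (spWord k) 0) (spPt k) && Nat.blt (spPt k) 4060 &&
    Nat.beq (rowM k) (selMask (fun c => bit maskN (runW (invW (spWord k)) c)) 4060)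

/-- The common neighbours among the first suborbit. -/
def comN (k : ℕ) : ℕ := cntUpto (bit (Nat.land (Nat.land (rowM 0) (rowM k)) maskN)) 4060

/-! ### The octagon -/

def nbAt (c j : ℕ) : ℕ :=
  Nat.land (Nat.shiftRight (Data.nbT.get (Nat.shiftRight c 3))
    (Nat.add (Nat.mul 120 (Nat.land c 7)) (Nat.mul 12 j))) 4095

def nbM (c : ℕ) : ℕ := maskOf (nbAt c) 10

/-- The neighbours of an entry are the images of those of its parent. -/
def nbStepOK (i : ℕ) : Bool :=
  Nat.beq i 0 || allUpto (fun j => Nat.beq (nbAt (rPt Data.orbN i) j)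
    (runW (getWord hGens (rGen Data.orbN i)) (nbAt (rPt Data.orbN (rPar Data.orbN i)) j))) 10

def auPt (i : ℕ) : ℕ := Data.auPts.getD i 0

def sphM (i k : ℕ) : ℕ := Data.sphT.get (Nat.add (Nat.mul 5 i) k)

/-- The points of the balls. -/
def ballM (i k : ℕ) : ℕ :=
  Nat.rec (motive := fun _ => ℕ) (sphM i 0) (fun j ih => Nat.lor (sphM i (Nat.succ j)) ih) k

/-- The points next to a set. -/
def nextM (m : ℕ) : ℕ :=
  Nat.rec (motive := fun _ => ℕ) 0 (fun c ih => cond (bit m c) (Nat.lor (nbM c) ih) ih) 4060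

/-- The sphere after a sphere. -/
def sphNextOK (i k : ℕ) : Bool :=
  Nat.beq (sphM i (Nat.succ k)) (Nat.xor (Nat.lor (nextM (sphM i k)) (ballM i k)) (ballM i k))

def sphOK (i : ℕ) : Bool :=
  Nat.beq (sphM i 0) (Nat.shiftLeft 1 (auPt i)) && allUpto (sphNextOK i) 4

/-- The spheres containing a point. -/
def pat5 (i c : ℕ) : ℕ :=
  Nat.rec (motive := fun _ => ℕ) 0 (fun k ih => cond (bit (sphM i k) c) (Nat.lor (Nat.shiftLeft 1 k) ih) ih) 5

/-- The pattern of a point against the first `m` fixed points. -/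
def patOf (m c : ℕ) : ℕ :=
  Nat.rec (motive := fun _ => ℕ) 0 (fun i ih => Nat.add ih (Nat.shiftLeft (pat5 i c) (Nat.mul 5 i))) m

/-- The neighbours with the pattern of the next point lie in a set. -/
def classOK (m mask : ℕ) : Bool :=
  allUpto (fun c => !bit maskN c || bit mask c || !Nat.beq (patOf m c) (patOf m (auPt m))) 4060

def sortAt (i : ℕ) : ℕ :=
  Nat.land (Nat.shiftRight (Data.sortT.get (Nat.shiftRight i 4)) (Nat.mul 12 (Nat.land i 15))) 4095

def sortOK (i : ℕ) : Bool :=
  Nat.blt (patOf 17 (sortAt i)) (patOf 17 (sortAt (Nat.succ i)))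

def witAt (i : ℕ) : ℕ :=
  Nat.land (Nat.shiftRight (Data.witT.get (Nat.shiftRight i 4)) (Nat.mul 12 (Nat.land i 15))) 4095

def maskT : ℕ := orbMask (orbAt Data.orbJNL 0)

def fPath (i : ℕ) : List ℕ := pathW Data.orbF hGens Data.depthF i

/-- A point of the second suborbit has another trace than the first one. -/
def witOK (i : ℕ) : Bool :=
  lettOK 4 (fPath i) && Nat.beq (runW (fPath i) (rPt Data.orbF 0)) (rPt Data.orbF i) &&
    (Nat.beq i 0 || (Nat.blt (witAt i) 4060 && bit maskT (witAt i) && !bit maskT (runW (invW (fPath i)) (witAt i))))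

/-! ### Subgroups of index 2304 -/

/-- A power of a word. -/
def powW (w : List ℕ) : ℕ → List ℕ
  | 0 => []
  | n + 1 => w ++ powW w n

/-- A word of the group of order 52. -/
def nWordAt (a b : ℕ) : List ℕ := powW [8] a ++ powW [10] b

def eWordAt (i : ℕ) : List ℕ := powW Data.eW i

/-- Some of the 52 elements satisfies `f`. -/
def anyN (f : List ℕ → Bool) : Bool :=
  (List.range 13).any fun a => (List.range 4).any fun b => f (nWordAt a b)

def allN (f : List ℕ → Bool) : Bool :=
  (List.range 13).all fun a => (List.range 4).all fun b => f (nWordAt a b)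

def jp : ℕ := Data.jlevGP.getD 0 0
def jq : ℕ := Data.jlevGP.getD 1 0
def jPath (i : ℕ) : List ℕ := pathW Data.jlev0 Data.jlevG0 Data.depthJ i

def jPath1 (o : ℕ) : List ℕ := pathW Data.jlev1 Data.jlevG1 4 o

/-- An element normalising the group of order thirteen and fixing the far point is one of the 52. -/
def normXStep (i m : ℕ) : Bool :=
  let f := rPt Data.jlev0 i
  let g := runW (powW [8] m) f
  !bit (maskOf (rPt Data.jlev1) 20) (runW (invW (jPath i)) g) ||
    (anyN fun w => Nat.beq (runW w (rPt Data.orbF 0)) (rPt Data.orbF 0) && Nat.beq (runW w jp) f &&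
      Nat.beq (runW w jq) g) ||
    allUpto (fun o => !Nat.beq (rPt Data.jlev1 o) (runW (invW (jPath i)) g) ||
      !Nat.beq (keyOf (jPath i ++ jPath1 o ++ [8])) (keyOf (powW [8] m ++ jPath i ++ jPath1 o))) 20

def jPath1OK (o : ℕ) : Bool :=
  hWord (jPath1 o) && lettOK 12 (jPath1 o) && Nat.beq (runW (jPath1 o) (rPt Data.jlev1 0)) (rPt Data.jlev1 o) &&
    Nat.beq (runW (jPath1 o) jp) jp && Nat.beq (runW (jPath1 o) (rPt Data.orbF 0)) (rPt Data.orbF 0)

def normXOK (i : ℕ) : Bool :=
  lettOK 12 (jPath i) && hWord (jPath i) && Nat.beq (runW (jPath i) (rPt Data.jlev0 0)) (rPt Data.jlev0 i) &&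
    allUpto (normXStep i) 13

/-- Outside the 52 the exponent is not a divisor of 52. -/
def orderOutOK (i : ℕ) : Bool :=
  allN fun w => !Nat.beq (keyOf (powW (eWordAt i ++ w) 52)) (keyOf [])

def cands (k : ℕ) : List (List ℕ) :=
  Nat.rec (motive := fun _ => List (List ℕ)) [[]]
    (fun j _ => Nat.rec (motive := fun _ => List (List ℕ)) Data.uCand0
      (fun j _ => Nat.rec (motive := fun _ => List (List ℕ)) Data.uCand1 (fun _ _ => Data.uCand2) j) j) k

def upt (k : ℕ) : ℕ := Data.ulevGP.getD k 0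

def ulev (k : ℕ) : Tree × ℕ :=
  orbAt [(Data.ulev0, 1755), (Data.ulev1, 1280), (Data.ulev2, 4)] k

/-- Every image of the next point extends a candidate. -/
def normUStep (k : ℕ) (e : List ℕ) : Bool :=
  allUpto (fun i =>
    let f := runW e (rPt (ulev k).1 i)
    !Nat.beq (runW [10] f) f ||
      (cands (Nat.succ k)).any fun e' => Nat.beq (runW e' (upt k)) f &&
        allUpto (fun j => Nat.beq (runW e' (upt j)) (runW e (upt j))) k) (ulev k).2

def normUOK (k : ℕ) : Bool :=
  (cands k).all hWord && (cands (Nat.succ k)).all hWord && (cands k).all (normUStep k)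

/-- Substitute a candidate for the letters 12 and 13. -/
def subW (e : List ℕ) : List ℕ → List ℕ
  | [] => []
  | a :: w => cond (Nat.beq a 12) e (cond (Nat.beq a 13) (invW e) [a]) ++ subW e w

def caseLetters (w : List ℕ) : Bool := w.all fun a => Nat.ble 8 a && Nat.blt a 14

/-- Generators of the stabiliser of the far point. -/
def jGens : List (List ℕ) := Data.jlevG0 ++ Data.jlevG1

def caseOK (e : List ℕ) (c : ℕ × ℕ × ℕ × List (List ℕ)) : Bool :=
  (Nat.beq c.1 0 &&
    (let w := getWord c.2.2.2 0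
     caseLetters w && Nat.blt c.2.1 13 &&
      Nat.beq (keyOf (subW e w ++ [8] ++ invW (subW e w))) (keyOf (powW [8] c.2.1)) &&
      allN fun v => !Nat.beq (keyOf (subW e w)) (keyOf v))) ||
  (Nat.beq c.1 1 && Nat.blt c.2.1 3 && Nat.beq c.2.2.2.length jGens.length &&
    allUpto (fun i => caseLetters (getWord c.2.2.2 i) &&
      Nat.beq (keyOf (subW e (getWord c.2.2.2 i)))
        (keyOf (eWordAt c.2.1 ++ getWord jGens i ++ invW (eWordAt c.2.1)))) jGens.length) ||
  (Nat.beq c.1 2 && Nat.blt c.2.1 13 && Nat.blt c.2.2.1 4 &&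
    Nat.beq (keyOf e) (keyOf (nWordAt c.2.1 c.2.2.1)))

/-- An entry of the relations of the two-group. -/
def uRelOK (i : ℕ) : Bool :=
  let r := Data.uRels.getD i ([], [])
  let u := getWord Data.uGens i
  r.1.all (fun a => Nat.blt a i) && Nat.beq r.2.length i && r.2.all (fun c => c.all fun a => Nat.blt a i) &&
    hWord u && Nat.beq (runW u kp0) kp0 &&
    Nat.beq (keyOf (u ++ u)) (keyOf (List.flatten (r.1.map (getWord Data.uGens)))) &&
    allUpto (fun j => Nat.beq (keyOf (u ++ getWord Data.uGens j ++ invW u))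
      (keyOf (List.flatten ((getWord r.2 j).map (getWord Data.uGens))))) i

end Cfsg.Agent.Lib.RuUnique
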