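import Cfsg.Agent.Lib.RuUnique.Model
import Cfsg.Agent.Lib.RuUnique.ChkVec
import Cfsg.Agent.Lib.Chevalley.Exceptional.TitsAb

/-!
The stabiliser of a line in the Rudvalis group is the smallest twisted group of type F4: the pairs of a
permutation of the lines and a matrix that agree on the vectors of the first suborbit.
-/

set_option autoImplicit false
set_option linter.all false
set_option maxRecDepth 100000

noncomputable section

namespace Cfsg.Agent.Lib.RuUnique

open Cfsg.Lie Cfsg.Agent.Exceptional Cfsg.Agent.Exceptional.Tits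
open scoped Matrix

/-- The index type of the module. -/
abbrev Ix : Type := chevF4.Idx

/-- The vector of a bit set. -/
def vv (m : ℕ) : Ix → K2 := fun i => if bit m (Chevalley.Eval.code chevF4 i) then 1 else 0

theorem vv_zero : vv 0 = 0 := funext fun i => by simp [vv, bit_eq]

theorem vv_xor (a b : ℕ) : vv (Nat.xor a b) = vv a + vv b := funext fun i => by
  simp only [vv, Pi.add_apply, bit_eq, show Nat.xor a b = a ^^^ b from rfl, Nat.testBit_xor]
  cases a.testBit (Chevalley.Eval.code chevF4 i) <;> cases b.testBit (Chevalley.Eval.code chevF4 i) <;> decide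

theorem code_lt52 (i : Ix) : Chevalley.Eval.code chevF4 i < 52 := dim_eq ▸ Chevalley.Eval.code_lt chevF4 i

theorem vv_shift (j : ℕ) : vv (Nat.shiftLeft 1 j) = Chevalley.Eval.basis chevF4 K2 j := funext fun i => by
  simp only [vv, Chevalley.Eval.basis, bit_one_shift]

theorem onesV_bitsL (m : ℕ) : Mod2.onesV chevF4 K2 (bitsL m) = vv m := funext fun i => by
  rw [Mod2.onesV_apply, vv, bitsL]
  have hnd : ((List.range 52).filter fun j => bit m j).Nodup := List.nodup_range.filter _
  rw [hnd.count]
  simp [code_lt52 i]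

theorem colOK_all : ∀ i : Fin 4, allUpto (colOK i) 52 = true
  | ⟨0, _⟩ => col_ok0
  | ⟨1, _⟩ => col_ok1
  | ⟨2, _⟩ => col_ok2
  | ⟨3, _⟩ => col_ok3

theorem mapsTo_col {i : Fin 4} {j : ℕ} (hj : j < 52) :
    Mod2.mapsTo Cfsg.Agent.Chevalley.Data.F4.tab.col (bw i) [j] (bitsL (colM i.val j)) = true := by
  have h := allUpto_spec.1 (colOK_all i) j hj
  unfold colOK at h
  exact h

theorem col_spec (i : Fin 4) {j : ℕ} (hj : j < 52) :
    ((gv i : GL Ix K2) : Matrix Ix Ix K2) *ᵥ vv (Nat.shiftLeft 1 j) = vv (colM i j) := by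
  have e : vv (Nat.shiftLeft 1 j) = Mod2.onesV chevF4 K2 [j] := by
    rw [vv_shift, Mod2.onesV, List.map_cons, List.map_nil, List.sum_cons, List.sum_nil, add_zero]
  have h1 : ((Mod2.wg K2 hC (bw i) : GL Ix K2) : Matrix Ix Ix K2) *ᵥ Mod2.onesV chevF4 K2 [j] =
      Mod2.onesV chevF4 K2 (bitsL (colM i.val j)) := Mod2.mapsTo_spec (F := K2) hC (mapsTo_col hj)
  rw [onesV_bitsL] at h1
  rw [e]
  exact h1

/-- The part of a bit set below a bound. -/
def low (m : ℕ) (n : ℕ) : Ix → K2 :=
  fun i => if Chevalley.Eval.code chevF4 i < n ∧ bit m (Chevalley.Eval.code chevF4 i) = true then 1 else 0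

theorem apply_spec (i : Fin 4) (m : ℕ) :
    ((gv i : GL Ix K2) : Matrix Ix Ix K2) *ᵥ vv m = vv (applyM i m) := by
  have key : ∀ n ≤ 52, ((gv i : GL Ix K2) : Matrix Ix Ix K2) *ᵥ low m n =
      vv (Nat.rec (motive := fun _ => ℕ) 0 (fun j ih => cond (bit m j) (Nat.xor (colM i j) ih) ih) n) := by
    intro n hn
    induction n with
    | zero =>
      rw [show low m 0 = 0 from funext fun i => by simp [low], Matrix.mulVec_zero]
      exact vv_zero.symm
    | succ n ih =>
      have hsplit : low m (n + 1) = low m n + (if bit m n then vv (Nat.shiftLeft 1 n) else 0) := funext fun k => by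
        simp only [low, Pi.add_apply]
        by_cases e : Chevalley.Eval.code chevF4 k = n
        · cases hb : bit m n
          · simp [e, hb]
          · simp only [↓reduceIte, vv, bit_one_shift]
            simp [e, hb]
        · cases hb : bit m n
          · simp only [Bool.false_eq_true, ↓reduceIte, Pi.zero_apply, add_zero, Nat.lt_succ_iff_lt_or_eq]
            simp [e]
          · simp only [↓reduceIte, vv, bit_one_shift, Nat.lt_succ_iff_lt_or_eq]
            simp [e]
      show _ = vv (cond (bit m n) (Nat.xor (colM i n) _) _)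
      rw [hsplit, Matrix.mulVec_add, ih (by omega)]
      cases hb : bit m n
      · simp
      · simp only [↓reduceIte, cond_true, col_spec i (show n < 52 by omega), vv_xor]
        abel
  have h := key 52 le_rfl
  rw [show low m 52 = vv m from funext fun k => by simp [low, vv, code_lt52 k]] at h
  exact h

/-- The pairs which agree on the vectors. -/
def Compat (p : Equiv.Perm Pt × GG) : Prop :=
  ∀ c : Pt, bit maskN c = true → bit maskN (p.1 c) = true ∧
    (((p.2 : GL Ix K2)) : Matrix Ix Ix K2) *ᵥ vv (vecOf c) = vv (vecOf (p.1 c))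

theorem compat_gen (i : Fin 4) : Compat (gm i, gg i) := by
  intro c hc
  have hi : (i : ℕ) < 4 := i.isLt
  have h := allUpto_spec.1 vecStep_ok c c.isLt
  simp only [vecStepOK, hc, Bool.not_true, Bool.false_or, allUpto_spec] at h
  have hcl : bit maskN (gm i c) = true := by
    have ho := orbN_ok
    simp only [Bool.and_eq_true] at ho
    have hw : [(i : ℕ)] ∈ hGens := by fin_cases i <;> simp [hGens]
    have := closed_mem ho.1.1 ho.1.2 (el_mem_genGrp hw) c (mem_setM.2 hc)
    rwa [el_one, mem_setM] at this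
  refine ⟨hcl, ?_⟩
  show ((gv i : GL Ix K2) : Matrix Ix Ix K2) *ᵥ _ = _
  rw [apply_spec, Nat.eq_of_beq_eq_true (h i hi), gm_apply (by omega)]

/-- The group of the generating pairs. -/
def Pairs : Subgroup (Equiv.Perm Pt × GG) := Subgroup.closure (Set.range fun i : Fin 4 => (gm i, gg i))

instance : Finite GG := Nat.finite_of_card_ne_zero (by rw [card_GG]; norm_num)

theorem compat {p : Equiv.Perm Pt × GG} (hp : p ∈ Pairs) : Compat p := by
  have h : p ∈ Submonoid.closure (Set.range fun i : Fin 4 => (gm i, gg i)) := by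
    rwa [Pairs, ← Subgroup.mem_toSubmonoid, Subgroup.closure_toSubmonoid_of_finite] at hp
  clear hp
  induction h using Submonoid.closure_induction with
  | mem x hx => obtain ⟨i, rfl⟩ := hx; exact compat_gen i
  | one => intro c hc; exact ⟨hc, by simp⟩
  | mul x y _ _ hx hy =>
    intro c hc
    obtain ⟨h1, h2⟩ := hy c hc
    obtain ⟨h3, h4⟩ := hx (y.1 c) h1
    refine ⟨h3, ?_⟩
    show (((x.2 * y.2 : GG) : GL Ix K2) : Matrix Ix Ix K2) *ᵥ _ = _
    rw [Subgroup.coe_mul, Units.val_mul, ← Matrix.mulVec_mulVec, h2, h4]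
    rfl

theorem eq_one_of_fst {p : Equiv.Perm Pt × GG} (hp : p ∈ Pairs) (h : p.1 = 1) : p = 1 := by
  refine Prod.ext h (Subtype.ext (Units.ext (Chevalley.Eval.matrix_ext chevF4 fun j hj => ?_)))
  rw [dim_eq] at hj
  rw [Prod.snd_one, Subgroup.coe_one, Units.val_one, Matrix.one_mulVec, ← vv_shift]
  have hs := allUpto_spec.1 span_ok j hj
  simp only [spanOK, Bool.and_eq_true, List.all_eq_true, Nat.blt, Nat.ble_eq] at hs
  rw [← Nat.eq_of_beq_eq_true hs.2]
  have key : ∀ l : List ℕ, (∀ c ∈ l, c < 4060 ∧ bit maskN c = true) →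
      (((p.2 : GL Ix K2)) : Matrix Ix Ix K2) *ᵥ vv (sumVec l) = vv (sumVec l) := by
    intro l hl
    induction l with
    | nil => rw [show sumVec [] = 0 from rfl, vv_zero, Matrix.mulVec_zero]
    | cons c l ih =>
      rw [show sumVec (c :: l) = Nat.xor (vecOf c) (sumVec l) from rfl, vv_xor, Matrix.mulVec_add,
        ih fun d hd => hl d (List.mem_cons_of_mem _ hd)]
      obtain ⟨hc1, hc2⟩ := hl c List.mem_cons_self
      have := (compat hp (pt c) (by rw [pt_val hc1]; exact hc2)).2
      rw [h, Equiv.Perm.one_apply, pt_val hc1] at this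
      rw [this]
  exact key _ hs.1

theorem exists_iso : ∃ e : H0 ≃* GG, Nat.card H0 = 35942400 := by
  let f : Pairs →* Equiv.Perm Pt := (MonoidHom.fst _ _).comp Pairs.subtype
  let g : Pairs →* GG := (MonoidHom.snd _ _).comp Pairs.subtype
  have hf : Function.Injective f := by
    rw [← MonoidHom.ker_eq_bot_iff, Subgroup.eq_bot_iff_forall]
    exact fun p hp => Subtype.ext (eq_one_of_fst p.2 hp)
  have hrange : f.range = H0 := by
    rw [MonoidHom.range_comp, Subgroup.range_subtype, Pairs, MonoidHom.map_closure, H0, ← Set.range_comp]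
    congr 1
    ext x
    constructor
    · rintro ⟨i, rfl⟩; exact ⟨i, i.isLt, rfl⟩
    · rintro ⟨a, ha, rfl⟩; exact ⟨⟨a, ha⟩, rfl⟩
  have hg : Function.Surjective g := by
    rw [← MonoidHom.range_eq_top, MonoidHom.range_comp, Subgroup.range_subtype, Pairs, MonoidHom.map_closure,
      ← Set.range_comp]
    exact closure_gg
  have hP : Nat.card Pairs = Nat.card H0 := by
    rw [← hrange]; exact Nat.card_congr (MonoidHom.ofInjective hf).toEquiv
  have hle : Nat.card H0 ≤ 35942400 := by
    rw [← card_stab_o0]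
    exact Subgroup.card_le_of_le (le_inf H0_le fun h hh => H0_o0 hh)
  have hge : 35942400 ≤ Nat.card Pairs := card_GG ▸ Nat.card_le_card_of_surjective g hg
  have hbij : Function.Bijective g :=
    (Nat.bijective_iff_surjective_and_card g).2 ⟨hg, by rw [card_GG]; omega⟩
  exact ⟨(MulEquiv.subgroupCongr hrange.symm).trans ((MonoidHom.ofInjective hf).symm.trans (MulEquiv.ofBijective g hbij)),
    by omega⟩

theorem card_H0 : Nat.card H0 = 35942400 := exists_iso.choose_spec

theorem nonempty_equiv : Nonempty (H0 ≃* Cfsg.Lie.twistedF4 (ZMod 2) 1) := by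
  obtain ⟨e, -⟩ := exists_iso
  exact ⟨e.trans (MulEquiv.subgroupCongr (by rw [GG, pow_zero]))⟩

theorem H0_eq : H0 = GA ⊓ MulAction.stabilizer (Equiv.Perm Pt) o0 :=
  Subgroup.eq_of_le_of_card_ge (le_inf H0_le fun h hh => H0_o0 hh) (by rw [card_stab_o0, card_H0])

theorem stab_o0 {g : Equiv.Perm Pt} (hg : g ∈ GA) (h : g o0 = o0) : g ∈ H0 := by
  rw [H0_eq]; exact ⟨hg, h⟩

end Cfsg.Agent.Lib.RuUnique
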