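import Cfsg.Agent.Lib.RuUnique.Perms
import Cfsg.Agent.Lib.RuUnique.ChkVectors
import Cfsg.Agent.Lib.RuUnique.ChkOrbits
import Cfsg.Agent.Lib.RuAut.Simple

/-!
The Rudvalis group acting on the 4060 lines of short vectors.
-/

set_option autoImplicit false
set_option linter.all false
set_option maxRecDepth 100000

noncomputable section

namespace Cfsg.Agent.Lib.RuUnique

open Cfsg.Spor Cfsg.Agent.RuAut

theorem line_spec (v : Fin NV) :
    lineOf v < 4060 ∧ lineOf (tab 0 v) = lineOf v ∧
      (repOf (lineOf v) = v ∨ tab 0 (repOf (lineOf v)) = v ∨ tab 0 (tab 0 (repOf (lineOf v))) = v ∨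
        tab 0 (tab 0 (tab 0 (repOf (lineOf v)))) = v) := by
  have h := allUpto_spec.1 line_ok v (show (v : ℕ) < 16240 from v.isLt)
  simp only [lineOK, Bool.and_eq_true, Bool.or_eq_true, Nat.blt, Nat.ble_eq] at h
  refine ⟨h.1.1, Nat.eq_of_beq_eq_true h.1.2, ?_⟩
  rcases h.2 with ((h | h) | h) | h <;> have := Nat.eq_of_beq_eq_true h <;> tauto

theorem rep_spec (c : Pt) : repOf c < NV ∧ lineOf (repOf c) = c := by
  have h := allUpto_spec.1 rep_ok c c.isLt
  simp only [Bool.and_eq_true, Nat.blt, Nat.ble_eq] at h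
  exact ⟨h.1, Nat.eq_of_beq_eq_true h.2⟩

/-- The line of a vector. -/
def lineP (v : Fin NV) : Pt := ⟨lineOf v, (line_spec v).1⟩

/-- A vector of a line. -/
def repP (c : Pt) : Fin NV := ⟨repOf c, (rep_spec c).1⟩

theorem lineP_repP (c : Pt) : lineP (repP c) = c := Fin.ext (rep_spec c).2

theorem lineP_turn (v : Fin NV) : lineP (turn v) = lineP v := Fin.ext (line_spec v).2.1

theorem rep_cases (v : Fin NV) : repP (lineP v) = v ∨ turn (repP (lineP v)) = v ∨
    turn (turn (repP (lineP v))) = v ∨ turn (turn (turn (repP (lineP v)))) = v := by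
  rcases (line_spec v).2.2 with h | h | h | h
  exacts [Or.inl (Fin.ext h), Or.inr (Or.inl (Fin.ext h)), Or.inr (Or.inr (Or.inl (Fin.ext h))),
    Or.inr (Or.inr (Or.inr (Fin.ext h)))]

theorem lineP_smul (g : fourRu) (v : Fin NV) : lineP (g • repP (lineP v)) = lineP (g • v) := by
  rcases rep_cases v with h | h | h | h <;> conv_rhs => rw [← h]
  all_goals simp only [smul_turn, lineP_turn]

/-- The action on the lines. -/
def φ₀ : fourRu →* Equiv.Perm Pt where
  toFun g :=
    { toFun := fun c => lineP (g • repP c)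
      invFun := fun c => lineP (g⁻¹ • repP c)
      left_inv := fun c => by
        show lineP (g⁻¹ • repP (lineP (g • repP c))) = c
        rw [lineP_smul, inv_smul_smul, lineP_repP]
      right_inv := fun c => by
        show lineP (g • repP (lineP (g⁻¹ • repP c))) = c
        rw [lineP_smul, smul_inv_smul, lineP_repP] }
  map_one' := Equiv.ext fun c => by
    show lineP ((1 : fourRu) • repP c) = c
    rw [one_smul, lineP_repP]
  map_mul' g h := Equiv.ext fun c => by
    show lineP ((g * h) • repP c) = lineP (g • repP (lineP (h • repP c)))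
    rw [lineP_smul, mul_smul]

theorem φ₀_apply (g : fourRu) (c : Pt) : φ₀ g c = lineP (g • repP c) := rfl

theorem center_le_ker : Subgroup.center fourRu ≤ φ₀.ker := by
  intro z hz
  obtain ⟨e, rfl⟩ := center_eq_powers hz
  refine pow_mem ?_ _
  refine MonoidHom.mem_ker.2 (Equiv.ext fun c => ?_)
  rw [φ₀_apply, iElt_smul, lineP_turn, lineP_repP, Equiv.Perm.one_apply]

/-- The Rudvalis group on the lines. -/
def φ : Cfsg.Spor.Ru →* Equiv.Perm Pt := QuotientGroup.lift _ φ₀ center_le_ker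

theorem sig_spec {a : ℕ} (ha : a < 4) :
    φ₀ (wd (Cfsg.Agent.CosetCert.getWord Data.sigW a)) = gm a := by
  have h := sig_ok
  simp only [Bool.and_eq_true, List.all_eq_true, allUpto_spec] at h
  have hlen : Data.sigW.length = 4 := rfl
  have hw : ∀ b ∈ Cfsg.Agent.CosetCert.getWord Data.sigW a, b < 12 :=
    lettOK_iff.1 (h.1.1.1 _ (getWord_mem (hlen ▸ ha)))
  refine Equiv.ext fun c => Fin.ext ?_
  rw [φ₀_apply, gm_apply (by omega), wd_idx hw]
  exact Nat.eq_of_beq_eq_true (h.1.2 a ha c c.isLt)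

theorem t_spec : φ₀ (letter Data.tLetter) = gm 6 := by
  have h := sig_ok
  simp only [Bool.and_eq_true, List.all_eq_true, allUpto_spec, Nat.blt, Nat.ble_eq] at h
  refine Equiv.ext fun c => Fin.ext ?_
  rw [φ₀_apply, gm_apply (by norm_num), letter_idx h.1.1.2]
  exact Nat.eq_of_beq_eq_true (h.2 c c.isLt)

/-- The whole group. -/
def GA : Subgroup (Equiv.Perm Pt) := φ.range

theorem φ₀_GA (g : fourRu) : φ₀ g ∈ GA := ⟨QuotientGroup.mk' _ g, rfl⟩

theorem xu_word : hWord Data.xW = true ∧ hWord Data.uW = true ∧ gm 8 = el Data.xW ∧ gm 10 = el Data.uW := by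
  have h := xu_ok
  simp only [Bool.and_eq_true, allUpto_spec] at h
  refine ⟨h.1.1, h.1.2, Equiv.ext fun c => Fin.ext ?_, Equiv.ext fun c => Fin.ext ?_⟩
  · rw [gm_apply (by norm_num), el_apply (letters12 h.1.1), Nat.eq_of_beq_eq_true (h.2 c c.isLt).1]
  · rw [gm_apply (by norm_num), el_apply (letters12 h.1.2), Nat.eq_of_beq_eq_true (h.2 c c.isLt).2]

/-- The group generated by four letters. -/
def H0 : Subgroup (Equiv.Perm Pt) := Subgroup.closure (gm '' {a | a < 4})

theorem gm_lo {a : ℕ} (ha : a < 6) : gm a ∈ H0 := by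
  have h : ∀ b < 4, gm b ∈ H0 := fun b hb => Subgroup.subset_closure ⟨b, hb, rfl⟩
  rcases Nat.lt_or_ge a 4 with h4 | h4
  · exact h a h4
  obtain rfl | rfl : a = 4 ∨ a = 5 := by omega
  · have e := gm_invL (show 2 < 12 by norm_num)
    rw [show invL 2 = 4 from rfl] at e
    rw [e]; exact inv_mem (h 2 (by norm_num))
  · have e := gm_invL (show 3 < 12 by norm_num)
    rw [show invL 3 = 5 from rfl] at e
    rw [e]; exact inv_mem (h 3 (by norm_num))

theorem gm_hi {a : ℕ} (h8 : 8 ≤ a) (h12 : a < 12) : gm a ∈ H0 := by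
  have hw : ∀ w : List ℕ, (∀ b ∈ w, b < 6) → el w ∈ H0 := by
    intro w hw
    induction w with
    | nil => exact one_mem _
    | cons b w ih =>
      rw [el_cons]
      exact mul_mem (gm_lo (hw b List.mem_cons_self)) (ih fun c hc => hw c (List.mem_cons_of_mem _ hc))
  obtain ⟨-, -, ex, eu⟩ := xu_word
  have hx : ∀ b ∈ Data.xW, b < 6 := by decide
  have hu : ∀ b ∈ Data.uW, b < 6 := by decide
  obtain rfl | rfl | rfl | rfl : a = 8 ∨ a = 9 ∨ a = 10 ∨ a = 11 := by omega
  · rw [ex]; exact hw _ hx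
  · have e := gm_invL (show 8 < 12 by norm_num)
    rw [show invL 8 = 9 from rfl] at e
    rw [e, ex]; exact inv_mem (hw _ hx)
  · rw [eu]; exact hw _ hu
  · have e := gm_invL (show 10 < 12 by norm_num)
    rw [show invL 10 = 11 from rfl] at e
    rw [e, eu]; exact inv_mem (hw _ hu)

theorem el_H0 {w : List ℕ} (h : hWord w = true) : el w ∈ H0 := by
  rw [hWord_iff] at h
  induction w with
  | nil => exact one_mem _
  | cons a w ih =>
    rw [el_cons]
    refine mul_mem ?_ (ih fun b hb => h b (List.mem_cons_of_mem _ hb))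
    rcases h a List.mem_cons_self with ha | ha
    exacts [gm_lo ha, gm_hi ha.1 ha.2]

theorem H0_le : H0 ≤ GA := (Subgroup.closure_le _).2 (by
  rintro _ ⟨a, ha, rfl⟩
  rw [← sig_spec ha]
  exact φ₀_GA _)

theorem gm_GA {a : ℕ} (ha : a < 12) : gm a ∈ GA := by
  have h6 : gm 6 ∈ GA := t_spec ▸ φ₀_GA _
  rcases Nat.lt_or_ge a 6 with h | h
  · exact H0_le (gm_lo h)
  rcases Nat.lt_or_ge a 8 with h' | h'
  · obtain rfl | rfl : a = 6 ∨ a = 7 := by omega
    · exact h6
    · have e := gm_invL (show 6 < 12 by norm_num)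
      rw [show invL 6 = 7 from rfl] at e
      rw [e]; exact inv_mem h6
  · exact H0_le (gm_hi h' ha)

theorem el_GA {w : List ℕ} (h : lettOK 12 w = true) : el w ∈ GA := by
  induction w with
  | nil => exact one_mem _
  | cons a w ih =>
    rw [lettOK_iff] at h
    rw [el_cons]
    exact mul_mem (gm_GA (h a List.mem_cons_self))
      (ih (lettOK_iff.2 fun b hb => h b (List.mem_cons_of_mem _ hb)))

/-- The first point. -/
def o0 : Pt := pt 0

theorem split_spec : (∀ c : Pt, c = o0 ∨ bne (bit maskN c) (bit maskF c) = true) ∧ bit maskN 0 = false ∧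
    bit maskF 0 = false ∧ (∀ a < 4, tgt a 0 = 0) ∧ gm 6 o0 ≠ o0 := by
  have h := split_ok
  simp only [Bool.and_eq_true, Bool.or_eq_true, Bool.not_eq_true', allUpto_spec] at h
  obtain ⟨⟨⟨⟨h1, h2⟩, h3⟩, h4⟩, h5⟩ := h
  refine ⟨fun c => ?_, h2, h3, fun a ha => Nat.eq_of_beq_eq_true (h4 a ha), fun e => ?_⟩
  · rcases h1 c c.isLt with h | h
    exacts [Or.inl (Fin.ext ((Nat.eq_of_beq_eq_true h).trans (pt_val (by norm_num)).symm)), Or.inr h]
  · have := congrArg Fin.val e
    rw [gm_apply (by norm_num), o0, pt_val (by norm_num : 0 < 4060)] at this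
    rw [this] at h5
    simp at h5

theorem φ_injective : Function.Injective φ := by
  haveI := isSimple_Ru
  rw [← MonoidHom.ker_eq_bot_iff]
  refine (IsSimpleGroup.eq_bot_or_eq_top_of_normal φ.ker inferInstance).resolve_right fun h => ?_
  refine split_spec.2.2.2.2 ?_
  have : φ (QuotientGroup.mk' _ (letter Data.tLetter)) = 1 := by
    rw [← MonoidHom.mem_ker, h]; exact Subgroup.mem_top _
  rw [show φ (QuotientGroup.mk' _ (letter Data.tLetter)) = φ₀ (letter Data.tLetter) from rfl, t_spec] at this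
  rw [this, Equiv.Perm.one_apply]

theorem card_GA : Nat.card GA = 145926144000 := by
  rw [GA, ← Nat.card_congr (MonoidHom.ofInjective φ_injective).toEquiv, card_Ru]

theorem isoRu_GA : Cfsg.Spor.IsoRu GA := ⟨(MonoidHom.ofInjective φ_injective).symm⟩

theorem exists_to (c : Pt) : ∃ g ∈ GA, g o0 = c := by
  have hr := orbAll_ok
  obtain ⟨hall, hc4⟩ := reachOK_spec hr
  have hu : setM (maskOf (rPt Data.orbAll) 4060) = Finset.univ :=
    Finset.eq_univ_of_card _ (hc4.trans (Fintype.card_fin _).symm)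
  obtain ⟨g, hg, e⟩ := reach_mem hr (c := c) (hu ▸ Finset.mem_univ _)
  have hle : genGrp tGens ≤ GA := genGrp_le fun w hw => el_GA (by
    have h : ∀ w ∈ tGens, lettOK 12 w = true := by decide
    exact h w hw)
  refine ⟨g, hle hg, ?_⟩
  rw [o0, ← e, show rPt Data.orbAll 0 = 0 by decide +kernel]

theorem H0_o0 {g : Equiv.Perm Pt} (hg : g ∈ H0) : g o0 = o0 := by
  refine closure_induction_perm (Q := fun g => g o0 = o0) ?_ rfl (fun a b ha hb => by
    rw [Equiv.Perm.mul_apply, hb, ha]) hg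
  rintro _ ⟨a, ha, rfl⟩
  have ha' : a < 4 := ha
  refine Fin.ext ?_
  rw [gm_apply (by omega), o0, pt_val (by norm_num : 0 < 4060)]
  exact split_spec.2.2.2.1 a ha'

theorem card_stab_o0 : Nat.card ↥(GA ⊓ MulAction.stabilizer (Equiv.Perm Pt) o0) = 35942400 := by
  have h1 := orbit_mul_card GA o0
  rw [show MulAction.orbit GA o0 = Set.univ from Set.eq_univ_of_forall fun c => by
      obtain ⟨g, hg, e⟩ := exists_to c
      exact ⟨⟨g, hg⟩, e⟩, Set.ncard_univ, Nat.card_fin, card_GA] at h1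
  omega

end Cfsg.Agent.Lib.RuUnique
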