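import Mathlib
import Cfsg.Agent.Lib.RuUnique.Defs
import Cfsg.Agent.Lib.RuUnique.ChkPerms

/-!
The letters as permutations of 4060 points, bit sets and reached lists.
-/

set_option autoImplicit false
set_option linter.all false
set_option maxRecDepth 100000

noncomputable section

namespace Cfsg.Agent.Lib.RuUnique

open Cfsg.Agent.CosetCert

/-- The points. -/
abbrev Pt : Type := Fin 4060

/-- A point from a number. -/
def pt (c : ℕ) : Pt := ⟨c % 4060, Nat.mod_lt _ (by norm_num)⟩

theorem pt_val {c : ℕ} (h : c < 4060) : (pt c : ℕ) = c := Nat.mod_eq_of_lt h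

theorem pt_fin (c : Pt) : pt c = c := Fin.ext (Nat.mod_eq_of_lt c.2)

/-! ### Bounded quantifiers and bit sets -/

theorem allUpto_spec {f : ℕ → Bool} : ∀ {n : ℕ}, allUpto f n = true ↔ ∀ i < n, f i = true
  | 0 => by simp [allUpto]
  | n + 1 => by
    show (f n && allUpto f n) = true ↔ _
    rw [Bool.and_eq_true, allUpto_spec]
    constructor
    · rintro ⟨h1, h2⟩ i hi
      rcases Nat.lt_succ_iff_lt_or_eq.1 hi with h | rfl
      exacts [h2 i h, h1]
    · exact fun h => ⟨h n (by omega), fun i hi => h i (by omega)⟩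

theorem allFrom_spec {f : ℕ → Bool} {a n : ℕ} (h : allFrom f a n = true) {i : ℕ} (h1 : a ≤ i) (h2 : i < a + n) :
    f i = true := by
  have := allUpto_spec.1 h (i - a) (by omega)
  have e : a + (i - a) = i := by omega
  simpa [e] using this

theorem bit_eq (m i : ℕ) : bit m i = m.testBit i := by
  rw [bit, Nat.testBit_eq_decide_div_mod_eq]
  have : Nat.land (Nat.shiftRight m i) 1 = m / 2 ^ i % 2 := by
    show (m >>> i) &&& 1 = _
    rw [Nat.and_one_is_mod, Nat.shiftRight_eq_div_pow]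
  rw [this, Bool.eq_iff_iff]
  simp

theorem bit_maskOf {f : ℕ → ℕ} : ∀ {n c : ℕ}, bit (maskOf f n) c = true ↔ ∃ i < n, f i = c
  | 0, c => by simp [bit_eq, maskOf]
  | n + 1, c => by
    have ih := bit_maskOf (f := f) (n := n) (c := c)
    rw [bit_eq] at ih ⊢
    rw [show maskOf f (n + 1) = (1 <<< f n) ||| maskOf f n from rfl, Nat.testBit_or, Bool.or_eq_true, ih,
      Nat.one_shiftLeft, Nat.testBit_two_pow, decide_eq_true_eq]
    constructor
    · rintro (h | ⟨i, hi, h⟩)
      exacts [⟨n, by omega, h⟩, ⟨i, by omega, h⟩]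
    · rintro ⟨i, hi, h⟩
      rcases Nat.lt_succ_iff_lt_or_eq.1 hi with h' | rfl
      exacts [Or.inr ⟨i, h', h⟩, Or.inl h]

theorem bit_selMask {f : ℕ → Bool} : ∀ {n c : ℕ}, bit (selMask f n) c = true ↔ c < n ∧ f c = true
  | 0, c => by simp [bit_eq, selMask]
  | n + 1, c => by
    have ih := bit_selMask (f := f) (n := n) (c := c)
    rw [bit_eq] at ih ⊢
    rw [show selMask f (n + 1) = cond (f n) ((1 <<< n) ||| selMask f n) (selMask f n) from rfl]
    cases hn : f n
    · rw [cond_false, ih]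
      refine ⟨fun h => ⟨by omega, h.2⟩, fun h => ⟨?_, h.2⟩⟩
      rcases Nat.lt_succ_iff_lt_or_eq.1 h.1 with h' | rfl
      exacts [h', by simp [hn] at h]
    · rw [cond_true, Nat.testBit_or, Bool.or_eq_true, ih, Nat.one_shiftLeft, Nat.testBit_two_pow, decide_eq_true_eq]
      constructor
      · rintro (rfl | h)
        exacts [⟨by omega, hn⟩, ⟨by omega, h.2⟩]
      · rintro ⟨h1, h2⟩
        rcases Nat.lt_succ_iff_lt_or_eq.1 h1 with h' | rfl
        exacts [Or.inr ⟨h', h2⟩, Or.inl rfl]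

theorem bit_land (m k c : ℕ) : bit (Nat.land m k) c = (bit m c && bit k c) := by
  simp only [bit_eq]
  exact Nat.testBit_and m k c

theorem bit_lor (m k c : ℕ) : bit (Nat.lor m k) c = (bit m c || bit k c) := by
  simp only [bit_eq]
  exact Nat.testBit_or m k c

theorem bit_one_shift (b c : ℕ) : bit (Nat.shiftLeft 1 b) c = true ↔ c = b := by
  rw [bit_eq, show Nat.shiftLeft 1 b = 1 <<< b from rfl, Nat.one_shiftLeft, Nat.testBit_two_pow, decide_eq_true_eq]
  exact eq_comm

theorem cntUpto_eq (f : ℕ → Bool) : ∀ n, cntUpto f n = ((Finset.range n).filter fun i => f i = true).card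
  | 0 => rfl
  | n + 1 => by
    rw [Finset.range_add_one, Finset.filter_insert]
    show cond (f n) (Nat.succ (cntUpto f n)) (cntUpto f n) = _
    cases h : f n
    · simp [cntUpto_eq f n]
    · simp [cntUpto_eq f n]

theorem cntUpto_fin (f : ℕ → Bool) : cntUpto f 4060 = (Finset.univ.filter fun c : Pt => f c = true).card := by
  rw [cntUpto_eq, ← Finset.card_map Fin.valEmbedding]
  congr 1
  ext i
  simp only [Finset.mem_filter, Finset.mem_range, Finset.mem_map, Finset.mem_univ, true_and, Fin.valEmbedding_apply]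
  exact ⟨fun ⟨h1, h2⟩ => ⟨⟨i, h1⟩, h2, rfl⟩, fun ⟨a, h2, e⟩ => e ▸ ⟨a.2, h2⟩⟩

/-- The points of a bit set. -/
def setM (m : ℕ) : Finset Pt := Finset.univ.filter fun c => bit m c = true

theorem mem_setM {m : ℕ} {c : Pt} : c ∈ setM m ↔ bit m c = true := by simp [setM]

theorem card_setM (m : ℕ) : (setM m).card = cntUpto (bit m) 4060 := (cntUpto_fin _).symm

/-! ### Letters -/

theorem invL_table : ∀ a < 12, invL (invL a) = a := by decide

theorem tgt_spec {a : ℕ} (ha : a < 12) {c : ℕ} (hc : c < 4060) :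
    invL a < 12 ∧ tgt a c < 4060 ∧ tgt (invL a) (tgt a c) = c := by
  have h := allUpto_spec.1 inverse_ok a ha
  rw [Bool.and_eq_true] at h
  have h2 := allUpto_spec.1 h.2 c hc
  simp only [Bool.and_eq_true, Nat.blt, Nat.ble_eq] at h2
  exact ⟨Nat.ble_eq.mp h.1, h2.1, Nat.eq_of_beq_eq_true h2.2⟩

/-- The permutation of a letter. -/
def gm (a : ℕ) : Equiv.Perm Pt :=
  if h : a < 12 then
    { toFun := fun c => ⟨tgt a c, (tgt_spec h c.2).2.1⟩
      invFun := fun c => ⟨tgt (invL a) c, (tgt_spec (tgt_spec h c.2).1 c.2).2.1⟩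
      left_inv := fun c => Fin.ext (tgt_spec h c.2).2.2
      right_inv := fun c => Fin.ext (by
        show tgt a (tgt (invL a) c) = c
        have := (tgt_spec (tgt_spec h c.2).1 c.2).2.2
        rwa [invL_table a h] at this) }
  else 1

theorem gm_apply {a : ℕ} (ha : a < 12) (c : Pt) : (gm a c : ℕ) = tgt a c := by
  rw [gm, dif_pos ha]; rfl

theorem gm_invL {a : ℕ} (ha : a < 12) : gm (invL a) = (gm a)⁻¹ := by
  refine eq_inv_of_mul_eq_one_left (Equiv.ext fun c => Fin.ext ?_)
  rw [Equiv.Perm.mul_apply, gm_apply (tgt_spec ha c.2).1, gm_apply ha, Equiv.Perm.one_apply]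
  exact (tgt_spec ha c.2).2.2

/-- The element of a word. -/
def el (w : List ℕ) : Equiv.Perm Pt := (w.map gm).prod

theorem el_nil : el [] = 1 := rfl

theorem el_one (a : ℕ) : el [a] = gm a := by simp [el]

theorem el_app (u w : List ℕ) : el (u ++ w) = el u * el w := by simp [el]

theorem el_cons (a : ℕ) (w : List ℕ) : el (a :: w) = gm a * el w := by simp [el]

theorem lettOK_iff {k : ℕ} {w : List ℕ} : lettOK k w = true ↔ ∀ a ∈ w, a < k := by
  simp [lettOK, List.all_eq_true, Nat.blt]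

theorem el_apply : ∀ {w : List ℕ}, lettOK 12 w = true → ∀ c : Pt, (el w c : ℕ) = runW w c
  | [], _, c => rfl
  | a :: w, h, c => by
    rw [lettOK_iff] at h
    rw [el_cons, Equiv.Perm.mul_apply, gm_apply (h a List.mem_cons_self),
      el_apply (lettOK_iff.2 fun b hb => h b (List.mem_cons_of_mem _ hb)) c]
    rfl

theorem runW_lt {w : List ℕ} (hw : lettOK 12 w = true) {c : ℕ} (hc : c < 4060) : runW w c < 4060 := by
  have := el_apply hw (pt c)
  rw [pt_val hc] at this
  rw [← this]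
  exact Fin.is_lt _

theorem el_pt {w : List ℕ} (hw : lettOK 12 w = true) {c : ℕ} (hc : c < 4060) : el w (pt c) = pt (runW w c) :=
  Fin.ext (by rw [el_apply hw, pt_val hc, pt_val (runW_lt hw hc)])

theorem el_invW {w : List ℕ} (hw : lettOK 12 w = true) : el (invW w) = (el w)⁻¹ := by
  induction w with
  | nil => simp [invW, el_nil]
  | cons a w ih =>
    rw [lettOK_iff] at hw
    have ha := hw a List.mem_cons_self
    rw [el_cons, mul_inv_rev, ← ih (lettOK_iff.2 fun b hb => hw b (List.mem_cons_of_mem _ hb)),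
      show invW (a :: w) = invW w ++ [invL a] by simp [invW], el_app, el_one, gm_invL ha]

theorem lett_invW {w : List ℕ} (hw : lettOK 12 w = true) : lettOK 12 (invW w) = true := by
  rw [lettOK_iff] at hw ⊢
  intro a ha
  simp only [invW, List.mem_map, List.mem_reverse] at ha
  obtain ⟨b, hb, rfl⟩ := ha
  exact (tgt_spec (hw b hb) (show 0 < 4060 by norm_num)).1

theorem el_powW (w : List ℕ) : ∀ n, el (powW w n) = el w ^ n
  | 0 => rfl
  | n + 1 => by rw [powW, el_app, el_powW w n, pow_succ']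

theorem lett_app {k : ℕ} {u w : List ℕ} (hu : lettOK k u = true) (hw : lettOK k w = true) : lettOK k (u ++ w) = true :=
  lettOK_iff.2 fun a ha => (List.mem_append.1 ha).elim (lettOK_iff.1 hu a) (lettOK_iff.1 hw a)

theorem lett_powW {k : ℕ} {w : List ℕ} (hw : lettOK k w = true) : ∀ n, lettOK k (powW w n) = true
  | 0 => rfl
  | n + 1 => lett_app hw (lett_powW hw n)

theorem lett_mono {j k : ℕ} (h : j ≤ k) {w : List ℕ} (hw : lettOK j w = true) : lettOK k w = true :=
  lettOK_iff.2 fun a ha => lt_of_lt_of_le (lettOK_iff.1 hw a ha) h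

theorem hWord_iff {w : List ℕ} : hWord w = true ↔ ∀ a ∈ w, a < 6 ∨ (8 ≤ a ∧ a < 12) := by
  simp [hWord, List.all_eq_true, Nat.blt]

theorem letters12 {w : List ℕ} (hw : hWord w = true) : lettOK 12 w = true :=
  lettOK_iff.2 fun a ha => by rcases hWord_iff.1 hw a ha with h | h <;> omega

theorem hWord_app {u w : List ℕ} (hu : hWord u = true) (hw : hWord w = true) : hWord (u ++ w) = true :=
  hWord_iff.2 fun a ha => (List.mem_append.1 ha).elim (hWord_iff.1 hu a) (hWord_iff.1 hw a)

theorem hWord_powW {w : List ℕ} (hw : hWord w = true) : ∀ n, hWord (powW w n) = true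
  | 0 => rfl
  | n + 1 => hWord_app hw (hWord_powW hw n)

theorem hWord_invW {w : List ℕ} (hw : hWord w = true) : hWord (invW w) = true := by
  rw [hWord_iff] at hw ⊢
  intro a ha
  simp only [invW, List.mem_map, List.mem_reverse] at ha
  obtain ⟨b, hb, rfl⟩ := ha
  have h : ∀ c < 12, (c < 6 ∨ (8 ≤ c ∧ c < 12)) → (invL c < 6 ∨ (8 ≤ invL c ∧ invL c < 12)) := by decide
  exact h b (by rcases hw b hb with h | h <;> omega) (hw b hb)

/-! ### Reached lists -/

theorem getWord_mem : ∀ {l : List (List ℕ)} {i : ℕ}, i < l.length → getWord l i ∈ l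
  | [], i, h => absurd h (by simp)
  | a :: l, 0, _ => List.mem_cons_self
  | a :: l, i + 1, h => List.mem_cons_of_mem _ (getWord_mem (l := l) (i := i) (by simpa using h))

theorem mem_getWord : ∀ {l : List (List ℕ)} {w : List ℕ}, w ∈ l → ∃ i < l.length, getWord l i = w
  | [], w, h => absurd h List.not_mem_nil
  | a :: l, w, h => by
    rcases List.mem_cons.1 h with rfl | h
    · exact ⟨0, by simp, rfl⟩
    · obtain ⟨i, hi, e⟩ := mem_getWord (l := l) h
      exact ⟨i + 1, by simpa using hi, e⟩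

/-- The group generated by some words. -/
def genGrp (gens : List (List ℕ)) : Subgroup (Equiv.Perm Pt) := Subgroup.closure {g | ∃ w ∈ gens, el w = g}

theorem genGrp_le {gens : List (List ℕ)} {K : Subgroup (Equiv.Perm Pt)} (h : ∀ w ∈ gens, el w ∈ K) :
    genGrp gens ≤ K := (Subgroup.closure_le _).2 (by rintro _ ⟨w, hw, rfl⟩; exact h w hw)

theorem el_mem_genGrp {gens : List (List ℕ)} {w : List ℕ} (hw : w ∈ gens) : el w ∈ genGrp gens :=
  Subgroup.subset_closure ⟨w, hw, rfl⟩

theorem closure_induction_perm {s : Set (Equiv.Perm Pt)} {Q : Equiv.Perm Pt → Prop}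
    (mem : ∀ a ∈ s, Q a) (one : Q 1) (mul : ∀ a b, Q a → Q b → Q (a * b)) {a : Equiv.Perm Pt}
    (ha : a ∈ Subgroup.closure s) : Q a := by
  have h : a ∈ Submonoid.closure s := by rwa [← Subgroup.mem_toSubmonoid, Subgroup.closure_toSubmonoid_of_finite] at ha
  clear ha
  induction h using Submonoid.closure_induction with
  | mem x hx => exact mem x hx
  | one => exact one
  | mul x y _ _ hx hy => exact mul x y hx hy

theorem reachOK_spec {gens : List (List ℕ)} {t : Tree} {n : ℕ} (h : reachOK gens t n = true) :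
    (∀ i < n, rPt t i < 4060 ∧ ∃ g ∈ genGrp gens, g (pt (rPt t 0)) = pt (rPt t i)) ∧
      (setM (maskOf (rPt t) n)).card = n := by
  simp only [reachOK, Bool.and_eq_true, List.all_eq_true, allUpto_spec] at h
  obtain ⟨⟨hg, hs⟩, hn⟩ := h
  refine ⟨fun i => ?_, (card_setM _).trans (Nat.eq_of_beq_eq_true hn)⟩
  induction i using Nat.strong_induction_on with
  | _ i ih =>
    intro hi
    have h := hs i hi
    simp only [stepROK, Bool.and_eq_true, Bool.or_eq_true, Nat.blt, Nat.ble_eq] at h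
    refine ⟨h.1, ?_⟩
    rcases h.2 with h0 | ⟨⟨hj, hk⟩, he⟩
    · exact ⟨1, one_mem _, by rw [Nat.eq_of_beq_eq_true h0]; rfl⟩
    · obtain ⟨hlt, g, hgm, hge⟩ := ih _ hj (by omega)
      have hw := getWord_mem (show rGen t i < gens.length from hk)
      refine ⟨el (getWord gens (rGen t i)) * g, mul_mem (el_mem_genGrp hw) hgm, ?_⟩
      rw [Equiv.Perm.mul_apply, hge, el_pt (hg _ hw) hlt, Nat.eq_of_beq_eq_true he]

theorem mem_reach {t : Tree} {n : ℕ} {c : Pt} : c ∈ setM (maskOf (rPt t) n) ↔ ∃ i < n, rPt t i = c := by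
  rw [mem_setM, bit_maskOf]

theorem reach_mem {gens : List (List ℕ)} {t : Tree} {n : ℕ} (h : reachOK gens t n = true) {c : Pt}
    (hc : c ∈ setM (maskOf (rPt t) n)) : ∃ g ∈ genGrp gens, g (pt (rPt t 0)) = c := by
  obtain ⟨i, hi, e⟩ := mem_reach.1 hc
  obtain ⟨g, hg, hge⟩ := ((reachOK_spec h).1 i hi).2
  exact ⟨g, hg, by rw [hge, e, pt_fin]⟩

theorem first_mem {gens : List (List ℕ)} {t : Tree} {n : ℕ} (h : reachOK gens t n = true) (hn : 0 < n) :
    pt (rPt t 0) ∈ setM (maskOf (rPt t) n) :=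
  mem_reach.2 ⟨0, hn, (pt_val ((reachOK_spec h).1 0 hn).1).symm⟩

theorem closed_mem {gens : List (List ℕ)} {t : Tree} {n : ℕ} (hr : reachOK gens t n = true)
    (h : closedOK gens t n = true) {g : Equiv.Perm Pt} (hg : g ∈ genGrp gens) :
    ∀ c ∈ setM (maskOf (rPt t) n), g c ∈ setM (maskOf (rPt t) n) := by
  simp only [reachOK, Bool.and_eq_true, List.all_eq_true] at hr
  simp only [closedOK, List.all_eq_true, allUpto_spec] at h
  refine closure_induction_perm (Q := fun g => ∀ c ∈ setM (maskOf (rPt t) n), g c ∈ setM (maskOf (rPt t) n))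
    ?_ (fun c hc => hc) (fun a b ha hb c hc => ha _ (hb c hc)) hg
  rintro _ ⟨w, hw, rfl⟩ c hc
  obtain ⟨i, hi, e⟩ := mem_reach.1 hc
  rw [mem_setM, el_apply (hr.1.1 w hw), ← e]
  exact h w hw i hi

theorem orbit_mul_card (K : Subgroup (Equiv.Perm Pt)) (c : Pt) :
    (MulAction.orbit K c).ncard * Nat.card ↥(K ⊓ MulAction.stabilizer (Equiv.Perm Pt) c) = Nat.card K := by
  have h1 := Subgroup.index_mul_card (MulAction.stabilizer K c)
  rw [MulAction.index_stabilizer] at h1
  rw [← h1]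
  congr 1
  exact Nat.card_congr ⟨fun g => ⟨⟨g.1, g.2.1⟩, g.2.2⟩, fun g => ⟨g.1.1, g.1.2, g.2⟩, fun _ => rfl, fun _ => rfl⟩

theorem mask_subset_orbit {gens : List (List ℕ)} {t : Tree} {n : ℕ} (h : reachOK gens t n = true)
    {K : Subgroup (Equiv.Perm Pt)} (hK : genGrp gens ≤ K) :
    (setM (maskOf (rPt t) n) : Set Pt) ⊆ MulAction.orbit K (pt (rPt t 0)) := by
  intro c hc
  obtain ⟨g, hg, e⟩ := reach_mem h (Finset.mem_coe.1 hc)
  exact ⟨⟨g, hK hg⟩, e⟩

theorem reach_le_orbit {gens : List (List ℕ)} {t : Tree} {n : ℕ} (h : reachOK gens t n = true)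
    {K : Subgroup (Equiv.Perm Pt)} (hK : genGrp gens ≤ K) :
    n ≤ (MulAction.orbit K (pt (rPt t 0))).ncard := by
  conv_lhs => rw [← (reachOK_spec h).2, ← Set.ncard_coe_finset]
  exact Set.ncard_le_ncard (mask_subset_orbit h hK) (Set.toFinite _)

theorem orbit_eq_reach {gens : List (List ℕ)} {t : Tree} {n : ℕ} (h : reachOK gens t n = true)
    {K : Subgroup (Equiv.Perm Pt)} (hK : genGrp gens ≤ K) (hn : (MulAction.orbit K (pt (rPt t 0))).ncard ≤ n) :
    MulAction.orbit K (pt (rPt t 0)) = setM (maskOf (rPt t) n) :=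
  (Set.eq_of_subset_of_ncard_le (mask_subset_orbit h hK)
    (by rw [Set.ncard_coe_finset, (reachOK_spec h).2]; exact hn) (Set.toFinite _)).symm

end Cfsg.Agent.Lib.RuUnique
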