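import Mathlib
import Cfsg.Agent.Lib.RuUnique.Basic

/-!
The orbital graph of valency 1755 of a transitive group of degree 4060 with suborbits 1, 1755, 2304 and the
stabiliser of the Rudvalis graph: the symmetry and the relation between its intersection numbers.
-/

set_option autoImplicit false
set_option maxRecDepth 10000

namespace Cfsg.Agent.Lib.RuUnique


/-- The hypotheses. -/
structure Setup (Ω : Type*) [Fintype Ω] [DecidableEq Ω] (G : Subgroup (Equiv.Perm Ω)) where
  card : Fintype.card Ω = 4060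
  a : Ω
  b : Ω
  c : Ω
  trans : ∀ x y : Ω, ∃ g : G, g • x = y
  ψ : MulAction.stabilizer G a ≃* H0
  hb : (MulAction.orbit (MulAction.stabilizer G a) b).ncard = 1755
  hc : (MulAction.orbit (MulAction.stabilizer G a) c).ncard = 2304

namespace Setup

variable {Ω : Type*} [Fintype Ω] [DecidableEq Ω] {G : Subgroup (Equiv.Perm Ω)} (S : Setup Ω G)

/-- The orbital of valency 1755. -/
def R (x y : Ω) : Prop := ∃ g : G, g • S.a = x ∧ g • S.b = y

noncomputable instance decR : DecidableRel S.R := _root_.Classical.decRel _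

theorem R_smul_imp (g : G) {x y : Ω} (h : S.R x y) : S.R (g • x) (g • y) := by
  obtain ⟨k, rfl, rfl⟩ := h
  exact ⟨g * k, mul_smul g k _, mul_smul g k _⟩

theorem R_smul (g : G) (x y : Ω) : S.R (g • x) (g • y) ↔ S.R x y :=
  ⟨fun h => by simpa using S.R_smul_imp g⁻¹ h, S.R_smul_imp g⟩

theorem R_a_iff (y : Ω) : S.R S.a y ↔ y ∈ MulAction.orbit (MulAction.stabilizer G S.a) S.b :=
  ⟨fun ⟨g, hg, e⟩ => ⟨⟨g, hg⟩, e⟩, fun ⟨g, e⟩ => ⟨g, g.2, e⟩⟩

theorem orbit_fixed : MulAction.orbit (MulAction.stabilizer G S.a) S.a = {S.a} := by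
  refine Set.eq_singleton_iff_unique_mem.2 ⟨MulAction.mem_orbit_self _, ?_⟩
  rintro _ ⟨g, rfl⟩
  exact g.2

theorem orbit_eq_of_mem {x y : Ω} (h : y ∈ MulAction.orbit (MulAction.stabilizer G S.a) x) :
    MulAction.orbit (MulAction.stabilizer G S.a) y = MulAction.orbit (MulAction.stabilizer G S.a) x :=
  MulAction.orbit_eq_iff.2 h

theorem cases (x : Ω) : x = S.a ∨ x ∈ MulAction.orbit (MulAction.stabilizer G S.a) S.b ∨
    x ∈ MulAction.orbit (MulAction.stabilizer G S.a) S.c := by
  by_contra hx
  push Not at hx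
  obtain ⟨h1, h2, h3⟩ := hx
  have dbc : Disjoint (MulAction.orbit (MulAction.stabilizer G S.a) S.b) (MulAction.orbit (MulAction.stabilizer G S.a) S.c) := Set.disjoint_left.2 fun z hz hz' => by
    have := S.hb
    rw [← S.orbit_eq_of_mem hz, S.orbit_eq_of_mem hz', S.hc] at this
    omega
  have ha : ∀ (z : Ω) (n : ℕ), (MulAction.orbit (MulAction.stabilizer G S.a) z).ncard = n → n ≠ 1 → S.a ∉ MulAction.orbit (MulAction.stabilizer G S.a) z := fun z n hn h1' hz => by
    have := S.orbit_eq_of_mem hz
    rw [S.orbit_fixed] at this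
    rw [← this, Set.ncard_singleton] at hn
    exact h1' hn.symm
  have hle := Set.ncard_le_ncard (show insert S.a (insert x (MulAction.orbit (MulAction.stabilizer G S.a) S.b ∪ MulAction.orbit (MulAction.stabilizer G S.a) S.c)) ⊆ Set.univ from
    Set.subset_univ _) (Set.toFinite _)
  rw [Set.ncard_univ, Nat.card_eq_fintype_card, S.card,
    Set.ncard_insert_of_notMem ?_ (Set.toFinite _), Set.ncard_insert_of_notMem ?_ (Set.toFinite _),
    Set.ncard_union_eq dbc (Set.toFinite _) (Set.toFinite _), S.hb, S.hc] at hle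
  · omega
  · rintro (h | h)
    exacts [h2 h, h3 h]
  · rintro (h | h | h)
    exacts [h1 h.symm, ha _ _ S.hb (by norm_num) h, ha _ _ S.hc (by norm_num) h]

theorem not_R_self (x : Ω) : ¬ S.R x x := by
  rintro ⟨g, e1, e2⟩
  have hab : S.a = S.b := MulAction.injective g (e1.trans e2.symm)
  have := S.hb
  rw [← hab, S.orbit_fixed, Set.ncard_singleton] at this
  omega

theorem card_inf_eq (x : Ω) :
    (MulAction.orbit (MulAction.stabilizer G S.a) x).ncard *
      Nat.card ↥(MulAction.stabilizer G S.a ⊓ MulAction.stabilizer G x) = 35942400 := by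
  have h := Subgroup.index_mul_card (MulAction.stabilizer (MulAction.stabilizer G S.a) x)
  rw [MulAction.index_stabilizer, (Nat.card_congr S.ψ.toEquiv).trans
    card_H0] at h
  rw [← h]
  congr 1
  exact Nat.card_congr ⟨fun g => ⟨⟨g.1, g.2.1⟩, g.2.2⟩, fun g => ⟨g.1.1, g.1.2, g.2⟩,
    fun _ => rfl, fun _ => rfl⟩

theorem R_symm {x y : Ω} (h : S.R x y) : S.R y x := by
  have key : S.R S.b S.a := by
    obtain ⟨g, hg⟩ := S.trans S.a S.b
    set z := g⁻¹ • S.a with hz
    have e : Nat.card ↥(MulAction.stabilizer G S.a ⊓ MulAction.stabilizer G z) =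
        Nat.card ↥(MulAction.stabilizer G S.a ⊓ MulAction.stabilizer G S.b) := by
      refine Nat.card_congr ((MulAut.conj g).toEquiv.subtypeEquiv fun k => ?_)
      show k ∈ _ ⊓ _ ↔ g * k * g⁻¹ ∈ _ ⊓ _
      simp only [Subgroup.mem_inf, MulAction.mem_stabilizer_iff, mul_smul, hz, ← hg, inv_smul_smul,
        smul_left_cancel_iff]
      constructor
      · rintro ⟨h1, h2⟩
        exact ⟨by rw [h2, smul_inv_smul], h1⟩
      · rintro ⟨h1, h2⟩
        exact ⟨h2, by rw [eq_inv_smul_iff, h1]⟩
    have hcard := S.card_inf_eq z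
    have hb := S.card_inf_eq S.b
    rw [S.hb] at hb
    rw [e] at hcard
    have hz1755 : (MulAction.orbit (MulAction.stabilizer G S.a) z).ncard = 1755 :=
      Nat.eq_of_mul_eq_mul_right Nat.card_pos (hcard.trans hb.symm)
    have hzb : S.R S.a z := by
      rcases S.cases z with e' | e' | e'
      · rw [e', S.orbit_fixed, Set.ncard_singleton] at hz1755
        omega
      · exact (S.R_a_iff z).2 e'
      · rw [S.orbit_eq_of_mem e', S.hc] at hz1755
        omega
    have := S.R_smul_imp g hzb
    rwa [hg, hz, smul_inv_smul] at this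
  obtain ⟨g, rfl, rfl⟩ := h
  exact S.R_smul_imp g key

/-- The neighbours. -/
noncomputable def N (x : Ω) : Finset Ω := Finset.univ.filter (S.R x)

theorem mem_N {x y : Ω} : y ∈ S.N x ↔ S.R x y := by
  simp [N]

theorem N_smul (g : G) (x : Ω) : S.N (g • x) = (S.N x).image (g • ·) := by
  ext y
  simp only [mem_N, Finset.mem_image]
  exact ⟨fun h => ⟨g⁻¹ • y, by rwa [← S.R_smul g, smul_inv_smul], smul_inv_smul g y⟩,
    fun ⟨z, hz, e⟩ => e ▸ (S.R_smul g x z).2 hz⟩

theorem card_N (x : Ω) : (S.N x).card = 1755 := by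
  obtain ⟨g, rfl⟩ := S.trans S.a x
  rw [S.N_smul, Finset.card_image_of_injective _ (MulAction.injective g), ← S.hb, ← Set.ncard_coe_finset]
  exact congrArg Set.ncard (Set.ext fun y => by simp [mem_N, R_a_iff])

theorem common_smul (g : G) (x y : Ω) :
    (S.N (g • x) ∩ S.N (g • y)).card = (S.N x ∩ S.N y).card := by
  rw [S.N_smul, S.N_smul, ← Finset.image_inter _ _ (MulAction.injective g),
    Finset.card_image_of_injective _ (MulAction.injective g)]

/-- The number of common neighbours of an adjacent pair. -/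
noncomputable def lam : ℕ := (S.N S.a ∩ S.N S.b).card

/-- The number of common neighbours of the other pairs. -/
noncomputable def mu : ℕ := (S.N S.a ∩ S.N S.c).card

theorem common_R {x y : Ω} (h : S.R x y) : (S.N x ∩ S.N y).card = S.lam := by
  obtain ⟨g, rfl, rfl⟩ := h
  exact S.common_smul g _ _

theorem exists_to_c {x y : Ω} (hne : x ≠ y) (h : ¬ S.R x y) : ∃ g : G, g • S.a = x ∧ g • S.c = y := by
  obtain ⟨g, rfl⟩ := S.trans S.a x
  rcases S.cases (g⁻¹ • y) with e | e | e
  · exact absurd (by rw [← e, smul_inv_smul]) hne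
  · exact absurd (by have := S.R_smul_imp g ((S.R_a_iff _).2 e); rwa [smul_inv_smul] at this) h
  · obtain ⟨k, hk⟩ := e
    exact ⟨g * k, by rw [mul_smul, show (k : G) • S.a = S.a from k.2],
      by rw [mul_smul, show (k : G) • S.c = g⁻¹ • y from hk, smul_inv_smul]⟩

theorem common_not_R {x y : Ω} (hne : x ≠ y) (h : ¬ S.R x y) : (S.N x ∩ S.N y).card = S.mu := by
  obtain ⟨g, rfl, rfl⟩ := S.exists_to_c hne h
  exact S.common_smul g _ _

theorem b_mem : S.b ∈ S.N S.a := S.mem_N.2 ((S.R_a_iff _).2 (MulAction.mem_orbit_self _))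

theorem lam_lt : S.lam ≤ 1754 := by
  have h : S.N S.a ∩ S.N S.b ⊆ (S.N S.a).erase S.b := fun z hz => by
    rw [Finset.mem_inter] at hz
    exact Finset.mem_erase.2 ⟨fun e => S.not_R_self _ (S.mem_N.1 (e ▸ hz.2)), hz.1⟩
  refine (Finset.card_le_card h).trans ?_
  rw [Finset.card_erase_of_mem S.b_mem, S.card_N]

theorem count_edges : 1755 * (1754 - S.lam) = 2304 * S.mu := by
  set F := Finset.univ.filter fun z => z ≠ S.a ∧ ¬ S.R S.a z with hF
  have hcardF : F.card = 2304 := by
    have : F = (insert S.a (S.N S.a))ᶜ := by ext z; simp [hF, mem_N]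
    rw [this, Finset.card_compl, Finset.card_insert_of_notMem (fun h => S.not_R_self _ (S.mem_N.1 h)),
      S.card_N, S.card]
  have h := Finset.sum_card_bipartiteAbove_eq_sum_card_bipartiteBelow (s := S.N S.a) (t := F) S.R
  have hl : ∀ y ∈ S.N S.a, (F.bipartiteAbove S.R y).card = 1754 - S.lam := by
    intro y hy
    have hy' := S.mem_N.1 hy
    have e : F.bipartiteAbove S.R y = S.N y \ insert S.a (S.N S.a ∩ S.N y) := by
      ext z
      simp only [Finset.mem_bipartiteAbove, hF, Finset.mem_filter, Finset.mem_univ, true_and,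
        Finset.mem_sdiff, Finset.mem_insert, Finset.mem_inter, mem_N]
      tauto
    rw [e, Finset.card_sdiff_of_subset, S.card_N, Finset.card_insert_of_notMem
      (fun h => S.not_R_self _ (S.mem_N.1 (Finset.mem_inter.1 h).1)), S.common_R hy']
    · omega
    · intro z hz
      rw [Finset.mem_insert] at hz
      rcases hz with rfl | hz
      exacts [S.mem_N.2 (S.R_symm hy'), (Finset.mem_inter.1 hz).2]
  have hr : ∀ z ∈ F, ((S.N S.a).bipartiteBelow S.R z).card = S.mu := by
    intro z hz
    rw [hF, Finset.mem_filter] at hz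
    rw [← S.common_not_R hz.2.1.symm hz.2.2]
    congr 1
    ext v
    simp only [Finset.mem_bipartiteBelow, Finset.mem_inter, mem_N]
    exact ⟨fun h => ⟨h.1, S.R_symm h.2⟩, fun h => ⟨h.1, S.R_symm h.2⟩⟩
  rw [Finset.sum_congr rfl hl, Finset.sum_congr rfl hr, Finset.sum_const, Finset.sum_const, S.card_N,
    hcardF, smul_eq_mul, smul_eq_mul] at h
  exact h

theorem lam_ne : S.lam ≠ 1754 := by
  intro h111
  -- the closed neighbourhoods form a partition
  have hcl : ∀ x y : Ω, S.R x y → insert x (S.N x) = insert y (S.N y) := by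
    intro x y hxy
    have he : S.N x ∩ S.N y = (S.N x).erase y := by
      refine Finset.eq_of_subset_of_card_le (fun z hz => ?_) ?_
      · rw [Finset.mem_inter] at hz
        exact Finset.mem_erase.2 ⟨fun e => S.not_R_self _ (S.mem_N.1 (e ▸ hz.2)), hz.1⟩
      · rw [Finset.card_erase_of_mem (S.mem_N.2 hxy), S.card_N, S.common_R hxy, h111]
    refine Finset.eq_of_subset_of_card_le (fun z hz => ?_) ?_
    · rw [Finset.mem_insert] at hz ⊢
      rcases hz with rfl | hz
      · exact Or.inr (S.mem_N.2 (S.R_symm hxy))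
      · by_cases e : z = y
        · exact Or.inl e
        · exact Or.inr (Finset.mem_inter.1 (he.symm ▸ Finset.mem_erase.2 ⟨e, hz⟩)).2
    · rw [Finset.card_insert_of_notMem (fun h => S.not_R_self _ (S.mem_N.1 h)),
        Finset.card_insert_of_notMem (fun h => S.not_R_self _ (S.mem_N.1 h)), S.card_N, S.card_N]
  have hf := Finset.card_eq_sum_card_image (fun x => insert x (S.N x)) (Finset.univ : Finset Ω)
  have hfib : ∀ T ∈ Finset.univ.image (fun x => insert x (S.N x)),
      (Finset.univ.filter fun x => insert x (S.N x) = T).card = 1756 := by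
    intro T hT
    obtain ⟨x, -, rfl⟩ := Finset.mem_image.1 hT
    have : (Finset.univ.filter fun y => insert y (S.N y) = insert x (S.N x)) = insert x (S.N x) := by
      ext y
      simp only [Finset.mem_filter, Finset.mem_univ, true_and]
      refine ⟨fun e => e ▸ Finset.mem_insert_self y _, fun hy => ?_⟩
      rcases Finset.mem_insert.1 hy with rfl | hy
      exacts [rfl, (hcl x y (S.mem_N.1 hy)).symm]
    rw [this, Finset.card_insert_of_notMem (fun h => S.not_R_self _ (S.mem_N.1 h)), S.card_N]
  rw [Finset.sum_congr rfl hfib, Finset.sum_const, Finset.card_univ, S.card, smul_eq_mul] at hf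
  omega

end Setup

end Cfsg.Agent.Lib.RuUnique
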