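import Cfsg.Agent.Lib.RuUnique.SubA
import Cfsg.Agent.Lib.RuUnique.ChkNormX
import Cfsg.Agent.Lib.RuUnique.ChkNormX0
import Cfsg.Agent.Lib.RuUnique.ChkNormX1
import Cfsg.Agent.Lib.RuUnique.ChkNormX2
import Cfsg.Agent.Lib.RuUnique.ChkNormX3
import Cfsg.Agent.Lib.RuUnique.ChkNormX4
import Cfsg.Agent.Lib.RuUnique.ChkNormX5
import Cfsg.Agent.Lib.RuUnique.ChkNormU
import Cfsg.Agent.Lib.RuUnique.ChkCases

/-!
A subgroup of index 2304 in the stabiliser of a point is the stabiliser of a far point: it has 300 Sylow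
13-subgroups, so contains a known group of order 52, and an element normalising a cyclic subgroup of order
four of that group.
-/

set_option autoImplicit false
set_option linter.all false
set_option maxRecDepth 100000

noncomputable section

namespace Cfsg.Agent.Lib.RuUnique

open Cfsg.Agent.CosetCert

/-- The element of order thirteen and the element of order four. -/
def xE : Equiv.Perm Pt := gm 8
def uE : Equiv.Perm Pt := gm 10

theorem xE_H0 : xE ∈ H0 := gm_hi (by norm_num) (by norm_num)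

theorem uE_H0 : uE ∈ H0 := gm_hi (by norm_num) (by norm_num)

theorem hWord8 : hWord [8] = true := by decide

theorem hWord10 : hWord [10] = true := by decide

theorem xpow_word (m : ℕ) : hWord (powW [8] m) = true ∧ el (powW [8] m) = xE ^ m :=
  ⟨hWord_powW hWord8 m, by rw [el_powW, el_one]; rfl⟩

theorem upow_word (m : ℕ) : hWord (powW [10] m) = true ∧ el (powW [10] m) = uE ^ m :=
  ⟨hWord_powW hWord10 m, by rw [el_powW, el_one]; rfl⟩

theorem xE_pow : xE ^ 13 = 1 ∧ xE ≠ 1 := by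
  have h := x_order
  simp only [Bool.and_eq_true] at h
  refine ⟨?_, ?_⟩
  · rw [← (xpow_word 13).2, el_eq_of_key (xpow_word 13).1 rfl (Nat.eq_of_beq_eq_true h.1), el_nil]
  · have := el_ne_of_key hWord8 (rfl : hWord [] = true) h.2
    rwa [el_one, el_nil] at this

theorem orderOf_xE : orderOf xE = 13 :=
  haveI : Fact (Nat.Prime 13) := ⟨by norm_num⟩
  orderOf_eq_prime xE_pow.1 xE_pow.2

theorem uE_pow : uE ^ 4 = 1 ∧ (∀ k, 0 < k → k < 4 → uE ^ k ≠ 1) := by
  have h := ulev_ok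
  simp only [Bool.and_eq_true] at h
  obtain ⟨⟨⟨⟨-, h1⟩, h2⟩, h3⟩, h4⟩ := h
  have e4 : el [10, 10, 10, 10] = uE ^ 4 := by simp [el, uE, pow_succ, mul_assoc]
  have e2 : el [10, 10] = uE ^ 2 := by simp [el, uE, pow_succ]
  have e3 : el [10, 10, 10] = uE ^ 3 := by simp [el, uE, pow_succ, mul_assoc]
  refine ⟨?_, fun k h0 hk => ?_⟩
  · rw [← e4, el_eq_of_key (by decide) rfl (Nat.eq_of_beq_eq_true h4), el_nil]
  · interval_cases k
    · rw [pow_one, show uE = el [10] from (el_one 10).symm, ← el_nil]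
      exact el_ne_of_key hWord10 rfl h1
    · rw [← e2, ← el_nil]; exact el_ne_of_key (by decide) rfl h2
    · rw [← e3, ← el_nil]; exact el_ne_of_key (by decide) rfl h3

theorem orderOf_uE : orderOf uE = 4 := (orderOf_eq_iff (by norm_num)).2 ⟨uE_pow.1, fun k hk h0 => uE_pow.2 k h0 hk⟩

theorem exists_pow_of_zpowers {g a : Equiv.Perm Pt} (h : g ∈ Subgroup.zpowers a) {n : ℕ} (hn : orderOf a = n) :
    ∃ m < n, g = a ^ m := by
  obtain ⟨k, hk⟩ := (mem_powers_iff_mem_zpowers (x := a)).2 h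
  refine ⟨k % n, Nat.mod_lt _ (hn ▸ orderOf_pos a), ?_⟩
  rw [← hk, ← hn, pow_mod_orderOf]

/-- Normalising a cyclic subgroup. -/
def Nz (a : Equiv.Perm Pt) : Subgroup (Equiv.Perm Pt) := Subgroup.normalizer (Subgroup.zpowers a : Set (Equiv.Perm Pt))

theorem mem_Nz {a g : Equiv.Perm Pt} : g ∈ Nz a ↔ g * a * g⁻¹ ∈ Subgroup.zpowers a := by
  constructor
  · exact fun h => (Subgroup.mem_normalizer_iff.1 h a).1 (Subgroup.mem_zpowers a)
  · intro h
    refine Subgroup.mem_normalizer_iff.2 fun b => ?_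
    have hfwd : ∀ b ∈ Subgroup.zpowers a, g * b * g⁻¹ ∈ Subgroup.zpowers a := by
      intro b hb
      obtain ⟨k, rfl⟩ := Subgroup.mem_zpowers_iff.1 hb
      rw [← conj_zpow]
      exact Subgroup.zpow_mem _ h k
    refine ⟨hfwd b, fun hb => ?_⟩
    let f : Subgroup.zpowers a → Subgroup.zpowers a := fun c => ⟨g * c * g⁻¹, hfwd c c.2⟩
    have hf : Function.Injective f := fun c d e => by
      have := congrArg Subtype.val e
      exact Subtype.ext (by simpa [f] using this)
    obtain ⟨c, hc⟩ := (Finite.injective_iff_surjective.1 hf) ⟨_, hb⟩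
    have := congrArg Subtype.val hc
    simp only [f, mul_left_inj, mul_right_inj] at this
    exact this ▸ c.2

/-- A point fixed by `a` is moved to a point fixed by `a`. -/
theorem Nz_fix {a g : Equiv.Perm Pt} (hg : g ∈ Nz a) {c : Pt} (hc : a c = c) : a (g c) = g c := by
  have h := mem_Nz.1 (inv_mem hg)
  rw [inv_inv] at h
  have hfix : ∀ b ∈ Subgroup.zpowers a, b c = c := by
    intro b hb
    have : Subgroup.zpowers a ≤ MulAction.stabilizer (Equiv.Perm Pt) c := Subgroup.zpowers_le.2 hc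
    exact this hb
  have := hfix _ h
  rw [Equiv.Perm.mul_apply, Equiv.Perm.mul_apply, Equiv.Perm.inv_eq_iff_eq] at this
  exact this

/-- A word of the group of order 52. -/
def nElt (a b : ℕ) : Equiv.Perm Pt := el (nWordAt a b)

theorem nWord_ok (a b : ℕ) : hWord (nWordAt a b) = true ∧ el (nWordAt a b) = xE ^ a * uE ^ b :=
  ⟨hWord_app (xpow_word a).1 (upow_word b).1, by rw [nWordAt, el_app, (xpow_word a).2, (upow_word b).2]⟩

theorem anyN_spec {f : List ℕ → Bool} : anyN f = true ↔ ∃ a < 13, ∃ b < 4, f (nWordAt a b) = true := by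
  simp [anyN, List.any_eq_true]

theorem allN_spec {f : List ℕ → Bool} : allN f = true ↔ ∀ a < 13, ∀ b < 4, f (nWordAt a b) = true := by
  simp [allN, List.all_eq_true]

/-- The 52 elements. -/
def S52 : Finset (Equiv.Perm Pt) := (Finset.range 13 ×ˢ Finset.range 4).image fun p => nElt p.1 p.2

theorem mem_S52 {g : Equiv.Perm Pt} : g ∈ S52 ↔ ∃ a < 13, ∃ b < 4, el (nWordAt a b) = g := by
  simp only [S52, Finset.mem_image, Finset.mem_product, Finset.mem_range, Prod.exists, nElt]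
  constructor
  · rintro ⟨a, b, ⟨ha, hb⟩, e⟩; exact ⟨a, ha, b, hb, e⟩
  · rintro ⟨a, ha, b, hb, e⟩; exact ⟨a, b, ⟨ha, hb⟩, e⟩

theorem card_S52 : S52.card ≤ 52 := by
  refine Finset.card_image_le.trans ?_
  simp

theorem xE_S52 : xE ∈ S52 := mem_S52.2 ⟨1, by norm_num, 0, by norm_num, by rw [(nWord_ok 1 0).2]; simp⟩

theorem uE_S52 : uE ∈ S52 := mem_S52.2 ⟨0, by norm_num, 1, by norm_num, by rw [(nWord_ok 0 1).2]; simp⟩

/-! ### The chain at a far point -/

theorem jlev_spec : reachOK Data.jlevG0 Data.jlev0 780 = true ∧ reachOK Data.jlevG1 Data.jlev1 20 = true ∧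
    rPt Data.jlev0 0 = jp ∧ rPt Data.jlev1 0 = jq ∧ runW [8] jp = jq ∧
    genGrp jGens ≤ St j0 ∧ genGrp Data.jlevG0 ≤ genGrp jGens ∧ genGrp Data.jlevG1 ≤ genGrp jGens ∧
    genGrp Data.jlevG1 ≤ Fix [rPt Data.orbF 0, jp] ∧ jp < 4060 ∧ jq < 4060 := by
  have h := jlev_ok
  simp only [Bool.and_eq_true, List.all_eq_true] at h
  obtain ⟨⟨⟨⟨⟨⟨⟨⟨r0, r1⟩, -⟩, -⟩, e0⟩, e1⟩, ex⟩, hw⟩, hf⟩ := h
  have hp : jp < 4060 := (Nat.eq_of_beq_eq_true e0) ▸ ((reachOK_spec r0).1 0 (by norm_num)).1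
  have hq : jq < 4060 := (Nat.eq_of_beq_eq_true e1) ▸ ((reachOK_spec r1).1 0 (by norm_num)).1
  refine ⟨r0, r1, Nat.eq_of_beq_eq_true e0, Nat.eq_of_beq_eq_true e1, Nat.eq_of_beq_eq_true ex, ?_, ?_, ?_, ?_, hp, hq⟩
  · exact genGrp_le fun w hw' => ⟨el_H0 (hw w hw').1, by
      show el w j0 = j0
      rw [j0, el_pt (letters12 (hw w hw').1) j0_lt, Nat.eq_of_beq_eq_true (hw w hw').2]⟩
  · exact genGrp_le fun w hw' => el_mem_genGrp (List.mem_append_left _ hw')
  · exact genGrp_le fun w hw' => el_mem_genGrp (List.mem_append_right _ hw')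
  · refine genGrp_le_Fix fun w hw' => ⟨(hw w (List.mem_append_right _ hw')).1, fun b hb => ?_⟩
    simp only [List.mem_cons, List.not_mem_nil, or_false] at hb
    rcases hb with rfl | rfl
    · exact ⟨j0_lt, Nat.eq_of_beq_eq_true (hw w (List.mem_append_right _ hw')).2⟩
    · exact ⟨hp, Nat.eq_of_beq_eq_true (hf w hw')⟩

theorem genGrp_jGens : genGrp jGens = St j0 := by
  obtain ⟨r0, r1, e0, e1, -, hle, hg0, hg1, hfix, hp, hq⟩ := jlev_spec
  refine Subgroup.eq_of_le_of_card_ge hle ?_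
  rw [card_St_F0 j0_mem]
  have h0 := orbit_mul_card (genGrp jGens) (pt jp)
  have n0' := reach_le_orbit r0 hg0
  rw [e0] at n0'
  set K1 := genGrp jGens ⊓ MulAction.stabilizer (Equiv.Perm Pt) (pt jp)
  have hK1 : genGrp Data.jlevG1 ≤ K1 := le_inf hg1 fun g hg => (mem_Fix.1 (hfix hg)).2 jp (by simp)
  have h1 := orbit_mul_card K1 (pt jq)
  have n1 := reach_le_orbit r1 hK1
  rw [e1] at n1
  have s1 : 20 ≤ Nat.card K1 := by
    rw [← h1]
    exact le_trans n1 (Nat.le_mul_of_pos_right _ Nat.card_pos)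
  rw [← h0]
  exact le_trans (by norm_num) (Nat.mul_le_mul n0' s1)

theorem jlev_mask : Nat.beq (maskOf (rPt Data.jlev0) 780) (Nat.land (rowM 1) maskN) = true := by decide +kernel

theorem jp_orbit : MulAction.orbit (St j0) (pt jp) = (setM (maskOf (rPt Data.jlev0) 780) : Set Pt) := by
  obtain ⟨r0, -, e0, -, -, -, -, -, -, hp, -⟩ := jlev_spec
  ext c
  constructor
  · rintro ⟨g, rfl⟩
    have hmem : ∀ d : Pt, d ∈ setM (maskOf (rPt Data.jlev0) 780) ↔ Adj j0 d ∧ d ∈ N0 := fun d => by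
      rw [mem_setM, Nat.eq_of_beq_eq_true jlev_mask, bit_land, Bool.and_eq_true, adj_j0, N0, mem_setM]
    obtain ⟨h1, h2⟩ := (hmem _).1 (e0 ▸ first_mem r0 (by norm_num))
    have hg := g.2
    rw [mem_St] at hg
    refine Finset.mem_coe.2 ((hmem _).2 ⟨?_, N0_closed hg.1 h2⟩)
    have := h1.map (H0_le hg.1)
    rwa [hg.2] at this
  · intro hc
    obtain ⟨g, hg, e⟩ := reach_mem r0 (Finset.mem_coe.1 hc)
    rw [e0] at e
    exact ⟨⟨g, genGrp_jGens ▸ jlev_spec.2.2.2.2.2.2.1 hg⟩, e⟩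


/-- The third level at a far point. -/
theorem jq_level : MulAction.orbit (Fix [rPt Data.orbF 0, jp]) (pt jq) = (setM (maskOf (rPt Data.jlev1) 20) : Set Pt) ∧
    ∀ g ∈ Fix [rPt Data.orbF 0, jp], g (pt jq) = pt jq → g = 1 := by
  obtain ⟨r0, r1, e0, e1, -, -, -, -, hfix, hp, hq⟩ := jlev_spec
  have hF : Fix [rPt Data.orbF 0, jp] = St j0 ⊓ MulAction.stabilizer (Equiv.Perm Pt) (pt jp) := by
    ext g
    simp [mem_Fix, mem_St, j0, and_assoc, Subgroup.mem_inf, MulAction.mem_stabilizer_iff, Equiv.Perm.smul_def]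
  have hc1 : Nat.card (Fix [rPt Data.orbF 0, jp]) = 20 := by
    have h := orbit_mul_card (St j0) (pt jp)
    rw [jp_orbit, Set.ncard_coe_finset, (reachOK_spec r0).2, card_St_F0 j0_mem] at h
    rw [hF]
    omega
  have h := orbit_mul_card (Fix [rPt Data.orbF 0, jp]) (pt jq)
  have hge := reach_le_orbit r1 hfix
  rw [e1] at hge
  rw [hc1] at h
  have hpos : 0 < Nat.card ↥(Fix [rPt Data.orbF 0, jp] ⊓ MulAction.stabilizer (Equiv.Perm Pt) (pt jq)) := Nat.card_pos
  have hle : Nat.card ↥(Fix [rPt Data.orbF 0, jp] ⊓ MulAction.stabilizer (Equiv.Perm Pt) (pt jq)) ≤ 1 := by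
    have := (Nat.mul_le_mul_right _ hge).trans h.le
    omega
  have h20 : (MulAction.orbit (Fix [rPt Data.orbF 0, jp]) (pt jq)).ncard ≤ 20 := by
    rw [show (20 : ℕ) = 20 from rfl]
    calc _ ≤ _ := Nat.le_mul_of_pos_right _ hpos
      _ = 20 := h
  refine ⟨?_, fun g hg hgq => ?_⟩
  · have := orbit_eq_reach r1 hfix (by rw [e1]; exact h20)
    rwa [e1] at this
  · have : g ∈ Fix [rPt Data.orbF 0, jp] ⊓ MulAction.stabilizer (Equiv.Perm Pt) (pt jq) := ⟨hg, hgq⟩
    rwa [Subgroup.eq_bot_of_card_le _ hle, Subgroup.mem_bot] at this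

theorem eWord_ok (i : ℕ) : hWord (eWordAt i) = true ∧ el (eWordAt i) ∈ Nz xE := by
  have h := fixX_ok
  simp only [Bool.and_eq_true, List.any_eq_true, List.mem_range] at h
  obtain ⟨⟨⟨-, hw⟩, m, hm, he⟩, -⟩ := h
  refine ⟨hWord_powW hw i, ?_⟩
  rw [eWordAt, el_powW]
  refine pow_mem (mem_Nz.2 ?_) i
  have := el_eq_of_key (hWord_app (hWord_app hw hWord8) (hWord_invW hw)) (xpow_word m).1 (Nat.eq_of_beq_eq_true he)
  rw [el_app, el_app, el_invW (letters12 hw), el_one, (xpow_word m).2] at this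
  rw [show (el Data.eW * xE * (el Data.eW)⁻¹) = el Data.eW * gm 8 * (el Data.eW)⁻¹ from rfl, this]
  exact Subgroup.pow_mem _ (Subgroup.mem_zpowers _) m

theorem xE_j0 : xE j0 = j0 ∧ uE j0 = j0 := by
  have h := fixX_ok
  simp only [Bool.and_eq_true] at h
  obtain ⟨⟨⟨⟨⟨-, hx⟩, hu⟩, -⟩, -⟩, -⟩ := h
  exact ⟨Fin.ext (by rw [xE, gm_apply (by norm_num), j0, pt_val j0_lt, Nat.eq_of_beq_eq_true hx]),
    Fin.ext (by rw [uE, gm_apply (by norm_num), j0, pt_val j0_lt, Nat.eq_of_beq_eq_true hu])⟩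

theorem normXStep_ok {i : ℕ} (hi : i < 780) : normXOK i = true := by
  rcases Nat.lt_or_ge i 130 with h | h
  · exact allFrom_spec normX_ok_0 (by omega) (by omega)
  rcases Nat.lt_or_ge i 260 with h' | h'
  · exact allFrom_spec normX_ok_1 (by omega) (by omega)
  rcases Nat.lt_or_ge i 390 with h3 | h3
  · exact allFrom_spec normX_ok_2 (by omega) (by omega)
  rcases Nat.lt_or_ge i 520 with h4 | h4
  · exact allFrom_spec normX_ok_3 (by omega) (by omega)
  rcases Nat.lt_or_ge i 650 with h5 | h5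
  · exact allFrom_spec normX_ok_4 (by omega) (by omega)
  · exact allFrom_spec normX_ok_5 (by omega) (by omega)

theorem getWord_out : ∀ (l : List (List ℕ)) (n : ℕ), l.length ≤ n → getWord l n = []
  | [], _, _ => rfl
  | x :: l, 0, h => absurd h (by simp)
  | x :: l, n + 1, h => getWord_out l n (by simpa using h)

theorem jPath_St (d : ℕ) : ∀ j, el (pathW Data.jlev0 Data.jlevG0 d j) ∈ St j0 := by
  induction d with
  | zero => exact fun j => one_mem _
  | succ d ih =>
    intro j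
    rw [pathW]
    cases Nat.beq j 0
    · rw [cond_false, el_app]
      refine mul_mem ?_ (ih _)
      by_cases hl : rGen Data.jlev0 j < Data.jlevG0.length
      · exact genGrp_jGens ▸ el_mem_genGrp (List.mem_append_left _ (getWord_mem hl))
      · rw [getWord_out _ _ (not_lt.1 hl)]; exact one_mem _
    · exact one_mem _

theorem normX_St {k : Equiv.Perm Pt} (hk : k ∈ St j0) (hn : k ∈ Nz xE) : k ∈ S52 := by
  obtain ⟨r0, r1, e0, e1, ex, -, -, -, hfix, hp, hq⟩ := jlev_spec
  obtain ⟨m, hm, hkx⟩ := exists_pow_of_zpowers (mem_Nz.1 hn) orderOf_xE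
  have hkj : k (pt (rPt Data.orbF 0)) = pt (rPt Data.orbF 0) := hk.2
  have hf : k (pt jp) ∈ setM (maskOf (rPt Data.jlev0) 780) := by
    rw [← Finset.mem_coe, ← jp_orbit]; exact ⟨⟨k, hk⟩, rfl⟩
  obtain ⟨i, hi, hif⟩ := mem_reach.1 hf
  have hkp : k (pt jp) = pt (rPt Data.jlev0 i) := by rw [hif, pt_fin]
  have h := normXStep_ok hi
  simp only [normXOK, Bool.and_eq_true, allUpto_spec] at h
  obtain ⟨⟨⟨hl, hhw⟩, hpath⟩, hst⟩ := h
  have hflt : rPt Data.jlev0 i < 4060 := ((reachOK_spec r0).1 i hi).1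
  set f := rPt Data.jlev0 i
  set g := runW (powW [8] m) f
  have hglt : g < 4060 := runW_lt (letters12 (xpow_word m).1) hflt
  have hkq : k (pt jq) = pt g := by
    have e : pt jq = xE (pt jp) := by
      rw [← ex, ← el_pt (letters12 hWord8) hp, el_one]; rfl
    rw [e, ← Equiv.Perm.mul_apply, show k * xE = (k * xE * k⁻¹) * k by group, hkx, Equiv.Perm.mul_apply, hkp,
      ← (xpow_word m).2, el_pt (letters12 (xpow_word m).1) hflt]
  have hext : ∀ v : List ℕ, hWord v = true → el v (pt (rPt Data.orbF 0)) = pt (rPt Data.orbF 0) →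
      el v (pt jp) = k (pt jp) → el v (pt jq) = k (pt jq) → el v = k := by
    intro v hv h1 h2 h3
    have hmem : k⁻¹ * el v ∈ Fix [rPt Data.orbF 0, jp] := by
      refine mem_Fix.2 ⟨mul_mem (inv_mem hk.1) (el_H0 hv), fun b hb => ?_⟩
      rw [Equiv.Perm.mul_apply, Equiv.Perm.inv_eq_iff_eq]
      simp only [List.mem_cons, List.not_mem_nil, or_false] at hb
      rcases hb with rfl | rfl
      · rw [h1, hkj]
      · exact h2
    have := jq_level.2 _ hmem (by rw [Equiv.Perm.mul_apply, Equiv.Perm.inv_eq_iff_eq]; exact h3)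
    rw [inv_mul_eq_one] at this
    exact this.symm
  have hcase := hst m hm
  simp only [normXStep, Bool.or_eq_true, Bool.not_eq_true', anyN_spec, allUpto_spec, Bool.and_eq_true] at hcase
  rcases hcase with (hc | ⟨a, ha, b, hb, ⟨hb1, hb2⟩, hb3⟩) | hc
  · exfalso
    have hpj : el (jPath i) (pt jp) = pt f := by
      rw [el_pt (letters12 hhw) hp, ← e0, Nat.eq_of_beq_eq_true hpath]
    have hpfix : el (jPath i) ∈ St j0 := jPath_St _ _
    have hs : (el (jPath i))⁻¹ * k ∈ Fix [rPt Data.orbF 0, jp] := by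
      refine mem_Fix.2 ⟨mul_mem (inv_mem hpfix.1) hk.1, fun b hb => ?_⟩
      rw [Equiv.Perm.mul_apply, Equiv.Perm.inv_eq_iff_eq]
      simp only [List.mem_cons, List.not_mem_nil, or_false] at hb
      rcases hb with rfl | rfl
      · exact hkj.trans hpfix.2.symm
      · rw [hkp, hpj]
    have hmem : ((el (jPath i))⁻¹ * k) (pt jq) ∈ (setM (maskOf (rPt Data.jlev1) 20) : Set Pt) := by
      rw [← jq_level.1]; exact ⟨⟨_, hs⟩, rfl⟩
    rw [Equiv.Perm.mul_apply, hkq, ← el_invW hl, el_pt (lett_invW hl) hglt, Finset.mem_coe, mem_setM,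
      pt_val (runW_lt (lett_invW hl) hglt)] at hmem
    rw [hmem] at hc
    simp at hc
  · refine mem_S52.2 ⟨a, ha, b, hb, hext _ (nWord_ok a b).1 ?_ ?_ ?_⟩
    · rw [el_pt (letters12 (nWord_ok a b).1) j0_lt, Nat.eq_of_beq_eq_true hb1]
    · rw [el_pt (letters12 (nWord_ok a b).1) hp, Nat.eq_of_beq_eq_true hb2, hkp]
    · rw [el_pt (letters12 (nWord_ok a b).1) hq, Nat.eq_of_beq_eq_true hb3, hkq]
  · exfalso
    have hpj : el (jPath i) (pt jp) = pt f := by
      rw [el_pt (letters12 hhw) hp, ← e0, Nat.eq_of_beq_eq_true hpath]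
    have hj0 : el (jPath i) (pt (rPt Data.orbF 0)) = pt (rPt Data.orbF 0) := (jPath_St _ _).2
    have hs : (el (jPath i))⁻¹ * k ∈ Fix [rPt Data.orbF 0, jp] := by
      refine mem_Fix.2 ⟨mul_mem (inv_mem (el_H0 hhw)) hk.1, fun b hb => ?_⟩
      rw [Equiv.Perm.mul_apply, Equiv.Perm.inv_eq_iff_eq]
      simp only [List.mem_cons, List.not_mem_nil, or_false] at hb
      rcases hb with rfl | rfl
      · exact hkj.trans hj0.symm
      · rw [hkp, hpj]
    have hmem : ((el (jPath i))⁻¹ * k) (pt jq) ∈ (setM (maskOf (rPt Data.jlev1) 20) : Set Pt) := by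
      rw [← jq_level.1]; exact ⟨⟨_, hs⟩, rfl⟩
    obtain ⟨o, ho, hoe⟩ := mem_reach.1 (Finset.mem_coe.1 hmem)
    have h1 := allUpto_spec.1 jPath1_ok o ho
    simp only [jPath1OK, Bool.and_eq_true] at h1
    obtain ⟨⟨⟨⟨hw1, hl1⟩, hp1⟩, hjp1⟩, hj1⟩ := h1
    have htarget : el (jPath1 o) (pt jq) = ((el (jPath i))⁻¹ * k) (pt jq) := by
      rw [← pt_fin (((el (jPath i))⁻¹ * k) (pt jq)), ← hoe, el_pt (letters12 hw1) hq, ← e1,
        Nat.eq_of_beq_eq_true hp1]
    have he : el (jPath i ++ jPath1 o) = k := by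
      refine hext _ (hWord_app hhw hw1) ?_ ?_ ?_
      · rw [el_app, Equiv.Perm.mul_apply, el_pt (letters12 hw1) j0_lt, Nat.eq_of_beq_eq_true hj1, hj0]
      · rw [el_app, Equiv.Perm.mul_apply, el_pt (letters12 hw1) hp, Nat.eq_of_beq_eq_true hjp1, hpj, hkp]
      · rw [el_app, Equiv.Perm.mul_apply, htarget, Equiv.Perm.mul_apply, Equiv.Perm.coe_inv, Equiv.apply_symm_apply]
    rcases hc o ho with hh | hh
    · rw [hoe, Equiv.Perm.mul_apply, hkq, ← el_invW hl, el_pt (lett_invW hl) hglt,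
        pt_val (runW_lt (lett_invW hl) hglt), Nat.beq_refl] at hh
      exact absurd hh (by decide)
    · have hne : el (jPath i ++ jPath1 o ++ [8]) ≠ el (powW [8] m ++ jPath i ++ jPath1 o) :=
        el_ne_of_key (hWord_app (hWord_app hhw hw1) hWord8) (hWord_app (hWord_app (xpow_word m).1 hhw) hw1)
          (by rw [hh]; rfl)
      refine hne ?_
      rw [el_app _ [8], he, el_one, List.append_assoc, el_app, he, (xpow_word m).2, ← hkx]
      show k * xE = k * xE * k⁻¹ * k
      group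

/-- The elements normalising the cyclic group of order thirteen. -/
theorem normX {y : Equiv.Perm Pt} (hy : y ∈ H0) (hn : y ∈ Nz xE) :
    ∃ i < 3, ∃ a < 13, ∃ b < 4, y = el (eWordAt i ++ nWordAt a b) := by
  have hfix := Nz_fix hn xE_j0.1
  have h := fixX_ok
  simp only [Bool.and_eq_true, allUpto_spec, Bool.or_eq_true, Bool.not_eq_true', List.any_eq_true,
    List.mem_range] at h
  have hF := F0_closed hy j0_mem
  rcases h.1.1.1.1.1 (y j0) (y j0).isLt with (hc | hc) | ⟨i, hi, hc⟩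
  · rw [← gm_apply (by norm_num : 8 < 12)] at hc
    rw [show gm 8 (y j0) = y j0 from hfix, Nat.beq_refl] at hc
    simp at hc
  · have e : y j0 = o0 := Fin.ext ((Nat.eq_of_beq_eq_true hc).trans (pt_val (by norm_num)).symm)
    rw [e] at hF
    exact absurd hF o0_not.2
  · obtain ⟨hew, hen⟩ := eWord_ok i
    have hej : el (eWordAt i) j0 = y j0 := by
      rw [j0, el_pt (letters12 hew) j0_lt, Nat.eq_of_beq_eq_true hc, pt_fin]; rfl
    have hk : (el (eWordAt i))⁻¹ * y ∈ St j0 := ⟨H0.mul_mem (H0.inv_mem (el_H0 hew)) hy, by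
      show ((el (eWordAt i))⁻¹ * y) j0 = j0
      rw [Equiv.Perm.mul_apply, Equiv.Perm.inv_eq_iff_eq, hej]⟩
    obtain ⟨a, ha, b, hb, e⟩ := mem_S52.1 (normX_St hk (show _ ∈ Nz xE from (Nz xE).mul_mem ((Nz xE).inv_mem hen) hn))
    exact ⟨i, hi, a, ha, b, hb, by rw [el_app, e, mul_inv_cancel_left]⟩


/-- The elements of a subgroup normalising the group of order thirteen lie among the 52. -/
theorem S52_of_x {K : Subgroup (Equiv.Perm Pt)} (hK : K ≤ H0) (hcard : Nat.card K = 15600) (hx : xE ∈ K) :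
    (∀ g ∈ S52, g ∈ K) ∧ ∀ g ∈ K, g ∈ Nz xE → g ∈ S52 := by
  classical
  haveI : Fact (Nat.Prime 13) := ⟨by norm_num⟩
  set P : Subgroup K := (Subgroup.zpowers xE).subgroupOf K with hP
  have hle : Subgroup.zpowers xE ≤ K := Subgroup.zpowers_le.2 hx
  have hPc : Nat.card P = 13 := by
    rw [hP, Nat.card_congr (Subgroup.subgroupOfEquivOfLe hle).toEquiv, Nat.card_zpowers, orderOf_xE]
  have hfac : (15600 : ℕ).factorization 13 = 1 := by
    rw [show (15600 : ℕ) = 13 * 1200 by norm_num, Nat.factorization_mul (by norm_num) (by norm_num),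
      Finsupp.add_apply, Nat.Prime.factorization_self (by norm_num),
      Nat.factorization_eq_zero_of_not_dvd (by norm_num), add_zero]
  let S : Sylow 13 K := Sylow.ofCard P (by rw [hPc, hcard, hfac, pow_one])
  have hn : Nat.card (Sylow 13 K) = (Subgroup.normalizer (P : Set K)).index := Sylow.card_eq_index_normalizer S
  have hmod : Nat.card (Sylow 13 K) % 13 = 1 := card_sylow_modEq_one 13 K
  set M := Subgroup.normalizer (P : Set K) with hM
  have hmem : ∀ g ∈ M, (g : Equiv.Perm Pt) ∈ Nz xE := by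
    intro g hg
    have hxP : (⟨xE, hx⟩ : K) ∈ P := Subgroup.mem_zpowers xE
    exact mem_Nz.2 ((Subgroup.mem_normalizer_iff.1 hg _).1 hxP)
  set T : Finset (Equiv.Perm Pt) := ((Finset.range 3) ×ˢ ((Finset.range 13) ×ˢ (Finset.range 4))).image
    fun p => el (eWordAt p.1 ++ nWordAt p.2.1 p.2.2) with hT
  have hMT : ∀ g : M, ((g : K) : Equiv.Perm Pt) ∈ T := by
    intro g
    obtain ⟨i, hi, a, ha, b, hb, e⟩ := normX (hK (g : K).2) (hmem _ g.2)
    exact Finset.mem_image.2 ⟨(i, a, b), by simp [hi, ha, hb], e.symm⟩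
  have hMle : Nat.card M ≤ 156 := by
    have h1 : Nat.card M ≤ Nat.card T :=
      Nat.card_le_card_of_injective (fun g : M => (⟨((g : K) : Equiv.Perm Pt), hMT g⟩ : T)) fun a b e =>
        Subtype.ext (Subtype.ext (congrArg (fun t : T => (t : Equiv.Perm Pt)) e))
    rw [Nat.card_eq_finsetCard] at h1
    refine h1.trans (Finset.card_image_le.trans ?_)
    simp
  have hMc : Nat.card M = 52 := by
    have hidx := M.card_mul_index
    rw [hcard] at hidx
    rw [hn] at hmod
    have key : ∀ m ∈ List.range 157, 0 < m → m ∣ 15600 → (15600 / m) % 13 = 1 → m = 52 := by decide +kernel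
    refine key _ (List.mem_range.2 (by omega)) Nat.card_pos ⟨_, hidx.symm⟩ ?_
    rw [← hidx, Nat.mul_div_cancel_left _ Nat.card_pos]
    exact hmod
  have hsub : ∀ g : M, ((g : K) : Equiv.Perm Pt) ∈ S52 := by
    intro g
    obtain ⟨i, hi, a, ha, b, hb, e⟩ := normX (hK (g : K).2) (hmem _ g.2)
    have hpow : ((g : K) : Equiv.Perm Pt) ^ 52 = 1 := by
      have := pow_card_eq_one' (x := g)
      rw [hMc] at this
      simpa using congrArg (fun t : M => ((t : K) : Equiv.Perm Pt)) this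
    have h := orderOut_ok
    simp only [Bool.and_eq_true, orderOutOK, allN_spec] at h
    rcases (show i = 0 ∨ i = 1 ∨ i = 2 by omega) with rfl | rfl | rfl
    · rw [e]
      exact mem_S52.2 ⟨a, ha, b, hb, by rw [show eWordAt 0 = [] from rfl, List.nil_append]⟩
    · exfalso
      have hw := hWord_app (eWord_ok 1).1 (nWord_ok a b).1
      refine el_ne_of_key (hWord_powW hw 52) rfl (h.1 a ha b hb) ?_
      rw [el_powW, ← e, hpow, el_nil]
    · exfalso
      have hw := hWord_app (eWord_ok 2).1 (nWord_ok a b).1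
      refine el_ne_of_key (hWord_powW hw 52) rfl (h.2 a ha b hb) ?_
      rw [el_powW, ← e, hpow, el_nil]
  set I : Finset (Equiv.Perm Pt) := (M.map K.subtype : Set (Equiv.Perm Pt)).toFinset with hI
  have hIc : I.card = 52 := by
    rw [hI, ← Set.ncard_eq_toFinset_card', ← Nat.card_coe_set_eq]
    exact (Subgroup.card_map_of_injective K.subtype_injective).trans hMc
  have hIS : I = S52 := by
    refine Finset.eq_of_subset_of_card_le (fun g hg => ?_) (by rw [hIc]; exact card_S52)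
    rw [hI, Set.mem_toFinset] at hg
    obtain ⟨k, hk, rfl⟩ := hg
    exact hsub ⟨k, hk⟩
  refine ⟨fun g hg => ?_, fun g hg hgn => ?_⟩
  · rw [← hIS, hI, Set.mem_toFinset] at hg
    obtain ⟨k, -, rfl⟩ := hg
    exact k.2
  · have hgM : (⟨g, hg⟩ : K) ∈ M := by
      refine Subgroup.mem_normalizer_iff.2 fun b => ?_
      exact Subgroup.mem_normalizer_iff.1 hgn (b : Equiv.Perm Pt)
    exact hsub ⟨_, hgM⟩

/-- An element of the 52 normalising the group of order four is in it. -/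
theorem S52_normU {g : Equiv.Perm Pt} (hg : g ∈ S52) (hn : g ∈ Nz uE) : g ∈ Subgroup.zpowers uE := by
  obtain ⟨a, ha, b, hb, rfl⟩ := mem_S52.1 hg
  obtain ⟨c, hc, he⟩ := exists_pow_of_zpowers (mem_Nz.1 hn) orderOf_uE
  have h := allN_spec.1 normN_ok a ha b hb
  simp only [Bool.or_eq_true, Bool.not_eq_true', List.any_eq_true, List.any_eq_false, List.mem_range] at h
  obtain ⟨hw, -⟩ := nWord_ok a b
  rcases h with h | ⟨d, hd, h⟩
  · exfalso
    refine h c hc ?_
    refine (show Nat.beq _ _ = true from ?_)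
    rw [(key_eq_iff (hWord_app (hWord_app hw hWord10) (hWord_invW hw)) (upow_word c).1).2 ?_, Nat.beq_refl]
    rw [el_app, el_app, el_invW (letters12 hw), el_one, (upow_word c).2]
    exact he
  · rw [el_eq_of_key hw (upow_word d).1 (Nat.eq_of_beq_eq_true h), (upow_word d).2]
    exact Subgroup.pow_mem _ (Subgroup.mem_zpowers _) d

/-- An element of a subgroup of order 15600 normalising the group of order four, outside it. -/
theorem exists_normU {K : Subgroup (Equiv.Perm Pt)} (hcard : Nat.card K = 15600) (hu : uE ∈ K) :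
    ∃ y ∈ K, y ∉ Subgroup.zpowers uE ∧ y ∈ Nz uE := by
  haveI : Fact (Nat.Prime 2) := ⟨Nat.prime_two⟩
  set U : Subgroup K := (Subgroup.zpowers uE).subgroupOf K with hU
  have hUc : Nat.card U = 4 := by
    rw [hU, Nat.card_congr (Subgroup.subgroupOfEquivOfLe (Subgroup.zpowers_le.2 hu)).toEquiv, Nat.card_zpowers, orderOf_uE]
  have hUp : IsPGroup 2 U := IsPGroup.of_card (n := 2) (by rw [hUc]; norm_num)
  obtain ⟨S, hS⟩ := hUp.exists_le_sylow
  have hfac : (15600 : ℕ).factorization 2 = 4 := by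
    rw [show (15600 : ℕ) = 2 ^ 4 * 975 by norm_num, Nat.factorization_mul (by norm_num) (by norm_num),
      Finsupp.add_apply, Nat.Prime.factorization_pow (by norm_num), Finsupp.single_eq_same,
      Nat.factorization_eq_zero_of_not_dvd (by norm_num), add_zero]
  have hSc : Nat.card S = 16 := by rw [S.card_eq_multiplicity, hcard, hfac]; norm_num
  set V : Subgroup S := U.subgroupOf S with hV
  have hVlt : V < ⊤ := by
    refine lt_top_iff_ne_top.2 fun e => ?_
    have := congrArg (fun H : Subgroup S => Nat.card H) e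
    simp only [Subgroup.card_top, hV, Nat.card_congr (Subgroup.subgroupOfEquivOfLe hS).toEquiv, hUc] at this
    omega
  haveI : Group.IsNilpotent S := S.isPGroup'.isNilpotent
  obtain ⟨y, hy, hyV⟩ := SetLike.exists_of_lt (normalizerCondition_of_isNilpotent V hVlt)
  refine ⟨((y : K) : Equiv.Perm Pt), (y : K).2, fun h => hyV h, mem_Nz.2 ?_⟩
  have huV : (⟨⟨uE, hu⟩, hS (Subgroup.mem_zpowers uE)⟩ : S) ∈ V := Subgroup.mem_zpowers uE
  exact (Subgroup.mem_normalizer_iff.1 hy _).1 huV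

theorem upt_lt : upt 0 < 4060 ∧ upt 1 < 4060 ∧ upt 2 < 4060 := by decide +kernel

/-- The second chain: its orbits are the lists and the last stabiliser is the group of order four. -/
theorem ulev_spec :
    (∀ k < 3, MulAction.orbit (Fix ((List.range k).map upt)) (pt (upt k)) =
      (setM (maskOf (rPt (ulev k).1) (ulev k).2) : Set Pt)) ∧
    (Fix ((List.range 3).map upt) : Set (Equiv.Perm Pt)) = (Subgroup.zpowers uE : Set (Equiv.Perm Pt)) := by
  have h := ulev_ok
  simp only [Bool.and_eq_true, List.all_eq_true, List.mem_cons, List.not_mem_nil, or_false, forall_eq_or_imp,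
    forall_eq, allUpto_spec, Nat.blt, Nat.ble_eq] at h
  obtain ⟨⟨⟨⟨⟨⟨⟨⟨⟨⟨⟨⟨⟨r0, r1⟩, r2⟩, e0⟩, e1⟩, e2⟩, hw0, hw1, hw2⟩, f1⟩, f2⟩, hup⟩, -⟩, -⟩, -⟩, -⟩ := h
  obtain ⟨k0, k1, k2⟩ := upt_lt
  have g0 : genGrp Data.ulevG0 ≤ Fix [] := genGrp_le_Fix fun w hw => ⟨hw0 w hw, by simp⟩
  have g1 : genGrp Data.ulevG1 ≤ Fix [upt 0] := genGrp_le_Fix fun w hw => ⟨hw1 w hw, fun b hb => by
    rw [List.mem_singleton] at hb; subst hb; exact ⟨k0, Nat.eq_of_beq_eq_true (f1 w hw)⟩⟩
  have g2 : genGrp Data.ulevG2 ≤ Fix [upt 0, upt 1] := genGrp_le_Fix fun w hw => ⟨hw2 w hw, fun b hb => by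
    simp only [List.mem_cons, List.not_mem_nil, or_false] at hb
    rcases hb with rfl | rfl
    exacts [⟨k0, Nat.eq_of_beq_eq_true (f2 w hw).1⟩, ⟨k1, Nat.eq_of_beq_eq_true (f2 w hw).2⟩]⟩
  obtain ⟨q0, p0⟩ := level_step r0 (Nat.eq_of_beq_eq_true e0) g0
  obtain ⟨q1, p1⟩ := level_step r1 (Nat.eq_of_beq_eq_true e1) g1
  obtain ⟨q2, p2⟩ := level_step r2 (Nat.eq_of_beq_eq_true e2) g2
  rw [Fix_nil, card_H0] at q0
  simp only [List.nil_append, List.cons_append] at q0 q1 q2
  have hz : Subgroup.zpowers uE ≤ Fix [upt 0, upt 1, upt 2] := by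
    refine Subgroup.zpowers_le.2 (mem_Fix.2 ⟨uE_H0, fun b hb => ?_⟩)
    have hfix : ∀ k < 3, uE (pt (upt k)) = pt (upt k) := fun k hk => by
      rw [uE, ← el_one, el_pt (letters12 hWord10) (hup k hk).2, Nat.eq_of_beq_eq_true (hup k hk).1]
    simp only [List.mem_cons, List.not_mem_nil, or_false] at hb
    rcases hb with rfl | rfl | rfl <;> apply hfix <;> norm_num
  have c3 : 4 ≤ Nat.card (Fix [upt 0, upt 1, upt 2]) := by
    rw [← orderOf_uE, ← Nat.card_zpowers]; exact Subgroup.card_le_of_le hz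
  have b2 : 4 * 4 ≤ Nat.card (Fix [upt 0, upt 1]) := by
    rw [← q2]; exact Nat.mul_le_mul p2 c3
  have b1 : 1280 * 16 ≤ Nat.card (Fix [upt 0]) := by
    rw [← q1]; exact Nat.mul_le_mul p1 b2
  have a0 := Nat.mul_le_mul_left (MulAction.orbit (Fix []) (pt (upt 0))).ncard b1
  rw [Fix_nil] at a0
  have o0' : (MulAction.orbit H0 (pt (upt 0))).ncard ≤ 1755 := by omega
  rw [Fix_nil] at p0
  have c1 : Nat.card (Fix [upt 0]) = 20480 := by
    have := Nat.mul_le_mul_right (Nat.card (Fix [upt 0])) p0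
    omega
  have a1 := Nat.mul_le_mul_left (MulAction.orbit (Fix [upt 0]) (pt (upt 1))).ncard b2
  have o1' : (MulAction.orbit (Fix [upt 0]) (pt (upt 1))).ncard ≤ 1280 := by omega
  have c2 : Nat.card (Fix [upt 0, upt 1]) = 16 := by
    have := Nat.mul_le_mul_right (Nat.card (Fix [upt 0, upt 1])) p1
    omega
  have a2 := Nat.mul_le_mul_left (MulAction.orbit (Fix [upt 0, upt 1]) (pt (upt 2))).ncard c3
  have o2' : (MulAction.orbit (Fix [upt 0, upt 1]) (pt (upt 2))).ncard ≤ 4 := by omega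
  have c3' : Nat.card (Fix [upt 0, upt 1, upt 2]) ≤ 4 := by
    have := Nat.mul_le_mul_right (Nat.card (Fix [upt 0, upt 1, upt 2])) p2
    omega
  refine ⟨fun k hk => ?_, ?_⟩
  · rcases (show k = 0 ∨ k = 1 ∨ k = 2 by omega) with rfl | rfl | rfl
    · have := orbit_eq_reach r0 g0 (by rw [Nat.eq_of_beq_eq_true e0, Fix_nil]; exact o0')
      rw [Nat.eq_of_beq_eq_true e0] at this
      exact this
    · have := orbit_eq_reach r1 g1 (by rw [Nat.eq_of_beq_eq_true e1]; exact o1')
      rw [Nat.eq_of_beq_eq_true e1] at this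
      exact this
    · have := orbit_eq_reach r2 g2 (by rw [Nat.eq_of_beq_eq_true e2]; exact o2')
      rw [Nat.eq_of_beq_eq_true e2] at this
      exact this
  · have : Subgroup.zpowers uE = Fix [upt 0, upt 1, upt 2] :=
      Subgroup.eq_of_le_of_card_ge hz (c3'.trans (le_of_eq (by rw [Nat.card_zpowers, orderOf_uE])))
    rw [this]
    rfl

/-- An element normalising the group of order four is a candidate times an element of it. -/
theorem normU {y : Equiv.Perm Pt} (hy : y ∈ H0) (hn : y ∈ Nz uE) :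
    ∃ e ∈ Data.uCand2, hWord e = true ∧ (el e)⁻¹ * y ∈ Subgroup.zpowers uE := by
  have key : ∀ k ≤ 3, ∃ e ∈ cands k, hWord e = true ∧ ∀ j < k, el e (pt (upt j)) = y (pt (upt j)) := by
    intro k hk
    induction k with
    | zero => exact ⟨[], List.mem_singleton_self _, rfl, fun j hj => absurd hj (Nat.not_lt_zero _)⟩
    | succ k ih =>
      obtain ⟨e, he, hew, hej⟩ := ih (by omega)
      have hkok : normUOK k = true := by
        rcases (show k = 0 ∨ k = 1 ∨ k = 2 by omega) with rfl | rfl | rfl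
        exacts [normU0_ok, normU1_ok, normU2_ok]
      simp only [normUOK, Bool.and_eq_true, List.all_eq_true] at hkok
      obtain ⟨⟨-, hw'⟩, hstep⟩ := hkok
      have hupk : upt k < 4060 := by
        rcases (show k = 0 ∨ k = 1 ∨ k = 2 by omega) with rfl | rfl | rfl
        exacts [upt_lt.1, upt_lt.2.1, upt_lt.2.2]
      have hF : (el e)⁻¹ * y ∈ Fix ((List.range k).map upt) := by
        refine mem_Fix.2 ⟨mul_mem (inv_mem (el_H0 hew)) hy, fun b hb => ?_⟩
        simp only [List.mem_map, List.mem_range] at hb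
        obtain ⟨j, hj, rfl⟩ := hb
        rw [Equiv.Perm.mul_apply, Equiv.Perm.inv_eq_iff_eq]
        exact (hej j hj).symm
      have hmem : ((el e)⁻¹ * y) (pt (upt k)) ∈ (setM (maskOf (rPt (ulev k).1) (ulev k).2) : Set Pt) := by
        rw [← ulev_spec.1 k (by omega)]; exact ⟨⟨_, hF⟩, rfl⟩
      obtain ⟨i, hi, hie⟩ := mem_reach.1 (Finset.mem_coe.1 hmem)
      have hf : el e (pt (rPt (ulev k).1 i)) = y (pt (upt k)) := by
        rw [hie, pt_fin, Equiv.Perm.mul_apply, Equiv.Perm.coe_inv, Equiv.apply_symm_apply]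
      have hlt : rPt (ulev k).1 i < 4060 := hie ▸ (((el e)⁻¹ * y) (pt (upt k))).isLt
      rw [el_pt (letters12 hew) hlt] at hf
      have huk : uE (pt (upt k)) = pt (upt k) := by
        have h := ulev_ok
        simp only [Bool.and_eq_true, allUpto_spec, Nat.blt, Nat.ble_eq] at h
        rw [uE, ← el_one, el_pt (letters12 hWord10) hupk, Nat.eq_of_beq_eq_true (h.1.1.1.1.2 k (by omega)).1]
      have hfix := Nz_fix hn huk
      rw [← hf, uE, ← el_one, el_pt (letters12 hWord10) (runW_lt (letters12 hew) hlt)] at hfix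
      have hbeq : Nat.beq (runW [10] (runW e (rPt (ulev k).1 i))) (runW e (rPt (ulev k).1 i)) = true := by
        have := congrArg Fin.val hfix
        rw [pt_val (runW_lt (letters12 hWord10) (runW_lt (letters12 hew) hlt)),
          pt_val (runW_lt (letters12 hew) hlt)] at this
        rw [this, Nat.beq_refl]
      have h := allUpto_spec.1 (hstep e he) i hi
      simp only [hbeq, Bool.not_true, Bool.false_or, List.any_eq_true, Bool.and_eq_true, allUpto_spec] at h
      obtain ⟨e', he', h1, h2⟩ := h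
      refine ⟨e', he', hw' e' he', fun j hj => ?_⟩
      rcases Nat.lt_succ_iff_lt_or_eq.1 hj with hj | rfl
      · have hupj : upt j < 4060 := by
          rcases (show j = 0 ∨ j = 1 ∨ j = 2 by omega) with rfl | rfl | rfl
          exacts [upt_lt.1, upt_lt.2.1, upt_lt.2.2]
        rw [← hej j hj, el_pt (letters12 (hw' e' he')) hupj, el_pt (letters12 hew) hupj,
          Nat.eq_of_beq_eq_true (h2 j hj)]
      · rw [el_pt (letters12 (hw' e' he')) hupk, Nat.eq_of_beq_eq_true h1, hf]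
  obtain ⟨e, he, hew, hej⟩ := key 3 le_rfl
  refine ⟨e, he, hew, ?_⟩
  rw [← SetLike.mem_coe, ← ulev_spec.2, SetLike.mem_coe, mem_Fix]
  refine ⟨mul_mem (inv_mem (el_H0 hew)) hy, fun b hb => ?_⟩
  simp only [List.mem_map, List.mem_range] at hb
  obtain ⟨j, hj, rfl⟩ := hb
  rw [Equiv.Perm.mul_apply, Equiv.Perm.inv_eq_iff_eq]
  exact (hej j hj).symm

theorem subW_spec {e : List ℕ} (he : hWord e = true) {K : Subgroup (Equiv.Perm Pt)} (heK : el e ∈ K) (hx : xE ∈ K)
    (hu : uE ∈ K) : ∀ {w : List ℕ}, caseLetters w = true → hWord (subW e w) = true ∧ el (subW e w) ∈ K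
  | [], _ => ⟨rfl, one_mem _⟩
  | a :: w, h => by
    simp only [caseLetters, List.all_cons, Bool.and_eq_true, Nat.blt, Nat.ble_eq] at h
    obtain ⟨h1, h2⟩ := subW_spec he heK hx hu (w := w) h.2
    rw [subW, el_app]
    suffices hh : hWord (cond (Nat.beq a 12) e (cond (Nat.beq a 13) (invW e) [a])) = true ∧
        el (cond (Nat.beq a 12) e (cond (Nat.beq a 13) (invW e) [a])) ∈ K from
      ⟨hWord_app hh.1 h1, mul_mem hh.2 h2⟩
    rcases (show a = 8 ∨ a = 9 ∨ a = 10 ∨ a = 11 ∨ a = 12 ∨ a = 13 by omega) with rfl | rfl | rfl | rfl | rfl | rfl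
    · exact ⟨(show hWord [8] = true by decide), by show el [8] ∈ K; rw [el_one]; exact hx⟩
    · refine ⟨(show hWord [9] = true by decide), ?_⟩
      show el [9] ∈ K
      rw [el_one, show gm 9 = gm (invL 8) from rfl, gm_invL (by norm_num)]
      exact inv_mem hx
    · exact ⟨(show hWord [10] = true by decide), by show el [10] ∈ K; rw [el_one]; exact hu⟩
    · refine ⟨(show hWord [11] = true by decide), ?_⟩
      show el [11] ∈ K
      rw [el_one, show gm 11 = gm (invL 10) from rfl, gm_invL (by norm_num)]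
      exact inv_mem hu
    · exact ⟨he, heK⟩
    · refine ⟨hWord_invW he, ?_⟩
      show el (invW e) ∈ K
      rw [el_invW (letters12 he)]
      exact inv_mem heK

/-- A subgroup of index 2304 is the stabiliser of a far point. -/
theorem fixes_far {K : Subgroup (Equiv.Perm Pt)} (hK : K ≤ H0) (hcard : Nat.card K = 15600) :
    ∃ p ∈ F0, K = St p := by
  haveI : Fact (Nat.Prime 13) := ⟨by norm_num⟩
  have hidx : ¬ 13 ∣ (K.subgroupOf H0).index := by
    have h := index_subgroupOf hK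
    rw [hcard] at h
    omega
  obtain ⟨h, hh, hconj⟩ := exists_conj_le hK (P := Subgroup.zpowers xE) (Subgroup.zpowers_le.2 xE_H0)
    (IsPGroup.of_card (n := 1) (by rw [Nat.card_zpowers, orderOf_xE, pow_one])) hidx
  set K' := conjSub h K with hK'
  have hle : K' ≤ H0 := conjSub_le hh hK
  have hc' : Nat.card K' = 15600 := (card_conjSub h K).trans hcard
  have hx : xE ∈ K' := hconj _ (Subgroup.mem_zpowers _)
  obtain ⟨hS, hN⟩ := S52_of_x hle hc' hx
  have hu : uE ∈ K' := hS _ uE_S52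
  obtain ⟨y, hyK, hyU, hyN⟩ := exists_normU hc' hu
  obtain ⟨e, he, hew, hey⟩ := normU (hle hyK) hyN
  have heK : el e ∈ K' := by
    have h1 : (el e)⁻¹ * y ∈ K' := Subgroup.zpowers_le.2 hu hey
    have := K'.mul_mem hyK (K'.inv_mem h1)
    rwa [show y * ((el e)⁻¹ * y)⁻¹ = el e by group] at this
  obtain ⟨idx, hidxlt, hidxe⟩ := mem_getWord he
  have hc := case_ok
  rw [Bool.and_eq_true] at hc
  have hcase := allUpto_spec.1 hc.1 idx (Nat.eq_of_beq_eq_true hc.2 ▸ hidxlt)
  rw [hidxe] at hcase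
  set c := Data.uCases.getD idx (3, 0, 0, [])
  simp only [caseOK, Bool.or_eq_true, Bool.and_eq_true, allN_spec, allUpto_spec, Nat.blt, Nat.ble_eq] at hcase
  rcases hcase with (⟨-, ⟨⟨⟨hlet, hm⟩, hkey⟩, hout⟩⟩ | ⟨⟨⟨-, hi⟩, hlen⟩, hgen⟩) | ⟨⟨⟨-, ha⟩, hb⟩, hkey⟩
  · exfalso
    obtain ⟨hw, hwK⟩ := subW_spec hew heK hx hu hlet
    have hn : el (subW e (getWord c.2.2.2 0)) ∈ Nz xE := by
      refine mem_Nz.2 ?_
      have := el_eq_of_key (hWord_app (hWord_app hw hWord8) (hWord_invW hw)) (xpow_word c.2.1).1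
        (Nat.eq_of_beq_eq_true hkey)
      rw [el_app, el_app, el_invW (letters12 hw), el_one, (xpow_word c.2.1).2] at this
      rw [show xE = gm 8 from rfl] at this ⊢
      rw [this]
      exact Subgroup.pow_mem _ (Subgroup.mem_zpowers _) _
    obtain ⟨a, ha, b, hb, hab⟩ := mem_S52.1 (hN _ hwK hn)
    exact el_ne_of_key hw (nWord_ok a b).1 (hout a ha b hb) hab.symm
  · set t := el (eWordAt c.2.1) with ht
    have htH : t ∈ H0 := el_H0 (eWord_ok _).1
    have hgens : ∀ w ∈ jGens, t * el w * t⁻¹ ∈ K' := by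
      intro w hw
      obtain ⟨i, hil, rfl⟩ := mem_getWord hw
      have hwH : hWord (getWord jGens i) = true := by
        have h := jlev_ok
        simp only [Bool.and_eq_true, List.all_eq_true] at h
        exact (h.1.2 _ hw).1
      obtain ⟨hl, hk⟩ := hgen i hil
      obtain ⟨hw', hwK⟩ := subW_spec hew heK hx hu hl
      have := el_eq_of_key hw' (hWord_app (hWord_app (eWord_ok _).1 hwH) (hWord_invW (eWord_ok _).1))
        (Nat.eq_of_beq_eq_true hk)
      rw [el_app, el_app, el_invW (letters12 (eWord_ok _).1)] at this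
      rw [ht, ← this]
      exact hwK
    have hsub : St j0 ≤ conjSub t K' := genGrp_jGens ▸ genGrp_le fun w hw => hgens w hw
    have heq : St j0 = conjSub t K' := Subgroup.eq_of_le_of_card_ge hsub
      (le_of_eq (by rw [card_conjSub, hc', card_St_F0 j0_mem]))
    have hpF : h (t j0) ∈ F0 := F0_closed hh (F0_closed htH j0_mem)
    refine ⟨h (t j0), hpF, ?_⟩
    refine Subgroup.eq_of_le_of_card_ge (fun g hg => ⟨hK hg, ?_⟩) (le_of_eq (by rw [hcard, card_St_F0 hpF]))
    have hg1 : t⁻¹ * (h⁻¹ * g * h) * t ∈ conjSub t K' := by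
      rw [mem_conjSub, show t * (t⁻¹ * (h⁻¹ * g * h) * t) * t⁻¹ = h⁻¹ * g * h by group, hK', mem_conjSub,
        show h * (h⁻¹ * g * h) * h⁻¹ = g by group]
      exact hg
    rw [← heq] at hg1
    have h2 := hg1.2
    show g (h (t j0)) = h (t j0)
    have h3 : (t⁻¹ * (h⁻¹ * g * h) * t) j0 = j0 := h2
    rw [Equiv.Perm.mul_apply, Equiv.Perm.mul_apply, Equiv.Perm.inv_eq_iff_eq, Equiv.Perm.mul_apply,
      Equiv.Perm.mul_apply, Equiv.Perm.inv_eq_iff_eq] at h3
    exact h3
  · exfalso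
    have he52 : el e ∈ S52 := mem_S52.2 ⟨_, ha, _, hb, (el_eq_of_key hew (nWord_ok _ _).1
      (Nat.eq_of_beq_eq_true hkey)).symm⟩
    obtain ⟨j, hj⟩ := Subgroup.mem_zpowers_iff.1 hey
    obtain ⟨m, hm, hme⟩ := exists_pow_of_zpowers hey orderOf_uE
    obtain ⟨a, ha', b, hb', hab⟩ := mem_S52.1 he52
    have hy52 : y ∈ S52 := mem_S52.2 ⟨a, ha', (b + m) % 4, Nat.mod_lt _ (by norm_num), by
      rw [(nWord_ok _ _).2, ← orderOf_uE, pow_mod_orderOf, pow_add, ← mul_assoc, ← (nWord_ok a b).2, hab, ← hme,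
        mul_inv_cancel_left]⟩
    exact hyU (S52_normU hy52 hyN)

end Cfsg.Agent.Lib.RuUnique
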