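import Cfsg.Agent.Lib.RuUnique.Rank3
import Cfsg.Agent.Lib.RuUnique.SubB
import Cfsg.Agent.Lib.RuUnique.Aut

/-!
A transitive group of degree 4060 with suborbits 1, 1755, 2304 and the stabiliser of the Rudvalis graph preserves
a graph isomorphic to that graph, and so is the Rudvalis group.
-/

set_option autoImplicit false
set_option linter.all false
set_option maxRecDepth 100000

noncomputable section

namespace Cfsg.Agent.Lib.RuUnique

open Cfsg.Agent.CosetCert

/-- The neighbours of a point among the first suborbit. -/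
def trace0 : Finset Pt := setM (Nat.land (rowM 1) maskN)

/-- The neighbours of the first neighbour among the neighbours. -/
def adjN : Finset Pt := setM (Nat.land (rowM 0) maskN)

/-- The neighbours of the first far point among the far points. -/
def farRow : Finset Pt := setM (Nat.land (rowM 1) maskF)

theorem mem_trace0 {c : Pt} : c ∈ trace0 ↔ Adj j0 c ∧ c ∈ N0 := by
  rw [trace0, mem_setM, bit_land, Bool.and_eq_true, adj_j0, N0, mem_setM]

theorem mem_adjN {c : Pt} : c ∈ adjN ↔ Adj n0 c ∧ c ∈ N0 := by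
  rw [adjN, mem_setM, bit_land, Bool.and_eq_true, adj_n0, N0, mem_setM]

theorem mem_farRow {c : Pt} : c ∈ farRow ↔ Adj j0 c ∧ c ∈ F0 := by
  rw [farRow, mem_setM, bit_land, Bool.and_eq_true, adj_j0, F0, mem_setM]

theorem adjN_card : cntUpto (bit (Nat.land (rowM 0) maskN)) 4060 = 730 := by decide +kernel

theorem jlevG0_le : genGrp Data.jlevG0 ≤ St j0 :=
  jlev_spec.2.2.2.2.2.2.1.trans genGrp_jGens.le

attribute [local irreducible] N0 F0 trace0 farRow adjN maskN maskF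

set_option maxHeartbeats 1000000

namespace Setup

variable {Ω : Type*} [Fintype Ω] [DecidableEq Ω] {G : Subgroup (Equiv.Perm Ω)} (S : Setup Ω G)

theorem stab_a (g : MulAction.stabilizer G S.a) : g • S.a = S.a := g.2

theorem R_stab (g : MulAction.stabilizer G S.a) (x y : Ω) : S.R (g • x) (g • y) ↔ S.R x y :=
  S.R_smul (g : G) x y

theorem R_a_stab (g : MulAction.stabilizer G S.a) (x : Ω) : S.R S.a (g • x) ↔ S.R S.a x := by
  have h := S.R_stab g S.a x
  rwa [S.stab_a g] at h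

/-- The stabiliser of a point, in the model. -/
def img (z : Ω) : Subgroup (Equiv.Perm Pt) :=
  (MulAction.stabilizer (MulAction.stabilizer G S.a) z).map (H0.subtype.comp S.ψ.toMonoidHom)

theorem mem_img {z : Ω} {g : MulAction.stabilizer G S.a} : (S.ψ g : Equiv.Perm Pt) ∈ S.img z ↔ g • z = z := by
  constructor
  · rintro ⟨k, hk, e⟩
    have : k = g := S.ψ.injective (Subtype.ext e)
    exact this ▸ hk
  · exact fun h => ⟨g, h, rfl⟩

theorem img_le (z : Ω) : S.img z ≤ H0 := by rintro _ ⟨g, -, rfl⟩; exact (S.ψ g).2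

theorem card_img (z : Ω) : (MulAction.orbit (MulAction.stabilizer G S.a) z).ncard * Nat.card (S.img z) = 35942400 := by
  rw [img, Subgroup.card_map_of_injective (show Function.Injective (H0.subtype.comp S.ψ.toMonoidHom) from
    fun a b e => S.ψ.injective (Subtype.ext e)), ← MulAction.index_stabilizer,
    Subgroup.index_mul_card, (Nat.card_congr S.ψ.toEquiv).trans card_H0]

/-- A point with the stabiliser of a point of the model. -/
theorem exists_conj {x : Ω} {h : Equiv.Perm Pt} (hh : h ∈ H0) {c0 : Pt}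
    (heq : S.img x = St (h c0)) :
    ∃ x', x' ∈ MulAction.orbit (MulAction.stabilizer G S.a) x ∧
      ∀ g : MulAction.stabilizer G S.a, (S.ψ g : Equiv.Perm Pt) c0 = c0 ↔ g • x' = x' := by
  set k := S.ψ.symm ⟨h, hh⟩ with hk
  refine ⟨k⁻¹ • x, ⟨k⁻¹, rfl⟩, fun g => ?_⟩
  have e : (S.ψ (k * g * k⁻¹) : Equiv.Perm Pt) = h * (S.ψ g : Equiv.Perm Pt) * h⁻¹ := by
    rw [map_mul, map_mul, map_inv, hk, MulEquiv.apply_symm_apply]; rfl
  calc (S.ψ g : Equiv.Perm Pt) c0 = c0 ↔ (S.ψ (k * g * k⁻¹) : Equiv.Perm Pt) (h c0) = h c0 := by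
        rw [e, Equiv.Perm.mul_apply, Equiv.Perm.mul_apply, Equiv.Perm.coe_inv, Equiv.symm_apply_apply,
          h.injective.eq_iff]
    _ ↔ (S.ψ (k * g * k⁻¹) : Equiv.Perm Pt) ∈ S.img x := by
        rw [heq, mem_St]
        exact ⟨fun h => ⟨(S.ψ _).2, h⟩, And.right⟩
    _ ↔ g • k⁻¹ • x = k⁻¹ • x := by
        rw [mem_img, mul_smul, mul_smul, eq_inv_smul_iff]

theorem exists_b : ∃ b', b' ∈ MulAction.orbit (MulAction.stabilizer G S.a) S.b ∧
    ∀ g : MulAction.stabilizer G S.a, (S.ψ g : Equiv.Perm Pt) n0 = n0 ↔ g • b' = b' := by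
  have hc := S.card_img S.b
  rw [S.hb] at hc
  obtain ⟨p, hp, heq⟩ := fixes_point (S.img_le S.b) (by omega)
  obtain ⟨h, hh, rfl⟩ := N0_reach hp
  exact S.exists_conj hh heq

/-- The neighbour with the stabiliser of the model. -/
def b' : Ω := S.exists_b.choose

theorem b'_mem : S.R S.a S.b' := (S.R_a_iff _).2 S.exists_b.choose_spec.1

theorem b'_stab (g : MulAction.stabilizer G S.a) : (S.ψ g : Equiv.Perm Pt) n0 = n0 ↔ g • S.b' = S.b' :=
  S.exists_b.choose_spec.2 g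

open Classical in
/-- The point corresponding to a point of an orbit of the model. -/
def lift (c0 : Pt) (z0 : Ω) (c : Pt) : Ω :=
  if h : ∃ g : MulAction.stabilizer G S.a, (S.ψ g : Equiv.Perm Pt) c0 = c then h.choose • z0 else S.a

/-- A point of the model and a point with the same stabiliser. -/
def Same (c0 : Pt) (z0 : Ω) : Prop :=
  ∀ g : MulAction.stabilizer G S.a, (S.ψ g : Equiv.Perm Pt) c0 = c0 ↔ g • z0 = z0

theorem lift_eq {c0 : Pt} {z0 : Ω} (hs : S.Same c0 z0) (g : MulAction.stabilizer G S.a) :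
    S.lift c0 z0 ((S.ψ g : Equiv.Perm Pt) c0) = g • z0 := by
  have hex : ∃ k : MulAction.stabilizer G S.a, (S.ψ k : Equiv.Perm Pt) c0 = (S.ψ g : Equiv.Perm Pt) c0 := ⟨g, rfl⟩
  rw [lift, dif_pos hex]
  have := (hs (g⁻¹ * hex.choose)).1 (by
    rw [map_mul, map_inv, Subgroup.coe_mul, Equiv.Perm.mul_apply, hex.choose_spec, Subgroup.coe_inv,
      Equiv.Perm.coe_inv, Equiv.symm_apply_apply])
  rwa [mul_smul, inv_smul_eq_iff] at this

theorem lift_inj {c0 : Pt} {z0 : Ω} (hs : S.Same c0 z0) (g k : MulAction.stabilizer G S.a)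
    (e : g • z0 = k • z0) : (S.ψ g : Equiv.Perm Pt) c0 = (S.ψ k : Equiv.Perm Pt) c0 := by
  have h := (hs (k⁻¹ * g)).2 (by rw [mul_smul, e, inv_smul_smul])
  rw [map_mul, map_inv, Subgroup.coe_mul, Equiv.Perm.mul_apply, Subgroup.coe_inv, Equiv.Perm.inv_eq_iff_eq] at h
  exact h

theorem exists_N0 {c : Pt} (hc : c ∈ N0) : ∃ g : MulAction.stabilizer G S.a, (S.ψ g : Equiv.Perm Pt) n0 = c := by
  obtain ⟨h, hh, rfl⟩ := N0_reach hc
  exact ⟨S.ψ.symm ⟨h, hh⟩, by rw [MulEquiv.apply_symm_apply]⟩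

theorem exists_F0 {c : Pt} (hc : c ∈ F0) : ∃ g : MulAction.stabilizer G S.a, (S.ψ g : Equiv.Perm Pt) j0 = c := by
  obtain ⟨h, hh, rfl⟩ := F0_reach hc
  exact ⟨S.ψ.symm ⟨h, hh⟩, by rw [MulEquiv.apply_symm_apply]⟩

/-- The neighbour with a number. -/
def γ (c : Pt) : Ω := S.lift n0 S.b' c

theorem γ_eq (g : MulAction.stabilizer G S.a) : S.γ ((S.ψ g : Equiv.Perm Pt) n0) = g • S.b' :=
  S.lift_eq S.b'_stab g

theorem γ_act (g : MulAction.stabilizer G S.a) {c : Pt} (hc : c ∈ N0) :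
    S.γ ((S.ψ g : Equiv.Perm Pt) c) = g • S.γ c := by
  obtain ⟨k, rfl⟩ := S.exists_N0 hc
  rw [← Equiv.Perm.mul_apply, ← Subgroup.coe_mul, ← map_mul, S.γ_eq, S.γ_eq, mul_smul]

theorem γ_n0 : S.γ n0 = S.b' := by
  have := S.γ_eq 1
  rwa [map_one, Subgroup.coe_one, Equiv.Perm.one_apply, one_smul] at this

theorem R_a_γ {c : Pt} (hc : c ∈ N0) : S.R S.a (S.γ c) := by
  obtain ⟨g, rfl⟩ := S.exists_N0 hc
  rw [S.γ_eq, S.R_a_stab]
  exact S.b'_mem

theorem γ_injOn : Set.InjOn S.γ N0 := by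
  intro c hc d hd e
  obtain ⟨g, rfl⟩ := S.exists_N0 (Finset.mem_coe.1 hc)
  obtain ⟨k, rfl⟩ := S.exists_N0 (Finset.mem_coe.1 hd)
  rw [S.γ_eq, S.γ_eq] at e
  exact S.lift_inj S.b'_stab g k e

theorem exists_γ {x : Ω} (h : S.R S.a x) : ∃ c ∈ N0, S.γ c = x := by
  obtain ⟨g, hg⟩ := (S.R_a_iff x).1 h
  obtain ⟨k, hk⟩ := (S.R_a_iff _).1 S.b'_mem
  refine ⟨(S.ψ (g * k⁻¹) : Equiv.Perm Pt) n0, N0_closed (S.ψ _).2 n0_mem, ?_⟩
  rw [S.γ_eq, mul_smul, show k⁻¹ • S.b' = S.b from inv_smul_eq_iff.2 hk.symm]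
  exact hg

theorem image_common {p : Ω → Prop} [DecidablePred p] :
    (N0.filter fun c => p (S.γ c)).image S.γ = (S.N S.a).filter p := by
  ext x
  simp only [Finset.mem_image, Finset.mem_filter, mem_N]
  constructor
  · rintro ⟨c, ⟨hc, h⟩, rfl⟩
    exact ⟨S.R_a_γ hc, h⟩
  · rintro ⟨h1, h2⟩
    obtain ⟨c, hc, rfl⟩ := S.exists_γ h1
    exact ⟨c, ⟨hc, h2⟩, rfl⟩

theorem card_common {p : Ω → Prop} [DecidablePred p] :
    (N0.filter fun c => p (S.γ c)).card = ((S.N S.a).filter p).card := by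
  rw [← S.image_common, Finset.card_image_of_injOn (S.γ_injOn.mono fun c hc => ?_)]
  exact (Finset.mem_filter.1 hc).1

/-- The neighbours of the first neighbour among the neighbours. -/
def O : Finset Pt := N0.filter fun c => S.R S.b' (S.γ c)

theorem card_O : S.O.card = S.lam := by
  rw [O, S.card_common, ← S.common_R S.b'_mem]
  congr 1
  ext x
  simp only [Finset.mem_filter, Finset.mem_inter, mem_N]

theorem O_invariant {g : Equiv.Perm Pt} (hg : g ∈ genGrp Data.levG1) {c : Pt} (hc : c ∈ S.O) : g c ∈ S.O := by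
  obtain ⟨hgH, hgf⟩ := mem_Fix.1 (lev_spec.2.1.2.2 hg)
  simp only [O, Finset.mem_filter] at hc ⊢
  refine ⟨N0_closed hgH hc.1, ?_⟩
  obtain ⟨k, hk⟩ := S.ψ.surjective ⟨g, hgH⟩
  have hkg : (S.ψ k : Equiv.Perm Pt) = g := congrArg Subtype.val hk
  have hb := (S.b'_stab k).1 (by rw [hkg]; exact hgf kp0 (List.mem_singleton_self _))
  rw [← hkg, S.γ_act k hc.1, ← hb, S.R_stab]
  exact hc.2

theorem lam_and_O : S.lam = 730 ∧ S.O = adjN := by
  obtain ⟨s, hs, heq, hlen, hbit⟩ := union_of_invariant (gens := Data.levG1) orbP_ok (S := S.O) (fun c hc => by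
    simp only [O, Finset.mem_filter] at hc
    have := hc.1
    unfold N0 at this
    exact this) (fun g hg c hc => S.O_invariant hg hc)
  have hl := lambda_ok
  simp only [Bool.and_eq_true, allUpto_spec] at hl
  have hn : bit s 0 = false := by
    by_contra hne
    have h0 := (hbit 0 (by norm_num)).1 (by simpa using hne)
    rw [Nat.eq_of_beq_eq_true hl.1.2] at h0
    simp only [O, Finset.mem_filter] at h0
    have h2 := h0.2
    rw [show pt kp0 = n0 from rfl, S.γ_n0] at h2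
    exact S.not_R_self _ h2
  have h := hl.1.1 s hs
  rw [S.card_O] at hlen
  simp only [hn, Bool.false_or, Bool.or_eq_true, Bool.and_eq_true, Bool.not_eq_true', ← hlen] at h
  have hlt := S.lam_lt
  rcases h with (h | ⟨-, h⟩) | h
  · exact absurd (Nat.eq_of_beq_eq_true h) S.lam_ne
  · exfalso
    have hd : 256 ∣ 1755 * (1754 - S.lam) := ⟨9 * S.mu, by rw [S.count_edges]; ring⟩
    have hd' : 256 ∣ 1754 - S.lam := (show Nat.Coprime 256 1755 by norm_num).dvd_of_dvd_mul_left hd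
    have : Nat.land (Nat.sub 1754 S.lam) 255 = 0 := by
      show (1754 - S.lam) &&& (2 ^ 8 - 1) = 0
      rw [Nat.and_two_pow_sub_one_eq_mod]
      exact Nat.mod_eq_zero_of_dvd hd'
    rw [this] at h
    simp at h
  · rw [Nat.eq_of_beq_eq_true h] at heq
    have hA : S.O = adjN := by
      rw [heq]; unfold adjN; rfl
    refine ⟨?_, hA⟩
    rw [← S.card_O, heq, card_setM, adjN_card]

theorem mu_eq : S.mu = 780 := by
  have h := S.count_edges
  rw [S.lam_and_O.1] at h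
  omega

theorem R_γ {c d : Pt} (hc : c ∈ N0) (hd : d ∈ N0) : S.R (S.γ c) (S.γ d) ↔ Adj c d := by
  obtain ⟨g, rfl⟩ := S.exists_N0 hc
  obtain ⟨d', rfl⟩ := (S.ψ g : Equiv.Perm Pt).surjective d
  have hd' : d' ∈ N0 := by
    have := N0_closed (inv_mem (S.ψ g).2) hd
    simpa using this
  rw [S.γ_eq, S.γ_act g hd', S.R_stab, adj_map_iff (H0_le (S.ψ g).2)]
  have h1 : S.R S.b' (S.γ d') ↔ d' ∈ S.O := by simp [O, hd']
  rw [h1, S.lam_and_O.2, mem_adjN]
  exact and_iff_left hd'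

/-! ### The traces -/

/-- The trace of a point. -/
def tr (z : Ω) : Finset Pt := N0.filter fun c => S.R z (S.γ c)

theorem tr_smul (g : MulAction.stabilizer G S.a) (z : Ω) :
    S.tr (g • z) = (S.tr z).image (S.ψ g : Equiv.Perm Pt) := by
  ext c
  obtain ⟨d, rfl⟩ := (S.ψ g : Equiv.Perm Pt).surjective c
  simp only [tr, Finset.mem_image, Finset.mem_filter, (S.ψ g : Equiv.Perm Pt).injective.eq_iff, exists_eq_right]
  constructor
  · rintro ⟨hd, h⟩
    have hd' : d ∈ N0 := by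
      have := N0_closed (inv_mem (S.ψ g).2) hd
      simpa using this
    rw [S.γ_act g hd', S.R_stab] at h
    exact ⟨hd', h⟩
  · rintro ⟨hd, h⟩
    exact ⟨N0_closed (S.ψ g).2 hd, by rw [S.γ_act g hd, S.R_stab]; exact h⟩

theorem card_tr {z : Ω} (hz : z ≠ S.a) (hn : ¬ S.R S.a z) : (S.tr z).card = 780 := by
  rw [tr, S.card_common, ← S.mu_eq, ← S.common_not_R hz.symm hn]
  congr 1
  ext x
  simp only [Finset.mem_filter, Finset.mem_inter, mem_N]

theorem far_iff (z : Ω) : (z ≠ S.a ∧ ¬ S.R S.a z) ↔ z ∈ MulAction.orbit (MulAction.stabilizer G S.a) S.c := by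
  constructor
  · rintro ⟨h1, h2⟩
    rcases S.cases z with h | h | h
    exacts [absurd h h1, absurd ((S.R_a_iff z).2 h) h2, h]
  · intro h
    refine ⟨fun e => ?_, fun e => ?_⟩
    · have := S.hc
      rw [← S.orbit_eq_of_mem (e ▸ h), S.orbit_fixed, Set.ncard_singleton] at this
      omega
    · have := S.hc
      rw [← S.orbit_eq_of_mem h, S.orbit_eq_of_mem ((S.R_a_iff z).1 e), S.hb] at this
      omega

theorem exists_z : ∃ z, z ≠ S.a ∧ ¬ S.R S.a z ∧ S.tr z = trace0 ∧ S.Same j0 z := by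
  have hc := S.card_img S.c
  rw [S.hc] at hc
  obtain ⟨p, hp, heq⟩ := fixes_far (S.img_le S.c) (by omega)
  obtain ⟨h, hh, rfl⟩ := F0_reach hp
  obtain ⟨z, hzmem, hsame⟩ := S.exists_conj hh heq
  have hfar : z ≠ S.a ∧ ¬ S.R S.a z := (S.far_iff z).2 hzmem
  refine ⟨z, hfar.1, hfar.2, ?_, hsame⟩
  have hinv : ∀ g ∈ genGrp Data.jlevG0, ∀ c ∈ S.tr z, g c ∈ S.tr z := by
    intro u hu c hc'
    obtain ⟨huH, huj⟩ := mem_St.1 (jlevG0_le hu)
    obtain ⟨g, hg⟩ := S.ψ.surjective ⟨u, huH⟩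
    have e : (S.ψ g : Equiv.Perm Pt) = u := congrArg Subtype.val hg
    have hgz : g • z = z := (hsame g).1 (by rw [e]; exact huj)
    rw [← e, ← hgz, S.tr_smul]
    exact Finset.mem_image_of_mem _ hc'
  obtain ⟨s, hs, hu, hlen, -⟩ := union_of_invariant (gens := Data.jlevG0) orbJN_ok (S := S.tr z) (fun c hc' => by
    simp only [tr, Finset.mem_filter] at hc'
    have := hc'.1
    unfold N0 at this
    exact this) hinv
  rw [S.card_tr hfar.1 hfar.2] at hlen
  have ht := trace_ok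
  simp only [Bool.and_eq_true, allUpto_spec] at ht
  have h := ht.1 s hs
  simp only [← hlen, Nat.beq_refl, Bool.not_true, Bool.false_or] at h
  rw [hu, Nat.eq_of_beq_eq_true h]
  unfold trace0
  rfl

/-- The far point with the stabiliser of the model. -/
def z : Ω := S.exists_z.choose

theorem z_spec : S.z ≠ S.a ∧ ¬ S.R S.a S.z ∧ S.tr S.z = trace0 ∧ S.Same j0 S.z :=
  S.exists_z.choose_spec

/-- The far point with a number. -/
def δ (c : Pt) : Ω := S.lift j0 S.z c

theorem δ_eq (g : MulAction.stabilizer G S.a) : S.δ ((S.ψ g : Equiv.Perm Pt) j0) = g • S.z :=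
  S.lift_eq S.z_spec.2.2.2 g

theorem δ_act (g : MulAction.stabilizer G S.a) {c : Pt} (hc : c ∈ F0) :
    S.δ ((S.ψ g : Equiv.Perm Pt) c) = g • S.δ c := by
  obtain ⟨k, rfl⟩ := S.exists_F0 hc
  rw [← Equiv.Perm.mul_apply, ← Subgroup.coe_mul, ← map_mul, S.δ_eq, S.δ_eq, mul_smul]

/-- The coordinates. -/
def F (c : Pt) : Ω := if c = o0 then S.a else if c ∈ N0 then S.γ c else S.δ c

theorem F_o0 : S.F o0 = S.a := if_pos rfl

theorem F_N0 {c : Pt} (hc : c ∈ N0) : S.F c = S.γ c := by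
  rw [F, if_neg (fun (e : c = o0) => o0_not.1 (e ▸ hc)), if_pos hc]

theorem F_F0 {c : Pt} (hc : c ∈ F0) : S.F c = S.δ c := by
  rw [F, if_neg (fun (e : c = o0) => o0_not.2 (e ▸ hc)), if_neg fun h => not_both h hc]

theorem F_act (g : MulAction.stabilizer G S.a) (c : Pt) :
    S.F ((S.ψ g : Equiv.Perm Pt) c) = g • S.F c := by
  rcases three_kinds c with rfl | ⟨-, hc, -⟩ | ⟨-, -, hc⟩
  · rw [H0_o0 (S.ψ g).2, S.F_o0, S.stab_a]
  · rw [S.F_N0 hc, S.F_N0 (N0_closed (S.ψ g).2 hc), S.γ_act g hc]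
  · rw [S.F_F0 hc, S.F_F0 (F0_closed (S.ψ g).2 hc), S.δ_act g hc]

theorem F_surjective : Function.Surjective S.F := by
  intro x
  rcases S.cases x with rfl | h | h
  · exact ⟨o0, S.F_o0⟩
  · obtain ⟨c, hc, rfl⟩ := S.exists_γ ((S.R_a_iff x).2 h)
    exact ⟨c, S.F_N0 hc⟩
  · have hz := (S.far_iff S.z).1 ⟨S.z_spec.1, S.z_spec.2.1⟩
    rw [← S.orbit_eq_of_mem hz] at h
    obtain ⟨g, rfl⟩ := h
    exact ⟨(S.ψ g : Equiv.Perm Pt) j0, by rw [S.F_F0 (F0_closed (S.ψ g).2 j0_mem), S.δ_eq]⟩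

theorem F_bijective : Function.Bijective S.F :=
  (Fintype.bijective_iff_surjective_and_card S.F).2 ⟨S.F_surjective, by rw [Fintype.card_fin, S.card]⟩

theorem R_o0 (c : Pt) : S.R (S.F o0) (S.F c) ↔ Adj o0 c := by
  rw [adj_o0, S.F_o0]
  rcases three_kinds c with rfl | ⟨-, hc, -⟩ | ⟨-, hn, hc⟩
  · rw [S.F_o0]
    exact iff_of_false (S.not_R_self _) o0_not.1
  · rw [S.F_N0 hc]
    exact iff_of_true (S.R_a_γ hc) hc
  · refine iff_of_false ?_ hn
    obtain ⟨g, rfl⟩ := S.exists_F0 hc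
    rw [S.F_F0 hc, S.δ_eq, S.R_a_stab]
    exact S.z_spec.2.1

theorem R_F_symm (c d : Pt) (h : S.R (S.F c) (S.F d) ↔ Adj c d) : S.R (S.F d) (S.F c) ↔ Adj d c :=
  ⟨fun h' => adj_symm (h.1 (S.R_symm h')), fun h' => S.R_symm (h.2 (adj_symm h'))⟩

theorem R_transport (g : MulAction.stabilizer G S.a) (c d : Pt) (h : S.R (S.F c) (S.F d) ↔ Adj c d) :
    S.R (S.F ((S.ψ g : Equiv.Perm Pt) c)) (S.F ((S.ψ g : Equiv.Perm Pt) d)) ↔
      Adj ((S.ψ g : Equiv.Perm Pt) c) ((S.ψ g : Equiv.Perm Pt) d) := by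
  rw [S.F_act, S.F_act, S.R_stab, adj_map_iff (H0_le (S.ψ g).2)]
  exact h

theorem F_j0 : S.F j0 = S.z := by
  have := S.δ_eq 1
  rw [map_one, Subgroup.coe_one, Equiv.Perm.one_apply, one_smul] at this
  rw [S.F_F0 j0_mem, this]

theorem R_j0_N0 {c : Pt} (hc : c ∈ N0) : S.R (S.F j0) (S.F c) ↔ Adj j0 c := by
  rw [S.F_j0, S.F_N0 hc]
  have h1 : c ∈ S.tr S.z ↔ S.R S.z (S.γ c) := by simp [tr, hc]
  rw [← h1, S.z_spec.2.2.1, mem_trace0, and_iff_left hc]

theorem R_j0_F0 {c : Pt} (hc : c ∈ F0) : S.R (S.F j0) (S.F c) ↔ Adj j0 c := by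
  classical
  set T := F0.filter fun d => S.R S.z (S.F d) with hT
  have hcard : T.card = 975 := by
    have hN : S.N S.z = trace0.image S.F ∪ T.image S.F := by
      ext x
      obtain ⟨d, rfl⟩ := S.F_surjective x
      simp only [Finset.mem_union, Finset.mem_image, S.F_bijective.1.eq_iff, exists_eq_right, mem_N]
      rcases three_kinds d with rfl | ⟨-, hd, hdF⟩ | ⟨-, hdN, hd⟩
      · refine iff_of_false ?_ ?_
        · rw [S.F_o0]
          exact fun h => S.z_spec.2.1 (S.R_symm h)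
        · rintro (h | h)
          exacts [o0_not.1 (mem_trace0.1 h).2, o0_not.2 (Finset.mem_filter.1 h).1]
      · rw [← S.F_j0, S.R_j0_N0 hd, mem_trace0]
        exact ⟨fun h => Or.inl ⟨h, hd⟩, fun h => h.elim And.left fun h => absurd (Finset.mem_filter.1 h).1 hdF⟩
      · exact ⟨fun h => Or.inr (Finset.mem_filter.2 ⟨hd, h⟩), fun h => h.elim (fun h => absurd (mem_trace0.1 h).2 hdN)
          fun h => (Finset.mem_filter.1 h).2⟩
    have := congrArg Finset.card hN
    rw [S.card_N, Finset.card_union_of_disjoint, Finset.card_image_of_injective _ S.F_bijective.1,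
      Finset.card_image_of_injective _ S.F_bijective.1, ← S.z_spec.2.2.1, S.card_tr S.z_spec.1 S.z_spec.2.1] at this
    · omega
    · rw [Finset.disjoint_image S.F_bijective.1, Finset.disjoint_left]
      exact fun d h1 h2 => not_both (mem_trace0.1 h1).2 (Finset.mem_filter.1 h2).1
  have hinv : ∀ u ∈ genGrp Data.jlevG0, ∀ d ∈ T, u d ∈ T := by
    intro u hu d hd
    obtain ⟨huH, huj⟩ := mem_St.1 (jlevG0_le hu)
    obtain ⟨g, hg⟩ := S.ψ.surjective ⟨u, huH⟩
    have e : (S.ψ g : Equiv.Perm Pt) = u := congrArg Subtype.val hg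
    have hgz : g • S.z = S.z := (S.z_spec.2.2.2 g).1 (by rw [e]; exact huj)
    simp only [hT, Finset.mem_filter] at hd ⊢
    refine ⟨F0_closed huH hd.1, ?_⟩
    rw [← e, S.F_act, ← hgz, S.R_stab]
    exact hd.2
  obtain ⟨s, hs, hu, hlen, -⟩ := union_of_invariant (gens := Data.jlevG0) orbJF_ok (S := T) (fun d hd => by
    have := (Finset.mem_filter.1 hd).1
    unfold F0 at this
    exact this) hinv
  rw [hcard] at hlen
  have h := allUpto_spec.1 far_ok s hs
  simp only [← hlen, Nat.beq_refl, Bool.not_true, Bool.false_or] at h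
  have hrow : T = farRow := by
    rw [hu, Nat.eq_of_beq_eq_true h]
    unfold farRow
    rfl
  have h1 : c ∈ T ↔ S.R (S.F j0) (S.F c) := by simp [hT, hc, S.F_j0]
  rw [← h1, hrow, mem_farRow, and_iff_left hc]

theorem R_iff (i j : Pt) : S.R (S.F i) (S.F j) ↔ Adj i j := by
  have hFN : ∀ i ∈ F0, ∀ j ∈ N0, S.R (S.F i) (S.F j) ↔ Adj i j := by
    intro i hi j hj
    obtain ⟨g, rfl⟩ := S.exists_F0 hi
    obtain ⟨d, rfl⟩ := (S.ψ g : Equiv.Perm Pt).surjective j
    exact S.R_transport g _ _ (S.R_j0_N0 (by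
      have := N0_closed (inv_mem (S.ψ g).2) hj
      simpa using this))
  rcases three_kinds i with rfl | ⟨-, hi, -⟩ | ⟨-, -, hi⟩
  · exact S.R_o0 j
  · rcases three_kinds j with rfl | ⟨-, hj, -⟩ | ⟨-, -, hj⟩
    · exact S.R_F_symm _ _ (S.R_o0 i)
    · rw [S.F_N0 hi, S.F_N0 hj]; exact S.R_γ hi hj
    · exact S.R_F_symm _ _ (hFN j hj i hi)
  · rcases three_kinds j with rfl | ⟨-, hj, -⟩ | ⟨-, -, hj⟩
    · exact S.R_F_symm _ _ (S.R_o0 i)
    · exact hFN i hi j hj
    · obtain ⟨g, rfl⟩ := S.exists_F0 hi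
      obtain ⟨d, rfl⟩ := (S.ψ g : Equiv.Perm Pt).surjective j
      exact S.R_transport g _ _ (S.R_j0_F0 (by
        have := F0_closed (inv_mem (S.ψ g).2) hj
        simpa using this))

/-- The group is the Rudvalis group. -/
theorem iso {Ω : Type*} [Fintype Ω] [DecidableEq Ω] {G : Subgroup (Equiv.Perm Ω)} (S : Setup Ω G) :
    Cfsg.Spor.IsoRu G := by
  classical
  set E : Pt ≃ Ω := Equiv.ofBijective S.F S.F_bijective with hE
  set Φ : G →* Equiv.Perm Pt := (Equiv.permCongrHom E.symm).toMonoidHom.comp G.subtype with hΦ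
  have hΦi : Function.Injective Φ := (Equiv.permCongrHom E.symm).injective.comp G.subtype_injective
  have hΦF : ∀ (g : G) i, S.F (Φ g i) = g • S.F i := fun g i => by
    show E (E.symm ((g : Equiv.Perm Ω) (E i))) = g • S.F i
    rw [Equiv.apply_symm_apply]
    rfl
  have hcard : Nat.card G = 145926144000 := by
    have h := Subgroup.index_mul_card (MulAction.stabilizer G S.a)
    rw [MulAction.index_stabilizer, show MulAction.orbit G S.a = Set.univ from
      Set.eq_univ_of_forall fun x => S.trans S.a x, Set.ncard_univ, Nat.card_eq_fintype_card, S.card,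
      (Nat.card_congr S.ψ.toEquiv).trans card_H0] at h
    omega
  have hle : Φ.range ≤ GA := by
    rintro _ ⟨g, rfl⟩
    obtain ⟨s, hs, hs0⟩ := exists_to (Φ g o0)
    have hx : s⁻¹ * Φ g ∈ Au := by
      refine ⟨by rw [Equiv.Perm.mul_apply, Equiv.Perm.inv_eq_iff_eq, hs0], fun i j => ?_⟩
      rw [Equiv.Perm.mul_apply, Equiv.Perm.mul_apply, adj_map_iff (inv_mem hs), ← S.R_iff, ← S.R_iff, hΦF, hΦF,
        S.R_smul]
    have := GA.mul_mem hs (H0_le (Au_eq hx))
    rwa [mul_inv_cancel_left] at this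
  have heq : Φ.range = GA := Subgroup.eq_of_le_of_card_ge hle (by
    rw [← Nat.card_congr (MonoidHom.ofInjective hΦi).toEquiv, hcard, card_GA])
  obtain ⟨i⟩ := isoRu_GA
  exact ⟨(MonoidHom.ofInjective hΦi).trans ((MulEquiv.subgroupCongr heq).trans i)⟩

end Setup

end Cfsg.Agent.Lib.RuUnique
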