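import Cfsg.Agent.Lib.RuUnique.Basic

/-!
A subgroup of index 1755 in the stabiliser of a point fixes a neighbour of that point.
-/

set_option autoImplicit false
set_option linter.all false
set_option maxRecDepth 100000

noncomputable section

namespace Cfsg.Agent.Lib.RuUnique

open Cfsg.Agent.CosetCert

/-- A Sylow argument. -/
theorem exists_conj_le {p : ℕ} [Fact p.Prime] {J P : Subgroup (Equiv.Perm Pt)} (hJ : J ≤ H0) (hP : P ≤ H0)
    (hp : IsPGroup p P) (hidx : ¬ p ∣ (J.subgroupOf H0).index) :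
    ∃ h ∈ H0, ∀ g ∈ P, h * g * h⁻¹ ∈ J := by
  have hPp : IsPGroup p (P.subgroupOf H0) := hp.of_equiv (Subgroup.subgroupOfEquivOfLe hP).symm
  obtain ⟨Q, hQ⟩ := hPp.exists_le_sylow
  obtain ⟨S⟩ := (inferInstance : Nonempty (Sylow p (J.subgroupOf H0)))
  set R : Subgroup H0 := (S : Subgroup _).map (J.subgroupOf H0).subtype with hR
  have hRc : Nat.card R = p ^ (Nat.card H0).factorization p := by
    rw [hR, Subgroup.card_map_of_injective (Subgroup.subtype_injective _), S.card_eq_multiplicity,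
      ← (J.subgroupOf H0).card_mul_index, Nat.factorization_mul Nat.card_pos.ne' Subgroup.index_ne_zero_of_finite,
      Finsupp.add_apply, Nat.factorization_eq_zero_of_not_dvd hidx, add_zero]
  obtain ⟨g, hg⟩ := MulAction.exists_smul_eq H0 Q (Sylow.ofCard R hRc)
  refine ⟨g, g.2, fun x hx => ?_⟩
  have h1 : MulAut.conj g (⟨x, hP hx⟩ : H0) ∈ ((g • Q : Sylow p H0) : Subgroup H0) := by
    rw [Sylow.coe_subgroup_smul]
    exact Subgroup.smul_mem_pointwise_smul _ _ _ (hQ hx)
  rw [hg] at h1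
  obtain ⟨y, -, hy⟩ := h1
  have h2 : (MulAut.conj g (⟨x, hP hx⟩ : H0)) ∈ J.subgroupOf H0 := hy ▸ y.2
  exact h2

theorem index_subgroupOf {J : Subgroup (Equiv.Perm Pt)} (hJ : J ≤ H0) :
    Nat.card J * (J.subgroupOf H0).index = 35942400 := by
  have h := (J.subgroupOf H0).card_mul_index
  rwa [Nat.card_congr (Subgroup.subgroupOfEquivOfLe hJ).toEquiv, card_H0] at h

/-- The conjugate of a subgroup. -/
def conjSub (h : Equiv.Perm Pt) (K : Subgroup (Equiv.Perm Pt)) : Subgroup (Equiv.Perm Pt) :=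
  K.comap (MulAut.conj h).toMonoidHom

theorem mem_conjSub {h g : Equiv.Perm Pt} {K : Subgroup (Equiv.Perm Pt)} : g ∈ conjSub h K ↔ h * g * h⁻¹ ∈ K :=
  Iff.rfl

theorem conjSub_le {h : Equiv.Perm Pt} (hh : h ∈ H0) {K : Subgroup (Equiv.Perm Pt)} (hK : K ≤ H0) :
    conjSub h K ≤ H0 := fun g hg => by
  have := mul_mem (mul_mem (inv_mem hh) (hK (mem_conjSub.1 hg))) hh
  rwa [show h⁻¹ * (h * g * h⁻¹) * h = g by group] at this

theorem card_conjSub (h : Equiv.Perm Pt) (K : Subgroup (Equiv.Perm Pt)) : Nat.card (conjSub h K) = Nat.card K := by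
  rw [conjSub]
  exact Nat.card_congr ((MulAut.conj h).toEquiv.subtypeEquiv fun g => Iff.rfl)

/-! ### A two-group fixing the first neighbour -/

/-- The first terms of the series. -/
def UK (i : ℕ) : Subgroup (Equiv.Perm Pt) :=
  Subgroup.closure {g | ∃ a, a < i ∧ el (getWord Data.uGens a) = g}

theorem uWord_ok {i : ℕ} (hi : i < 12) : hWord (getWord Data.uGens i) = true ∧
    el (getWord Data.uGens i) n0 = n0 ∧ el (getWord Data.uGens i) * el (getWord Data.uGens i) ∈ UK i ∧
    ∀ a < i, el (getWord Data.uGens i) * el (getWord Data.uGens a) * (el (getWord Data.uGens i))⁻¹ ∈ UK i := by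
  have h0 := u_ok
  rw [Bool.and_eq_true] at h0
  have h := allUpto_spec.1 h0.1 i hi
  simp only [uRelOK, Bool.and_eq_true, List.all_eq_true, Nat.blt, Nat.ble_eq, allUpto_spec] at h
  obtain ⟨⟨⟨⟨⟨⟨hsqi, hlen⟩, hcji⟩, hw⟩, hj⟩, hsq⟩, hcj⟩ := h
  have hword : ∀ a < i, hWord (getWord Data.uGens a) = true := fun a ha => by
    have h := allUpto_spec.1 h0.1 a (by omega)
    simp only [uRelOK, Bool.and_eq_true] at h
    exact h.1.1.1.2
  have hflat : ∀ l : List ℕ, (∀ a ∈ l, a < i) → hWord (List.flatten (l.map (getWord Data.uGens))) = true ∧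
      el (List.flatten (l.map (getWord Data.uGens))) ∈ UK i := by
    intro l hl
    induction l with
    | nil => exact ⟨rfl, one_mem _⟩
    | cons a l ih =>
      obtain ⟨h1, h2⟩ := ih fun b hb => hl b (List.mem_cons_of_mem _ hb)
      have ha := hl a List.mem_cons_self
      rw [List.map_cons, List.flatten_cons, el_app]
      exact ⟨hWord_app (hword a ha) h1, mul_mem (Subgroup.subset_closure ⟨a, ha, rfl⟩) h2⟩
  refine ⟨hw, ?_, ?_, fun a ha => ?_⟩
  · rw [n0, el_pt (letters12 hw) kp0_lt, Nat.eq_of_beq_eq_true hj]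
  · obtain ⟨h1, h2⟩ := hflat _ hsqi
    rw [← el_app, el_eq_of_key (hWord_app hw hw) h1 (Nat.eq_of_beq_eq_true hsq)]
    exact h2
  · obtain ⟨h1, h2⟩ := hflat _ (hcji _ (getWord_mem (show a < _ by rw [Nat.eq_of_beq_eq_true hlen]; exact ha)))
    have e := el_eq_of_key (hWord_app (hWord_app hw (hword a ha)) (hWord_invW hw)) h1
      (Nat.eq_of_beq_eq_true (hcj a ha))
    rw [el_app, el_app, el_invW (letters12 hw)] at e
    rw [e]
    exact h2

theorem UK_isPGroup : ∀ i ≤ 12, IsPGroup 2 (UK i)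
  | 0, _ => by
    have : UK 0 = ⊥ := by rw [UK, Subgroup.closure_eq_bot_iff]; rintro g ⟨a, ha, -⟩; omega
    rw [this]
    exact IsPGroup.of_bot
  | i + 1, hi => by
    have ih := UK_isPGroup i (by omega)
    obtain ⟨-, -, hsq, hcj⟩ := uWord_ok (show i < 12 by omega)
    set u := el (getWord Data.uGens i) with hu
    have hle : UK i ≤ UK (i + 1) := Subgroup.closure_mono fun g ⟨a, ha, e⟩ => ⟨a, by omega, e⟩
    have hnorm : ∀ g ∈ UK i, u * g * u⁻¹ ∈ UK i := by
      intro g hg
      refine closure_induction_perm (Q := fun g => u * g * u⁻¹ ∈ UK i) ?_ (by simpa using one_mem _)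
        (fun a b ha hb => by
          rw [show u * (a * b) * u⁻¹ = (u * a * u⁻¹) * (u * b * u⁻¹) by group]; exact mul_mem ha hb) hg
      rintro _ ⟨a, ha, rfl⟩
      exact hcj a ha
    have hnorm' : ∀ g ∈ UK i, u⁻¹ * g * u ∈ UK i := by
      intro g hg
      have h1 := hnorm g hg
      have := mul_mem (mul_mem (inv_mem hsq) h1) hsq
      rwa [show (u * u)⁻¹ * (u * g * u⁻¹) * (u * u) = u⁻¹ * g * u by group] at this
    have hcos : ∀ g ∈ UK (i + 1), g ∈ UK i ∨ u⁻¹ * g ∈ UK i := by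
      intro g hg
      refine closure_induction_perm (Q := fun g => g ∈ UK i ∨ u⁻¹ * g ∈ UK i) ?_ (Or.inl (one_mem _)) ?_ hg
      · rintro _ ⟨a, ha, rfl⟩
        rcases Nat.lt_succ_iff_lt_or_eq.1 ha with ha | rfl
        · exact Or.inl (Subgroup.subset_closure ⟨a, ha, rfl⟩)
        · exact Or.inr (by rw [← hu, inv_mul_cancel]; exact one_mem _)
      · rintro a b (ha | ha) (hb | hb)
        · exact Or.inl (mul_mem ha hb)
        · refine Or.inr ?_
          rw [show u⁻¹ * (a * b) = (u⁻¹ * a * u) * (u⁻¹ * b) by group]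
          exact mul_mem (hnorm' a ha) hb
        · exact Or.inr (by rw [← mul_assoc]; exact mul_mem ha hb)
        · refine Or.inl ?_
          have := mul_mem (mul_mem (hnorm _ ha) hsq) hb
          rwa [show u * (u⁻¹ * a) * u⁻¹ * (u * u) * (u⁻¹ * b) = a * b by group] at this
    have hcard : Nat.card (UK (i + 1)) ≤ 2 * Nat.card (UK i) := by
      have hsub : (UK (i + 1) : Set (Equiv.Perm Pt)) ⊆ (UK i : Set _) ∪ (fun g => u * g) '' (UK i : Set _) := by
        intro g hg
        rcases hcos g hg with h | h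
        exacts [Or.inl h, Or.inr ⟨_, h, by group⟩]
      rw [← SetLike.coe_sort_coe, Nat.card_coe_set_eq, ← SetLike.coe_sort_coe (UK i), Nat.card_coe_set_eq, two_mul]
      exact (Set.ncard_le_ncard hsub (Set.toFinite _)).trans ((Set.ncard_union_le _ _).trans
        (Nat.add_le_add_left (Set.ncard_image_le (Set.toFinite _)) _))
    obtain ⟨k, hk⟩ := IsPGroup.iff_card.1 ih
    obtain ⟨m, hm⟩ := Subgroup.card_dvd_of_le hle
    have hm2 : m ≤ 2 := Nat.le_of_mul_le_mul_left (by rw [← hm, mul_comm _ 2]; exact hcard) Nat.card_pos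
    have hm0 : m ≠ 0 := fun e => by rw [e, mul_zero] at hm; exact Nat.card_pos.ne' hm
    rcases (show m = 1 ∨ m = 2 by omega) with rfl | rfl
    · exact IsPGroup.of_card (n := k) (by rw [hm, hk, mul_one])
    · exact IsPGroup.of_card (n := k + 1) (by rw [hm, hk, pow_succ])

/-- The two-group. -/
def UG : Subgroup (Equiv.Perm Pt) := UK 12

theorem UG_isPGroup : IsPGroup 2 UG := UK_isPGroup 12 le_rfl

theorem UG_le : UG ≤ H0 :=
  (Subgroup.closure_le _).2 (by rintro _ ⟨a, ha, rfl⟩; exact el_H0 (uWord_ok ha).1)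

theorem genGrp_uGens : genGrp Data.uGens ≤ UG := by
  refine genGrp_le fun w hw => ?_
  obtain ⟨a, ha, rfl⟩ := mem_getWord hw
  have h := u_ok
  rw [Bool.and_eq_true] at h
  exact Subgroup.subset_closure ⟨a, Nat.eq_of_beq_eq_true h.2 ▸ ha, rfl⟩

theorem u_odd : allUpto (fun s => !bit s 0 || Nat.beq (Nat.land (unionLen Data.orbUL s 8) 1) 1) 256 = true := by
  decide +kernel

/-- A subgroup of index 1755 fixes a neighbour. -/
theorem fixes_point {K : Subgroup (Equiv.Perm Pt)} (hK : K ≤ H0) (hcard : Nat.card K = 20480) :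
    ∃ p ∈ N0, K = St p := by
  haveI : Fact (Nat.Prime 2) := ⟨Nat.prime_two⟩
  have hidx : ¬ 2 ∣ (K.subgroupOf H0).index := by
    have h := index_subgroupOf hK
    rw [hcard] at h
    omega
  obtain ⟨h, hh, hconj⟩ := exists_conj_le hK UG_le UG_isPGroup hidx
  set K' := conjSub h K with hK'
  have hle : K' ≤ H0 := conjSub_le hh hK
  have hc' : Nat.card K' = 20480 := (card_conjSub h K).trans hcard
  classical
  set O : Finset Pt := (MulAction.orbit K' n0).toFinset with hO
  have hsub : O ⊆ setM maskN := fun c hc => by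
    rw [hO, Set.mem_toFinset] at hc
    obtain ⟨g, rfl⟩ := hc
    exact N0_closed (hle g.2) n0_mem
  have hinv : ∀ g ∈ genGrp Data.uGens, ∀ c ∈ O, g c ∈ O := fun g hg c hc => by
    rw [hO, Set.mem_toFinset] at hc ⊢
    obtain ⟨k, rfl⟩ := hc
    exact ⟨⟨g, hconj g (genGrp_uGens hg)⟩ * k, rfl⟩
  obtain ⟨s, hs, -, hlen, hbit⟩ := union_of_invariant orbU_ok hsub hinv
  have h0 : bit s 0 = true := (hbit 0 (by norm_num)).2 (by
    have h := u_no_five
    rw [Bool.and_eq_true] at h
    rw [Nat.eq_of_beq_eq_true h.2, hO, Set.mem_toFinset]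
    exact MulAction.mem_orbit_self _)
  have hodd := allUpto_spec.1 u_odd s hs
  have hfive : unionLen Data.orbUL s 8 ≠ 5 := fun e => by
    have h := u_no_five
    rw [Bool.and_eq_true] at h
    have := allUpto_spec.1 h.1 s hs
    simp [h0, e] at this
  simp only [h0, Bool.not_true, Bool.false_or] at hodd
  have hodd' : unionLen Data.orbUL s 8 % 2 = 1 := by
    have := Nat.eq_of_beq_eq_true hodd
    rwa [show Nat.land (unionLen Data.orbUL s 8) 1 = unionLen Data.orbUL s 8 &&& 1 from rfl, Nat.and_one_is_mod] at this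
  have hmul := orbit_mul_card K' n0
  rw [hc', Set.ncard_eq_toFinset_card', show (MulAction.orbit K' n0).toFinset = O from rfl, hlen] at hmul
  have hone : unionLen Data.orbUL s 8 = 1 := by
    have hcop : Nat.Coprime (unionLen Data.orbUL s 8) 4096 := by
      rw [show (4096 : ℕ) = 2 ^ 12 by norm_num]
      exact Nat.Coprime.pow_right _ (Nat.coprime_two_right.2 (Nat.odd_iff.2 hodd'))
    have hd : unionLen Data.orbUL s 8 ∣ 4096 * 5 := ⟨_, hmul.symm⟩
    rcases (Nat.dvd_prime (by norm_num : Nat.Prime 5)).1 (hcop.dvd_of_dvd_mul_left hd) with h | h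
    exacts [h, absurd h hfive]
  refine ⟨h n0, N0_closed hh n0_mem, ?_⟩
  have hKle : K ≤ St (h n0) := fun g hg => by
    refine ⟨hK hg, ?_⟩
    have hg' : h⁻¹ * g * h ∈ K' := by
      rw [hK', mem_conjSub, show h * (h⁻¹ * g * h) * h⁻¹ = g by group]; exact hg
    have hc : (h⁻¹ * g * h) n0 ∈ O := by rw [hO, Set.mem_toFinset]; exact ⟨⟨_, hg'⟩, rfl⟩
    obtain ⟨d, hd⟩ := Finset.card_eq_one.1 (hlen.trans hone)
    have hn : n0 ∈ O := by rw [hO, Set.mem_toFinset]; exact MulAction.mem_orbit_self _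
    rw [hd, Finset.mem_singleton] at hc hn
    rw [← hn] at hc
    show g (h n0) = h n0
    rw [Equiv.Perm.mul_apply, Equiv.Perm.mul_apply, Equiv.Perm.inv_eq_iff_eq] at hc
    exact hc
  refine Subgroup.eq_of_le_of_card_ge hKle (le_of_eq ?_)
  rw [hcard]
  have h1 := orbit_mul_card H0 (h n0)
  rw [show MulAction.orbit H0 (h n0) = (N0 : Set Pt) by
    rw [← orbit_H0_N0]; exact MulAction.orbit_eq_iff.2 ⟨⟨h, hh⟩, rfl⟩,
    Set.ncard_coe_finset, card_N0, card_H0] at h1
  show Nat.card ↥(H0 ⊓ _) = _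
  omega

end Cfsg.Agent.Lib.RuUnique
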