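import Cfsg.Agent.Lib.RuUnique.Defs
import Cfsg.Agent.Lib.Chevalley.Exceptional.TitsRels

/-!
Functions for the vectors attached to the first suborbit.
-/

set_option autoImplicit false
set_option linter.all false
set_option maxRecDepth 100000

noncomputable section

namespace Cfsg.Agent.Lib.RuUnique

open Cfsg.Agent.CosetCert

/-- The vector of a point. -/
def vecOf (c : ℕ) : ℕ :=
  Nat.land (Nat.shiftRight (Data.vecT.get (Nat.shiftRight c 4)) (Nat.mul 52 (Nat.land c 15))) 4503599627370495

/-- A column of a generator. -/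
def colM (i j : ℕ) : ℕ :=
  let k := Nat.add (Nat.mul 52 i) j
  Nat.land (Nat.shiftRight (Data.colT.get (Nat.shiftRight k 4)) (Nat.mul 52 (Nat.land k 15))) 4503599627370495

/-- The positions of the bits. -/
def bitsL (m : ℕ) : List ℕ := (List.range 52).filter fun j => bit m j

/-- The image of a vector, by columns. -/
def applyM (i m : ℕ) : ℕ :=
  Nat.rec (motive := fun _ => ℕ) 0 (fun j ih => cond (bit m j) (Nat.xor (colM i j) ih) ih) 52

def vecStepOK (c : ℕ) : Bool :=
  !bit maskN c || allUpto (fun i => Nat.beq (applyM i (vecOf c)) (vecOf (tgt i c))) 4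

/-- The sum of the vectors of a list. -/
def sumVec (l : List ℕ) : ℕ := List.rec (motive := fun _ => ℕ) 0 (fun c _ ih => Nat.xor (vecOf c) ih) l

def spanOK (j : ℕ) : Bool :=
  (getWord Data.spanL j).all (fun c => Nat.blt c 4060 && bit maskN c) &&
    Nat.beq (sumVec (getWord Data.spanL j)) (Nat.shiftLeft 1 j)

def colOK (i : Fin 4) (j : ℕ) : Bool :=
  Cfsg.Agent.Exceptional.Mod2.mapsTo Cfsg.Agent.Chevalley.Data.F4.tab.col (Cfsg.Agent.Exceptional.Tits.bw i) [j]
    (bitsL (colM i.val j))

end Cfsg.Agent.Lib.RuUnique
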